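import Cfsg.Agent.Spor.GolayM24
import Cfsg.Agent.Spor.Walk

/-!
Packed permutations of the 24 points (five bits per entry) and orbits of subgroups of `M24` on
code words, by walk certificates.
-/

set_option autoImplicit false

namespace Cfsg.Lib.Spor

open Cfsg
open scoped Pointwise

/-- Entry `i` of the packed map `g` (five bits per entry). -/
def pkGet (g i : ℕ) : ℕ := Nat.land (Nat.shiftRight g (Nat.mul 5 i)) 31

/-- The packed map `g` permutes `0, …, 23`. -/
def pkOk (g : ℕ) : Bool := Nat.beq (permMask (pkGet g) 16777215) 16777215

theorem pkOk_spec {g : ℕ} (h : pkOk g = true) :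
    (∀ i < 24, pkGet g i < 24) ∧ ∀ j < 24, ∃ i < 24, pkGet g i = j := by
  have h1 : permMask (pkGet g) 16777215 = 16777215 := Nat.eq_of_beq_eq_true h
  have h2 : ∀ j, Nat.testBit 16777215 j = true ↔ j < 24 := by
    intro j
    rw [show (16777215 : ℕ) = 2 ^ 24 - 1 by norm_num, Nat.testBit_two_pow_sub_one]
    simp
  constructor
  · intro i hi
    rw [← h2, ← h1, permMask, testBit_permMaskN]
    exact ⟨i, hi, (h2 i).2 hi, rfl⟩
  · intro j hj
    rw [← h2, ← h1, permMask, testBit_permMaskN] at hj
    obtain ⟨i, hi, -, h3⟩ := hj
    exact ⟨i, hi, h3⟩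

theorem pk_bijective {g : ℕ} (h : pkOk g = true) :
    Function.Bijective fun p : GolayPt => idxPt (pkGet g (ptIdx p)) := by
  apply Finite.surjective_iff_bijective.1
  intro q
  obtain ⟨i, hi, h1⟩ := (pkOk_spec h).2 _ (ptIdx_lt q)
  refine ⟨idxPt i, ?_⟩
  simp only [ptIdx_idxPt hi, h1, idxPt_ptIdx]

/-- The permutation of the 24 points given by a packed map (the identity if it is not one). -/
noncomputable def pkPerm (g : ℕ) : Equiv.Perm GolayPt :=
  if h : pkOk g = true then Equiv.ofBijective _ (pk_bijective h) else 1

theorem pkPerm_apply {g : ℕ} (h : pkOk g = true) (p : GolayPt) :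
    pkPerm g p = idxPt (pkGet g (ptIdx p)) := by
  rw [pkPerm, dif_pos h]
  rfl

theorem ptIdx_pkPerm {g : ℕ} (h : pkOk g = true) (p : GolayPt) :
    ptIdx (pkPerm g p) = pkGet g (ptIdx p) := by
  rw [pkPerm_apply h, ptIdx_idxPt ((pkOk_spec h).1 _ (ptIdx_lt p))]

theorem pkPerm_smul_maskSet {g : ℕ} (h : pkOk g = true) (m : ℕ) :
    pkPerm g • maskSet m = maskSet (permMask (pkGet g) m) := smul_maskSet (ptIdx_pkPerm h) m

/-- The packed map is an element of `M24`. -/
def pkM24 (g : ℕ) : Bool := pkOk g && m24Check (pkGet g)

theorem pkOk_of_pkM24 {g : ℕ} (h : pkM24 g = true) : pkOk g = true := by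
  rw [pkM24, Bool.and_eq_true] at h
  exact h.1

theorem pkPerm_mem_M24 {g : ℕ} (h : pkM24 g = true) : pkPerm g ∈ M24 := by
  rw [pkM24, Bool.and_eq_true] at h
  exact mem_M24_of_check _ (ptIdx_pkPerm h.1) h.2

/-- The packed identity. -/
def pkOne : ℕ := 984818244535754528103549039458486304

theorem pkOk_pkOne : pkOk pkOne = true := by decide +kernel

theorem pkPerm_pkOne : pkPerm pkOne = 1 := by
  apply Equiv.ext
  intro p
  rw [pkPerm_apply pkOk_pkOne]
  revert p
  decide +kernel

/-- Every permutation of the points has a packed form. -/
def permPk (σ : Equiv.Perm GolayPt) : ℕ :=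
  Nat.rec 0 (fun i ih => Nat.lor ih (Nat.shiftLeft (ptIdx (σ (idxPt i))) (Nat.mul 5 i))) 24

/-- The move `j`: apply the `j`-th packed permutation of `gens` to a mask. -/
def maskAct (gens : List ℕ) (j m : ℕ) : ℕ :=
  forceN (gens.getD j pkOne) fun g => permMask (pkGet g) m

theorem maskAct_spec {H : Subgroup (Equiv.Perm GolayPt)} {gens : List ℕ}
    (hg : ∀ g ∈ gens, pkOk g = true ∧ pkPerm g ∈ H) (j m : ℕ) :
    maskAct gens j m < 2 ^ 24 ∧ ∃ σ ∈ H, σ • maskSet m = maskSet (maskAct gens j m) := by
  have h : pkOk (gens.getD j pkOne) = true ∧ pkPerm (gens.getD j pkOne) ∈ H := by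
    rw [List.getD_eq_getElem?_getD]
    cases hj : gens[j]? with
    | none => exact ⟨pkOk_pkOne, by rw [Option.getD_none, pkPerm_pkOne]; exact H.one_mem⟩
    | some g => exact hg g (List.mem_of_getElem? hj)
  rw [maskAct, forceN_eq]
  exact ⟨permMask_lt (ptIdx_pkPerm h.1) m, _, h.2, pkPerm_smul_maskSet h.1 m⟩

/-- Every key met by a walk on masks is the key of a mask in the orbit of the starting mask. -/
theorem mask_orbit_of_walk {H : Subgroup (Equiv.Perm GolayPt)} {gens : List ℕ}
    (hg : ∀ g ∈ gens, pkOk g = true ∧ pkPerm g ∈ H) {key : ℕ → ℕ} {w n m t : ℕ}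
    (hm : m < 2 ^ 24) (h : (walk (maskAct gens) key w n m 0).testBit t = true) :
    ∃ m' < 2 ^ 24, key m' = t ∧ ∃ σ ∈ H, σ • maskSet m = maskSet m' := by
  obtain ⟨m', ⟨h1, h2⟩, h3⟩ := walk_spec_zero
    (P := fun s => s < 2 ^ 24 ∧ ∃ σ ∈ H, σ • maskSet m = maskSet s) (act := maskAct gens)
    (fun j _ s ⟨_, σ, hσ, hs⟩ => by
      obtain ⟨h4, τ, hτ, h5⟩ := maskAct_spec hg j s
      exact ⟨h4, τ * σ, H.mul_mem hτ hσ, by rw [mul_smul, hs, h5]⟩)
    w n ⟨hm, 1, H.one_mem, one_smul _ _⟩ h
  exact ⟨m', h1, h3, h2⟩

/-- The key of a code word: its twelve information bits. -/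
def cwKey (m : ℕ) : ℕ := Nat.land m 4095

/-- The check that a walk from `m` visits every code word whose mask satisfies `f`. -/
def cwCover (gens : List ℕ) (w n m : ℕ) (f : ℕ → Bool) : Bool :=
  forceN (walk (maskAct gens) cwKey w n m 0) fun V =>
    allLT 4096 fun k => cond (f (enc k)) (Nat.testBit V k) true

/-- Orbits on code words: every code word whose mask satisfies `f` is the image of `maskSet m`
under an element of `H`. -/
theorem codeword_orbit_of_cwCover {H : Subgroup (Equiv.Perm GolayPt)} (hH : H ≤ M24)
    {gens : List ℕ} (hg : ∀ g ∈ gens, pkOk g = true ∧ pkPerm g ∈ H) {w n m : ℕ} {f : ℕ → Bool}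
    (hm : isGolay m = true) (h : cwCover gens w n m f = true) {m' : ℕ} (hm' : isGolay m' = true)
    (hf : f m' = true) : ∃ σ ∈ H, σ • maskSet m = maskSet m' := by
  rw [cwCover, forceN_eq, allLT_iff] at h
  obtain ⟨k, hk, rfl⟩ := isGolay_iff.1 hm'
  have h1 := h k hk
  rw [hf, cond_true] at h1
  obtain ⟨m₂, h2, h3, σ, hσ, h4⟩ := mask_orbit_of_walk hg (isGolay_lt hm) h1
  have h5 : isGolay m₂ = true := by
    rw [← maskSet_mem_golaySets_iff h2, ← h4]
    exact smul_mem_golaySets (hH hσ) (maskSet_mem_golaySets hm)
  have h6 : enc k = m₂ := by
    rw [← h3]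
    exact Nat.eq_of_beq_eq_true h5
  exact ⟨σ, hσ, h6 ▸ h4⟩

/-- Four packed elements of `M24`: `x + 1`, `-1/x`, the cube twist and `2x`. -/
def m24StdGens : List ℕ :=
  [956302485175575353788796878166559809, 1795248432537898728475572672376535,
   974380510768821363662145534143076928, 983435072843990828779021698901151808]

theorem m24StdGens_spec : ∀ g ∈ m24StdGens, pkOk g = true ∧ pkPerm g ∈ M24 := by
  have h : ∀ g ∈ m24StdGens, pkM24 g = true := by decide +kernel
  exact fun g hg => ⟨pkOk_of_pkM24 (h g hg), pkPerm_mem_M24 (h g hg)⟩

theorem octad_cover : cwCover m24StdGens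
    0x4000000000000000020000000000000000200000000000000000800000000000000008000000000000000020000000000000000200000000000000000800000000000000004000000000000000040000000000000000100000000000000001000000000000000008000000000000000020000000000000000100000000000000000a00000000000000001000000000000000008000000000000000040000000000000000100000000000000001800000000000000001000000000000000004000000000000000040000000000000000100000000000000000b2000000000000000014000000000000000000400000000000000006c00000000000000004d800000000000000000a000000000000000000640000000000000000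
    773 13062145 (fun m => Nat.beq (popc m) 8) = true := by decide +kernel

theorem dodecad_cover : cwCover m24StdGens
    0x400000000000000002000000000000000020000000000000000080000000000000000400000000000000004000000000000000010000000000000000080000000000000000800000000000000002000000000000000010000000000000000020000000000000000080000000000000000400000000000000004000000000000000010000000000000000080000000000000000800000000000000002000000000000000010000000000000000100000000000000000400000000000000002000000000000000030000000000000000080000000000000000400000000000000004000000000000000010000000000000000080000000000000000800000000000000002000000000000000010000000000000000100000000000000000800000000000000002000000000000000020000000000000000080000000000000000400000000000000000800000000000000004000000000000000020000000000000000080000000000000000800000000000000006000000000000000010000000000000000100000000000000000400000000000000004000000000000000030000000000000000080000000000000000d00000000000000000800000000000000006000000000000000020000000000000000080000000000000000400000000000000004c000000000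00000004c000000000000000028000000000000000040000000000000000100000000000000001800000000000000004000000000000000020000000000000000140000000000000000100000000000000001000000000000000004000000000000000060000000000000000300000000000000000800000000000000004000000000000000000800000000000000008000000000000000040000000000000000240000000000000000200000000000000001000000000000000004000000000000000040000000000000000300000000000000000800000000000000009000000000000000008000000000000000040000000000000000100000000000000000800000000000000005800000000000000004000000000000000040000000000000000300000000000000000200000000000000000a0000000000000000002000000000000000004000000000000000016000000000000000036000000000000000006800000000000000002800000000000000002800000000000000006c00000000000000006000000000000000010000000000000000130000000000000000004800000000000000006400000000000000006c80000000000000000d00000000000000000d00000000000000000d8000000000000000002080000000000000000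
    2613 8245261 (fun m => Nat.beq (popc m) 12) = true := by decide +kernel

/-- Every octad is an image of the octad with mask `13062145`. -/
theorem exists_smul_base_octad {o : Finset GolayPt} (ho : o ∈ octads) :
    ∃ σ ∈ M24, σ • maskSet 13062145 = o := by
  obtain ⟨m, h1, h2, rfl⟩ := mem_octads_iff.1 ho
  exact codeword_orbit_of_cwCover le_rfl m24StdGens_spec (by decide +kernel) octad_cover h1
    (by rw [h2]; rfl)

/-- Every dodecad is an image of the dodecad with mask `8245261`. -/
theorem exists_smul_base_dodecad {d : Finset GolayPt} (hd : d ∈ dodecads) :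
    ∃ σ ∈ M24, σ • maskSet 8245261 = d := by
  obtain ⟨m, h1, h2, rfl⟩ := mem_dodecads_iff.1 hd
  exact codeword_orbit_of_cwCover le_rfl m24StdGens_spec (by decide +kernel) dodecad_cover h1
    (by rw [h2]; rfl)

/-- `M24` is transitive on octads. -/
theorem exists_smul_octad_eq {o o' : Finset GolayPt} (ho : o ∈ octads) (ho' : o' ∈ octads) :
    ∃ σ ∈ M24, σ • o = o' := by
  obtain ⟨σ, hσ, rfl⟩ := exists_smul_base_octad ho
  obtain ⟨τ, hτ, rfl⟩ := exists_smul_base_octad ho'
  exact ⟨τ * σ⁻¹, M24.mul_mem hτ (M24.inv_mem hσ), by rw [mul_smul, inv_smul_smul]⟩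

/-- `M24` is transitive on dodecads. -/
theorem exists_smul_dodecad_eq {d d' : Finset GolayPt} (hd : d ∈ dodecads)
    (hd' : d' ∈ dodecads) : ∃ σ ∈ M24, σ • d = d' := by
  obtain ⟨σ, hσ, rfl⟩ := exists_smul_base_dodecad hd
  obtain ⟨τ, hτ, rfl⟩ := exists_smul_base_dodecad hd'
  exact ⟨τ * σ⁻¹, M24.mul_mem hτ (M24.inv_mem hσ), by rw [mul_smul, inv_smul_smul]⟩

end Cfsg.Lib.Spor
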