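import Cfsg.Agent.Spor.M24Gens

/-!
The conjugacy classes of `Spor.M11`.
-/

set_option autoImplicit false
set_option maxRecDepth 100000

namespace Cfsg.Lib.Spor.MP

open Cfsg Cfsg.Lib.Spor

/-- Class representatives of `Spor.M11`: packed permutation, order, centraliser order. -/
def reps11 : List (ℕ × ℕ × ℕ) :=
  [(984818244535754528103549039458486304, 1, 7920),
   (970499966350631336865513127433832480, 2, 48),
   (984534996141977609297800625156032544, 3, 18),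
   (227578386318009578406903204956702752, 4, 8),
   (969192610918565898168936684552525856, 5, 5),
   (434175017086300716820246987224977600, 6, 6),
   (809012758828975091259564428754305056, 8, 8),
   (892494757254754735290717285112760352, 8, 8),
   (970567384681219435340729552166356352, 11, 11),
   (983435072843990828779021698901151808, 11, 11)]

/-- Generators followed by the class representatives. -/
def gensC11 : List ℕ := gens11 ++ reps11.map Prod.fst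

/-- Certificate for one class. -/
def cl11_0 : Cfsg.Lib.Spor.PK.Cl where
  wd := [2]
  cert := [⟨1, [576, 769, 832, 192, 1024, 385, 256, 129, 513, 1153], [[0, 0, 0, 1, 0], [0, 0, 1, 0, 0]]⟩,
   ⟨2, [192, 768, 1153, 256, 833, 385, 1025, 576, 513], [[0, 0, 1, 1, 0, 1, 0, 0, 1, 0], [0, 1, 1, 1, 0]]⟩,
   ⟨3, [832, 513, 768, 1153, 577, 1024, 384, 257], [[0, 0, 1, 0], [0, 1, 1, 0, 0]]⟩,
   ⟨4, [832, 385, 768, 1025, 512, 1152, 577], []⟩]
  es := [1]
  c := 7920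
  nc := []

theorem cl11_ok0 : PK.clOk 9 24 (gensC11.map toPK) 7920 cl11_0 = true := by decide +kernel

/-- Certificate for one class. -/
def cl11_1 : Cfsg.Lib.Spor.PK.Cl where
  wd := [3]
  cert := [⟨4, [1152, 65, 128, 193, 576, 769, 384, 1025, 832, 512], [[0, 0, 1, 0, 0, 0], [0, 0, 0, 0, 1]]⟩,
   ⟨12, [1024, 64, 193, 576, 128, 1153, 832, 384, 512], [[0, 1, 1, 1], [0, 1, 0, 1, 0]]⟩,
   ⟨6, [192, 129, 576, 65, 1025, 1153, 832, 512], [[0, 1, 1, 0, 1, 0, 1], [1, 1, 0, 1, 0, 0, 1, 0, 1]]⟩,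
   ⟨9, [832, 1153, 64, 513, 192, 1024, 129], []⟩]
  es := [1]
  c := 48
  nc := []

theorem cl11_ok1 : PK.clOk 9 24 (gensC11.map toPK) 7920 cl11_1 = true := by decide +kernel

/-- Certificate for one class. -/
def cl11_2 : Cfsg.Lib.Spor.PK.Cl where
  wd := [4]
  cert := [⟨3, [256, 129, 1152, 65, 384, 1025, 576, 769, 512, 832], [[1, 1, 0, 0], [1, 0, 0, 0, 1, 0]]⟩,
   ⟨9, [64, 385, 1024, 257, 1152, 128, 513, 769, 832], [[0, 1, 0, 1, 0, 0, 0], [1, 0, 1, 1, 1, 0, 0]]⟩,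
   ⟨6, [512, 128, 769, 257, 1153, 1025, 832, 65], [[0, 1, 0], [0, 1, 1, 1]]⟩,
   ⟨4, [512, 769, 1152, 65, 128, 1024, 833], []⟩]
  es := [1, 2]
  c := 18
  nc := []

theorem cl11_ok2 : PK.clOk 9 24 (gensC11.map toPK) 7920 cl11_2 = true := by decide +kernel

/-- Certificate for one class. -/
def cl11_3 : Cfsg.Lib.Spor.PK.Cl where
  wd := [5]
  cert := [⟨4, [1152, 65, 128, 193, 576, 769, 384, 1025, 832, 512], [[0, 0, 0, 1, 1, 0], [0, 0, 1, 1, 1]]⟩,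
   ⟨13, [768, 385, 577, 512, 1024, 65, 128, 1153, 192], [[1, 0, 0, 1, 0, 1], [0, 1, 0, 0, 0, 0, 1, 0]]⟩,
   ⟨12, [1024, 385, 1152, 576, 65, 512, 193, 128], [[1, 0, 1], [0, 0, 0, 1, 0]]⟩,
   ⟨18, [128, 513, 192, 1025, 384, 576, 65], []⟩]
  es := [1, 3, 2]
  c := 8
  nc := []

theorem cl11_ok3 : PK.clOk 9 24 (gensC11.map toPK) 7920 cl11_3 = true := by decide +kernel

/-- Certificate for one class. -/
def cl11_4 : Cfsg.Lib.Spor.PK.Cl where
  wd := [6]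
  cert := [⟨2, [384, 1025, 512, 1153, 768, 64, 257, 193, 577, 832], [[1, 1, 1, 0, 0], [0, 1, 1, 1]]⟩,
   ⟨6, [512, 769, 256, 833, 64, 1024, 1152, 192, 576], [[1, 1, 0, 0, 1], [1, 0, 0, 1, 0, 0, 1]]⟩,
   ⟨18, [256, 1024, 65, 512, 769, 833, 576, 192], [[1], [0, 1, 1, 1, 0, 0]]⟩,
   ⟨4, [64, 833, 768, 513, 192, 1024, 577], []⟩]
  es := [1, 4]
  c := 5
  nc := []

theorem cl11_ok4 : PK.clOk 9 24 (gensC11.map toPK) 7920 cl11_4 = true := by decide +kernel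

/-- Certificate for one class. -/
def cl11_5 : Cfsg.Lib.Spor.PK.Cl where
  wd := [7]
  cert := [⟨2, [384, 1025, 512, 1153, 768, 64, 257, 193, 577, 832], [[1, 0, 1, 0, 0, 0, 0, 1], [1, 1, 1, 0, 0]]⟩,
   ⟨4, [64, 1025, 832, 769, 1153, 384, 576, 193, 513], [[0, 1, 0, 0, 1, 0, 1], [1, 0, 1, 0]]⟩,
   ⟨13, [1024, 193, 512, 65, 385, 768, 1153, 576], [[1, 0], [0, 1, 0, 0, 0]]⟩,
   ⟨16, [512, 577, 64, 385, 192, 1152, 769], []⟩]
  es := [1, 5, 2, 3]
  c := 6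
  nc := []

theorem cl11_ok5 : PK.clOk 9 24 (gensC11.map toPK) 7920 cl11_5 = true := by decide +kernel

/-- Certificate for one class. -/
def cl11_6 : Cfsg.Lib.Spor.PK.Cl where
  wd := [8]
  cert := [⟨2, [384, 1025, 512, 1153, 768, 64, 257, 193, 577, 832], [[0, 0, 0, 0, 0, 1, 1, 0], [0, 0, 1, 0, 0]]⟩,
   ⟨16, [64, 513, 768, 256, 833, 193, 384, 576, 1153], [[0, 1, 0, 1, 1], [0, 0, 1, 0, 1, 0, 1]]⟩,
   ⟨3, [384, 256, 577, 64, 832, 769, 1153, 512], [[0, 0, 0, 1, 1, 1, 0, 0], [1]]⟩,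
   ⟨12, [1152, 833, 384, 513, 64, 256, 577], []⟩]
  es := [1, 7, 2, 4]
  c := 8
  nc := []

theorem cl11_ok6 : PK.clOk 9 24 (gensC11.map toPK) 7920 cl11_6 = true := by decide +kernel

/-- Certificate for one class. -/
def cl11_7 : Cfsg.Lib.Spor.PK.Cl where
  wd := [9]
  cert := [⟨2, [384, 1025, 512, 1153, 768, 64, 257, 193, 577, 832], [[1, 1, 1, 0, 0], [1, 0, 1, 0, 0, 0, 0, 1]]⟩,
   ⟨18, [192, 577, 769, 384, 513, 64, 256, 833, 1024], [[1, 1, 0, 1, 1, 0], [0, 1, 0, 1, 1, 0, 0, 0]]⟩,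
   ⟨3, [384, 577, 1024, 512, 768, 64, 833, 257], [[1, 0, 0, 1, 0, 1, 0], [0, 0, 0, 1, 0, 1, 0, 1]]⟩,
   ⟨4, [576, 513, 1024, 65, 832, 768, 385], []⟩]
  es := [1, 7, 2, 4]
  c := 8
  nc := [[8]]

theorem cl11_ok7 : PK.clOk 9 24 (gensC11.map toPK) 7920 cl11_7 = true := by decide +kernel

/-- Certificate for one class. -/
def cl11_8 : Cfsg.Lib.Spor.PK.Cl where
  wd := [10]
  cert := [⟨1, [576, 769, 832, 192, 1024, 385, 256, 129, 513, 1153], [[0, 0, 0, 1, 1, 1], [1, 0, 0, 1]]⟩,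
   ⟨12, [1024, 513, 576, 833, 192, 384, 256, 1152, 128], [[1, 0, 0, 0, 0, 1], [1, 0, 1, 1, 0, 0]]⟩,
   ⟨6, [1152, 1024, 128, 193, 257, 513, 576, 833], [[0, 0, 0, 1, 0, 1, 0], [0, 0, 0, 1, 0, 0, 1, 1, 0]]⟩,
   ⟨3, [832, 1025, 1152, 257, 576, 128, 513], []⟩]
  es := [1, 10]
  c := 11
  nc := []

theorem cl11_ok8 : PK.clOk 9 24 (gensC11.map toPK) 7920 cl11_8 = true := by decide +kernel

/-- Certificate for one class. -/
def cl11_9 : Cfsg.Lib.Spor.PK.Cl where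
  wd := [11]
  cert := [⟨1, [576, 769, 832, 192, 1024, 385, 256, 129, 513, 1153], [[1, 0, 1, 0, 0, 0], [0, 0, 0, 0, 0, 0, 1]]⟩,
   ⟨2, [768, 513, 576, 257, 832, 193, 384, 1025, 1152], [[0, 0, 1, 0, 0], [0, 1, 1, 0, 0, 0, 0, 0]]⟩,
   ⟨4, [576, 384, 1025, 832, 1153, 513, 192, 769], [[0, 1, 1, 0, 1], [1, 0, 0, 0]]⟩,
   ⟨8, [1152, 833, 384, 193, 768, 576, 1025], []⟩]
  es := [1, 10]
  c := 11
  nc := [[10]]

theorem cl11_ok9 : PK.clOk 9 24 (gensC11.map toPK) 7920 cl11_9 = true := by decide +kernel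

/-- All class certificates. -/
def cls11 : List PK.Cl := [cl11_0, cl11_1, cl11_2, cl11_3, cl11_4, cl11_5, cl11_6, cl11_7, cl11_8, cl11_9]

theorem isClassList_M11 : IsClassList Spor.M11 reps11 :=
  isClassList_of_check (gens := gensC11) (by decide +kernel)
    (pclosure_append pclosure_gens11 fun t ht => inSub_of_isM11
      (List.all_eq_true.1 (by decide +kernel : (reps11.map Prod.fst).all isM11 = true) t ht))
    card_M11 (K := 6) (cls := cls11)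
    (by
      simp only [cls11, List.forall_mem_cons, List.not_mem_nil, false_imp_iff, implies_true, and_true]
      exact ⟨cl11_ok0, cl11_ok1, cl11_ok2, cl11_ok3, cl11_ok4, cl11_ok5, cl11_ok6, cl11_ok7, cl11_ok8, cl11_ok9⟩)
    (by decide +kernel) (by decide +kernel)

end Cfsg.Lib.Spor.MP
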