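import Cfsg.Agent.Spor.LyCP0

/-! Generated certificate checks. -/

set_option autoImplicit false
set_option maxRecDepth 100000
set_option linter.unusedVariables false
set_option linter.unusedSectionVars false

namespace Cfsg.Lib.Spor.LyC

open Cfsg.Lib.Spor.MG Cfsg.Lib.Spor.Bulk Cfsg.Lib.Spor.LyP Cfsg.Lib.Spor.LyU

variable {M : Type} [Monoid M] [Finite M] (I : Impl CF.O M) {X : Type} [MulAction M X] (B : BImpl I V X)
  {G A Ω : Type} [Group G] [Group A] [MulAction G Ω] [MulAction A Ω] {σ : I.gen LyU.P SH →* G}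
  {S : Sem CF G A Ω} (E : Over S I σ)
include I B E

theorem ak100070 : I.AllS P (KS σ (S.ω 1)) (msk (mapL hd L100069)) :=
  E.allS_K (allH S) P 1 L100069 (by decide +kernel)

theorem a100073 : I.AllS P (KS σ (S.ω 1)) m100072 :=
  (ak100070 I B E).ext L100071 (by decide +kernel)

theorem ac100075 : I.AllS P ((KS σ (S.ω 1)) ⊓ Subgroup.centralizer {I.u (P 65)} : Subgroup Mˣ) (msk L100074) :=
  Impl.AllS.cent (a100073 I B E) 65 L100074 (by decide +kernel)

theorem a100078 : I.AllS P ((KS σ (S.ω 1)) ⊓ Subgroup.centralizer {I.u (P 65)} : Subgroup Mˣ) m100077 :=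
  (ac100075 I B E).ext L100076 (by decide +kernel)

theorem a100080 : I.AllS P (I.gen P S100079) (msk S100079) :=
  Impl.allS_gen_of (a100078 I B E) (by decide +kernel)

theorem lo100082 : 20 * Nat.card (I.gen P S100079) ≤ Nat.card ((KS σ (S.ω 1)) ⊓ Subgroup.centralizer {I.u (P 65)} : Subgroup Mˣ) :=
  BImpl.low_lev (B := B) (a100078 I B E) b100081 [397411, 97, 397410, 99, 0, 0x5f05f062, 389219, 98, 397412, 0x5f05f063, 389218, 100, 0x5f05f064, 397408, 96, 0x5f05f060, 389216, 389220, 95, 389215] 20 (by decide +kernel)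

theorem a100085 : I.AllS P (I.gen P S100079) m100084 :=
  (a100080 I B E).ext L100083 (by decide +kernel)

theorem a100087 : I.AllS P (I.gen P S100086) (msk S100086) :=
  Impl.allS_gen_of (a100085 I B E) (by decide +kernel)

theorem lo100089 : 20 * Nat.card (I.gen P S100086) ≤ Nat.card (I.gen P S100079) :=
  BImpl.low_lev (B := B) (a100085 I B E) b100088 [0x6706706a, 0, 421996, 104, 421992, 421991, 430188, 421994, 106, 108, 103, 0x67067068, 430184, 107, 105, 0x69069068, 0x6906906a, 430185, 421995, 430186] 20 (by decide +kernel)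

theorem low100090 : 400 ≤ Nat.card ((KS σ (S.ω 1)) ⊓ Subgroup.centralizer {I.u (P 65)} : Subgroup Mˣ) :=
  le_trans (by decide +kernel) (le_of_low (lo100082 I B E) (le_of_low (lo100089 I B E) (Nat.succ_le_of_lt Nat.card_pos)))

theorem a100093 : I.AllS P (KS σ (S.ω 1)) m100092 :=
  (a100073 I B E).ext L100091 (by decide +kernel)

theorem ac100095 : I.AllS P ((KS σ (S.ω 1)) ⊓ Subgroup.centralizer {I.u (P 73)} : Subgroup Mˣ) (msk L100094) :=
  Impl.AllS.cent (a100093 I B E) 73 L100094 (by decide +kernel)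

theorem a100098 : I.AllS P ((KS σ (S.ω 1)) ⊓ Subgroup.centralizer {I.u (P 73)} : Subgroup Mˣ) m100097 :=
  (ac100095 I B E).ext L100096 (by decide +kernel)

theorem a100100 : I.AllS P (I.gen P S100099) (msk S100099) :=
  Impl.allS_gen_of (a100098 I B E) (by decide +kernel)

theorem lo100102 : 24 * Nat.card (I.gen P S100099) ≤ Nat.card ((KS σ (S.ω 1)) ⊓ Subgroup.centralizer {I.u (P 73)} : Subgroup Mˣ) :=
  BImpl.low_lev (B := B) (a100098 I B E) b100101 [475250, 475251, 475245, 475248, 454768, 117, 119, 0, 109, 454765, 446573, 446582, 114, 111, 454771, 118, 112, 116, 446579, 454770, 115, 446578, 113, 446583] 24 (by decide +kernel)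

theorem a100105 : I.AllS P (I.gen P S100099) m100104 :=
  (a100100 I B E).ext L100103 (by decide +kernel)

theorem a100107 : I.AllS P (I.gen P S100106) (msk S100106) :=
  Impl.allS_gen_of (a100105 I B E) (by decide +kernel)

theorem lo100109 : 20 * Nat.card (I.gen P S100106) ≤ Nat.card (I.gen P S100099) :=
  BImpl.low_lev (B := B) (a100105 I B E) b100108 [0, 495736, 508028, 123, 124, 491642, 491643, 503931, 491641, 491644, 495739, 121, 0x7807b07b, 122, 120, 503930, 495740, 503929, 499836, 0x7807c07c] 20 (by decide +kernel)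

theorem low100110 : 480 ≤ Nat.card ((KS σ (S.ω 1)) ⊓ Subgroup.centralizer {I.u (P 73)} : Subgroup Mˣ) :=
  le_trans (by decide +kernel) (le_of_low (lo100102 I B E) (le_of_low (lo100109 I B E) (Nat.succ_le_of_lt Nat.card_pos)))

theorem a100112 : I.AllS P (I.gen P S100111) (msk S100111) :=
  Impl.allS_gen_of (a100093 I B E) (by decide +kernel)

theorem a100115 : I.AllS P (I.gen P S100111) m100114 :=
  (a100112 I B E).ext L100113 (by decide +kernel)

theorem a100117 : I.AllS P (I.gen P S100116) (msk S100116) :=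
  Impl.allS_gen_of (a100115 I B E) (by decide +kernel)

theorem lo100119 : 32 * Nat.card (I.gen P S100116) ≤ Nat.card (I.gen P S100111) :=
  BImpl.low_lev (B := B) (a100115 I B E) b100118 [0, 254077, 62, 245886, 245889, 0x3c03e03c07f, 0x3c03e07d, 0x3e03c07e, 0x3c03e03c03e, 129, 0x3c03e03c07e, 0x3e03c03e, 516222, 60, 0x3e03c07f, 512128, 127, 0x3c07f07d, 125, 0x3e07d07f, 254012, 128, 245887, 0x3c03e07d07f, 512127, 516156, 0x3c07e03c, 245822, 0x3c03e03c, 520317, 516225, 126] 32 (by decide +kernel)

theorem low100120 : 32 ≤ Nat.card (I.gen P S100111) :=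
  le_trans (by decide +kernel) (le_of_low (lo100119 I B E) (Nat.succ_le_of_lt Nat.card_pos))

theorem a100123 : I.AllS P (I.gen P S100122) (msk S100122) :=
  Impl.allS_gen (W := []) (by decide +kernel)

theorem a100126 : I.AllS P (I.gen P S100122) m100125 :=
  (a100123 I B E).ext L100124 (by decide +kernel)

theorem cv100127 : ∀ x ∈ I.gen P S100111, ∃ q < 32, ∃ h ∈ I.gen P [], x = I.u (P (63 + q)) * h :=
  Impl.plain_cover' (p0 := 0) (a100126 I B E) (by decide +kernel) (Impl.plain_all (a100126 I B E) (a100093 I B E) 63 32 S100111 W100128 (by decide +kernel))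

theorem a100132 : I.AllS P (KS σ (S.ω 1)) m100131 :=
  (a100093 I B E).ext L100130 (by decide +kernel)

theorem ac100134 : I.AllS P ((KS σ (S.ω 1)) ⊓ Subgroup.centralizer {I.u (P 133)} : Subgroup Mˣ) (msk L100133) :=
  Impl.AllS.cent (a100132 I B E) 133 L100133 (by decide +kernel)

theorem a100137 : I.AllS P ((KS σ (S.ω 1)) ⊓ Subgroup.centralizer {I.u (P 133)} : Subgroup Mˣ) m100136 :=
  (ac100134 I B E).ext L100135 (by decide +kernel)

theorem a100139 : I.AllS P (I.gen P S100138) (msk S100138) :=
  Impl.allS_gen_of (a100137 I B E) (by decide +kernel)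

theorem lo100141 : 60 * Nat.card (I.gen P S100138) ≤ Nat.card ((KS σ (S.ω 1)) ⊓ Subgroup.centralizer {I.u (P 133)} : Subgroup Mˣ) :=
  BImpl.low_lev (B := B) (a100137 I B E) b100140 [0x87094087, 553108, 553109, 553097, 0, 565389, 144, 565394, 143, 594057, 585871, 573583, 565385, 606343, 137, 573580, 573582, 577680, 138, 589971, 573585, 561300, 553095, 553101, 565390, 553105, 565393, 577677, 553104, 146, 577685, 553110, 577681, 140, 553103, 0x87091089, 581776, 573590, 577683, 145, 561293, 147, 561299, 610441, 135, 141, 606358, 150, 149, 565397, 142, 148, 565391, 561294, 598158, 585878, 561302, 553106, 565392, 577679] 60 (by decide +kernel)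

theorem a100144 : I.AllS P (I.gen P S100138) m100143 :=
  (a100139 I B E).ext L100142 (by decide +kernel)

theorem a100146 : I.AllS P (I.gen P S100145) (msk S100145) :=
  Impl.allS_gen_of (a100144 I B E) (by decide +kernel)

theorem lo100148 : 25 * Nat.card (I.gen P S100145) ≤ Nat.card (I.gen P S100138) :=
  BImpl.low_lev (B := B) (a100144 I B E) b100147 [0, 0x9909909a, 0x9709a09a, 0x99098098, 0x97097098, 0x97097098098, 152, 626841, 618650, 0x9909a09a, 0x99099098098, 618648, 153, 0x9709709a, 630938, 0x99099098, 151, 626842, 0x9709709a09a, 622744, 618647, 154, 0x9909909a09a, 0x97098098, 626840] 25 (by decide +kernel)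

theorem low100149 : 1500 ≤ Nat.card ((KS σ (S.ω 1)) ⊓ Subgroup.centralizer {I.u (P 133)} : Subgroup Mˣ) :=
  le_trans (by decide +kernel) (le_of_low (lo100141 I B E) (le_of_low (lo100148 I B E) (Nat.succ_le_of_lt Nat.card_pos)))

theorem a100151 : I.AllS P (I.gen P S100150) (msk S100150) :=
  Impl.allS_gen_of (a100132 I B E) (by decide +kernel)

theorem a100154 : I.AllS P (I.gen P S100150) m100153 :=
  (a100151 I B E).ext L100152 (by decide +kernel)

theorem a100156 : I.AllS P (I.gen P S100155) (msk S100155) :=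
  Impl.allS_gen_of (a100154 I B E) (by decide +kernel)

theorem lo100158 : 3 * Nat.card (I.gen P S100155) ≤ Nat.card (I.gen P S100150) :=
  BImpl.low_lev (B := B) (a100154 I B E) b100157 [0, 155, 131] 3 (by decide +kernel)

theorem low100159 : 3 ≤ Nat.card (I.gen P S100150) :=
  le_trans (by decide +kernel) (le_of_low (lo100158 I B E) (Nat.succ_le_of_lt Nat.card_pos))

theorem a100162 : I.AllS P (I.gen P S100161) (msk S100161) :=
  Impl.allS_gen (W := []) (by decide +kernel)

theorem a100165 : I.AllS P (I.gen P S100161) m100164 :=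
  (a100162 I B E).ext L100163 (by decide +kernel)

theorem cv100166 : ∀ x ∈ I.gen P S100150, ∃ q < 3, ∃ h ∈ I.gen P [], x = I.u (P (132 + q)) * h :=
  Impl.plain_cover' (p0 := 0) (a100165 I B E) (by decide +kernel) (Impl.plain_all (a100165 I B E) (a100132 I B E) 132 3 S100150 W100167 (by decide +kernel))

theorem clT1 (ht : TrInv I (FF.trc 14)) (hn : ∀ j ∈ JN, Nat.card (KS σ (S.ω j)) = KF j) : ClsB (KS σ (S.ω 1)) (I.u (P iT)) 14400 (NT 1) :=
  B.clsB ht (a100093 I B E) (cv100127 I B E) (low100120 I B E) (hn 1 (by decide)) Nat.prime_two 5 9375 (hT I B) [(65, 36), (73, 30)] (List.forall_mem_cons.2 ⟨le_trans (b := 36 * 400) (by decide +kernel) (Nat.mul_le_mul_left _ (low100090 I B E)), List.forall_mem_cons.2 ⟨le_trans (b := 30 * 480) (by decide +kernel) (Nat.mul_le_mul_left _ (low100110 I B E)), List.forall_mem_nil _⟩⟩) 0x200000000000000000000000000000000001000000000000000000000000000000000030000000000000000000000000000000000100000000000000000000000000000000004000000000000000000000000000000000000000000000000000000000000000000000100000000000000000000000000000000002000000000000000000000000000000000000000000000000000000000000000000000300000000000000000000000000000000003000000000000000000000000000000000030000000000000000000000000000000000000000000000000000000000000000000000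 W100129 (NT 1) (by decide +kernel)

theorem clX1 (ht : TrInv I (FF.trc 14)) (hn : ∀ j ∈ JN, Nat.card (KS σ (S.ω j)) = KF j) : ClsB (KS σ (S.ω 1)) (I.u (P iX)) cX (NX 1) :=
  B.clsB ht (a100132 I B E) (cv100166 I B E) (low100159 I B E) (hn 1 (by decide)) Nat.prime_three 1 100000 (hX I B) [(133, 253)] (List.forall_mem_cons.2 ⟨le_trans (b := 253 * 1500) (by decide +kernel) (Nat.mul_le_mul_left _ (low100149 I B E)), List.forall_mem_nil _⟩) 0x4000000000000000000000000000000000030000000000000000000000000000000000200000000000000000000000000000000001000000000000000000000000000000000010000000000000000000000000000000000200000000000000000000000000000000003000000000000000000000000000000000010000000000000000000000000000000000300000000000000000000000000000000002000000000000000000000000000000000020000000000000000000000000000000000300000000000000000000000000000000001 W100168 (NX 1) (by decide +kernel)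

theorem ak100170 : I.AllS P (KS σ (S.ω 2)) (msk (mapL hd L100169)) :=
  E.allS_K (allH S) P 2 L100169 (by decide +kernel)

theorem a100173 : I.AllS P (KS σ (S.ω 2)) m100172 :=
  (ak100170 I B E).ext L100171 (by decide +kernel)

theorem ac100175 : I.AllS P ((KS σ (S.ω 2)) ⊓ Subgroup.centralizer {I.u (P 174)} : Subgroup Mˣ) (msk L100174) :=
  Impl.AllS.cent (a100173 I B E) 174 L100174 (by decide +kernel)

theorem a100178 : I.AllS P ((KS σ (S.ω 2)) ⊓ Subgroup.centralizer {I.u (P 174)} : Subgroup Mˣ) m100177 :=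
  (ac100175 I B E).ext L100176 (by decide +kernel)

theorem a100180 : I.AllS P (I.gen P S100179) (msk S100179) :=
  Impl.allS_gen_of (a100178 I B E) (by decide +kernel)

theorem lo100182 : 12 * Nat.card (I.gen P S100179) ≤ Nat.card ((KS σ (S.ω 2)) ⊓ Subgroup.centralizer {I.u (P 174)} : Subgroup Mˣ) :=
  BImpl.low_lev (B := B) (a100178 I B E) b100181 [786623, 0, 774337, 191, 190, 774334, 192, 774336, 189, 774335, 193, 778433] 12 (by decide +kernel)

theorem low100183 : 12 ≤ Nat.card ((KS σ (S.ω 2)) ⊓ Subgroup.centralizer {I.u (P 174)} : Subgroup Mˣ) :=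
  le_trans (by decide +kernel) (le_of_low (lo100182 I B E) (Nat.succ_le_of_lt Nat.card_pos))

theorem a100186 : I.AllS P (KS σ (S.ω 2)) m100185 :=
  (a100173 I B E).ext L100184 (by decide +kernel)

theorem ac100188 : I.AllS P ((KS σ (S.ω 2)) ⊓ Subgroup.centralizer {I.u (P 175)} : Subgroup Mˣ) (msk L100187) :=
  Impl.AllS.cent (a100186 I B E) 175 L100187 (by decide +kernel)

theorem a100191 : I.AllS P ((KS σ (S.ω 2)) ⊓ Subgroup.centralizer {I.u (P 175)} : Subgroup Mˣ) m100190 :=
  (ac100188 I B E).ext L100189 (by decide +kernel)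

theorem a100193 : I.AllS P (I.gen P S100192) (msk S100192) :=
  Impl.allS_gen_of (a100191 I B E) (by decide +kernel)

theorem lo100195 : 24 * Nat.card (I.gen P S100192) ≤ Nat.card ((KS σ (S.ω 2)) ⊓ Subgroup.centralizer {I.u (P 175)} : Subgroup Mˣ) :=
  BImpl.low_lev (B := B) (a100191 I B E) b100194 [0xc20c60c6, 794824, 0xc20c40c8, 198, 0xc20c30c7, 0xc70c20c6, 798917, 195, 0xc20c30c20c6, 0xc20c60c8, 0xc20c30c20c8, 0xc20c80c7, 199, 794819, 807111, 197, 194, 815298, 794821, 794820, 0xc20c30c2, 196, 794822, 0] 24 (by decide +kernel)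

theorem a100197 : I.AllS P (I.gen P S100196) (msk S100196) :=
  Impl.allS_gen_of (a100193 I B E) (by decide +kernel)

theorem lo100199 : 2 * Nat.card (I.gen P S100196) ≤ Nat.card (I.gen P S100192) :=
  BImpl.low_lev (B := B) (a100193 I B E) b100198 [0, 201] 2 (by decide +kernel)

theorem low100200 : 48 ≤ Nat.card ((KS σ (S.ω 2)) ⊓ Subgroup.centralizer {I.u (P 175)} : Subgroup Mˣ) :=
  le_trans (by decide +kernel) (le_of_low (lo100195 I B E) (le_of_low (lo100199 I B E) (Nat.succ_le_of_lt Nat.card_pos)))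

theorem a100202 : I.AllS P (I.gen P S100201) (msk S100201) :=
  Impl.allS_gen_of (a100186 I B E) (by decide +kernel)

theorem a100204 : I.AllS P (I.gen P S100203) (msk S100203) :=
  Impl.allS_gen_of (a100202 I B E) (by decide +kernel)

theorem lo100206 : 16 * Nat.card (I.gen P S100203) ≤ Nat.card (I.gen P S100201) :=
  BImpl.low_lev (B := B) (a100202 I B E) b100205 [0xab0ac0ab0ac0ab0ac0ab, 0, 0xac0ab0ac0ab, 0xab0ac0ab0ac0ab, 0xac0ab0ac0ab0ac0ab0ac, 0xab0ac0ab0ac0ab0ac, 0xac0ab0ac0ab0ac0ab, 0xac0ab0ac, 171, 0xab0ac0ab, 0xab0ac0ab0ac0ab0ac0ab0ac, 0xac0ab0ac0ab0ac, 0xab0ac0ab0ac, 704683, 172, 700588] 16 (by decide +kernel)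

theorem low100207 : 16 ≤ Nat.card (I.gen P S100201) :=
  le_trans (by decide +kernel) (le_of_low (lo100206 I B E) (Nat.succ_le_of_lt Nat.card_pos))

theorem a100210 : I.AllS P (I.gen P S100209) (msk S100209) :=
  Impl.allS_gen (W := []) (by decide +kernel)

theorem a100213 : I.AllS P (I.gen P S100209) m100212 :=
  (a100210 I B E).ext L100211 (by decide +kernel)

theorem cv100214 : ∀ x ∈ I.gen P S100201, ∃ q < 16, ∃ h ∈ I.gen P [], x = I.u (P (173 + q)) * h :=
  Impl.plain_cover' (p0 := 0) (a100213 I B E) (by decide +kernel) (Impl.plain_all (a100213 I B E) (a100186 I B E) 173 16 S100201 W100215 (by decide +kernel))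

theorem a100219 : I.AllS P (KS σ (S.ω 2)) m100218 :=
  (a100186 I B E).ext L100217 (by decide +kernel)

theorem ac100221 : I.AllS P ((KS σ (S.ω 2)) ⊓ Subgroup.centralizer {I.u (P 208)} : Subgroup Mˣ) (msk L100220) :=
  Impl.AllS.cent (a100219 I B E) 208 L100220 (by decide +kernel)

theorem a100224 : I.AllS P ((KS σ (S.ω 2)) ⊓ Subgroup.centralizer {I.u (P 208)} : Subgroup Mˣ) m100223 :=
  (ac100221 I B E).ext L100222 (by decide +kernel)

theorem a100226 : I.AllS P (I.gen P S100225) (msk S100225) :=
  Impl.allS_gen_of (a100224 I B E) (by decide +kernel)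

theorem lo100228 : 84 * Nat.card (I.gen P S100225) ≤ Nat.card ((KS σ (S.ω 2)) ⊓ Subgroup.centralizer {I.u (P 208)} : Subgroup Mˣ) :=
  BImpl.low_lev (B := B) (a100224 I B E) b100227 [0xd80e20e0, 0xd80dd0e4, 0, 909531, 880866, 897246, 884953, 221, 880856, 0xd70db0db, 0xd70da0dd, 884960, 925920, 880867, 0xd70da0db, 0xd70db0e1, 0xd80e20dc, 223, 913633, 921822, 216, 228, 225, 934105, 0xd70da0e4, 889052, 0xd90dd0e4, 893156, 0xd70e30d8, 905442, 0xda0e10db, 930008, 0xd70dc0e2, 215, 893147, 909530, 0xd90e20e3, 909537, 905441, 934114, 909539, 0xd70dc0dd, 0xd70db0e3, 921827, 884957, 0xd70dd0e4, 925917, 934109, 0xdb0de0e1, 0xdd0db0d7, 0xdb0de0da, 219, 227, 222, 917730, 0xd70e20dc, 925924, 913627, 224, 884962, 884964, 0xd80e20df, 0xd70da0e2, 889053, 880861, 930019, 226, 905444, 889058, 880859, 905435, 880860, 934113, 893153, 218, 0xdd0e20dd, 921825, 880858, 880865, 0xd70e30da, 930010, 905437, 884956, 217] 84 (by decide +kernel)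

theorem a100231 : I.AllS P (I.gen P S100225) m100230 :=
  (a100226 I B E).ext L100229 (by decide +kernel)

theorem a100233 : I.AllS P (I.gen P S100232) (msk S100232) :=
  Impl.allS_gen_of (a100231 I B E) (by decide +kernel)

theorem lo100235 : 6 * Nat.card (I.gen P S100232) ≤ Nat.card (I.gen P S100225) :=
  BImpl.low_lev (B := B) (a100231 I B E) b100234 [0, 229, 230, 938213, 938215, 231] 6 (by decide +kernel)

theorem low100236 : 504 ≤ Nat.card ((KS σ (S.ω 2)) ⊓ Subgroup.centralizer {I.u (P 208)} : Subgroup Mˣ) :=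
  le_trans (by decide +kernel) (le_of_low (lo100228 I B E) (le_of_low (lo100235 I B E) (Nat.succ_le_of_lt Nat.card_pos)))

theorem a100238 : I.AllS P (I.gen P S100237) (msk S100237) :=
  Impl.allS_gen_of (a100219 I B E) (by decide +kernel)

theorem a100241 : I.AllS P (I.gen P S100237) m100240 :=
  (a100238 I B E).ext L100239 (by decide +kernel)

theorem a100243 : I.AllS P (I.gen P S100242) (msk S100242) :=
  Impl.allS_gen_of (a100241 I B E) (by decide +kernel)

theorem lo100245 : 9 * Nat.card (I.gen P S100242) ≤ Nat.card (I.gen P S100237) :=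
  BImpl.low_lev (B := B) (a100241 I B E) b100244 [0, 233, 205, 234, 235, 237, 236, 203, 232] 9 (by decide +kernel)

theorem low100246 : 9 ≤ Nat.card (I.gen P S100237) :=
  le_trans (by decide +kernel) (le_of_low (lo100245 I B E) (Nat.succ_le_of_lt Nat.card_pos))

theorem a100249 : I.AllS P (I.gen P S100248) (msk S100248) :=
  Impl.allS_gen (W := []) (by decide +kernel)

theorem a100252 : I.AllS P (I.gen P S100248) m100251 :=
  (a100249 I B E).ext L100250 (by decide +kernel)

theorem cv100253 : ∀ x ∈ I.gen P S100237, ∃ q < 9, ∃ h ∈ I.gen P [], x = I.u (P (206 + q)) * h :=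
  Impl.plain_cover' (p0 := 0) (a100252 I B E) (by decide +kernel) (Impl.plain_all (a100252 I B E) (a100219 I B E) 206 9 S100237 W100254 (by decide +kernel))

theorem clT2 (ht : TrInv I (FF.trc 14)) (hn : ∀ j ∈ JN, Nat.card (KS σ (S.ω j)) = KF j) : ClsB (KS σ (S.ω 2)) (I.u (P iT)) 14400 (NT 2) :=
  B.clsB ht (a100186 I B E) (cv100214 I B E) (low100207 I B E) (hn 2 (by decide)) Nat.prime_two 4 63 (hT I B) [(174, 1200), (175, 300)] (List.forall_mem_cons.2 ⟨le_trans (b := 1200 * 12) (by decide +kernel) (Nat.mul_le_mul_left _ (low100183 I B E)), List.forall_mem_cons.2 ⟨le_trans (b := 300 * 48) (by decide +kernel) (Nat.mul_le_mul_left _ (low100200 I B E)), List.forall_mem_nil _⟩⟩) 0x200000000000000000000000000000000003000000000000000000000000000000000030000000000000000000000000000000000300000000000000000000000000000000001000000000000000000000000000000000010000000000000000000000000000000000200000000000000000000000000000000004000000000000000000000000000000000030000000000000000000000000000000000200000000000000000000000000000000002000000000000000000000000000000000030000000000000000000000000000000000400000000000000000000000000000000002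 W100216 (NT 2) (by decide +kernel)

theorem clX2 (ht : TrInv I (FF.trc 14)) (hn : ∀ j ∈ JN, Nat.card (KS σ (S.ω j)) = KF j) : ClsB (KS σ (S.ω 2)) (I.u (P iX)) cX (NX 2) :=
  B.clsB ht (a100219 I B E) (cv100253 I B E) (low100246 I B E) (hn 2 (by decide)) Nat.prime_three 2 112 (hX I B) [(208, 751)] (List.forall_mem_cons.2 ⟨le_trans (b := 751 * 504) (by decide +kernel) (Nat.mul_le_mul_left _ (low100236 I B E)), List.forall_mem_nil _⟩) 0x2000000000000000000000000000000000000000000000000000000000000000000000400000000000000000000000000000000004000000000000000000000000000000000010000000000000000000000000000000000200000000000000000000000000000000001000000000000000000000000000000000000000000000000000000000000000000000300000000000000000000000000000000000000000000000000000000000000000000010000000000000000000000000000000000200000000000000000000000000000000003 W100255 (NX 2) (by decide +kernel)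

theorem ak100257 : I.AllS P (KS σ (S.ω 3)) (msk (mapL hd L100256)) :=
  E.allS_K (allH S) P 3 L100256 (by decide +kernel)

theorem a100260 : I.AllS P (KS σ (S.ω 3)) m100259 :=
  (ak100257 I B E).ext L100258 (by decide +kernel)

theorem ac100262 : I.AllS P ((KS σ (S.ω 3)) ⊓ Subgroup.centralizer {I.u (P 261)} : Subgroup Mˣ) (msk L100261) :=
  Impl.AllS.cent (a100260 I B E) 261 L100261 (by decide +kernel)

theorem a100265 : I.AllS P ((KS σ (S.ω 3)) ⊓ Subgroup.centralizer {I.u (P 261)} : Subgroup Mˣ) m100264 :=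
  (ac100262 I B E).ext L100263 (by decide +kernel)

theorem a100267 : I.AllS P (I.gen P S100266) (msk S100266) :=
  Impl.allS_gen_of (a100265 I B E) (by decide +kernel)

theorem lo100269 : 32 * Nat.card (I.gen P S100266) ≤ Nat.card ((KS σ (S.ω 3)) ⊓ Subgroup.centralizer {I.u (P 261)} : Subgroup Mˣ) :=
  BImpl.low_lev (B := B) (a100265 I B E) b100268 [0, 0x144143, 325, 0x143144143144, 0x147144, 0x144146, 0x143144143, 0x142144, 0x144146144, 326, 0x143144146, 0x142146, 0x143144147, 324, 0x142144143144, 328, 322, 0x144148, 0x144147, 0x144147144, 0x142146144, 0x143144146144, 0x146144147, 0x144143144147, 0x145144, 0x144143144, 0x143144, 327, 323, 0x143144147144, 0x146144, 0x142144143] 32 (by decide +kernel)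

theorem low100270 : 32 ≤ Nat.card ((KS σ (S.ω 3)) ⊓ Subgroup.centralizer {I.u (P 261)} : Subgroup Mˣ) :=
  le_trans (by decide +kernel) (le_of_low (lo100269 I B E) (Nat.succ_le_of_lt Nat.card_pos))

theorem a100273 : I.AllS P (KS σ (S.ω 3)) m100272 :=
  (a100260 I B E).ext L100271 (by decide +kernel)

theorem ac100275 : I.AllS P ((KS σ (S.ω 3)) ⊓ Subgroup.centralizer {I.u (P 264)} : Subgroup Mˣ) (msk L100274) :=
  Impl.AllS.cent (a100273 I B E) 264 L100274 (by decide +kernel)

theorem a100278 : I.AllS P ((KS σ (S.ω 3)) ⊓ Subgroup.centralizer {I.u (P 264)} : Subgroup Mˣ) m100277 :=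
  (ac100275 I B E).ext L100276 (by decide +kernel)

theorem a100280 : I.AllS P (I.gen P S100279) (msk S100279) :=
  Impl.allS_gen_of (a100278 I B E) (by decide +kernel)

theorem lo100282 : 24 * Nat.card (I.gen P S100279) ≤ Nat.card ((KS σ (S.ω 3)) ⊓ Subgroup.centralizer {I.u (P 264)} : Subgroup Mˣ) :=
  BImpl.low_lev (B := B) (a100278 I B E) b100281 [0, 0x14914c, 0x14914a, 333, 0x14b14c14c, 0x14914d14d, 0x14b14c, 0x14d14d, 330, 0x14914a14d, 0x14914c14c, 0x14914b14c14c, 0x14914c14c14c, 332, 0x14914a14d14d, 0x14c14c, 329, 0x14a14d, 0x14a14d14d, 331, 0x14914d, 0x14c14c14c, 0x14914b, 0x14914b14c] 24 (by decide +kernel)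

theorem low100283 : 24 ≤ Nat.card ((KS σ (S.ω 3)) ⊓ Subgroup.centralizer {I.u (P 264)} : Subgroup Mˣ) :=
  le_trans (by decide +kernel) (le_of_low (lo100282 I B E) (Nat.succ_le_of_lt Nat.card_pos))

theorem a100286 : I.AllS P (KS σ (S.ω 3)) m100285 :=
  (a100273 I B E).ext L100284 (by decide +kernel)

theorem ac100288 : I.AllS P ((KS σ (S.ω 3)) ⊓ Subgroup.centralizer {I.u (P 266)} : Subgroup Mˣ) (msk L100287) :=
  Impl.AllS.cent (a100286 I B E) 266 L100287 (by decide +kernel)

theorem a100291 : I.AllS P ((KS σ (S.ω 3)) ⊓ Subgroup.centralizer {I.u (P 266)} : Subgroup Mˣ) m100290 :=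
  (ac100288 I B E).ext L100289 (by decide +kernel)

theorem a100293 : I.AllS P (I.gen P S100292) (msk S100292) :=
  Impl.allS_gen_of (a100291 I B E) (by decide +kernel)

theorem lo100295 : 24 * Nat.card (I.gen P S100292) ≤ Nat.card ((KS σ (S.ω 3)) ⊓ Subgroup.centralizer {I.u (P 266)} : Subgroup Mˣ) :=
  BImpl.low_lev (B := B) (a100291 I B E) b100294 [0x14f14e15114e14f, 0x14f14e15114e, 0x14e14f14f14e, 0x14e14f14f14e151, 335, 0x14f14f, 0x14e151, 334, 0x14e15114e, 0x14e14f14e151, 0x14f14f14e151, 0x14f14f14e, 0x14f14e, 0x14e14f14e, 0x14e14f14e15114e, 0x14e14f14e15114e14f, 337, 0, 0x15114e14f, 0x14e15114e14f, 0x14e14f, 0x14e14f14f, 0x15114e, 0x14f14e151] 24 (by decide +kernel)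

theorem a100298 : I.AllS P (I.gen P S100292) m100297 :=
  (a100293 I B E).ext L100296 (by decide +kernel)

theorem a100300 : I.AllS P (I.gen P S100299) (msk S100299) :=
  Impl.allS_gen_of (a100298 I B E) (by decide +kernel)

theorem lo100302 : 24 * Nat.card (I.gen P S100299) ≤ Nat.card (I.gen P S100292) :=
  BImpl.low_lev (B := B) (a100298 I B E) b100301 [0x15815c, 0x15b15a, 0x15a15d, 0x15a161, 0, 349, 344, 348, 346, 345, 0x15615b, 0x156160, 0x15915c, 0x15915a, 342, 343, 0x156158, 353, 0x15615c, 0x156156, 347, 352, 0x156161, 0x15a159] 24 (by decide +kernel)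

theorem a100305 : I.AllS P (I.gen P S100299) m100304 :=
  (a100300 I B E).ext L100303 (by decide +kernel)

theorem a100307 : I.AllS P (I.gen P S100306) (msk S100306) :=
  Impl.allS_gen_of (a100305 I B E) (by decide +kernel)

theorem lo100309 : 5 * Nat.card (I.gen P S100306) ≤ Nat.card (I.gen P S100299) :=
  BImpl.low_lev (B := B) (a100305 I B E) b100308 [0, 356, 355, 354, 357] 5 (by decide +kernel)

theorem low100310 : 2880 ≤ Nat.card ((KS σ (S.ω 3)) ⊓ Subgroup.centralizer {I.u (P 266)} : Subgroup Mˣ) :=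
  le_trans (by decide +kernel) (le_of_low (lo100295 I B E) (le_of_low (lo100302 I B E) (le_of_low (lo100309 I B E) (Nat.succ_le_of_lt Nat.card_pos))))

theorem a100312 : I.AllS P (I.gen P S100311) (msk S100311) :=
  Impl.allS_gen_of (a100286 I B E) (by decide +kernel)

theorem a100315 : I.AllS P (I.gen P S100311) m100314 :=
  (a100312 I B E).ext L100313 (by decide +kernel)

theorem a100317 : I.AllS P (I.gen P S100316) (msk S100316) :=
  Impl.allS_gen_of (a100315 I B E) (by decide +kernel)

theorem lo100319 : 32 * Nat.card (I.gen P S100316) ≤ Nat.card (I.gen P S100311) :=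
  BImpl.low_lev (B := B) (a100315 I B E) b100318 [0x166169, 363, 0x10116b, 1036656, 360, 257, 0, 1044733, 1036650, 367, 1044842, 1036651, 0x166101, 1036649, 366, 1036541, 362, 359, 1036653, 358, 361, 364, 1044737, 0x167168, 1036648, 1044841, 0x16616c, 1044844, 0x16a16c, 255, 253, 0x16916a] 32 (by decide +kernel)

theorem a100321 : I.AllS P (I.gen P S100320) (msk S100320) :=
  Impl.allS_gen_of (a100317 I B E) (by decide +kernel)

theorem lo100323 : 2 * Nat.card (I.gen P S100320) ≤ Nat.card (I.gen P S100316) :=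
  BImpl.low_lev (B := B) (a100317 I B E) b100322 [0, 369] 2 (by decide +kernel)

theorem low100324 : 64 ≤ Nat.card (I.gen P S100311) :=
  le_trans (by decide +kernel) (le_of_low (lo100319 I B E) (le_of_low (lo100323 I B E) (Nat.succ_le_of_lt Nat.card_pos)))

theorem a100327 : I.AllS P (I.gen P S100326) (msk S100326) :=
  Impl.allS_gen (W := []) (by decide +kernel)

theorem a100330 : I.AllS P (I.gen P S100326) m100329 :=
  (a100327 I B E).ext L100328 (by decide +kernel)

theorem cv100331 : ∀ x ∈ I.gen P S100311, ∃ q < 64, ∃ h ∈ I.gen P [], x = I.u (P (258 + q)) * h :=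
  Impl.plain_cover' (p0 := 0) (a100330 I B E) (by decide +kernel) (Impl.plain_all (a100330 I B E) (a100286 I B E) 258 64 S100311 W100332 (by decide +kernel))

theorem a100336 : I.AllS P (KS σ (S.ω 3)) m100335 :=
  (a100286 I B E).ext L100334 (by decide +kernel)

theorem ac100338 : I.AllS P ((KS σ (S.ω 3)) ⊓ Subgroup.centralizer {I.u (P 379)} : Subgroup Mˣ) (msk L100337) :=
  Impl.AllS.cent (a100336 I B E) 379 L100337 (by decide +kernel)

theorem a100341 : I.AllS P ((KS σ (S.ω 3)) ⊓ Subgroup.centralizer {I.u (P 379)} : Subgroup Mˣ) m100340 :=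
  (ac100338 I B E).ext L100339 (by decide +kernel)

theorem a100343 : I.AllS P (I.gen P S100342) (msk S100342) :=
  Impl.allS_gen_of (a100341 I B E) (by decide +kernel)

theorem lo100345 : 24 * Nat.card (I.gen P S100342) ≤ Nat.card ((KS σ (S.ω 3)) ⊓ Subgroup.centralizer {I.u (P 379)} : Subgroup Mˣ) :=
  BImpl.low_lev (B := B) (a100341 I B E) b100344 [0, 0x182185, 0x17e184, 0x17f186, 0x17f183, 0x182186, 0x17e182, 0x180184, 389, 0x180183, 384, 0x17e183, 383, 0x18617f, 390, 0x17e186, 0x17f185, 0x17f184, 382, 388, 0x17e185, 0x17e17f, 386, 387] 24 (by decide +kernel)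

theorem a100348 : I.AllS P (I.gen P S100342) m100347 :=
  (a100343 I B E).ext L100346 (by decide +kernel)

theorem a100350 : I.AllS P (I.gen P S100349) (msk S100349) :=
  Impl.allS_gen_of (a100348 I B E) (by decide +kernel)

theorem lo100352 : 6 * Nat.card (I.gen P S100349) ≤ Nat.card (I.gen P S100342) :=
  BImpl.low_lev (B := B) (a100348 I B E) b100351 [0x187189, 0, 0x187187, 391, 392, 393] 6 (by decide +kernel)

theorem low100353 : 144 ≤ Nat.card ((KS σ (S.ω 3)) ⊓ Subgroup.centralizer {I.u (P 379)} : Subgroup Mˣ) :=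
  le_trans (by decide +kernel) (le_of_low (lo100345 I B E) (le_of_low (lo100352 I B E) (Nat.succ_le_of_lt Nat.card_pos)))

theorem a100355 : I.AllS P (I.gen P S100354) (msk S100354) :=
  Impl.allS_gen_of (a100336 I B E) (by decide +kernel)

theorem a100358 : I.AllS P (I.gen P S100354) m100357 :=
  (a100355 I B E).ext L100356 (by decide +kernel)

theorem a100360 : I.AllS P (I.gen P S100359) (msk S100359) :=
  Impl.allS_gen_of (a100358 I B E) (by decide +kernel)

theorem lo100362 : 9 * Nat.card (I.gen P S100359) ≤ Nat.card (I.gen P S100354) :=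
  BImpl.low_lev (B := B) (a100358 I B E) b100361 [399, 397, 0, 396, 395, 370, 372, 398, 394] 9 (by decide +kernel)

theorem low100363 : 9 ≤ Nat.card (I.gen P S100354) :=
  le_trans (by decide +kernel) (le_of_low (lo100362 I B E) (Nat.succ_le_of_lt Nat.card_pos))

theorem a100366 : I.AllS P (I.gen P S100365) (msk S100365) :=
  Impl.allS_gen (W := []) (by decide +kernel)

theorem a100369 : I.AllS P (I.gen P S100365) m100368 :=
  (a100366 I B E).ext L100367 (by decide +kernel)

theorem cv100370 : ∀ x ∈ I.gen P S100354, ∃ q < 9, ∃ h ∈ I.gen P [], x = I.u (P (373 + q)) * h :=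
  Impl.plain_cover' (p0 := 0) (a100369 I B E) (by decide +kernel) (Impl.plain_all (a100369 I B E) (a100336 I B E) 373 9 S100354 W100371 (by decide +kernel))

theorem clT3 (ht : TrInv I (FF.trc 14)) (hn : ∀ j ∈ JN, Nat.card (KS σ (S.ω j)) = KF j) : ClsB (KS σ (S.ω 3)) (I.u (P iT)) 14400 (NT 3) :=
  B.clsB ht (a100286 I B E) (cv100331 I B E) (low100324 I B E) (hn 3 (by decide)) Nat.prime_two 6 45 (hT I B) [(261, 450), (264, 600), (266, 5)] (List.forall_mem_cons.2 ⟨le_trans (b := 450 * 32) (by decide +kernel) (Nat.mul_le_mul_left _ (low100270 I B E)), List.forall_mem_cons.2 ⟨le_trans (b := 600 * 24) (by decide +kernel) (Nat.mul_le_mul_left _ (low100283 I B E)), List.forall_mem_cons.2 ⟨le_trans (b := 5 * 2880) (by decide +kernel) (Nat.mul_le_mul_left _ (low100310 I B E)), List.forall_mem_nil _⟩⟩⟩) 0x200000000000000000000000000000000001000000000000000000000000000000000030000000000000000000000000000000000300000000000000000000000000000000003000000000000000000000000000000000020000000000000000000000000000000000300000000000000000000000000000000003000000000000000000000000000000000000000000000000000000000000000000000100000000000000000000000000000000001000000000000000000000000000000000010000000000000000000000000000000000100000000000000000000000000000000003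 W100333 (NT 3) (by decide +kernel)

theorem clX3 (ht : TrInv I (FF.trc 14)) (hn : ∀ j ∈ JN, Nat.card (KS σ (S.ω j)) = KF j) : ClsB (KS σ (S.ω 3)) (I.u (P iX)) cX (NX 3) :=
  B.clsB ht (a100336 I B E) (cv100370 I B E) (low100363 I B E) (hn 3 (by decide)) Nat.prime_three 2 320 (hX I B) [(379, 2627)] (List.forall_mem_cons.2 ⟨le_trans (b := 2627 * 144) (by decide +kernel) (Nat.mul_le_mul_left _ (low100353 I B E)), List.forall_mem_nil _⟩) 0x30000000000000000000000000000000000100000000000000000000000000000000001000000000000000000000000000000000010000000000000000000000000000000000400000000000000000000000000000000000000000000000000000000000000000000040000000000000000000000000000000000400000000000000000000000000000000000 W100372 (NX 3) (by decide +kernel)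

theorem ak100374 : I.AllS P (KS σ (S.ω 4)) (msk (mapL hd L100373)) :=
  E.allS_K (allH S) P 4 L100373 (by decide +kernel)

theorem a100377 : I.AllS P (KS σ (S.ω 4)) m100376 :=
  (ak100374 I B E).ext L100375 (by decide +kernel)

theorem ac100379 : I.AllS P ((KS σ (S.ω 4)) ⊓ Subgroup.centralizer {I.u (P 423)} : Subgroup Mˣ) (msk L100378) :=
  Impl.AllS.cent (a100377 I B E) 423 L100378 (by decide +kernel)

theorem a100382 : I.AllS P ((KS σ (S.ω 4)) ⊓ Subgroup.centralizer {I.u (P 423)} : Subgroup Mˣ) m100381 :=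
  (ac100379 I B E).ext L100380 (by decide +kernel)

theorem a100384 : I.AllS P (I.gen P S100383) (msk S100383) :=
  Impl.allS_gen_of (a100382 I B E) (by decide +kernel)

theorem lo100386 : 24 * Nat.card (I.gen P S100383) ≤ Nat.card ((KS σ (S.ω 4)) ⊓ Subgroup.centralizer {I.u (P 423)} : Subgroup Mˣ) :=
  BImpl.low_lev (B := B) (a100382 I B E) b100385 [0x1c71c5, 0x1c31c6, 0x1c11c21c5, 0x1c51c1, 0, 0x1c11c21c3, 451, 455, 0x1c11c21c7, 0x1c51c8, 453, 0x1c71c3, 449, 0x1c11c51c1, 0x1c71c6, 0x1c11c1, 0x1c11c5, 0x1c51c2, 0x1c11c2, 450, 0x1c31c3, 0x1c21c7, 0x1c21c3, 0x1c31c4] 24 (by decide +kernel)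

theorem a100389 : I.AllS P (I.gen P S100383) m100388 :=
  (a100384 I B E).ext L100387 (by decide +kernel)

theorem a100391 : I.AllS P (I.gen P S100390) (msk S100390) :=
  Impl.allS_gen_of (a100389 I B E) (by decide +kernel)

theorem lo100393 : 4 * Nat.card (I.gen P S100390) ≤ Nat.card (I.gen P S100383) :=
  BImpl.low_lev (B := B) (a100389 I B E) b100392 [0, 458, 0x1c91c9, 457] 4 (by decide +kernel)

theorem low100394 : 96 ≤ Nat.card ((KS σ (S.ω 4)) ⊓ Subgroup.centralizer {I.u (P 423)} : Subgroup Mˣ) :=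
  le_trans (by decide +kernel) (le_of_low (lo100386 I B E) (le_of_low (lo100393 I B E) (Nat.succ_le_of_lt Nat.card_pos)))

theorem a100396 : I.AllS P (I.gen P S100395) (msk S100395) :=
  Impl.allS_gen_of (a100377 I B E) (by decide +kernel)

theorem a100399 : I.AllS P (I.gen P S100395) m100398 :=
  (a100396 I B E).ext L100397 (by decide +kernel)

theorem a100401 : I.AllS P (I.gen P S100400) (msk S100400) :=
  Impl.allS_gen_of (a100399 I B E) (by decide +kernel)

theorem lo100403 : 32 * Nat.card (I.gen P S100400) ≤ Nat.card (I.gen P S100395) :=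
  BImpl.low_lev (B := B) (a100399 I B E) b100402 [416, 0x19e1cd, 465, 0x1cb1cf, 0, 0x1cb1d0, 462, 0x1cd1d0, 414, 0x19e1cf, 464, 0x1a01d0, 0x1d01d0, 0x19e1a01d1, 463, 0x19e1cc, 0x1cb1a0, 0x1cf19e, 0x1cc1d1, 460, 0x1cb1cc, 0x19e1a0, 0x1cc1cb, 0x1a019e, 0x19e1ce, 0x1cb1cd, 0x1cd19e, 0x1a01d1, 0x1ce1d1, 0x19e1d1, 459, 461] 32 (by decide +kernel)

theorem low100404 : 32 ≤ Nat.card (I.gen P S100395) :=
  le_trans (by decide +kernel) (le_of_low (lo100403 I B E) (Nat.succ_le_of_lt Nat.card_pos))

theorem a100407 : I.AllS P (I.gen P S100406) (msk S100406) :=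
  Impl.allS_gen (W := []) (by decide +kernel)

theorem a100410 : I.AllS P (I.gen P S100406) m100409 :=
  (a100407 I B E).ext L100408 (by decide +kernel)

theorem cv100411 : ∀ x ∈ I.gen P S100395, ∃ q < 32, ∃ h ∈ I.gen P [], x = I.u (P (417 + q)) * h :=
  Impl.plain_cover' (p0 := 0) (a100410 I B E) (by decide +kernel) (Impl.plain_all (a100410 I B E) (a100377 I B E) 417 32 S100395 W100412 (by decide +kernel))

theorem a100416 : I.AllS P (KS σ (S.ω 4)) m100415 :=
  (a100377 I B E).ext L100414 (by decide +kernel)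

theorem ac100418 : I.AllS P ((KS σ (S.ω 4)) ⊓ Subgroup.centralizer {I.u (P 493)} : Subgroup Mˣ) (msk L100417) :=
  Impl.AllS.cent (a100416 I B E) 493 L100417 (by decide +kernel)

theorem a100421 : I.AllS P ((KS σ (S.ω 4)) ⊓ Subgroup.centralizer {I.u (P 493)} : Subgroup Mˣ) m100420 :=
  (ac100418 I B E).ext L100419 (by decide +kernel)

theorem a100423 : I.AllS P (I.gen P S100422) (msk S100422) :=
  Impl.allS_gen_of (a100421 I B E) (by decide +kernel)

theorem lo100425 : 18 * Nat.card (I.gen P S100422) ≤ Nat.card ((KS σ (S.ω 4)) ⊓ Subgroup.centralizer {I.u (P 493)} : Subgroup Mˣ) :=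
  BImpl.low_lev (B := B) (a100421 I B E) b100424 [0, 0x1f11f4, 500, 0x1ef1f7, 0x1f11f7, 0x1f11f3, 503, 0x1ef1f0, 497, 498, 0x1ef1f3, 504, 499, 495, 0x1f11f8, 496, 0x1ef1f4, 0x1ef1f8] 18 (by decide +kernel)

theorem a100428 : I.AllS P (I.gen P S100422) m100427 :=
  (a100423 I B E).ext L100426 (by decide +kernel)

theorem a100430 : I.AllS P (I.gen P S100429) (msk S100429) :=
  Impl.allS_gen_of (a100428 I B E) (by decide +kernel)

theorem lo100432 : 6 * Nat.card (I.gen P S100429) ≤ Nat.card (I.gen P S100422) :=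
  BImpl.low_lev (B := B) (a100428 I B E) b100431 [0, 505, 507, 509, 506, 508] 6 (by decide +kernel)

theorem low100433 : 108 ≤ Nat.card ((KS σ (S.ω 4)) ⊓ Subgroup.centralizer {I.u (P 493)} : Subgroup Mˣ) :=
  le_trans (by decide +kernel) (le_of_low (lo100425 I B E) (le_of_low (lo100432 I B E) (Nat.succ_le_of_lt Nat.card_pos)))

theorem a100435 : I.AllS P (I.gen P S100434) (msk S100434) :=
  Impl.allS_gen_of (a100416 I B E) (by decide +kernel)

theorem a100438 : I.AllS P (I.gen P S100434) m100437 :=
  (a100435 I B E).ext L100436 (by decide +kernel)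

theorem a100440 : I.AllS P (I.gen P S100439) (msk S100439) :=
  Impl.allS_gen_of (a100438 I B E) (by decide +kernel)

theorem lo100442 : 27 * Nat.card (I.gen P S100439) ≤ Nat.card (I.gen P S100434) :=
  BImpl.low_lev (B := B) (a100438 I B E) b100441 [515, 514, 0x1fe1d3, 0x1d2200, 0, 0x1fe201, 467, 0x1d21ff, 512, 0x1d3200, 0x1d2201, 510, 0x1fe1ff, 466, 0x1d3202, 0x1d21d3, 0x1fe200, 0x1d21d3200, 0x1fe1d3200, 0x1fe1d3202, 513, 0x1d2202, 0x1d21d3202, 0x1fe202, 0x1d2203, 0x1fe203, 511] 27 (by decide +kernel)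

theorem low100443 : 27 ≤ Nat.card (I.gen P S100434) :=
  le_trans (by decide +kernel) (le_of_low (lo100442 I B E) (Nat.succ_le_of_lt Nat.card_pos))

theorem a100446 : I.AllS P (I.gen P S100445) (msk S100445) :=
  Impl.allS_gen (W := []) (by decide +kernel)

theorem a100449 : I.AllS P (I.gen P S100445) m100448 :=
  (a100446 I B E).ext L100447 (by decide +kernel)

theorem cv100450 : ∀ x ∈ I.gen P S100434, ∃ q < 27, ∃ h ∈ I.gen P [], x = I.u (P (468 + q)) * h :=
  Impl.plain_cover' (p0 := 0) (a100449 I B E) (by decide +kernel) (Impl.plain_all (a100449 I B E) (a100416 I B E) 468 27 S100434 W100451 (by decide +kernel))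

theorem clT4 (ht : TrInv I (FF.trc 14)) (hn : ∀ j ∈ JN, Nat.card (KS σ (S.ω j)) = KF j) : ClsB (KS σ (S.ω 4)) (I.u (P iT)) 14400 (NT 4) :=
  B.clsB ht (a100377 I B E) (cv100411 I B E) (low100404 I B E) (hn 4 (by decide)) Nat.prime_two 5 189 (hT I B) [(423, 150)] (List.forall_mem_cons.2 ⟨le_trans (b := 150 * 96) (by decide +kernel) (Nat.mul_le_mul_left _ (low100394 I B E)), List.forall_mem_nil _⟩) 0x2000000000000000000000000000000000040000000000000000000000000000000000300000000000000000000000000000000000000000000000000000000000000000000000000000000000000000000000000000000300000000000000000000000000000000002000000000000000000000000000000000030000000000000000000000000000000000200000000000000000000000000000000001000000000000000000000000000000000000000000000000000000000000000000000300000000000000000000000000000000000 W100413 (NT 4) (by decide +kernel)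

theorem clX4 (ht : TrInv I (FF.trc 14)) (hn : ∀ j ∈ JN, Nat.card (KS σ (S.ω j)) = KF j) : ClsB (KS σ (S.ω 4)) (I.u (P iX)) cX (NX 4) :=
  B.clsB ht (a100416 I B E) (cv100450 I B E) (low100443 I B E) (hn 4 (by decide)) Nat.prime_three 3 224 (hX I B) [(493, 3503)] (List.forall_mem_cons.2 ⟨le_trans (b := 3503 * 108) (by decide +kernel) (Nat.mul_le_mul_left _ (low100433 I B E)), List.forall_mem_nil _⟩) 0x400000000000000000000000000000000001000000000000000000000000000000000040000000000000000000000000000000000200000000000000000000000000000000002000000000000000000000000000000000040000000000000000000000000000000000100000000000000000000000000000000000000000000000000000000000000000000030000000000000000000000000000000000300000000000000000000000000000000001000000000000000000000000000000000020000000000000000000000000000000000100000000000000000000000000000000000 W100452 (NX 4) (by decide +kernel)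

theorem clsT (ht : TrInv I (FF.trc 14)) (hn : ∀ j ∈ JN, Nat.card (KS σ (S.ω j)) = KF j) : ∀ j ∈ JN, ClsB (KS σ (S.ω j)) (I.u (P iT)) 14400 (NT j) :=
  List.forall_mem_cons.2 ⟨clT1 I B E ht hn, List.forall_mem_cons.2 ⟨clT2 I B E ht hn, List.forall_mem_cons.2 ⟨clT3 I B E ht hn, List.forall_mem_cons.2 ⟨clT4 I B E ht hn, List.forall_mem_nil _⟩⟩⟩⟩

theorem clsX (ht : TrInv I (FF.trc 14)) (hn : ∀ j ∈ JN, Nat.card (KS σ (S.ω j)) = KF j) : ∀ j ∈ JN, ClsB (KS σ (S.ω j)) (I.u (P iX)) cX (NX j) :=
  List.forall_mem_cons.2 ⟨clX1 I B E ht hn, List.forall_mem_cons.2 ⟨clX2 I B E ht hn, List.forall_mem_cons.2 ⟨clX3 I B E ht hn, List.forall_mem_cons.2 ⟨clX4 I B E ht hn, List.forall_mem_nil _⟩⟩⟩⟩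

end Cfsg.Lib.Spor.LyC
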