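import Cfsg.Agent.Spor.HeTab
import Cfsg.Agent.Spor.HeBig
import Cfsg.Agent.Spor.HeUp
import Cfsg.Agent.Spor.BulkPK

/-! Order and simplicity of the presented Held group; the model on 2058 points. -/

set_option autoImplicit false
set_option maxRecDepth 100000
set_option linter.unusedVariables false

namespace Cfsg.Lib.Spor.HeP

open Cfsg.Lib.Spor.Bulk

/-- generators of the point stabiliser `S₄(4):2` -/
def HW : List (List ℕ) := [[1],[3],[4],[5],[6],[2,1,2,1],[5,4,3,2,5,4,3,2,5,4,3,2,5,4,3,2,5,4,3,2,5,4,3,2,5,4,3,2]]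

/-- the permutation representation of degree 2058 -/
noncomputable def ρ : Cfsg.Spor.He →* Equiv.Perm (Fin 2058) := hom (he_sat.sub (by decide +kernel))

theorem ρ_g0 : ∀ l < 8, ρ (g0 l) = prm he_T 2058 l := hom_g0 _

theorem model : CosetModel (gW g0 HW) ρ ⟨0, by norm_num⟩ :=
  BulkCert.cosetModel (C := he_C) he_nets he_sat he_head he_tree he_just (sat.sub (by decide +kernel))
    (he_loops (sat.sub (by decide +kernel)) (mem_gW_of_subL (by decide +kernel)) (mem_gW_of_subL_sing (by decide +kernel)))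
    ρ_g0 top (by decide +kernel) rfl

/-- a character of the parabolic subgroup -/
def sgn (l : ℕ) : Multiplicative (ZMod 2) := Multiplicative.ofAdd (if l = 1 ∨ l = 3 then 1 else 0)

theorem sat_sgn : Sat sgn 8 idI RP := ⟨by decide +kernel, by decide +kernel, by decide +kernel⟩

theorem up_P {G : Type*} [Group G] {g : ℕ → G} (hg : Sat g 8 idI R) :
    Finite (gW g [[3,1],[3,4,3],[4],[5],[6],[7]]) ∧ Nat.card (gW g [[3,1],[3,4,3],[4],[5],[6],[7]]) ≤ 80640 :=
  card_gW_le_of_sign (up_acdefg ((hg.sub (by decide +kernel)).prod sat_sgn)) (by decide +kernel)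
    (by decide +kernel) (l := 1) (by decide +kernel) (by decide +kernel)

theorem up_all {G : Type*} [Group G] {g : ℕ → G} (hg : Sat g 8 idI R) :
    Finite (gL g [1,2,3,4,5,6,7]) ∧ Nat.card (gL g [1,2,3,4,5,6,7]) ≤ 1958400 * 2058 :=
  ((hb (hg.sub (by decide +kernel)) (mem_gW_of_subL (by decide +kernel))
    (mem_gW_of_subL_sing (by decide +kernel))).card_le (up_P hg)).imp id fun h => h.trans (by norm_num)

/-- a suborbit of length 136 -/
def P136 : List ℕ := [65,110,111,114,115,174,177,178,179,185,186,264,270,271,272,273,275,289,290,334,339,346,383,390,391,392,393,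
  408,409,410,412,413,414,416,417,421,422,452,453,500,513,520,540,541,542,543,550,624,625,626,627,656,657,658,
  659,665,667,668,672,673,675,680,681,709,735,736,737,739,765,830,831,832,852,857,877,880,991,992,993,994,995,
  996,1029,1030,1031,1032,1040,1042,1043,1045,1049,1051,1053,1063,1064,1065,1089,1095,1096,1123,1124,1161,1239,
  1240,1241,1242,1274,1275,1303,1304,1305,1423,1424,1426,1452,1453,1454,1455,1456,1472,1473,1476,1481,1483,1493,
  1494,1517,1523,1665,1702,1728,1810,1811,1824,1841,1989]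

/-- the action of `HW` on `P136` -/
def L136 : List (List ℕ) := [[1,0,6,4,3,8,2,12,5,10,9,16,7,27,28,29,11,18,17,43,20,21,23,22,35,33,36,13,14,15,51,52,53,25,54,24,26,38,37,
  69,40,73,44,19,42,45,46,61,58,62,59,30,31,32,34,82,83,84,48,50,85,47,49,76,67,66,65,64,71,39,96,68,72,41,74,75,
  63,93,94,90,95,91,55,56,57,60,114,115,116,117,79,81,118,77,78,80,70,104,103,100,99,105,124,98,97,101,106,107,
  108,109,110,122,125,123,86,87,88,89,92,127,133,131,111,113,102,112,128,119,126,129,130,121,134,120,132,135],[2,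
  6,0,8,5,4,1,13,3,17,18,24,27,7,31,32,35,9,10,39,40,46,22,23,11,48,49,12,52,53,51,14,15,58,57,16,62,64,67,19,20,
  50,68,69,71,45,21,76,25,26,41,30,28,29,84,82,87,34,33,73,92,63,36,61,37,99,100,38,42,43,102,44,106,59,74,108,
  47,104,103,111,80,113,55,115,54,118,119,56,101,89,122,123,60,97,98,95,124,93,94,65,66,88,70,78,77,116,72,129,
  75,110,109,79,112,81,127,83,105,117,85,86,126,121,90,91,96,125,120,114,133,107,130,131,132,128,134,135],[0,1,7,
  9,10,11,12,2,16,3,4,5,6,30,33,26,8,37,38,22,45,21,19,43,47,28,15,51,25,36,13,56,53,14,60,61,29,17,18,70,72,73,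
  44,23,42,20,75,24,79,80,81,27,83,32,85,86,31,89,90,91,34,35,95,67,76,65,66,63,101,96,39,105,40,41,74,46,64,111,
  112,48,49,50,114,52,117,54,55,104,121,57,58,59,118,122,125,62,69,115,126,119,127,68,124,128,87,71,106,109,130,
  107,110,77,78,132,82,97,131,84,92,99,133,88,93,134,102,94,98,100,103,135,108,116,113,120,123,129],[3,4,8,0,1,6,
  5,14,2,9,10,25,28,31,7,34,33,17,18,44,21,20,23,22,48,11,50,52,12,54,55,13,57,16,15,58,59,65,66,71,46,49,43,42,
  19,45,40,77,24,41,26,82,27,84,29,30,86,32,35,36,81,93,73,97,99,37,38,100,69,68,103,39,107,62,74,109,104,47,102,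
  111,95,60,51,114,53,91,56,119,120,117,122,85,113,61,124,80,98,63,96,64,67,126,78,70,76,128,129,72,110,75,108,
  79,125,92,83,127,133,89,123,87,88,131,90,118,94,112,101,115,105,106,130,121,134,116,132,135],[4,3,5,1,0,2,8,15,
  6,9,10,26,29,32,34,7,36,17,18,42,20,21,23,22,49,50,11,53,54,12,51,57,13,59,14,62,16,66,65,68,40,48,19,44,43,74,
  46,78,41,24,25,30,84,27,28,82,88,31,73,33,91,94,35,98,100,38,37,99,39,71,104,69,106,58,45,110,103,102,47,90,
  112,85,55,116,52,81,120,101,56,121,79,60,123,124,61,125,97,96,63,67,64,87,77,76,70,115,72,129,109,108,75,122,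
  80,118,133,105,83,131,113,126,86,89,111,92,93,95,119,128,127,107,135,117,134,114,132,130],[1,0,8,4,3,6,5,16,2,
  10,9,12,11,48,33,36,7,17,18,43,20,21,23,22,31,28,29,58,25,26,79,24,41,14,59,52,15,37,38,71,46,32,44,19,42,45,
  40,56,13,57,54,90,35,73,50,111,47,49,27,34,91,83,84,119,100,65,66,99,69,68,105,39,75,53,74,72,127,86,88,30,89,
  85,122,61,62,81,77,97,78,80,51,60,92,114,116,117,101,87,126,67,64,96,120,128,115,70,110,109,129,107,106,55,121,
  113,93,104,94,95,118,63,102,112,82,123,133,131,98,76,103,108,135,125,132,124,134,130],[104,115,77,119,63,61,83,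
  31,86,64,100,82,122,14,79,29,24,37,66,116,123,92,112,121,55,58,107,90,27,109,48,111,53,30,75,11,26,65,18,105,
  91,73,120,94,102,132,60,8,33,129,59,25,12,110,34,16,2,108,51,72,85,114,49,127,99,17,38,10,126,98,128,70,50,106,
  74,54,3,56,19,13,95,40,35,93,57,46,47,0,43,117,28,81,118,6,88,135,68,1,101,9,67,69,133,39,87,103,41,36,84,15,
  32,7,131,20,5,97,78,130,21,76,124,125,52,113,42,23,96,4,71,62,89,22,134,44,45,80]]

/-- certificate -/
def C136 : List Cfsg.Lib.Spor.PK.Cert :=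
  [⟨0, [64, 129, 195, 260, 5574, 385, 6214, 450, 515, 324, 3590, 578, 4870, 642, 8134, 7360, 6658, 7619, 6468,
    770, 5958, 4035, 6148, 833, 899, 964, 1029, 7110, 3014, 706, 7302, 5312, 1986, 5507, 5636, 4934, 1089,
    6342, 4098, 6596, 1153, 4294, 6402, 8196, 6724, 4484, 8068, 4354, 6278, 1729, 1795, 1860, 3334, 7810,
    3907, 7940, 4418, 1922, 2052, 3077, 5062, 2114, 2180, 1666, 2309, 6982, 2241, 3526, 1538, 4996, 1603,
    5250, 8516, 7428, 3652, 7684, 7746, 6022, 6532, 2370, 4166, 2434, 4225, 4546, 2502, 2689, 3266, 3396,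
    3717, 3460, 5766, 5380, 2753, 2629, 7046, 3780, 3842, 3137, 3203, 3969, 6854, 4803, 6916, 7170, 8386,
    1222, 5698, 1478, 8002, 2822, 4677, 5442, 7490, 6790, 5826, 5889, 5187, 2950, 5122, 4614, 6082, 8262,
    8322, 1414, 7553, 7873, 2566, 7235, 1350, 8646, 8578, 1286, 8450, 2882, 4740], [[6, 0, 4, 6, 5, 2, 4, 6,
    0], [1, 4, 6, 2, 3, 2, 1, 2, 1, 0]]⟩,
   ⟨2, [7744, 705, 8257, 8000, 3393, 8512, 2049, 7233, 4800, 8129, 5249, 2944, 193, 6081, 8449, 4480, 6593, 3968,
    3265, 5825, 6208, 3329, 7296, 6017, 3649, 7105, 8192, 65, 3073, 3456, 3585, 5056, 2561, 6465, 5312, 4609,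
    320, 2241, 4928, 4225, 5696, 4161, 6657, 3776, 8321, 257, 4353, 4033, 2624, 4288, 1985, 4672, 641, 3904,
    1729, 5633, 2497, 6528, 7873, 5568, 449, 7937, 3009, 8065, 5440, 8577, 6401, 6273, 8641, 7681, 6912, 577,
    7361, 1537], [[1, 0, 1, 1, 1, 1, 1, 0, 1, 0, 1, 1, 1, 1], [0, 1, 0, 1, 0, 1, 1, 0, 1, 0, 1, 1, 1]]⟩,
   ⟨7, [2624, 4353, 3264, 7937, 3456, 640, 193, 2560, 2496, 3969, 4608, 4289, 8256, 6592, 3329, 6209, 4160, 3072,
    1985, 576, 1728, 2241, 3649, 3392, 65, 5441, 7232, 5249, 3008, 2049, 2945], [[0, 0, 1, 0, 0, 1, 0, 1, 0,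
    0], [1, 0, 0, 1, 0, 0, 0, 0, 1, 0]]⟩,
   ⟨1, [193, 576], [[0]]⟩,
   ⟨3, [576], []⟩]

theorem act136 : PK.actsB he_T 2058 136 8 P136 HW L136 = true := by decide +kernel

theorem low136 : PK.lowB 12 136 L136 C136 = true := by decide +kernel

theorem card_inj : Nat.card Cfsg.Spor.He = 1958400 * 2058 ∧ Nat.card (gW g0 HW) = 1958400 ∧
    Function.Injective ρ := by
  refine model.card_inj (finite_card_of_top top (up_all sat)) ?_
  obtain ⟨a, b⟩ := PK.actsB_spec he_nets act136
  rw [map_gW ρ_g0 (by decide +kernel), ← PK.gen_map_wv]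
  exact le_trans (by decide +kernel) (PK.le_card_of_lowB a b low136).1

theorem card : Nat.card Cfsg.Spor.He = 4030387200 := card_inj.1

theorem card_H : Nat.card (gW g0 HW) = 1958400 := card_inj.2.1

theorem injective : Function.Injective ρ := card_inj.2.2

instance finite : Finite Cfsg.Spor.He := (finite_card_of_top top (up_all sat)).1

theorem coatom : IsCoatom (gW g0 HW) :=
  model.isCoatom rfl he_nets ρ_g0 (by decide +kernel) (cw := [2])
    (model.eq_top_of_grow rfl he_nets ρ_g0 (gW_mono (by decide +kernel)) (j := 7) (by decide +kernel))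
    (c := 1) (by norm_num) (by norm_num) (by decide +kernel) (by decide +kernel)
    (reps := [(1, [2], [[2]]), (2, [7], [[7], [4], [6], [5, 4, 3, 2, 5, 4, 3, 2, 5, 4, 3, 2, 5, 4, 3, 2, 5, 4, 3, 2, 5, 4, 3, 2, 5, 4, 3, 2], [7], [4], [6], [4], [5, 4, 3, 2, 5, 4, 3, 2, 5, 4, 3, 2, 5, 4, 3, 2, 5, 4, 3, 2, 5, 4, 3, 2, 5, 4, 3, 2], [7]]), (46, [2, 3, 4, 3, 4, 7], [[2, 3, 4, 3, 4, 7], [5], [6], [2, 3, 4, 3, 4, 7], [6], [2, 3, 4, 3, 4, 7], [2, 3, 4, 3, 4, 7]]), (65, [7, 4, 3, 2, 4, 7], [[7, 4, 3, 2, 4, 7], [5], [7, 4, 3, 2, 4, 7], [7, 4, 3, 2, 4, 7], [3], [6], [7, 4, 3, 2, 4, 7]])]) (j := 5) (by decide +kernel) (by decide +kernel) (by decide +kernel)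

theorem xord_0 : eqsOn he_T 2058 12 (relPairs idI [[4,6,7,4,6,7,4,6,7,4,6,7,4,6,7,4,6,7,4,6,7]]) 0 12 = true := by decide +kernel
theorem xord : ∀ r ∈ ([[4,6,7,4,6,7,4,6,7,4,6,7,4,6,7,4,6,7,4,6,7]] : List (List ℕ)), wv (prm he_T 2058) r = 1 :=
  rels_of_eqs he_nets he_w he_inv (by decide +kernel) ((EqsBelow.zero _ _ _ _).step xord_0)

noncomputable def col_C : SeqCert := ⟨nat_lit 4, nat_lit 9, nat_lit 8, nat_lit 0x7070606050504040303020201010000, (NT.leaf (nat_lit 0) (nat_lit 0x30001000010008101880388020000200091032900a904aa07aa06aa04880301003104330733072204220411063306220700040000400511070406000074006005440500005006470467074603a20192028107700660055004400330022001100000)), (NT.node (nat_lit 13) (NT.node (nat_lit 6) (NT.node (nat_lit 3) (NT.node (nat_lit 1) (NT.leaf (nat_lit 32868) (nat_lit 0x70406)) (NT.node (nat_lit 2) (NT.leaf (nat_lit 100) (nat_lit 0x40607)) (NT.leaf (nat_lit 16485) (nat_lit 0x60407)))) (NT.node (nat_lit 4) (NT.leaf (nat_lit 65620)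 (nat_lit 0x506070607)) (NT.node (nat_lit 5) (NT.leaf (nat_lit 22) (nat_lit 0x505)) (NT.leaf (nat_lit 85) (nat_lit 0x507060706))))) (NT.node (nat_lit 9) (NT.node (nat_lit 7) (NT.leaf (nat_lit 16452) (nat_lit 0x40704070407)) (NT.node (nat_lit 8) (NT.leaf (nat_lit 18) (nat_lit 0x404)) (NT.leaf (nat_lit 26) (nat_lit 0x606)))) (NT.node (nat_lit 11) (NT.node (nat_lit 10) (NT.leaf (nat_lit 30) (nat_lit 0x707)) (NT.leaf (nat_lit 12) (nat_lit 0x5010501))) (NT.node (nat_lit 12) (NT.leaf (nat_lit 16444) (nat_lit 0x40504050405)) (NT.leaf (nat_lit 36) (nat_lit 0x6020602)))))) (NT.node (nat_lit 20) (NT.node (nat_lit 16) (NT.node (nat_lit 14) (NT.leaf (nat_lit 52) (nat_lit 0x6030603)) (NT.node (nat_lit 15) (NT.leaf (nat_lit 8) (nat_lit 0x4010401)) (NT.leaf (nat_lit 28) (nat_lit 0x4020402)))) (NT.node (nat_lit 18) (NT.node (nat_lit 17) (NT.leaf (nat_lit 40) (nat_lit 0x7020702)) (NT.leaf (nat_lit 56) (nat_lit 0x7030703))) (NT.node (nat_lit 19) (NT.leaf (nat_lit 32861)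 (nat_lit 0x304030403040304030104)) (NT.leaf (nat_lit 14) (nat_lit 0x303))))) (NT.node (nat_lit 23) (NT.node (nat_lit 21) (NT.leaf (nat_lit 16477) (nat_lit 0x403040304030403040301)) (NT.node (nat_lit 22) (NT.leaf (nat_lit 16473) (nat_lit 0x3020103020103020105)) (NT.leaf (nat_lit 6) (nat_lit 0x101)))) (NT.node (nat_lit 25) (NT.node (nat_lit 24) (NT.leaf (nat_lit 10) (nat_lit 0x202)) (NT.leaf (nat_lit 24) (nat_lit 0x30203020302))) (NT.node (nat_lit 26) (NT.leaf (nat_lit 163932) (nat_lit 0x103040304030403040304)) (NT.leaf (nat_lit 16384) (nat_lit 0x102010201020102)))))))⟩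
noncomputable def col_U : List (List ℕ) := []
noncomputable def col_HL : List ℕ := []
theorem col_head : col_C.head 8 idI (R ++ [[4,6,7]]) col_U col_HL 11 4 0 = true := by decide +kernel
noncomputable def col_s0 : List ℕ := [nat_lit 0x17486020997404020b00cb6592d0102c112c040045401844b0080d110ac442b110ac442b110ac0a0c8408654210440a182981004170194424030b0a80405270480842010149c0a0a9342802098482a4b0a0e42a4b0a0e42a4b05850904601004283a0a80c221419054060d080d82203079040c02098dc04071f8185e071f8185e07058487834010040c300380c2204180140610020b80a03078085c03018380c260380c1a0413014060c168a404091682004070f82442080f8240c0b010780603050941c020488c18020402046180181c1e190b8201e1903018340e0685c08050e82804040786c2c0c05814060e04808040e06808020c048080026]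
theorem col_ok0 : col_C.StepsOK 11 49 := (SeqCert.StepsOK.refl _ 11).step (L := col_s0) (by decide +kernel)
theorem col_ok : col_C.StepsOK (11 + 0) 49 := col_ok0
noncomputable def col_r0 : List ℕ := [nat_lit 0xc004c01e01701800a805e00]
theorem col_final : col_C.final 8 49 (nat_lit 0x1) 1 [1,2,3,4,5,6,7] (col_r0) = true := by decide +kernel
theorem col {G : Type*} [Group G] {g : ℕ → G} {H : Subgroup G} (hg : Sat g 8 idI (R ++ [[4,6,7]]))
    (hU : ∀ u ∈ col_U, wv g u ∈ H) (hL : ∀ l ∈ col_HL, g l ∈ H) :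
    IdxLe H (Subgroup.closure {x | ∃ l ∈ ([1,2,3,4,5,6,7] : List ℕ), g l = x}) 1 :=
  SeqCert.idxLe_of_final hg hU hL col_head col_ok col_final

theorem simple : IsSimpleGroup Cfsg.Spor.He :=
  isSimpleGroup_of_cert sat top model injective coatom (x := [4,6,7]) (m := 7) (h := 1958400)
    (wv_eq_one_of_injective ρ_g0 injective (by decide +kernel) (xord _ (by decide +kernel))) card (by norm_num) (by norm_num)
    fun _ _ h => col h forall_mem_nil' forall_mem_nil'

end Cfsg.Lib.Spor.HeP
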