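import Cfsg.Agent.Spor.GolayChain
import Cfsg.Agent.Spor.GeoTrio
import Cfsg.Agent.Spor.GeoSextet
import Cfsg.Agent.Spor.M24Classes

/-! Numbers of octads, dodecads, sextets and trios fixed by elements of order two and three. -/

set_option autoImplicit false

namespace Cfsg.Lib.Spor.Orb

open Cfsg Cfsg.Lib.Spor MulAction
open scoped Pointwise

def gAll : List ℕ :=
  [645613303615106403700602494526180053, 357039470619415342101252219839274208, 271622443785223857136964937877390571, 726523186154357632282666518522222146, 641418627521433878523115217735999178, 893251671145599489497168711338067444, 872440506075093125883320000662644209, 340877680777337081939105041927023952]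

theorem gAll_spec : ∀ g ∈ gAll, pkM24 g = true ∧ m24 g ∈ (⊤ : Subgroup M24) :=
  gens_mem (chk := fun _ => true) (by decide +kernel) fun _ _ _ => Subgroup.mem_top _

/-- Lower bound for the number of members of an invariant set of families that are fixed
(`b = true`) or moved (`b = false`) by `g`. -/
def fixWalk (g k : ℕ) (b : Bool) (d : ℕ × ℕ × ℕ × ℕ) : ℕ :=
  walkC (famAct gAll k) (fun s => cond (fixFam g k s == b) (Nat.succ (famKey d.2.1 k s)) 0)
    d.2.2.1 d.2.2.2 d.1 1 0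

theorem fixWalk_le {A : Set (Finset (Finset GolayPt))} (hA : ∀ (u : M24), ∀ y ∈ A, u • y ∈ A)
    {g k : ℕ} (hg : pkM24 g = true) (b : Bool) {d : ℕ × ℕ × ℕ × ℕ} (hd : fam k d.1 ∈ A)
    (hs : famOk k d.1 = true) (Q : Finset (Finset GolayPt) → Prop)
    (hQ : ∀ s, fixFam g k s = b → Q (fam k s)) :
    fixWalk g k b d ≤ {y | y ∈ A ∧ Q y}.ncard := by
  refine walkC_le_ncard_sep (Set.toFinite _) (fun s y => fam k s = y ∧ y.card = k) Q ?_ ?_ ?_
    hd ⟨rfl, card_fam hs⟩ _ _
  · rintro j s y hy ⟨rfl, hk⟩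
    obtain ⟨h1, -⟩ := getD_spec gAll_spec j
    rw [famAct, forceN_eq, ← m24_smul_fam h1]
    exact ⟨_, hA _ _ hy, rfl, (Finset.card_smul_finset _ _).trans hk⟩
  · rintro s s' y ⟨rfl, hk⟩ ⟨h2, -⟩
    have : fixFam g k s = fixFam g k s' := by
      rw [Bool.eq_iff_iff, fixFam_iff hg, fixFam_iff hg, h2]
    rw [famKey_eq hk, famKey_eq (h2 ▸ hk), h2, this]
  · rintro s y ⟨rfl, -⟩ h
    apply hQ
    by_contra h2
    rw [show (fixFam g k s == b) = false by simpa using h2] at h
    exact h rfl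

theorem ncard_fix_conj {X : Type*} [MulAction M24 X] {A : Set X}
    (hA : ∀ (u : M24), ∀ y ∈ A, u • y ∈ A) (u g : M24) :
    {y | y ∈ A ∧ (u * g * u⁻¹) • y = y}.ncard = {y | y ∈ A ∧ g • y = y}.ncard := by
  refine ncard_sep_smul u fun s => and_congr ⟨fun h => ?_, hA u s⟩ (conj_smul_iff u g s)
  simpa using hA u⁻¹ _ h

theorem ncard_fix_fam {A : Set (Finset (Finset GolayPt))} (hA : ∀ (u : M24), ∀ y ∈ A, u • y ∈ A)
    {g k : ℕ} (hg : pkM24 g = true) {d : ℕ × ℕ × ℕ × ℕ} (hd : fam k d.1 ∈ A)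
    (hs : famOk k d.1 = true) {a b : ℕ} (ha : a ≤ fixWalk g k true d) (hb : b ≤ fixWalk g k false d)
    (h : A.ncard = a + b) : {y | y ∈ A ∧ m24 g • y = y}.ncard = a :=
  ncard_sep_eq_of_le (Set.toFinite _) _
    (ha.trans (fixWalk_le hA hg true hd hs _ fun _ h => (fixFam_iff hg).1 h))
    (hb.trans (fixWalk_le hA hg false hd hs _ fun _ h h' => by
      rw [(fixFam_iff hg).2 h'] at h; exact Bool.noConfusion h)) h

theorem ncard_fix_word {g : ℕ} (hg : pkM24 g = true) (k : ℕ) :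
    {y | (y ∈ golaySets ∧ y.card = k) ∧ m24 g • y = y}.ncard =
      countLT 4096 fun j => forceN (enc j) fun m => Nat.beq (popc m) k && fixSet g m := by
  rw [← ncard_golaySets_filter (fun y => y.card = k ∧ m24 g • y = y)
    (fun m => forceN m fun m => Nat.beq (popc m) k && fixSet g m)]
  · simp only [and_assoc]
  · intro m hm
    rw [forceN_eq, Bool.and_eq_true, Nat.beq_eq, card_maskSet, fixSet, Nat.beq_eq, m24_smul_set hg]
    refine and_congr_right fun _ => ⟨fun h => ?_, fun h => by rw [h]⟩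
    exact maskSet_injOn (pk_permMask_lt hg m) (isGolay_lt hm) h

def dAllSext : ℕ × ℕ × ℕ × ℕ :=
  (11346376930432779764485745680253368804573230, 200021, 0x3c20d328c506824b0b8e1c6ec54fa61ee34965ac468c1e1618b30d9a3f846a4ab7dc55e64f4ba3e0d4752e033eae6fa2eeaa29f63a940f173b2be645f513f7b68440e832673a4e31011076ae022fd1c0080feb237d3ba2ea7f0d1cc0a89569196c26cd8314f069522eb6ef0d2f641644de59f38c34b164675386c0cfa75b5a1d918a6920a817f7091ce1038a14c5efff5eb72ccc12c979f351b0f3c6b9c6e0424d1dc7d6c36d5c77a38c01d1a80c7e8297ef4ca94c6b07ebabb6807b9fbae6bc06765f0c10937b9ef824962147fe543fdb0293fdb5ef0626e6791d0350dc408d1866881960b95993c3addd7cd0dba0f9ee22b53aa43da4171637f4e7f0a7f6e5a557dce20398218f8da1737fc290a346d3e7a6c35553347782dc22284387c33a54bfdc88118047e366cd17f332ad90c029957db4d10c966a573109b16f86a35996d4af6eb557ad92ae025f887260709298cb86b9272124a2636840968dac993b2a0f5b6df8541063150ca68c19c13ff9012c601a6dc810aeb87314be8b602f3c887ef153be74b38de881dd491b60ea65a869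bbe02602f0fa38bb7e4d812149924ab63d2084d5cbb0dcb6a9ba968560e51d50231d3632a81fd2173c39f1b7e2cc35ac0739cbdd85115425f5390eb03d70ba7db288dcb4b431c801c25ca2bee81f295de4267fac72e1c79e34fcd3b3b2acc3943fb39b21c6d2dd4ecb3fd32117a5d65b011323b7f54ad50c51e3f46d6cf50ae2f1b9b0de3bb628bc58e27bb8c7033bc02e9bc29ca653575a314a7f3b4bc37c46e0e05d066b0a59769186963a191b7ac7221e07a084309f7445255e9af0598570ad127015f10e27ab82037a5328802c03d3cb3d2bd852b0dc4018b518220a46fd412c55af605ef49634d848064e1cbea3472a344dd2c1e1aa83153bdf5cb7b235f528c8404a31360b99b6935c37b8e63bcf789d634c45289a6154e098cb93055616e200139dcce7c35cc07c2821a7f8, 1880)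

def dAllTrio : ℕ × ℕ × ℕ × ℕ :=
  (3676667021817609726270, 905521, 0x6730b5bdf0b0d973df56166c0d5bef16302712a9860b83270805668ae5e13225cdf41cc36a4b2e2f60ce65f47a73b2e85daed85a1673f90694773faf3fdcd13831b1bfb66fd9a0df606220bbf2aaecd4d53d530efe4baf0f12b569cce85f5d94e444c8c77eb5a4921b755497ff0812404a45f01d6a4671de2bdbb9c8b80ef942edeee201773e183112b396ff9d78ce4fa1ebb10a3b062496965213c7bbee165e728008fb7608de02b7c76d234a0e7ad7df234c7d536ae4e8610e6a08f47fed1a22c737cdb9e96d18037f9c2a1482d8a9d3075f71c883390fe744d1b7491309b6104c4e5cc8bde87c27cf5fea948d3056c5ed6be637dfefc36f61a022fc8d734c7a5704212f53dbc37ec6cbdc2ba62db69feeb8223683e9c543a8987e98ab0b80c43481aed66fbc4c8fd6f76e829efb4eaf7fa0d5979acc8af001d1e7836a1a885813e7c625a604b50f8ad7eb1857fb4d3384472c07272fd758c4347df1d2abd408e13cd9688c3a74b30e04c85083f9c6fe7592bbd7d6a5bf971609e279c836355ba6ecf92c24660b6376363e9da9fb672f292af1ddbaa137f7da1c24008828d16aed7a3229ecd9fb33f229ea66b47f511150687664f43008cb0b0985af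433cd849be18a17dcda6dc3a34b8e6c0eba9cd1f65ad864c35a88434d5c34b81ff7d1a9984c6f2ba9ffd74a1e83936a0068a6f780ea0fe203262d399c60a8f72ff0eedafcd655a5d99e775357d2bb310ba11f57a012affdc7a652336bb28b64d755b3075782e0e2f9e14f27d233c0ef2d1f3ed819e34fded9c11519494f014dd357dbcc162c5393dfd1ab43b70943904a3b21ee13ad60a9f17faab8a41f0830bce5c9100339d37d85d002f71d405317f0968f3e11316381e37351918667daa8cfb95a63522aa4a2e8a153df7c95b23debc357b31fcf7a1e18ffe53d8525f235a4611c8c59a5ded4cc5fa3f61c22a0d42b948438e67790f9b0108bcc3fdb5ec7c0d06126d7dc513bc6d01fb718727491dc3e7b44daa7a0f10ed5cc1c5a4f74c5e57663d01264c66dc81370a42a44f7673eac7e588e585ebe626a98a6ae6e91d268519154ec21038b9b9bb99e61b5e5c5b3f27c37a0101bfcb772fec9524346dbc53c5bff007bae1fdb9b2a739849e8ce7eaf6290b7819fd0393a26bac9d489da19fd5d0a4af9c9f2b8be1a7acec86f84ffe8f61b735611db3998f0f2b0e3da584e86f07524d8f7869a1cab3c5e2916fc9d1b41ed246489410fd511265d58df490651712754277486285efe3cb0223f58896d3c352dfe46f532db8594e9b8613ee4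6343c9d1313fea5767df6980d67612aab0eec40bf23e748e1bc1ccf5dd159162bbf709189b889539bd4ae6e525c788cb82ecfe195d3890d207f03462a993474ec7b18baff875a8e02e39aedbbe81e4b92309af8c84cb0b199745482fd785c44c7a06c8858e9c532a553ea6f1dcfe0eec71df4d028e2c7ae4f0b2a219f8d07fd181637650357c8d56c9926fe3fe40e25ec225f9fc3287e2dcf6b0b54b2053de51d90d6356b2de00741bd2a5fdce7f205297acb6fa788f1c788f633da539973abf7dd036378505c7ff9a21563b70e6220c8793bd1a2df9f3ae1f2d49dad18c5f749739b66942d0112d08cad60ea15c523776e6cb1453144dfb6369a67344bb40e7fe642957f9887be3878cfba292681ba302cb1c7860d7f883a193c4766b3518e6791b0b197a977838ba2f016cfa190dd0b8f5d03e7c9edb69230b2a09efedfeb2df6daf75af5ac04e4981047bb80c7004146896a81201bc2c182022129ca5370fe4a0248952cdbb761ae90604de4bebb83c001f8079c52ad40119b0ef96f0400eb825e1d643bea596d829890e9fd823d3d5e1f8c1320607049da2677c015e38c03c165c46368c60464a5c977c9218556cc463366b518400d034dbb6707261688695a49d8863e1466584250902d04a31f1e33e823b9a522afc692d208ac8e2cde19b05cea03d70526351f6cfc279d0243142e5eaa4e4a63bc0a23bda92f95472078080a70832d4bb021f09282308b2069c58600899c32f8347facac04c937f46900daf1e3275a9c210272744741346d31b620554ce492f285d0d70d0de6797c60d430a1ccb1269f885d58,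 4029)

def rep2A : ℕ := 981818691054096003685363657089320992

theorem pk_rep2A : pkM24 rep2A = true := by decide +kernel

theorem fix_sext_2A : {y | y ∈ sextets ∧ m24 rep2A • y = y}.ncard = 91 :=
  ncard_fix_fam (fun u _ h => smul_mem_sextets' u h) pk_rep2A (d := dAllSext) (b := 1680) sext0_mem
    (famOk_of_isSext isSext_sext0) (by decide +kernel) (by decide +kernel) ncard_sextets

theorem fix_trio_2A : {y | y ∈ trios ∧ m24 rep2A • y = y}.ncard = 99 :=
  ncard_fix_fam (fun u _ h => smul_mem_trios' u h) pk_rep2A (d := dAllTrio) (b := 3696) trio0_mem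
    (famOk_of_isTrio isTrio_trio0) (by decide +kernel) (by decide +kernel) ncard_trios

theorem fix_oct_2A : {y | y ∈ octads ∧ m24 rep2A • y = y}.ncard = 71 :=
  (ncard_fix_word pk_rep2A 8).trans (by decide +kernel)

theorem fix_dod_2A : {y | y ∈ dodecads ∧ m24 rep2A • y = y}.ncard = 112 :=
  (ncard_fix_word pk_rep2A 12).trans (by decide +kernel)

def rep2B : ℕ := 423560160008076824839527313137868400

theorem pk_rep2B : pkM24 rep2B = true := by decide +kernel

theorem fix_sext_2B : {y | y ∈ sextets ∧ m24 rep2B • y = y}.ncard = 51 :=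
  ncard_fix_fam (fun u _ h => smul_mem_sextets' u h) pk_rep2B (d := dAllSext) (b := 1720) sext0_mem
    (famOk_of_isSext isSext_sext0) (by decide +kernel) (by decide +kernel) ncard_sextets

theorem fix_trio_2B : {y | y ∈ trios ∧ m24 rep2B • y = y}.ncard = 75 :=
  ncard_fix_fam (fun u _ h => smul_mem_trios' u h) pk_rep2B (d := dAllTrio) (b := 3720) trio0_mem
    (famOk_of_isTrio isTrio_trio0) (by decide +kernel) (by decide +kernel) ncard_trios

theorem fix_oct_2B : {y | y ∈ octads ∧ m24 rep2B • y = y}.ncard = 15 :=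
  (ncard_fix_word pk_rep2B 8).trans (by decide +kernel)

theorem fix_dod_2B : {y | y ∈ dodecads ∧ m24 rep2B • y = y}.ncard = 32 :=
  (ncard_fix_word pk_rep2B 12).trans (by decide +kernel)

def rep3A : ℕ := 961409415667826064667231448532617248

theorem pk_rep3A : pkM24 rep3A = true := by decide +kernel

theorem fix_sext_3A : {y | y ∈ sextets ∧ m24 rep3A • y = y}.ncard = 16 :=
  ncard_fix_fam (fun u _ h => smul_mem_sextets' u h) pk_rep3A (d := dAllSext) (b := 1755) sext0_mem
    (famOk_of_isSext isSext_sext0) (by decide +kernel) (by decide +kernel) ncard_sextets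

theorem fix_trio_3A : {y | y ∈ trios ∧ m24 rep3A • y = y}.ncard = 15 :=
  ncard_fix_fam (fun u _ h => smul_mem_trios' u h) pk_rep3A (d := dAllTrio) (b := 3780) trio0_mem
    (famOk_of_isTrio isTrio_trio0) (by decide +kernel) (by decide +kernel) ncard_trios

theorem fix_oct_3A : {y | y ∈ octads ∧ m24 rep3A • y = y}.ncard = 21 :=
  (ncard_fix_word pk_rep3A 8).trans (by decide +kernel)

theorem fix_dod_3A : {y | y ∈ dodecads ∧ m24 rep3A • y = y}.ncard = 20 :=
  (ncard_fix_word pk_rep3A 12).trans (by decide +kernel)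

def rep3B : ℕ := 731031589912739761456261964938713156

theorem pk_rep3B : pkM24 rep3B = true := by decide +kernel

theorem fix_sext_3B : {y | y ∈ sextets ∧ m24 rep3B • y = y}.ncard = 7 :=
  ncard_fix_fam (fun u _ h => smul_mem_sextets' u h) pk_rep3B (d := dAllSext) (b := 1764) sext0_mem
    (famOk_of_isSext isSext_sext0) (by decide +kernel) (by decide +kernel) ncard_sextets

theorem fix_trio_3B : {y | y ∈ trios ∧ m24 rep3B • y = y}.ncard = 15 :=
  ncard_fix_fam (fun u _ h => smul_mem_trios' u h) pk_rep3B (d := dAllTrio) (b := 3780) trio0_mem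
    (famOk_of_isTrio isTrio_trio0) (by decide +kernel) (by decide +kernel) ncard_trios

theorem fix_oct_3B : {y | y ∈ octads ∧ m24 rep3B • y = y}.ncard = 0 :=
  (ncard_fix_word pk_rep3B 8).trans (by decide +kernel)

theorem fix_dod_3B : {y | y ∈ dodecads ∧ m24 rep3B • y = y}.ncard = 14 :=
  (ncard_fix_word pk_rep3B 12).trans (by decide +kernel)

/-- Elements of `M24` of a given order and number of fixed points are conjugate to a listed
representative with the same data. -/
theorem exists_conj_rep {g : Equiv.Perm GolayPt} (hg : g ∈ M24) {k f : ℕ} (hk : orderOf g = k)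
    (hf : (Finset.univ.filter fun p => g p = p).card = f) :
    ∃ r ∈ MP.reps24.filter (fun r => Nat.beq r.2.1 k && Nat.beq (popc (MP.fixM r.1)) f),
      pkM24 r.1 = true ∧ ∃ u : M24, u * m24 r.1 * u⁻¹ = ⟨g, hg⟩ := by
  obtain ⟨r, hr, u, hu, e⟩ := MP.isClassList_M24.exists_of_order hg hk
  rw [List.mem_filter] at hr
  obtain ⟨h1, h2⟩ := MP.isClassList_M24.mem r hr.1
  have h3 : m24 r.1 = ⟨_, h2⟩ := m24_of_rep (MP.rep_toPerm h1)
  refine ⟨r, List.mem_filter.2 ⟨hr.1, ?_⟩, pkM24_of_rep (x := ⟨_, h2⟩) (MP.rep_toPerm h1),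
    ⟨u, hu⟩, Subtype.ext (by rw [h3]; exact e)⟩
  rw [Bool.and_eq_true, Nat.beq_eq, Nat.beq_eq, ← (MP.rep_toPerm h1).card_fixed,
    ← MP.card_filter_fixed_conj u, e]
  exact ⟨by simpa using hr.2, hf⟩

theorem conj_rep_of_filter {g : Equiv.Perm GolayPt} (hg : g ∈ M24) {k f c : ℕ} (hk : orderOf g = k)
    (hf : (Finset.univ.filter fun p => g p = p).card = f)
    (h : (MP.reps24.filter (fun r => Nat.beq r.2.1 k && Nat.beq (popc (MP.fixM r.1)) f)).map
      Prod.fst = [c]) : ∃ u : M24, u * m24 c * u⁻¹ = ⟨g, hg⟩ := by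
  obtain ⟨r, hr, -, u, hu⟩ := exists_conj_rep hg hk hf
  have : r.1 ∈ [c] := h ▸ List.mem_map_of_mem hr
  rw [List.mem_singleton] at this
  exact ⟨u, this ▸ hu⟩

theorem ncard_fix_of_conj {X : Type*} [MulAction M24 X] {A : Set X}
    (hA : ∀ (u : M24), ∀ y ∈ A, u • y ∈ A) {g x : M24} (h : ∃ u : M24, u * g * u⁻¹ = x) :
    {y | y ∈ A ∧ x • y = y}.ncard = {y | y ∈ A ∧ g • y = y}.ncard := by
  obtain ⟨u, rfl⟩ := h
  exact ncard_fix_conj hA u g

end Cfsg.Lib.Spor.Orb
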