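/-
Computed facts about the quandle `T6`: primitivity, fibres, sections, the three classes of subspaces `O k`.
-/
import Cfsg.Agent.Spor.U6Model
import Cfsg.Agent.Spor.TQEmb

set_option autoImplicit false

namespace Cfsg.Lib.Spor.U6

open TQ Cfsg.Lib.Class Cfsg.Lib.Class.Form

/-- the point with code `n` (a default point for other codes) -/
def pD (n : ℕ) : T6 := if h : isPt n = true then pt n h else pt 5

theorem val_pD {n : ℕ} (h : isPt n = true) : (pD n).1 = n := by rw [pD, dif_pos h]; rfl

theorem pD_val (x : T6) : pD x.1 = x := T6.ext (val_pD x.2)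

/-- action of a word on codes -/
def wac (w : List ℕ) (y : ℕ) : ℕ := List.rec y (fun a _ ih => fN ih (ac a)) w

theorem val_wp {w : List ℕ} (hw : allL w isPt = true) (y : T6) : (wp (w.map pD) y).1 = wac w y.1 := by
  rw [allL_iff] at hw
  induction w with
  | nil => rfl
  | cons a w ih =>
    have : wac (a :: w) y.1 = fN (wac w y.1) (ac a) := rfl
    rw [this, fN_eq, List.map_cons, wp_cons, Equiv.Perm.mul_apply, toPerm_apply, val_act,
      ih fun b hb => hw b (List.mem_cons_of_mem _ hb), val_pD (hw a List.mem_cons_self)]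

theorem beq_iff {x y : T6} : Nat.beq x.1 y.1 = true ↔ x = y := by
  rw [Nat.beq_eq]; exact ⟨T6.ext, congrArg _⟩

/-! ### Bit sets, growth and counting -/

/-- bit test for the kernel -/
def tb (m n : ℕ) : Bool := Nat.beq (Nat.land (Nat.shiftRight m n) 1) 1

theorem tb_eq (m n : ℕ) : tb m n = m.testBit n := by
  rw [Nat.testBit_eq_decide_div_mod_eq, Bool.eq_iff_iff, tb, Nat.beq_eq, decide_eq_true_iff]
  show (m >>> n) &&& 1 = 1 ↔ _
  rw [Nat.and_one_is_mod, Nat.shiftRight_eq_div_pow]

/-- the bit set of a list -/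
def mask (l : List ℕ) : ℕ := List.foldr (fun a s => Nat.lor (Nat.shiftLeft 1 a) s) 0 l

/-- all members of the bit set are codes of points with the property -/
def Holds (P : T6 → Prop) (m : ℕ) : Prop := ∀ n, tb m n = true → ∃ x : T6, x.1 = n ∧ P x

theorem holds_zero (P : T6 → Prop) : Holds P 0 := fun n h => by simp [tb_eq] at h

theorem holds_mask {P : T6 → Prop} {l : List ℕ} (h : ∀ n ∈ l, ∃ x : T6, x.1 = n ∧ P x) :
    Holds P (mask l) := fun n hn => h n ((testBit_foldr l n).1 (tb_eq _ _ ▸ hn))

theorem Holds.of_sub {P : T6 → Prop} {m M : ℕ} (h : Holds P m) (hM : Nat.beq (Nat.land M m) M = true)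
    (x : T6) (hx : tb M x.1 = true) : P x := by
  rw [← Nat.eq_of_beq_eq_true hM, tb_eq] at hx
  have : (M &&& m).testBit x.1 = true := hx
  rw [Nat.testBit_and, Bool.and_eq_true, ← tb_eq m] at this
  obtain ⟨y, hy, hP⟩ := h _ this.2
  rwa [T6.ext hy] at hP

theorem holds_of_sub {M : ℕ} (hM : Nat.beq (Nat.land M PT) M = true) :
    Holds (fun x => tb M x.1 = true) M := by
  intro n hn
  have h1 := hn
  rw [← Nat.eq_of_beq_eq_true hM, tb_eq] at h1
  have : (M &&& PT).testBit n = true := h1
  rw [Nat.testBit_and, Bool.and_eq_true] at this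
  exact ⟨⟨n, this.2⟩, rfl, hn⟩

/-- growth of a bit set along a certificate -/
def grow (A : ℕ) (cert : List ℕ) : ℕ → ℕ :=
  List.rec (fun s => s) (fun c _ ih s => fN (Nat.shiftRight c 12) fun u => fN (Nat.land c 4095) fun v =>
    cond ((tb A u || tb s u) && tb s v) (fN (Nat.lor s (Nat.shiftLeft 1 (ac u v))) ih) 0) cert

theorem Holds.grow {P Q : T6 → Prop} {A : ℕ} (hA : Holds Q A)
    (hcl : ∀ u v, Q u ∨ P u → P v → P (u ▹ v)) (cert : List ℕ) {s : ℕ} (hs : Holds P s) :
    Holds P (grow A cert s) := by
  induction cert generalizing s with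
  | nil => exact hs
  | cons c cert ih =>
    have : U6.grow A (c :: cert) s = fN (Nat.shiftRight c 12) fun u => fN (Nat.land c 4095) fun v =>
      cond ((tb A u || tb s u) && tb s v) (fN (Nat.lor s (Nat.shiftLeft 1 (ac u v))) (U6.grow A cert)) 0 :=
      rfl
    rw [this, fN_eq, fN_eq]
    cases hc : ((tb A (Nat.shiftRight c 12) || tb s (Nat.shiftRight c 12)) && tb s (Nat.land c 4095))
    · exact holds_zero P
    rw [cond_true, fN_eq]
    apply ih
    rw [Bool.and_eq_true, Bool.or_eq_true] at hc
    obtain ⟨v, hv, hPv⟩ := hs _ hc.2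
    have : ∃ u : T6, u.1 = Nat.shiftRight c 12 ∧ (Q u ∨ P u) :=
      hc.1.elim (fun h => let ⟨u, hu, h⟩ := hA _ h; ⟨u, hu, Or.inl h⟩)
        (fun h => let ⟨u, hu, h⟩ := hs _ h; ⟨u, hu, Or.inr h⟩)
    obtain ⟨u, hu, hPu⟩ := this
    intro n hn
    rw [tb_eq] at hn
    have hn' : (s ||| (1 <<< ac (Nat.shiftRight c 12) (Nat.land c 4095))).testBit n = true := hn
    rw [Nat.testBit_or, Bool.or_eq_true, Nat.one_shiftLeft, Nat.testBit_two_pow, decide_eq_true_iff,
      ← tb_eq] at hn'
    rcases hn' with h | h
    · exact hs n h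
    · exact ⟨u ▹ v, by rw [val_act, hu, hv, h], hcl u v hPu hPv⟩

/-- counting for the kernel -/
def cntL (l : List ℕ) (f : ℕ → Bool) : ℕ := List.rec 0 (fun a _ ih => cond (f a) (Nat.succ ih) ih) l

theorem cntL_eq (l : List ℕ) (f : ℕ → Bool) : cntL l f = (l.filter f).length := by
  induction l with
  | nil => rfl
  | cons a l ih =>
    have : cntL (a :: l) f = cond (f a) (Nat.succ (cntL l f)) (cntL l f) := rfl
    rw [this, List.filter_cons]
    cases f a <;> simp [ih]

theorem nodup_pts : pts.Nodup := (List.isChain_iff_pairwise.1 sorted_pts).imp ne_of_lt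

theorem ncard_eq_cnt {S : Set T6} {f : ℕ → Bool} (h : ∀ x, x ∈ S ↔ f x.1 = true) :
    S.ncard = cntL pts f := by
  rw [cntL_eq, ← List.toFinset_card_of_nodup (nodup_pts.filter _), ← Set.ncard_coe_finset,
    ← Set.ncard_image_of_injective S Subtype.val_injective]
  congr 1
  ext n
  simp only [Finset.mem_coe, List.mem_toFinset, List.mem_filter, mem_pts]
  exact ⟨by rintro ⟨x, hx, rfl⟩; exact ⟨x.2, (h x).1 hx⟩, fun ⟨h1, h2⟩ => ⟨⟨n, h1⟩, (h _).2 h2, rfl⟩⟩

theorem tb_PT (x : T6) : tb PT x.1 = true := by rw [tb_eq]; exact x.2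

/-! ### Generation and primitivity -/

/-- the codes of the points `c, d, e, f, g, h, i, ρ` -/
def gensT : List ℕ := [102, 5, 6, 1365, 96, 1725, 1280, 1744]

theorem chk_gen : Nat.beq (Nat.land PT (grow 0 [20582, 24581, 7065605, 5591046, 394581, 7144789, 5244605, 7144704, 24681, 7065705, 5591047, 7065607, 5244599, 394590, 7144798, 7144933, 5243338, 7145323, 5591151, 7065711, 5244522, 394587, 7066971, 7144795, 5244602, 7145326, 7144942, 5243335, 5243162, 7066826, 394720, 7067104, 7144928, 22119, 5244519, 7145429, 7067115, 7144939, 5243936, 7144480, 5243341, 7145317, 5592505, 5591319, 5243159, 7066823, 7066650, 7066960, 7144784, 21574, 5243974, 7144518, 5243152, 5244525, 7145438, 5592543, 5243968, 7144512, 5591325, 5243165, 7143712, 5244784, 7066829, 5592511, 25889, 394529, 5244523, 7066647, 21794, 21542, 5243942, 7144486, 5591488, 5243328, 25673, 5243977, 7144521, 7143750, 5244845, 7066640, 7067611, 7145435, 5592537, 26010, 394650, 7143744, 5592992, 5244832, 26222, 5244526, 7066653, 5593072, 5244912, 7067280, 22365,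 24703, 393343, 21804, 394540, 7067606, 7145430, 21826, 419112, 25641, 5243945, 7144489, 7143718, 5592957, 5244797, 26325, 5244629, 7066816, 5243983, 7144527, 7065929, 7143753, 5244839, 5592982, 5244822, 7067382, 22502, 7144800, 5592534, 24648, 393288, 21911, 394647, 5592976, 5244816, 26127, 5244431, 7067376, 5244517, 7067609, 7145433, 22509, 26287, 394927, 5244591, 7067216, 419671, 393337, 419107, 394531, 5592396, 21867, 7144811, 419144, 5592111, 5243951, 7144495, 7065897, 7143721, 5592951, 5244791, 5593078, 5244918, 26217, 5244521, 7067286, 22238, 5244638, 7067583, 7145407, 22358, 7065935, 7143759, 5593002, 5244842, 7144826, 5592985, 5244825, 7067385, 26132, 394772, 5244436, 7067371, 22139, 419817, 26601, 393282, 20547, 393283, 419229, 394653, 7067037, 5592567, 24975, 393615, 5243279, 7067360, 22025, 5244425, 7067402, 7145226, 22134, 7067615, 7145439, 20836, 7143780, 419815, 26599, 5591127, 394750, 5592387, 7144827, 419182, 5244592, 7065903, 7143727, 5244794, 7144874, 5593081, 5244921, 5244518, 7067289, 24914, 393554,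 5243218, 7067227, 5244527, 7067607, 7145431, 22187, 5244635, 7067577, 7145401, 20738, 7143682, 419673, 26457, 21879, 7144823, 5592991, 5244831, 26129, 394769, 5244433, 20548, 22034, 394770, 5244612, 20566, 26238, 26420, 5593071, 393292, 5591058, 394747, 7067131, 5592573, 7067133, 7144870, 20873, 393609, 5243273, 5243199, 7066767, 7144591, 7067399, 21604, 7144548, 20834, 7143778, 5592538, 418145, 7144875, 5592478, 7067488, 7145312, 21927, 7144871, 5593087, 5244927, 5592117, 5243957, 24920, 393560, 5243224, 7067230, 7067613, 7145437, 20508, 20820, 393556, 5243220, 5243362, 7066706, 7144530, 20603, 7067610, 21506, 7144450, 419502, 26286, 7067574, 7145398, 20740, 7143684, 5592327, 418056, 24840, 7143688, 5244115, 26500, 5592927, 419197, 7144829, 5592206, 5244046, 22044, 5244609, 417857, 5592770, 394288, 5591064, 7144822, 5592475, 7067035, 26025, 7067049, 7144873, 5243965, 393606, 7065990, 5591353, 5243193, 7066761, 7144545, 21766, 7144710, 5592496, 419245, 7144877, 5592126, 5243966, 26282, 394922, 5244586, 26597, 7065909,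 20819, 393555, 5243219, 5243368, 7066712, 7144536, 22220, 21869, 7144813, 417811, 418129, 393553, 7065937, 5243217, 5591524, 5243364, 7066708, 21960, 21508, 418824, 25608, 7144456, 5592741, 21947, 7144891, 5592333, 418049, 24833, 7143681, 5592280, 5244120, 394742, 25011, 5591299, 7143683, 5592962, 394842, 7145050, 25977, 7144825, 25874, 7066898, 7067055, 7144879, 7145365, 419081, 25865, 7144713, 5593019, 5244859, 24698, 393338, 5592123, 26243, 394883, 5244547, 22183, 394919, 5244583, 22510, 418140, 393564, 7065948, 5243228, 5591523, 5243363, 7144531, 7144680, 22306, 7145250, 419175, 25959, 7144807, 5244678, 393527, 7065911, 5591521, 7066081, 5243361, 5243935, 7066705, 26050, 25601, 25779, 7144627, 5592067, 7144451, 7145461, 419262, 26046, 7144894, 5592941, 5244781, 26105, 394745, 25052, 5591308, 7143692, 5591480, 394839, 7145047, 5592273, 7145020, 7145194, 5244565, 7144831, 7066900, 22430, 7145374, 5592122, 5243205, 25967, 7144815, 7144719, 5593022, 5244862, 26146, 394786, 5244450, 20599, 393335, 26252, 22152, 394888,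 5244552, 7145282, 419501, 394925, 7067309, 5244589, 419819, 7067627, 393530, 7065914, 5591532, 7066092, 5243372, 5243929, 7066716, 7145252, 7144675, 26408, 7145256, 5243378, 26042, 7144890, 7144810, 5244681, 7065991, 21668, 5244068, 25780, 7066804, 5244111, 7065887, 7143711, 5592076, 7144632, 7145470, 5591474, 5243173, 25861, 5592501, 7144885, 5244775, 25713, 5244017, 394751, 5591505, 394845, 7145053, 5592276, 7145009, 7145191, 5592734, 5244574, 395165, 5244488, 5244661, 7067519, 5592202, 22339, 7145371, 5591374, 5243214, 21865, 7144809, 5244677, 5593013, 5244853, 26152, 5244456, 7067351, 22052, 394788, 5244452, 5244482, 7145233, 417917, 393341, 7065725, 5591134, 22145, 419458, 394882, 7067266, 5244546, 7145284, 394864, 7067248, 7067261, 5244573, 7067483, 7067472, 5243926, 5591434, 7065994, 21666, 5244066, 26401, 7067425, 7145249, 5244105, 7066860, 7065881, 7143705, 5243380, 5592513, 5243384, 7144887, 5244783, 5592847, 5244687, 7067150, 5244020, 25761, 5244065, 7143844, 7066802, 7143887, 7145467, 5591508, 5591342,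 5243182, 5592938, 5244778, 21628, 5244028, 7143793, 5592479, 5592731, 5244571, 395159, 5244483, 5244670, 393549, 5243213, 7067513, 5591371, 5243211, 5243931, 7066982, 7144806, 5592846, 5244686, 7067146, 25797, 394437, 5244101, 7067354, 22051, 5244451, 419361, 394785, 7067169, 5244449, 5592644, 5244484, 7145244, 7144715, 5244511, 7067186, 5244567, 7067457, 7145281, 5244667, 5244669, 7067515, 7145339, 5244107, 7143702, 7067546, 7145370, 21618, 5244018, 5244072, 7143842, 5243292, 5243377, 7066057, 7143881, 5592551, 5244777, 5244666, 7067141, 5244076, 7143841, 5243179, 5244492, 5243178, 5244019, 7143804, 5243207, 5243934, 7066699, 5244880, 5244683, 5244067, 7067143, 20590, 5244110, 5243925, 7066053, 7143877, 20583, 5244460, 5244570, 5244481, 7067411, 7145235, 5244774, 5592212, 5244663, 7067518, 7145342, 7143878, 5592109, 7143883, 7066024, 7143848, 7143852, 7066019, 7143843, 7143886] (mask gensT))) PT = true := by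
  decide +kernel

theorem chk_gensT : allL gensT isPt = true := by decide +kernel

theorem mem_of_gensT {S : Set T6} [hS : IsSub S] (h : ∀ n ∈ gensT, pD n ∈ S) (x : T6) : x ∈ S := by
  refine Holds.of_sub (P := fun x => x ∈ S) ((holds_zero fun _ => False).grow ?_ _ (holds_mask ?_))
    chk_gen x (tb_PT x)
  · exact fun u v hu hv => hS.act_mem _ (hu.resolve_left id) _ hv
  · exact fun n hn => ⟨pD n, val_pD (allL_iff.1 chk_gensT n hn), h n hn⟩

/-- the base point `(1,1,1,1,1,1)` -/
def e0 : T6 := pt 1365

/-- a point joined to `e0` -/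
def b0 : T6 := pt 6

theorem chk_conn : Nat.beq (Nat.land PT (grow PT [25941, 394581, 7144789, 21854, 5592414, 394590, 7144798, 5592549, 7144933, 5591498, 5243338, 419163, 5592411, 394587, 7066971, 7144795, 7144942, 5243335, 5243162, 5244624, 7066826, 5592544, 394720, 7067104, 7144928, 24583, 7065607, 7067115, 7144939, 5243936, 7144480, 5243341, 5591319, 5243159, 7066823, 7066650, 7067568, 7145392, 21796, 24687, 7065711, 7066960, 7144784, 21574, 5243974, 7144518, 5243152, 7065605, 5244602, 5243968, 7144512, 5591325, 5243165, 7143712, 5244784, 7066829, 5244523, 7066647, 21794, 21828, 21942, 7144886, 419105, 25889, 20585, 7065705, 22119, 5244519, 21542, 5243942, 7144486, 5591488, 5243328, 25673, 5243977, 7144521, 7143750, 5244845, 7066640, 22199, 5244599, 7145317, 7143744, 5592992, 5244832, 26222, 5244526, 7066653, 5593072, 5244912, 7067280, 22365, 7067606, 7145430, 21826, 419112, 25896, 419137, 25921, 419257, 26010, 5592364, 5244522, 5244525, 7145438, 25641, 5243945, 7144489, 7143718, 5592957, 5244797, 26325, 5244629,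 7066816, 5243983, 7144527, 7065929, 7143753, 5244839, 5592982, 5244822, 7067382, 22502, 5592511, 5592976, 5244816, 26127, 5244431, 7067376, 5244517, 7067609, 7145433, 22509, 26287, 394927, 5244591, 7067216, 419671, 21867, 7144811, 419144, 25928, 26101, 26106, 5592396, 21911, 5592471, 393337, 7067611, 7145435, 5592537, 5592111, 5243951, 7144495, 7065897, 7143721, 5592951, 5244791, 5593078, 5244918, 26217, 5244521, 7067286, 22238, 5244638, 7067583, 7145407, 22358, 7065935, 7143759, 5593002, 5244842, 7144826, 5592985, 5244825, 7067385, 26132, 394772, 5244436, 7067371, 22139, 419817, 26601, 393343, 24975, 393615, 5243279, 7067360, 22025, 5244425, 7067402, 7145226, 22134, 7067615, 7145439, 20836, 7143780, 419815, 26599, 419182, 26005, 5592387, 22014, 22007, 5592567, 394619, 7144827, 5592477, 7067037, 393283, 7144800, 5592534, 393288, 5244592, 7065903, 7143727, 5244794, 7144874, 5593081, 5244921, 5244518, 7067289, 24914, 393554, 5243218, 7067227, 5244527, 7067607, 7145431, 22187, 5244635, 7067577, 7145401, 20738, 7143682,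 419673, 26457, 21879, 7144823, 5592991, 5244831, 26129, 394769, 5244433, 20548, 22034, 394770, 5244612, 20566, 26238, 26420, 5593071, 20873, 393609, 5243273, 5243199, 7066767, 7144591, 7067399, 21604, 7144548, 20834, 7143778, 5592538, 418145, 21918, 5592478, 7067131, 5592573, 7067133, 394662, 7144870, 7144875, 393292, 393282, 7067488, 7145312, 21927, 7144871, 5593087, 5244927, 5592117, 5243957, 24920, 393560, 5243224, 7067230, 7067613, 7145437, 20508, 20820, 393556, 5243220, 5243362, 7066706, 7144530, 20603, 7067610, 21506, 7144450, 419502, 26286, 7067574, 7145398, 20740, 7143684, 5592327, 418056, 24840, 7143688, 5244115, 26500, 5592927, 419197, 7144829, 5592206, 5244046, 22044, 5244609, 417857, 5592770, 394288, 418182, 393606, 7065990, 5591353, 5243193, 7066761, 7144545, 5592475, 7067035, 26025, 394665, 7067049, 7144873, 7144822, 21766, 7144710, 5592496, 419245, 7144877, 5592126, 5243966, 26282, 394922, 5244586, 26597, 7065909, 20819, 393555, 5243219, 5243368, 7066712, 7144536, 22220, 21869, 7144813, 417811, 418129,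 393553, 7065937, 5243217, 5591524, 5243364, 7066708, 21960, 21508, 418824, 25608, 7144456, 5592741, 21947, 7144891, 5592333, 418049, 24833, 7143681, 5592280, 5244120, 394742, 25011, 5591299, 7143683, 5592962, 394842, 7145050, 25874, 7066898, 394671, 7067055, 7144879, 7144825, 7145365, 419081, 25865, 7144713, 5593019, 5244859, 24698, 393338, 5592123, 26243, 394883, 5244547, 22183, 394919, 5244583, 22510, 418140, 393564, 7065948, 5243228, 5591523, 5243363, 7144531, 7144680, 22306, 7145250, 419175, 25959, 7144807, 5244678, 393527, 7065911, 5591521, 7066081, 5243361, 5243935, 7066705, 26050, 25601, 25779, 7144627, 5592067, 7144451, 7145461, 419262, 26046, 7144894, 5592941, 5244781, 26105, 394745, 25052, 5591308, 7143692, 5591480, 394839, 7145047, 5592273, 7145020, 7145194, 5244565, 7066900, 7144831, 22430, 7145374, 5592122, 5243205, 25967, 7144815, 7144719, 5593022, 5244862, 26146, 394786, 5244450, 20599, 393335, 26252, 22152, 394888, 5244552, 7145282, 419501, 394925, 7067309, 5244589, 419819, 7067627, 393530, 7065914,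 5591532, 7066092, 5243372, 5243929, 7066716, 7145252, 7144675, 26408, 7145256, 5243378, 26042, 7144890, 7144810, 5244681, 7065991, 21668, 5244068, 25780, 7066804, 5244111, 7065887, 7143711, 5592076, 7144632, 7145470, 5591474, 5243173, 25861, 5592501, 7144885, 5244775, 25713, 5244017, 394751, 5591505, 394845, 7145053, 5592276, 7145009, 7145191, 5592734, 5244574, 395165, 5244488, 5244661, 7067519, 22339, 5592202, 7145371, 5591374, 5243214, 21865, 7144809, 5244677, 5593013, 5244853, 26152, 5244456, 7067351, 22052, 394788, 5244452, 5244482, 7145233, 417917, 393341, 7065725, 5591134, 22145, 419458, 394882, 7067266, 5244546, 7145284, 394864, 7067248, 7067261, 5244573, 7067483, 7067472, 5243926, 5591434, 7065994, 21666, 5244066, 26401, 7067425, 7145249, 5244105, 7066860, 7065881, 7143705, 5243380, 5592513, 5243384, 7144887, 5244783, 5592847, 5244687, 7067150, 5244020, 25761, 5244065, 7143844, 7066802, 7143887, 7145467, 5591508, 5591342, 5243182, 5592938, 5244778, 21628, 5244028, 7143793, 5592479, 5592731, 5244571, 395159,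 5244483, 5244670, 393549, 5243213, 7067513, 5591371, 5243211, 5243931, 7066982, 7144806, 5592846, 5244686, 7067146, 25797, 394437, 5244101, 7067354, 22051, 5244451, 419361, 394785, 7067169, 5244449, 5592644, 5244484, 7145244, 7144715, 5244511, 7067186, 5244567, 7067457, 7145281, 5244667, 5244669, 7067515, 7145339, 5244107, 7143702, 7067546, 7145370, 21618, 5244018, 5244072, 7143842, 5243292, 5243377, 7066057, 7143881, 5592551, 5244777, 5244666, 7067141, 5244076, 7143841, 5243179, 5244492, 5243178, 5244019, 7143804, 5243207, 5243934, 7066699, 5244880, 5244683, 5244067, 7067143, 20590, 5244110, 5243925, 7066053, 7143877, 20583, 5244460, 5244570, 5244481, 7067411, 7145235, 5244774, 5592212, 5244663, 7067518, 7145342, 7143878, 5592109, 7143883, 7066024, 7143848, 7143852, 7066019, 7143843, 7143886] (mask [1365]))) PT = true := by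
  decide +kernel

theorem exists_inn_e0 (x : T6) : ∃ g ∈ Inn T6, g e0 = x := by
  refine Holds.of_sub (P := fun x => ∃ g ∈ Inn T6, g e0 = x)
    ((holds_of_sub (M := PT) (by decide +kernel)).grow ?_ _ (holds_mask ?_)) chk_conn x (tb_PT x)
  · rintro u v - ⟨g, hg, rfl⟩
    exact ⟨toPerm u * g, mul_mem (toPerm_mem_Inn u) hg, rfl⟩
  · intro n hn
    exact ⟨e0, (List.mem_singleton.1 hn).symm, 1, one_mem _, rfl⟩

theorem conn_T6 : Conn T6 := by
  intro x y
  obtain ⟨g, hg, rfl⟩ := exists_inn_e0 x
  obtain ⟨k, hk, rfl⟩ := exists_inn_e0 y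
  exact ⟨k * g⁻¹, mul_mem hk (inv_mem hg), by simp⟩

theorem ncom_e0_b0 : ¬ e0 ⫫ b0 := ncom_iff.2 (by decide +kernel)

theorem chk_rigid : allL pts (fun y => Nat.beq y 1365 || anyL pts fun z =>
    !(Nat.beq z 1365) && !(Nat.beq z y) && (cm 1365 z != cm y z)) = true := by decide +kernel

theorem rigid_aux (y : T6) (hy : y ≠ e0) : ∃ z, z ≠ e0 ∧ z ≠ y ∧ ¬ (e0 ⫫ z ↔ y ⫫ z) := by
  have := allP chk_rigid y
  rw [Bool.or_eq_true] at this
  obtain ⟨z, hz⟩ := anyP (this.resolve_left (mt (beq_iff (y := e0)).1 hy))
  simp only [Bool.and_eq_true, Bool.not_eq_true', ← Bool.not_eq_true, bne_iff_ne] at hz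
  refine ⟨z, mt (beq_iff (y := e0)).2 hz.1.1, mt beq_iff.2 hz.1.2, fun h => hz.2 ?_⟩
  rw [com_iff, com_iff] at h
  exact Bool.eq_iff_iff.2 h

theorem rigid_e0 : Rigid e0 := by
  refine ⟨fun y hy => ?_, fun y hy => ?_, b0, ncom_e0_b0⟩
  · by_contra h
    obtain ⟨z, -, -, hz⟩ := rigid_aux y h
    exact hz (hy z)
  · by_contra h
    obtain ⟨z, h1, h2, hz⟩ := rigid_aux y h
    exact hz (hy.com_iff h1 h2)

theorem chk_comConn : allL pts (fun y => anyL pts fun z => cm 1365 z && cm z y) = true := by
  decide +kernel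

theorem comConn_T6 : ComConn T6 := by
  have : ∀ y, Relation.ReflTransGen Com e0 y := fun y => by
    obtain ⟨z, hz⟩ := anyP (allP chk_comConn y)
    rw [Bool.and_eq_true] at hz
    exact (Relation.ReflTransGen.single (com_iff.2 hz.1)).tail (com_iff.2 hz.2)
  exact fun x y => isCong_comConn.trans (isCong_comConn.symm (this x)) (this y)

instance instNontrivialT6 : Nontrivial T6 := ⟨e0, b0, ne_of_ncom ncom_e0_b0⟩

theorem prim_T6 : Prim T6 :=
  prim_of conn_T6 (rigid_e0.vTriv conn_T6) (rigid_e0.wTriv conn_T6) comConn_T6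

theorem wide_T6 : Wide T6 := ⟨e0, pt 5, by decide, com_iff.2 (by decide +kernel)⟩

/-- the codes of the points commuting with `e0` and `b0` -/
def lc : List ℕ := [80, 102, 125, 272, 294, 317, 320, 390, 461, 1040, 1062, 1085, 1088, 1158, 1229, 1280, 1360, 1382, 1405, 1430, 1440, 1467, 1501, 1515, 1520, 1542, 1622, 1632, 1659, 1680, 1702, 1725, 1755, 1773, 1782, 1805, 1885, 1899, 1904, 1947, 1965, 1974, 2000, 2022, 2045]

theorem chk_lc : allL lc (fun x => isPt x && !(Nat.beq x 1365) && cm 1365 x && cm x 6) = true := by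
  decide +kernel

theorem chk_fib : allL pts (fun c => cm 1365 c || Nat.beq c 6 || Nat.beq c (ac 1365 6) ||
    anyL lc fun x => !(cm x c)) = true := by decide +kernel

theorem fib2_T6 : Fib2 T6 := by
  intro d c c' h1 h2 h3
  obtain ⟨g, hg, rfl, rfl⟩ := prim_T6.exists_ncom_pair wide_T6 ncom_e0_b0 h1
  have hg' := Inn_le_Aut hg
  obtain ⟨c', rfl⟩ := g.surjective c'
  rw [Aut.com_iff hg'] at h2
  rw [← hg', g.injective.eq_iff, g.injective.eq_iff]
  have := allP chk_fib c'
  simp only [Bool.or_eq_true] at this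
  rcases this with ((h | h) | h) | h
  · exact absurd (com_iff.2 h) h2
  · exact Or.inl (beq_iff.1 h)
  · exact Or.inr (beq_iff.1 h)
  · obtain ⟨x, hx, hxc⟩ := anyL_iff.1 h
    have h4 := allL_iff.1 chk_lc x hx
    simp only [Bool.and_eq_true, Bool.not_eq_true', ← Bool.not_eq_true] at h4 hxc
    have := h3 (g (pt x h4.1.1.1))
      ((Aut.mem_dperp hg').2 ⟨mt (beq_iff (y := e0)).2 h4.1.1.2, com_iff.2 h4.1.2⟩)
      ((Aut.com_iff hg').2 (com_iff.2 h4.2))
    rw [Aut.com_iff hg', com_iff] at this
    exact absurd this hxc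

/-! ### The subspaces `O k` -/

def O0 : ℕ := 0x482082402480000082402480482000002480482082400000000000000000000182402480482000002480482082400000482082402480000000000000000000012480482082400000482082402480000082402480482000000000000000000001000000000000000100000000000000010000000000000001000100010001111e00000000000000000000000000000000000000000000000000000000000000000000000000000000000000000000000000000000000000000000000000000000000000000000000100000000000000010000000000000001000100010001111e00000000000000000000000000000000000100010001111e00000000111e00e0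
def O1 : ℕ := 0x824024804820000024804820824000004820824024800000000000000000000124804820824000004820824024800000824024804820000000000000000000014820824024800000824024804820000024804820824000000000000000000001000000000000000100000000000000010000000000000001000100010001111e00000000000000000000000000000000000000000000000000000000000000000000000000000000000000000000000000000000000000000000000000000000000000000000000100000000000000010000000000000001000100010001111e00000000000000000000000000000000000100010001111e00000000111e00e0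
def O2 : ℕ := 0x248048208240000048208240248000008240248048200000000000000000000148208240248000008240248048200000248048208240000000000000000000018240248048200000248048208240000048208240248000000000000000000001000000000000000100000000000000010000000000000001000100010001111e00000000000000000000000000000000000000000000000000000000000000000000000000000000000000000000000000000000000000000000000000000000000000000000000100000000000000010000000000000001000100010001111e00000000000000000000000000000000000100010001111e00000000111e00e0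

/-- bit sets of the three standard subspaces with 126 points -/
def OB (k : ℕ) : ℕ := cond (Nat.beq k 0) O0 (cond (Nat.beq k 1) O1 O2)

/-- the three standard subspaces with 126 points -/
def O (k : ℕ) : Set T6 := {x | tb (OB k) x.1 = true}

theorem mem_O {k : ℕ} {x : T6} : x ∈ O k ↔ tb (OB k) x.1 = true := Iff.rfl

/-- codes of the points of `O 0` -/
def o0 : List ℕ := [5, 6, 7, 17, 18, 19, 20, 24, 28, 65, 66, 67, 68, 72, 76, 80, 96, 112, 257, 258, 259, 260, 264, 268, 272, 288, 304, 320, 384, 448, 1025, 1026, 1027, 1028, 1032, 1036, 1040, 1056, 1072, 1088, 1152, 1216, 1280, 1365, 1371, 1374, 1383, 1386, 1389, 1398, 1401, 1407, 1431, 1434, 1437, 1446, 1449, 1455, 1461, 1467, 1470, 1494, 1497, 1503, 1509, 1515, 1518, 1527, 1530, 1533, 1536, 1623, 1626, 1629, 1638, 1641, 1647, 1653, 1659, 1662, 1686, 1689, 1695, 1701, 1707, 1710, 1719, 1722, 1725, 1749, 1755, 1758, 1767, 1770, 1773, 1782, 1785, 1791, 1792, 1878, 1881, 1887, 1893, 1899, 1902, 1911, 1914, 1917, 1941, 1947, 1950, 1959, 1962, 1965, 1974, 1977, 1983, 2007,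 2010, 2013, 2022, 2025, 2031, 2037, 2043, 2046]

theorem chk_o0 : mask o0 = O0 := by decide +kernel

theorem mem_o0 {x : T6} (h : x ∈ O 0) : x.1 ∈ o0 := by
  rw [← testBit_foldr, ← tb_eq]
  exact (show tb (mask o0) x.1 = true from chk_o0 ▸ h)

theorem chk_sub_O : allL o0 (fun x => allL o0 fun y => tb O0 (ac x y)) = true := by decide +kernel

instance instIsSubO : IsSub (O 0) :=
  ⟨fun _ hx _ hy => allL_iff.1 (allL_iff.1 chk_sub_O _ (mem_o0 hx)) _ (mem_o0 hy)⟩

theorem chk_conn_O : Nat.beq (Nat.land O0 (grow O0 [25941, 30037, 75093, 79189, 99669, 116053, 271701, 275797, 296277, 312661, 394581, 460117, 1058133, 1062229, 1082709, 1099093, 1181013, 1246549, 1574229, 1836373, 4203861, 4207957, 4228437, 4244821, 4326741, 4392277, 4719957, 4982101, 5616981, 5629269, 5666133, 5678421, 5690709, 5727573, 5739861, 5764437, 5862741, 5875029, 5887317, 5924181, 5936469, 5985621, 6120789, 6133077, 6157653, 6182229, 6255957, 6280533, 6292821, 6649173, 6661461, 6673749, 6710613, 6722901, 6772053, 6907221, 6919509, 6968661, 6993237,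 7005525, 7054677, 7165269, 7251285, 7337301, 7341397, 7693653, 7705941, 7730517, 7755093, 7828821, 7853397, 7951701, 8037717, 8123733, 8222037, 8246613, 8320341, 8344917, 8369493, 8381781, 394590, 460126, 1181022, 1246558, 1574238, 1836382, 4326750, 4392286, 4719966, 4982110, 5616990, 5690718, 5727582, 5887326, 5924190, 6120798, 6280542, 6292830, 6673758, 6710622, 6907230, 6993246, 7341406, 7693662, 7853406, 8246622, 8369502, 394587, 460123, 1181019, 1246555, 1574235, 1836379, 4326747, 4392283, 4719963, 4982107, 6292827, 7341403, 6120822, 6993270, 7693686, 6993366, 7693782, 6993750] (mask [1365]))) O0 = true := by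
  decide +kernel

theorem exists_innOn_O {x : T6} (hx : x ∈ O 0) : ∃ g ∈ InnOn (O 0), g e0 = x := by
  refine Holds.of_sub (P := fun x => x ∈ O 0 ∧ ∃ g ∈ InnOn (O 0), g e0 = x)
    ((holds_of_sub (M := O0) (by decide +kernel)).grow ?_ _ (holds_mask ?_)) chk_conn_O x hx |>.2
  · rintro u v hu ⟨hv, g, hg, rfl⟩
    have hu' : u ∈ O 0 := hu.elim id And.left
    exact ⟨IsSub.act_mem _ hu' _ hv, toPerm u * g, mul_mem (toPerm_mem_InnOn hu') hg, rfl⟩
  · intro n hn
    exact ⟨e0, (List.mem_singleton.1 hn).symm, mem_O.2 (by decide +kernel), 1, one_mem _, rfl⟩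

/-- bit set of the points of `O 0` commuting with `e0` -/
def Op : ℕ := 0x240040000000240208048000000040048000000000000000000000000000240208048000000208000008000000048008000000000000000000000000000040048000000000048008000000000000000000000200000000000000000000100000000000000000000000000000000000000000000000100000000000100120000000000000000000000000000000000000000000000000000000000000000000000000000000000000000000000000000000000000000000000000000000000000000000000000000000000000000000000000000000100000000000100120000000000000000000000000000000000000000000100120000000000120020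

theorem chk_Op : allL pts (fun x => tb Op x == (tb O0 x && cm x 1365)) = true := by decide +kernel

theorem chk_T1 : allL pts (fun b => cm 1365 b ||
    (tb O0 b == Nat.beq (cntL pts fun x => tb Op x && cm x b) 18)) = true := by decide +kernel

theorem image_eq_of_aut {X : Type*} [TQ X] {g : Equiv.Perm X} (hg : g ∈ Aut X) {S : Set X}
    (hS : ∀ x, g x ∈ S ↔ x ∈ S) (a b : X) :
    {x | x ∈ S ∧ x ⫫ g a ∧ x ⫫ g b} = g '' {x | x ∈ S ∧ x ⫫ a ∧ x ⫫ b} := by
  ext x
  obtain ⟨x, rfl⟩ := g.surjective x
  rw [g.injective.mem_set_image]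
  simp only [Set.mem_ofPred_eq, hS, Aut.com_iff hg]

/-- A count decides membership in `O 0`. -/
theorem mem_O_iff_ncard {a b : T6} (ha : a ∈ O 0) (hab : ¬ a ⫫ b) :
    b ∈ O 0 ↔ {x | x ∈ O 0 ∧ x ⫫ a ∧ x ⫫ b}.ncard = 18 := by
  obtain ⟨g, hg, rfl⟩ := exists_innOn_O ha
  have hg' := InnOn_le_Aut _ hg
  obtain ⟨b, rfl⟩ := g.surjective b
  have hS : ∀ x, g x ∈ O 0 ↔ x ∈ O 0 := fun x =>
    ⟨fun h => by simpa using InnOn_apply_mem (IsSub.act_mem (S := O 0)) (inv_mem hg) h,
      InnOn_apply_mem (IsSub.act_mem (S := O 0)) hg⟩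
  rw [image_eq_of_aut hg' hS, Set.ncard_image_of_injective _ g.injective, hS,
    ncard_eq_cnt (f := fun x => tb Op x && cm x b.1)]
  · rw [Aut.com_iff hg', com_iff] at hab
    have := allP chk_T1 b
    rw [Bool.or_eq_true, beq_iff_eq] at this
    rw [← Nat.beq_eq, ← this.resolve_left hab]; rfl
  · intro x
    have := allP chk_Op x
    rw [beq_iff_eq] at this
    rw [this, Set.mem_ofPred_eq, com_iff, com_iff, Bool.and_eq_true, Bool.and_eq_true, and_assoc]; rfl

/-! ### The automorphisms `δ` and `σ` -/

theorem mem_Aut_of_gens {g : Equiv.Perm T6} (h : ∀ n ∈ gensT, ∀ y, g (pD n ▹ y) = g (pD n) ▹ g y) :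
    g ∈ Aut T6 := by
  have : IsSub {x : T6 | ∀ y, g (x ▹ y) = g x ▹ g y} := ⟨fun x hx x' hx' y => by
    rw [act_act_act, hx, hx', hx, hx, act_act_act]⟩
  exact mem_of_gensT (S := {x : T6 | ∀ y, g (x ▹ y) = g x ▹ g y}) h

/-- the permutation given by a map on codes with an inverse -/
def mkPerm (f g : ℕ → ℕ) (h : allL pts (fun x => isPt (f x) && isPt (g x) && Nat.beq (g (f x)) x &&
    Nat.beq (f (g x)) x) = true) : Equiv.Perm T6 where
  toFun x := ⟨f x.1, by have := allP h x; simp only [Bool.and_eq_true] at this; exact this.1.1.1⟩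
  invFun x := ⟨g x.1, by have := allP h x; simp only [Bool.and_eq_true] at this; exact this.1.1.2⟩
  left_inv x := T6.ext (by
    have := allP h x; simp only [Bool.and_eq_true, Nat.beq_eq] at this; exact this.1.2)
  right_inv x := T6.ext (by
    have := allP h x; simp only [Bool.and_eq_true, Nat.beq_eq] at this; exact this.2)

theorem mkPerm_mem_Aut {f g : ℕ → ℕ} (h) (h' : allL gensT (fun x => allL pts fun y =>
    Nat.beq (f (ac x y)) (fN (f x) fun u => fN (f y) fun v => ac u v)) = true) :
    mkPerm f g h ∈ Aut T6 := by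
  refine mem_Aut_of_gens fun n hn y => T6.ext ?_
  have := allP (allL_iff.1 h' n hn) y
  rw [fN_eq, fN_eq, Nat.beq_eq] at this
  show f (ac (pD n).1 y.1) = ac (f (pD n).1) (f y.1)
  rwa [val_pD (allL_iff.1 chk_gensT n hn)]

/-- multiplication of the first coordinate -/
def dl (c n : ℕ) : ℕ := nrm (Nat.xor (Nat.land n 4092) (sm c (Nat.land n 3)))

/-- conjugation of all coordinates -/
def sg (n : ℕ) : ℕ := nrm (Nat.xor n (Nat.land (Nat.shiftRight n 1) 1365))

/-- the diagonal automorphism -/
def δ : Equiv.Perm T6 := mkPerm (dl 2) (dl 3) (by decide +kernel)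

/-- the field automorphism -/
def σ : Equiv.Perm T6 := mkPerm sg sg (by decide +kernel)

theorem δ_mem : δ ∈ Aut T6 := mkPerm_mem_Aut _ (by decide +kernel)

theorem σ_mem : σ ∈ Aut T6 := mkPerm_mem_Aut _ (by decide +kernel)

theorem chk_δσ : allL pts (fun x => (tb O1 (dl 2 x) == tb O0 x) && (tb O2 (dl 2 x) == tb O1 x) &&
    (tb O0 (dl 2 x) == tb O2 x) && (tb O0 (sg x) == tb O0 x) && (tb O1 (sg x) == tb O2 x) &&
    (tb O2 (sg x) == tb O1 x)) = true := by decide +kernel

theorem δσ_O (x : T6) : (δ x ∈ O 1 ↔ x ∈ O 0) ∧ (δ x ∈ O 2 ↔ x ∈ O 1) ∧ (δ x ∈ O 0 ↔ x ∈ O 2) ∧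
    (σ x ∈ O 0 ↔ x ∈ O 0) ∧ (σ x ∈ O 1 ↔ x ∈ O 2) ∧ (σ x ∈ O 2 ↔ x ∈ O 1) := by
  have := allP chk_δσ x
  simp only [Bool.and_eq_true, beq_iff_eq, and_assoc] at this
  obtain ⟨h1, h2, h3, h4, h5, h6⟩ := this
  exact ⟨Bool.eq_iff_iff.1 h1, Bool.eq_iff_iff.1 h2, Bool.eq_iff_iff.1 h3, Bool.eq_iff_iff.1 h4,
    Bool.eq_iff_iff.1 h5, Bool.eq_iff_iff.1 h6⟩

/-- The automorphism group induces the symmetric group on the three classes. -/
theorem exists_aut_O {i j k : ℕ} (hi : i < 3) (hj : j < 3) (hk : k < 3) (hij : i ≠ j) (hik : i ≠ k)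
    (hjk : j ≠ k) : ∃ α ∈ Aut T6, ∀ x, (α x ∈ O i ↔ x ∈ O 0) ∧ (α x ∈ O j ↔ x ∈ O 1) ∧
      (α x ∈ O k ↔ x ∈ O 2) := by
  have hδ := δ_mem
  have hσ := σ_mem
  have d1 := fun x => (δσ_O x).1
  have d2 := fun x => (δσ_O x).2.1
  have d0 := fun x => (δσ_O x).2.2.1
  have s0 := fun x => (δσ_O x).2.2.2.1
  have s1 := fun x => (δσ_O x).2.2.2.2.1
  have s2 := fun x => (δσ_O x).2.2.2.2.2
  interval_cases i <;> interval_cases j <;> interval_cases k <;> simp only [ne_eq, not_true_eq_false] at hij hik hjk
  · exact ⟨1, one_mem _, fun x => ⟨Iff.rfl, Iff.rfl, Iff.rfl⟩⟩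
  · exact ⟨σ, hσ, fun x => ⟨s0 x, s2 x, s1 x⟩⟩
  · exact ⟨δ * σ, mul_mem hδ hσ, fun x => ⟨(d1 _).trans (s0 x), (d0 _).trans (s2 x), (d2 _).trans (s1 x)⟩⟩
  · exact ⟨δ, hδ, fun x => ⟨d1 x, d2 x, d0 x⟩⟩
  · exact ⟨δ * δ, mul_mem hδ hδ, fun x => ⟨(d2 _).trans (d1 x), (d0 _).trans (d2 x), (d1 _).trans (d0 x)⟩⟩
  · exact ⟨σ * δ, mul_mem hσ hδ, fun x => ⟨(s2 _).trans (d1 x), (s1 _).trans (d2 x), (s0 _).trans (d0 x)⟩⟩

end Cfsg.Lib.Spor.U6
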