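import Cfsg.Agent.Spor.M24Gens

/-!
The conjugacy classes of `M21`.
-/

set_option autoImplicit false
set_option maxRecDepth 100000

namespace Cfsg.Lib.Spor.MP

open Cfsg Cfsg.Lib.Spor

/-- Class representatives of `M21`: packed permutation, order, centraliser order. -/
def reps21 : List (ℕ × ℕ × ℕ) :=
  [(984818244535754528103549039458486304, 1, 20160),
   (981818691054096003685363657089320992, 2, 64),
   (975754295934893126319599781779965984, 3, 9),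
   (960096114190174093962263871970478112, 4, 16),
   (979053715806469773441888987811973152, 4, 16),
   (977756911941042281146319563705223200, 4, 16),
   (964605006189535887548438979271755808, 5, 5),
   (973937629044781277800407686526011424, 5, 5),
   (981979498412450340417909729501712416, 7, 7),
   (975597237843632019552470534033349664, 7, 7)]

/-- Generators followed by the class representatives. -/
def gensC21 : List ℕ := gens21 ++ reps21.map Prod.fst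

/-- Certificate for one class. -/
def cl21_0 : Cfsg.Lib.Spor.PK.Cl where
  wd := [2]
  cert := [⟨2, [192, 1345, 1024, 705, 1280, 257, 320, 385, 832, 1409, 1089, 449, 1153, 896, 1217, 577, 640, 961, 768,
    513], [[0, 0, 1, 1, 0, 1, 0, 0, 0, 1], [0, 0, 0, 1, 1]]⟩,
   ⟨3, [1024, 321, 768, 513, 256, 897, 384, 1217, 1344, 1152, 832, 1280, 576, 1409, 960, 449, 705, 641, 1088],
    [[0, 0, 1, 1, 0, 1, 0, 0], [0, 1, 0, 0, 1, 0, 1, 0, 1, 0, 0, 0], [0, 1, 0, 0, 0, 1]]⟩,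
   ⟨4, [1344, 961, 770, 576, 833, 386, 1024, 1152, 513, 642, 449, 1281, 706, 1218, 1408], [[1, 2, 0, 1]]⟩,
   ⟨5, [1088, 896], []⟩]
  es := [1]
  c := 20160
  nc := []

theorem cl21_ok0 : PK.clOk 9 24 (gensC21.map toPK) 20160 cl21_0 = true := by decide +kernel

/-- Certificate for one class. -/
def cl21_1 : Cfsg.Lib.Spor.PK.Cl where
  wd := [3]
  cert := [⟨4, [128, 449, 192, 1345, 1216, 897, 1024, 705, 1280, 641, 576, 321, 385, 832, 1409, 1089, 960, 513, 768,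
    1153], [[0, 0, 0, 1, 0, 1, 1, 0], [1, 0, 1, 0, 0, 1]]⟩,
   ⟨15, [576, 1345, 512, 1025, 832, 1217, 1088, 1153, 640, 321, 1280, 128, 705, 1408, 384, 896, 192, 769, 449],
    [[0, 1, 1], [0, 0, 0, 1, 0, 1, 1, 0], [0, 0, 1, 0, 0, 1, 1, 0, 1, 0, 1]]⟩,
   ⟨6, [192, 1025, 1410, 128, 1217, 1282, 768, 897, 1346, 576, 1153, 642, 832, 706, 1089], [[1, 0, 2, 0]]⟩,
   ⟨18, [128, 192], []⟩]
  es := [1]
  c := 64
  nc := []

theorem cl21_ok1 : PK.clOk 9 24 (gensC21.map toPK) 20160 cl21_1 = true := by decide +kernel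

/-- Certificate for one class. -/
def cl21_2 : Cfsg.Lib.Spor.PK.Cl where
  wd := [4]
  cert := [⟨4, [128, 449, 192, 1345, 1216, 897, 1024, 705, 1280, 641, 576, 321, 385, 832, 1409, 1089, 960, 513, 768,
    1153], [[0, 1, 1], [1, 1, 0, 0, 0, 0, 0, 1, 1, 0]]⟩,
   ⟨10, [1088, 897, 1280, 129, 384, 1345, 1408, 449, 1216, 576, 1024, 321, 512, 705, 833, 961, 193, 769, 1152],
    [[0, 0, 1, 0], [0, 1, 1, 0, 1, 0, 0, 1], [0, 1, 0, 1, 1, 0, 1, 0, 1]]⟩,
   ⟨7, [192, 1089, 834, 128, 321, 1282, 384, 705, 514, 960, 1025, 578, 1216, 1408, 769], [[2, 1, 1, 0]]⟩,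
   ⟨5, [960, 512], []⟩]
  es := [1, 2]
  c := 9
  nc := []

theorem cl21_ok2 : PK.clOk 9 24 (gensC21.map toPK) 20160 cl21_2 = true := by decide +kernel

/-- Certificate for one class. -/
def cl21_3 : Cfsg.Lib.Spor.PK.Cl where
  wd := [5]
  cert := [⟨3, [1024, 705, 320, 385, 832, 1409, 448, 1153, 896, 129, 1088, 1217, 640, 961, 576, 1345, 256, 513, 1281,
    768], [[0, 1, 1, 1, 1, 1, 1, 0, 1], [1, 1, 1, 0, 0, 0]]⟩,
   ⟨4, [320, 1344, 1089, 513, 1408, 897, 832, 577, 1216, 960, 640, 1025, 1152, 705, 385, 449, 1281, 769, 128],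
    [[0, 1, 1, 0, 1, 0, 1, 0, 0, 1, 0], [0, 1, 0, 0, 1, 0, 1, 0, 0], [0, 1, 0, 1, 0, 1, 0, 1, 0]]⟩,
   ⟨17, [384, 897, 322, 1345, 962, 640, 129, 512, 1152, 1025, 578, 448, 1409, 770, 832], [[1, 1, 2, 1]]⟩,
   ⟨22, [1152, 512], []⟩]
  es := [1, 3, 2]
  c := 16
  nc := []

theorem cl21_ok3 : PK.clOk 9 24 (gensC21.map toPK) 20160 cl21_3 = true := by decide +kernel

/-- Certificate for one class. -/
def cl21_4 : Cfsg.Lib.Spor.PK.Cl where
  wd := [6]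
  cert := [⟨3, [1024, 705, 320, 385, 832, 1409, 448, 1153, 896, 129, 1088, 1217, 640, 961, 576, 1345, 256, 513, 1281,
    768], [[0, 0, 1, 1, 0], [1, 0, 0, 0, 0, 0, 1, 1]]⟩,
   ⟨9, [1024, 257, 448, 705, 1088, 1153, 1217, 896, 512, 1345, 1281, 128, 832, 1409, 960, 321, 640, 769, 384],
    [[1, 0, 1, 1, 0, 0, 1], [0, 1, 0, 1, 1, 0, 1, 0, 1], [1, 1, 0, 1, 1]]⟩,
   ⟨5, [128, 514, 1089, 834, 384, 1409, 1282, 896, 640, 961, 1218, 1345, 258, 768, 704], [[1, 0]]⟩,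
   ⟨15, [1216, 384], []⟩]
  es := [1, 3, 2]
  c := 16
  nc := [[5]]

theorem cl21_ok4 : PK.clOk 9 24 (gensC21.map toPK) 20160 cl21_4 = true := by decide +kernel

/-- Certificate for one class. -/
def cl21_5 : Cfsg.Lib.Spor.PK.Cl where
  wd := [7]
  cert := [⟨3, [1024, 705, 320, 385, 832, 1409, 448, 1153, 896, 129, 1088, 1217, 640, 961, 576, 1345, 256, 513, 1281,
    768], [[1, 1, 1, 0, 0, 0], [1, 0, 0, 0, 1, 0, 1, 1, 0]]⟩,
   ⟨22, [832, 1281, 1024, 897, 1216, 961, 449, 320, 385, 704, 768, 1088, 641, 1152, 129, 1345, 513, 577, 257],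
    [[0, 1, 0, 1, 1, 0, 1, 1, 1, 0, 0], [0, 0, 1, 0, 1, 0, 0, 1], [1, 0, 0, 1, 1, 0, 1, 0, 0, 1, 0]]⟩,
   ⟨17, [704, 897, 450, 640, 513, 256, 129, 578, 1217, 1025, 384, 834, 1280, 1152, 320], [[2, 0, 2]]⟩,
   ⟨16, [384, 1216], []⟩]
  es := [1, 3, 2]
  c := 16
  nc := [[5], [6]]

theorem cl21_ok5 : PK.clOk 9 24 (gensC21.map toPK) 20160 cl21_5 = true := by decide +kernel

/-- Certificate for one class. -/
def cl21_6 : Cfsg.Lib.Spor.PK.Cl where
  wd := [8]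
  cert := [⟨3, [1024, 705, 320, 385, 832, 1409, 448, 1153, 896, 129, 1088, 1217, 640, 961, 576, 1345, 256, 513, 1281,
    768], [[0, 0, 1, 1, 0], [1, 0, 0, 1, 1, 1, 0]]⟩,
   ⟨9, [1024, 897, 448, 129, 832, 513, 1089, 640, 385, 704, 1345, 256, 1409, 1216, 961, 1280, 769, 1153, 320],
    [[1, 0, 0, 1, 1, 1, 0, 1], [0, 0, 1, 0, 0, 1, 0], [1, 0, 1, 0, 0, 1, 1, 0, 0]]⟩,
   ⟨8, [1344, 257, 834, 128, 1410, 1282, 960, 705, 1090, 320, 769, 1216, 897, 384, 641], [[0, 0, 1]]⟩,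
   ⟨4, [128, 1344], []⟩]
  es := [1, 4]
  c := 5
  nc := []

theorem cl21_ok6 : PK.clOk 9 24 (gensC21.map toPK) 20160 cl21_6 = true := by decide +kernel

/-- Certificate for one class. -/
def cl21_7 : Cfsg.Lib.Spor.PK.Cl where
  wd := [9]
  cert := [⟨3, [1024, 705, 320, 385, 832, 1409, 448, 1153, 896, 129, 1088, 1217, 640, 961, 576, 1345, 256, 513, 1281,
    768], [[0, 0, 0, 1, 0, 0, 1], [1, 0, 0, 1, 1, 1, 0]]⟩,
   ⟨8, [384, 1409, 640, 769, 1217, 961, 1281, 320, 577, 1344, 705, 1088, 1025, 448, 897, 257, 1153, 833, 129],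
    [[0, 1, 1, 0, 1, 0, 1, 1, 0, 1, 0, 0], [1, 1, 0, 1, 0], [1, 1, 1, 1, 0, 1, 1, 0]]⟩,
   ⟨21, [1216, 1281, 130, 1152, 449, 576, 1025, 706, 1088, 897, 1409, 960, 769, 321, 257], [[1, 2, 0, 1]]⟩,
   ⟨9, [128, 256], []⟩]
  es := [1, 4]
  c := 5
  nc := [[8]]

theorem cl21_ok7 : PK.clOk 9 24 (gensC21.map toPK) 20160 cl21_7 = true := by decide +kernel

/-- Certificate for one class. -/
def cl21_8 : Cfsg.Lib.Spor.PK.Cl where
  wd := [10]
  cert := [⟨2, [192, 1345, 1024, 705, 1280, 257, 320, 385, 832, 1409, 1089, 449, 1153, 896, 1217, 577, 640, 961, 768,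
    513], [[0, 1, 0, 0, 1, 1, 1], [0, 1, 0, 0, 0, 1, 0, 1, 1]]⟩,
   ⟨4, [512, 705, 576, 960, 833, 1344, 385, 1216, 768, 192, 641, 1088, 320, 1280, 1025, 449, 897, 1408, 1152],
    [[1, 0, 0, 0, 1, 0], [1, 0, 0, 0, 0, 1, 0, 1, 0, 0], [0, 0, 1, 0, 1, 1, 1, 0, 1, 1]]⟩,
   ⟨19, [960, 577, 898, 768, 513, 704, 1153, 1282, 193, 1345, 384, 449, 642, 320, 1089], [[0, 0, 2]]⟩,
   ⟨7, [1344, 384], []⟩]
  es := [1, 6]
  c := 7
  nc := []

theorem cl21_ok8 : PK.clOk 9 24 (gensC21.map toPK) 20160 cl21_8 = true := by decide +kernel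

/-- Certificate for one class. -/
def cl21_9 : Cfsg.Lib.Spor.PK.Cl where
  wd := [11]
  cert := [⟨2, [192, 1345, 1024, 705, 1280, 257, 320, 385, 832, 1409, 1089, 449, 1153, 896, 1217, 577, 640, 961, 768,
    513], [[0, 0, 1, 1, 0, 1, 1, 1, 1, 0, 1], [1, 1, 1, 0, 0, 0]]⟩,
   ⟨7, [256, 769, 512, 896, 641, 320, 577, 384, 960, 1089, 1216, 1345, 1408, 1153, 1024, 705, 832, 192, 1281],
    [[0, 0, 1, 0, 1, 1, 0, 1, 0, 0, 0], [1, 0, 1, 0, 0], [0, 0, 1, 0, 0, 0, 0, 1, 0, 1]]⟩,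
   ⟨3, [320, 705, 578, 1153, 962, 768, 1410, 1089, 512, 641, 1026, 1281, 834, 257, 896], [[0, 1, 0, 1, 2]]⟩,
   ⟨19, [1344, 384], []⟩]
  es := [1, 6]
  c := 7
  nc := [[10]]

theorem cl21_ok9 : PK.clOk 9 24 (gensC21.map toPK) 20160 cl21_9 = true := by decide +kernel

/-- All class certificates. -/
def cls21 : List PK.Cl := [cl21_0, cl21_1, cl21_2, cl21_3, cl21_4, cl21_5, cl21_6, cl21_7, cl21_8, cl21_9]

theorem isClassList_M21 : IsClassList M21 reps21 :=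
  isClassList_of_check (gens := gensC21) (by decide +kernel)
    (pclosure_append pclosure_gens21 fun t ht => inSub_M21
      (List.all_eq_true.1 (by decide +kernel : (reps21.map Prod.fst).all (isFix [23, 0, 1]) = true) t ht))
    card_M21 (K := 6) (cls := cls21)
    (by
      simp only [cls21, List.forall_mem_cons, List.not_mem_nil, false_imp_iff, implies_true, and_true]
      exact ⟨cl21_ok0, cl21_ok1, cl21_ok2, cl21_ok3, cl21_ok4, cl21_ok5, cl21_ok6, cl21_ok7, cl21_ok8, cl21_ok9⟩)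
    (by decide +kernel) (by decide +kernel)

end Cfsg.Lib.Spor.MP
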