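/-
Type M(23): a frame `Y342` satisfying the defining relations of `Fi23`.
-/
import Cfsg.Agent.Spor.Fi22Y
import Cfsg.Prelude.Def_Spor_Fi23

set_option autoImplicit false

namespace Cfsg.Lib.Spor.Fi

open TQ U6 Cox

variable {X : Type*} [TQ X]

theorem chk_O_ncom : allL pts (fun b => cm 1365 b || anyL o0 fun x => isPt x && tb O0 x && dp 1365 x &&
    !(cm x b)) = true := by decide +kernel

theorem exists_O_ncom {a b : T6} (ha : a ∈ O 0) (hab : ¬ a ⫫ b) : ∃ x ∈ O 0, x ∈ dperp a ∧ ¬ x ⫫ b := by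
  obtain ⟨g, hg, rfl⟩ := exists_innOn_O ha
  have hg' := InnOn_le_Aut _ hg
  obtain ⟨b, rfl⟩ := g.surjective b
  rw [Aut.com_iff hg', com_iff] at hab
  have := allP chk_O_ncom b
  rw [Bool.or_eq_true] at this
  obtain ⟨x, -, hx⟩ := anyL_iff.1 (this.resolve_left hab)
  simp only [Bool.and_eq_true, Bool.not_eq_true', ← Bool.not_eq_true] at hx
  refine ⟨g (pt x hx.1.1.1), InnOn_apply_mem (IsSub.act_mem (S := O 0)) hg hx.1.1.2,
    (Aut.mem_dperp hg').2 (dp_iff.1 hx.1.2), ?_⟩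
  rw [Aut.com_iff hg', com_iff]; exact hx.2

theorem T22.exists_frame_at (h : T22 X) {a q : X} (haq : ¬ a ⫫ q) :
    ∃ ψ : Emb T6 X, Set.range ψ.f = dperp a ∧ ∀ x, ψ.f x ⫫ q ↔ x ∈ O 0 := by
  obtain ⟨φ, hφ⟩ := h.loc a
  obtain ⟨k, hk, hc⟩ := h.exists_isCl hφ haq
  obtain ⟨α, hα, h0⟩ := exists_aut_O (i := k) (j := (k + 1) % 3) (k := (k + 2) % 3) hk (by omega)
    (by omega) (by omega) (by omega) (by omega)
  obtain ⟨g, hg, hO⟩ := hc.pre hα fun x => (h0 x).1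
  exact ⟨(φ.pre hα).pre (Inn_le_Aut hg), by rw [Emb.range_pre, Emb.range_pre, hφ], hO⟩

theorem T22.exists_com_ncom (h : T22 X) {a q m p : X} (haq : ¬ a ⫫ q) (hm : m ∈ dperp a) (hmq : m ⫫ q)
    (hp : p ∈ dperp a) (hmp : ¬ m ⫫ p) : ∃ x ∈ dperp a, x ∈ dperp m ∧ x ⫫ q ∧ ¬ x ⫫ p := by
  obtain ⟨ψ, hr, hO⟩ := T22.exists_frame_at h haq
  obtain ⟨m, rfl⟩ : m ∈ Set.range ψ.f := hr ▸ hm
  obtain ⟨p, rfl⟩ : p ∈ Set.range ψ.f := hr ▸ hp
  obtain ⟨x, h1, h2, h3⟩ := exists_O_ncom ((hO m).1 hmq) (mt ψ.com_iff.2 hmp)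
  exact ⟨ψ.f x, hr ▸ ⟨x, rfl⟩, ψ.mem_dperp.2 h2, (hO x).2 h1, mt ψ.com_iff.1 h3⟩

theorem T23.exists_com_ncom (h : T23 X) {φ : Emb T6 X} {m a p q : X} (hma : m ∈ dperp a)
    (hφ : Set.range φ.f = dperp m ∩ dperp a) (hp : a ⫫ p) (hmp : ¬ m ⫫ p) (hq : m ⫫ q)
    (haq : ¬ a ⫫ q) {f : T6} (hfp : φ.f f ⫫ p) (hfq : φ.f f ⫫ q) : ∃ x, φ.f x ⫫ q ∧ ¬ φ.f x ⫫ p := by
  have hm : ∀ x, φ.f x ∈ dperp m ∩ dperp a := fun x => hφ ▸ ⟨x, rfl⟩
  have m1 : m ∈ dperp (φ.f f) := ⟨(hm f).1.1.symm, (hm f).1.2.symm⟩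
  have m2 : a ∈ dperp (φ.f f) := ⟨(hm f).2.1.symm, (hm f).2.2.symm⟩
  have m3 : p ∈ dperp (φ.f f) := ⟨fun e => hmp (e ▸ (hm f).1.2), hfp⟩
  have m4 : q ∈ dperp (φ.f f) := ⟨fun e => haq (e ▸ (hm f).2.2), hfq⟩
  have hpa : p ≠ a := fun e => hmp (e ▸ hma.2.symm)
  obtain ⟨x, h1, h2, h3, h4⟩ := T22.exists_com_ncom (h.loc (φ.f f)) (a := ⟨a, m2⟩) (q := ⟨q, m4⟩)
    (m := ⟨m, m1⟩) (p := ⟨p, m3⟩) (mt coe_com.1 haq) (coe_mem_dperp.2 hma) (coe_com.2 hq)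
    (coe_mem_dperp.2 ⟨hpa, hp⟩) (mt coe_com.1 hmp)
  obtain ⟨y, hy⟩ : x.1 ∈ Set.range φ.f := hφ ▸ ⟨coe_mem_dperp.1 h2, coe_mem_dperp.1 h1⟩
  exact ⟨y, hy ▸ coe_com.1 h3, hy ▸ fun hc => h4 (coe_com.2 hc)⟩

theorem mem_O_5 {k : ℕ} (hk : k < 3) : pt 5 ∈ O k := by
  rw [mem_O]; interval_cases k <;> decide +kernel

/-- points of different types have different classes -/
theorem T23.cl_ne (h : T23 X) {φ : Emb T6 X} {m a p q : X} (hma : m ∈ dperp a)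
    (hφ : Set.range φ.f = dperp m ∩ dperp a) (hp : a ⫫ p) (hmp : ¬ m ⫫ p) (hq : m ⫫ q)
    (haq : ¬ a ⫫ q) {k : ℕ} (hk : k < 3) (h1 : IsCl φ p k) (h2 : IsCl φ q k) : False := by
  have hm : ∀ x, φ.f x ∈ dperp m ∩ dperp a := fun x => hφ ▸ ⟨x, rfl⟩
  obtain ⟨g, hg, h2⟩ := h2
  obtain ⟨v, hv, h1⟩ := h1.exists_conj hg
  have hv' := InnOn_le_Aut _ hv
  have e1 : v a = a := InnOn_apply_eq (by rintro _ ⟨x, rfl⟩; exact (hm x).2.2.symm) hv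
  have e2 : v m = m := InnOn_apply_eq (by rintro _ ⟨x, rfl⟩; exact (hm x).1.2.symm) hv
  obtain ⟨x, h3, h4⟩ := T23.exists_com_ncom h hma hφ (p := v p) (by rwa [← e1, Aut.com_iff hv'])
    (by rwa [← e2, Aut.com_iff hv']) hq haq ((h1 _).2 (mem_O_5 hk)) ((h2 _).2 (mem_O_5 hk))
  obtain ⟨x, rfl⟩ := g.surjective x
  exact h4 ((h1 x).2 ((h2 x).1 h3))

theorem range_cod {Y : Type*} [TQ Y] {φ : Emb Y X} {S T : Set X} [IsSub S] (hφ : Set.range φ.f = S ∩ T)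
    (h : ∀ y, φ.f y ∈ S) : Set.range (φ.cod S h).f = Subtype.val ⁻¹' T := by
  ext ⟨x, hx⟩
  constructor
  · rintro ⟨y, e⟩
    have : φ.f y ∈ S ∩ T := hφ ▸ ⟨y, rfl⟩
    have e' : φ.f y = x := congrArg Subtype.val e
    show x ∈ T
    exact e' ▸ this.2
  · intro hT
    obtain ⟨y, rfl⟩ : x ∈ Set.range φ.f := hφ ▸ ⟨hx, hT⟩
    exact ⟨y, rfl⟩

theorem range_comp_sub {Y : Type*} [TQ Y] {S T : Set X} [IsSub S] {φ : Emb Y S}
    (hφ : Set.range φ.f = Subtype.val ⁻¹' T) : Set.range (φ.comp (Emb.sub S)).f = S ∩ T := by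
  ext x
  constructor
  · rintro ⟨y, rfl⟩
    have : φ.f y ∈ Subtype.val ⁻¹' T := hφ ▸ ⟨y, rfl⟩
    exact ⟨(φ.f y).2, this⟩
  · rintro ⟨hS, hT⟩
    obtain ⟨y, e⟩ : (⟨x, hS⟩ : S) ∈ Set.range φ.f := hφ ▸ hT
    exact ⟨y, congrArg Subtype.val e⟩

theorem dperp_coe {S : Set X} [IsSub S] (a : S) : dperp a = Subtype.val ⁻¹' dperp a.1 :=
  Set.ext fun _ => coe_mem_dperp

theorem T23.exists_emb (h : T23 X) {m a : X} (ha : a ∈ dperp m) :
    ∃ φ : Emb T6 X, Set.range φ.f = dperp m ∩ dperp a := by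
  obtain ⟨ψ, hψ⟩ := (h.loc m).loc ⟨a, ha⟩
  exact ⟨_, range_comp_sub (hψ.trans (dperp_coe _))⟩

theorem T23.exists_cl (h : T23 X) {φ : Emb T6 X} {m a b : X} (ha : a ∈ dperp m)
    (hφ : Set.range φ.f = dperp m ∩ dperp a) (hb : m ⫫ b) (hab : ¬ a ⫫ b) : ∃ k < 3, IsCl φ b k := by
  have hm : ∀ x, φ.f x ∈ dperp m := fun x => (hφ ▸ ⟨x, rfl⟩ : φ.f x ∈ dperp m ∩ dperp a).1
  have hb' : b ∈ dperp m := ⟨fun e => hab (e ▸ ha.2.symm), hb⟩
  obtain ⟨k, hk, g, hg, e⟩ := (h.loc m).exists_isCl (φ := φ.cod _ hm) (a := ⟨a, ha⟩) (b := ⟨b, hb'⟩)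
    ((range_cod hφ hm).trans (dperp_coe ⟨a, ha⟩).symm) (mt coe_com.1 hab)
  exact ⟨k, hk, g, hg, fun x => by rw [← e, coe_com]; rfl⟩

theorem exists_type [Finite X] {m a : X} (h : Prim (dperp m)) (ha : a ∈ dperp m) :
    ∃ b, m ⫫ b ∧ ¬ a ⫫ b := by
  have := h.nontrivial
  obtain ⟨b, hb⟩ := h.conn.exists_ncom ⟨a, ha⟩
  exact ⟨b, b.2.2, fun hc => hb (coe_com.2 hc)⟩

theorem IsCl.exists_type {φ : Emb T6 X} {b : X} {k : ℕ} (h : IsCl φ b k) {u : Equiv.Perm T6}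
    (hu : u ∈ Inn T6) : ∃ b', (∀ y, (∀ x, φ.f x ⫫ y) → (y ⫫ b' ↔ y ⫫ b)) ∧
      ∀ x, φ.f (u x) ⫫ b' ↔ x ∈ O k := by
  obtain ⟨v, hv, e⟩ := h.exists_conj hu
  refine ⟨v b, fun y hy => ?_, e⟩
  have : v y = y := InnOn_apply_eq (by rintro _ ⟨x, rfl⟩; exact hy x) hv
  rw [← Aut.com_iff (InnOn_le_Aut _ hv) (x := y) (y := b), this]

/-- the position of the set of points commuting with `j` -/
def uJ : Equiv.Perm T6 := wp ([85, 117].map pD)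

/-- the codes of the points commuting with `j` -/
def jB (x : ℕ) : Bool := tb O2 (wac [117, 85] x)

theorem mem_iff_of_wp {φ : Emb T6 X} {j : X} {w : List ℕ} {k : ℕ} (hw : allL w.reverse isPt = true)
    (h : ∀ x, φ.f (wp (w.map pD) x) ⫫ j ↔ x ∈ O k) (x : T6) :
    φ.f x ⫫ j ↔ tb (OB k) (wac w.reverse x.1) = true := by
  rw [← val_wp hw, ← mem_O, ← h, List.map_reverse, wp_reverse]
  simp

/-- a frame in type M(23) -/
structure Fr23 (φ : Emb T6 X) (m a b j : X) : Prop where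
  ham : a ∈ dperp m
  range : Set.range φ.f = dperp m ∩ dperp a
  mb : m ⫫ b
  ab : ¬ a ⫫ b
  hO : ∀ x, φ.f x ⫫ b ↔ x ∈ O 0
  aj : a ⫫ j
  mj : ¬ m ⫫ j
  hJ : ∀ x, φ.f x ⫫ j ↔ jB x.1 = true

theorem T23.exists_frame [Finite X] (h : T23 X) : ∃ (φ : Emb T6 X) (m a b j : X), Fr23 φ m a b j := by
  obtain ⟨a, m, hne, hc⟩ := h.wide
  have ham : a ∈ dperp m := ⟨hne, hc.symm⟩
  have hma : m ∈ dperp a := ⟨hne.symm, hc⟩
  obtain ⟨φ, hφ⟩ := T23.exists_emb h ham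
  obtain ⟨b, mb, ab⟩ := exists_type (h.loc m).prim ham
  obtain ⟨j, aj, mj⟩ := exists_type (h.loc a).prim hma
  obtain ⟨k1, hk1, c1⟩ := T23.exists_cl h ham hφ mb ab
  obtain ⟨k2, hk2, c2⟩ := T23.exists_cl h hma (hφ.trans (Set.inter_comm _ _)) aj mj
  have hk : k1 ≠ k2 := by
    rintro rfl
    exact T23.cl_ne h hma hφ aj mj mb ab hk1 c2 c1
  obtain ⟨α, hα, h0⟩ := exists_aut_O (i := k1) (j := 3 - k1 - k2) (k := k2) hk1 (by omega) hk2 (by omega)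
    hk (by omega)
  have hr : Set.range (φ.pre hα).f = dperp m ∩ dperp a := by rw [Emb.range_pre, hφ]
  have hm : ∀ x, (φ.pre hα).f x ∈ dperp m ∩ dperp a := fun x => hr ▸ ⟨x, rfl⟩
  obtain ⟨b', t1, o1⟩ := IsCl.exists_type (c1.pre hα fun x => (h0 x).1) (one_mem _)
  obtain ⟨j', t2, o2⟩ := IsCl.exists_type (c2.pre hα fun x => (h0 x).2.2) (wp_mem_Inn ([85, 117].map pD))
  have tm := fun x => (hm x).1.2.symm
  have ta := fun x => (hm x).2.2.symm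
  exact ⟨φ.pre hα, m, a, b', j', ham, hr, (t1 m tm).2 mb, mt (t1 a ta).1 ab, o1, (t2 a ta).2 aj,
    mt (t2 m tm).1 mj, mem_iff_of_wp (by decide +kernel) o2⟩

theorem ev_fix {p : ℕ → X} {V : ℕ} (hD : Diag p V) {w : List ℕ} {t : ℕ}
    (h : (tb V t && allL w fun s => tb V s && !(adj s t)) = true) : ev p w (p t) = p t := by
  rw [Bool.and_eq_true, allL_iff] at h
  refine InnOn_apply_eq (S := {x | x ⫫ p t}) (fun _ hx => hx) (ev_mem_InnOn fun s hs => ?_)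
  have := h.2 s hs
  rw [Bool.and_eq_true, Bool.not_eq_true'] at this
  exact (hD s t this.1 h.1).2 this.2

theorem lt_of_allL {w : List ℕ} {n : ℕ} (h : allL w (fun s => Nat.blt s n) = true) : ∀ s ∈ w, s < n :=
  fun s hs => by simpa only [Nat.blt_eq] using allL_iff.1 h s hs

namespace Fr23

variable {φ : Emb T6 X} {m a b j : X}

theorem mem (H : Fr23 φ m a b j) (x : T6) : φ.f x ∈ dperp m ∩ dperp a := H.range ▸ ⟨x, rfl⟩

theorem bm (H : Fr23 φ m a b j) : b ∈ dperp m := ⟨fun e => H.ab (e ▸ H.ham.2.symm), H.mb⟩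

theorem hma (H : Fr23 φ m a b j) : m ∈ dperp a := ⟨H.ham.1.symm, H.ham.2.symm⟩

theorem preFr (H : Fr23 φ m a b j) : PreFr φ a b := ⟨fun x => (H.mem x).2, H.ab, H.hO⟩

/-- the restriction of the frame to `dperp m` -/
def φ' (H : Fr23 φ m a b j) : Emb T6 (dperp m) := φ.cod _ fun x => (H.mem x).1

theorem preFr' (H : Fr23 φ m a b j) : PreFr H.φ' ⟨a, H.ham⟩ ⟨b, H.bm⟩ :=
  ⟨fun x => coe_mem_dperp.2 (H.mem x).2, mt coe_com.1 H.ab, fun x => coe_com.trans (H.hO x)⟩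

theorem range' (H : Fr23 φ m a b j) : Set.range H.φ'.f = dperp ⟨a, H.ham⟩ :=
  (range_cod H.range _).trans (dperp_coe ⟨a, H.ham⟩).symm

theorem pF_eq (H : Fr23 φ m a b j) (k l : X) {s : ℕ} (hs : s < 10) : pF φ a b j k l s =
    (pF H.φ' ⟨a, H.ham⟩ ⟨b, H.bm⟩ ⟨a, H.ham⟩ ⟨a, H.ham⟩ ⟨a, H.ham⟩ s).1 :=
  (pF_congr φ a b j k l a a a hs).trans
    (pF_map (Emb.sub _) H.φ' ⟨a, H.ham⟩ ⟨b, H.bm⟩ ⟨a, H.ham⟩ ⟨a, H.ham⟩ ⟨a, H.ham⟩ s)

theorem chk_jb : cntL pts (fun x => dp 5 x && jB x && tb O0 x) = 18 := by decide +kernel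

theorem jb (H : Fr23 φ m a b j) (hX : T23 X) : j ⫫ b := by
  rw [hX.com_iff_ncard H.hma H.range H.aj H.mj H.mb H.ab (f := pt 5) ((H.hJ _).2 (by decide +kernel))
    ((H.hO _).2 (mem_O_5 (by omega))), ← chk_jb]
  refine ncard_eq_cnt fun x => ?_
  rw [Bool.and_eq_true, Bool.and_eq_true, and_assoc, ← H.hJ, Set.mem_ofPred_eq, H.hO, ← dp_iff]; rfl

theorem diag (H : Fr23 φ m a b j) (hjb : j ⫫ b) (k l : X) : Diag (pF φ a b j k l) 2046 := by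
  refine Diag.ext_one (H.preFr.diag j k l) 10 2046 (by decide +kernel) fun t ht h1 => ?_
  by_cases e1 : t = 1
  · subst e1; exact iff_of_true H.aj.symm (by decide +kernel)
  by_cases e2 : t = 2
  · subst e2; exact iff_of_true hjb (by decide +kernel)
  have h2 : (tb TL t && (jB (cd t) == !(adj 10 t))) = true := by
    interval_cases t <;>
      first | exact absurd rfl e1 | exact absurd rfl e2 | exact absurd h1 (by decide +kernel) | decide +kernel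
  rw [Bool.and_eq_true, beq_iff_eq] at h2
  rw [pF_T _ _ _ _ _ _ h2.1, com_comm]
  refine (H.hJ _).trans ?_
  rw [val_pD (isPt_cd h2.1), h2.2, Bool.not_eq_true']

theorem ev_sub (H : Fr23 φ m a b j) (k l : X) {w : List ℕ} (hw : allL w (fun s => Nat.blt s 10) = true)
    (x : dperp m) : ev (pF φ a b j k l) w x =
      (ev (pF H.φ' ⟨a, H.ham⟩ ⟨b, H.bm⟩ ⟨a, H.ham⟩ ⟨a, H.ham⟩ ⟨a, H.ham⟩) w x).1 :=
  Emb_ev (Emb.sub _) (fun s hs => H.pF_eq k l (lt_of_allL hw s hs)) x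

theorem ev_m (H : Fr23 φ m a b j) (k l : X) {w : List ℕ} (hw : allL w (fun s => Nat.blt s 10) = true) :
    ev (pF φ a b j k l) w m = m :=
  InnOn_dperp_apply (ev_mem_InnOn fun s hs => H.pF_eq k l (lt_of_allL hw s hs) ▸ Subtype.prop _)

/-- The relators of `Fi23` hold in a frame. -/
theorem rel23 [Finite X] (H : Fr23 φ m a b j) (hX : T23 X) (k l : X) :
    ev (pF φ a b j k l) R1 = 1 ∧ ev (pF φ a b j k l) R3 = 1 := by
  have hD := H.diag (H.jb hX) k l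
  obtain ⟨h1, -, h3⟩ := H.preFr'.rel22 (hX.loc m) H.range' ⟨a, H.ham⟩ ⟨a, H.ham⟩ ⟨a, H.ham⟩
  have key : ∀ w : List ℕ, allL w (fun s => Nat.blt s 10) = true →
      (tb 2046 10 && allL w fun s => tb 2046 s && !(adj s 10)) = true →
      ev (pF H.φ' ⟨a, H.ham⟩ ⟨b, H.bm⟩ ⟨a, H.ham⟩ ⟨a, H.ham⟩ ⟨a, H.ham⟩) w = 1 →
      ev (pF φ a b j k l) w = 1 := fun w e1 e2 e3 => by
    refine hX.prim.eq_one_of_fix hX.wide (ev_mem_Aut _ _) (H.ev_m k l e1) (fun x hx => ?_) H.mj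
      (ev_fix hD e2)
    rw [H.ev_sub k l e1 ⟨x, hx⟩, e3]; rfl
  exact ⟨key R1 (by decide +kernel) (by decide +kernel) h1,
    key R3 (by decide +kernel) (by decide +kernel) h3⟩

/-- The frame generates. -/
theorem gen23 [Finite X] (H : Fr23 φ m a b j) (hX : T23 X) (k l : X) (S : Set X) [hS : IsSub S]
    (h : ∀ s, 1 ≤ s → s ≤ 10 → pF φ a b j k l s ∈ S) (y : X) : y ∈ S := by
  have := (Emb.sub (dperp m)).isSub_preimage S
  have h1 : dperp m ⊆ S := fun x hx =>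
    H.preFr'.gen22 (hX.loc m) H.range' ⟨a, H.ham⟩ ⟨a, H.ham⟩ ⟨a, H.ham⟩
      (S := (Emb.sub (dperp m)).f ⁻¹' S)
      (fun s h1 h2 => by
        have := h s h1 (by omega)
        rwa [H.pF_eq k l (by omega)] at this) ⟨x, hx⟩
  have hj : j ∈ S := h 10 (by omega) (by omega)
  refine hX.prim.eq_univ hX.wide ?_ h1 H.mj hj y
  refine mem_of_fork h1 hj H.mj (H.mem (pt 96)).1 (H.mem (pt 101)).1 (φ.inj.ne (by decide))
    (φ.com_iff.2 (com_iff.2 (by decide +kernel))) ?_ ?_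
  · rw [H.hJ]; decide +kernel
  · rw [H.hJ]; decide +kernel

end Fr23

variable {G : Type*} [Group G] {D : Set G}

/-- the letters of the generators of `Fi23` -/
def lt23 : Cfsg.Spor.Fi23.Gen → ℕ
  | .a => 1 | .b => 2 | .c => 3 | .d => 4 | .e => 5 | .f => 6 | .g => 7 | .h => 8 | .i => 9 | .j => 10

theorem t23_of_type [Finite G] (hD : IsThreeTranspositionGroup D) (hp : IsPrimitiveUnderConj D)
    (ht : IsOfTypeM23 G D) : haveI := IsTT.of_group hD; T23 D := by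
  have := IsTT.of_group hD
  obtain ⟨d, e, he⟩ := q23_of_type (rep_coe D) (by rwa [Subtype.range_coe])
  exact t23_of_q0 ((prim_iff hD.2.2).2 hp) he

/-- the homomorphism from `Fi23` defined by elements satisfying the relations -/
def hom23 {H : Type*} [Group H] (g : ℕ → H)
    (h0 : ∀ x y, (g (lt23 x) * g (lt23 y)) ^ Cfsg.Spor.coxLabel Cfsg.Spor.Fi23.edges x y = 1)
    (r1 : (R1.map g).prod = 1) (r3 : (R3.map g).prod = 1) : Cfsg.Spor.Fi23 →* H :=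
  coxHom (fun x => g (lt23 x)) h0 (by
    rw [R1, prod_pw] at r1
    rw [R3, prod_pw] at r3
    intro r hr
    simp only [Cfsg.Spor.Fi23.extra, List.mem_cons, List.not_mem_nil, or_false] at hr
    rcases hr with rfl | rfl
    · simpa [lt23, mul_assoc] using r3
    · simpa [lt23, mul_assoc] using r1)

theorem hom23_of {H : Type*} [Group H] (g : ℕ → H) (h0 r1 r3) (x : Cfsg.Spor.Fi23.Gen) :
    hom23 g h0 r1 r3 (PresentedGroup.of x) = g (lt23 x) := coxHom_of _ _ _ _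

theorem exists_hom23 [Finite G] [IsTT D] (hD : IsThreeTranspositionGroup D) (hZ : Subgroup.center G = ⊥)
    (hX : T23 D) : ∃ f : Cfsg.Spor.Fi23 →* G, Function.Surjective f ∧
      ∀ x : Cfsg.Spor.Fi23.Gen, f (PresentedGroup.of x) ∈ D := by
  obtain ⟨φ, m, a, b, j, H⟩ := T23.exists_frame hX
  obtain ⟨h1, h3⟩ := H.rel23 hX a a
  have hd := H.diag (H.jb hX) a a
  have hg := H.gen23 hX a a
  generalize pF φ a b j a a = p at h1 h3 hd hg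
  let f := hom23 (fun s => (p s : G)) (fun x y => cox_rel hd (by cases x <;> cases y <;> decide +kernel))
    (prod_eq_of_ev hD hZ p (w' := []) h1) (prod_eq_of_ev hD hZ p (w' := []) h3)
  have hf : ∀ x, f (PresentedGroup.of x) = p (lt23 x) := hom23_of _ _ _ _
  refine ⟨f, surjective_of_forall hD.2.2 f ?_, fun x => hf x ▸ (p _).2⟩
  have := isSub_mem_subgroup (D := D) f.range
  refine hg {x : D | (x : G) ∈ f.range} fun s h1 h2 => ?_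
  interval_cases s
  exacts [⟨_, hf .a⟩, ⟨_, hf .b⟩, ⟨_, hf .c⟩, ⟨_, hf .d⟩, ⟨_, hf .e⟩, ⟨_, hf .f⟩, ⟨_, hf .g⟩, ⟨_, hf .h⟩,
    ⟨_, hf .i⟩, ⟨_, hf .j⟩]

theorem fi23Y [Finite G] (hD : IsThreeTranspositionGroup D) (hp : IsPrimitiveUnderConj D)
    (ht : IsOfTypeM23 G D) : ∃ f : Cfsg.Spor.Fi23 →* G, Function.Surjective f ∧
      ∀ x : Cfsg.Spor.Fi23.Gen, f (PresentedGroup.of x) ∈ D :=
  have := IsTT.of_group hD
  exists_hom23 hD ht.1 (t23_of_type hD hp ht)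

end Cfsg.Lib.Spor.Fi
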