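/-
Type M(24): a frame `Y542` satisfying the defining relations of `Fi24`, given two coset enumerations.
-/
import Cfsg.Agent.Spor.Fi23Geom
import Cfsg.Agent.Gate.Fi23DC
import Cfsg.Agent.Gate.Fi24Z

set_option autoImplicit false

namespace Cfsg.Lib.Spor.Fi

open TQ U6 Cox

universe u

variable {X : Type u} [TQ X]

theorem isCl_cod {φ : Emb T6 X} {S : Set X} [IsSub S] (h : ∀ y, φ.f y ∈ S) {q : X} (hq : q ∈ S) {k : ℕ} :
    IsCl (φ.cod S h) ⟨q, hq⟩ k ↔ IsCl φ q k :=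
  exists_congr fun _ => and_congr_right fun _ => forall_congr' fun _ => iff_congr coe_com Iff.rfl

/-- three commuting points and their common `dperp` -/
structure Base (φ : Emb T6 X) (z m a : X) : Prop where
  mz : m ∈ dperp z
  az : a ∈ dperp z
  ma : m ∈ dperp a
  range : Set.range φ.f = dperp z ∩ (dperp m ∩ dperp a)

theorem dperp_symm {x y : X} (h : x ∈ dperp y) : y ∈ dperp x := ⟨h.1.symm, h.2.symm⟩

namespace Base

variable {φ : Emb T6 X} {z m a : X}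

theorem swap1 (H : Base φ z m a) : Base φ m z a :=
  ⟨dperp_symm H.mz, dperp_symm H.ma, dperp_symm H.az, H.range.trans (Set.inter_left_comm _ _ _)⟩

theorem swap2 (H : Base φ z m a) : Base φ z a m :=
  ⟨H.az, H.mz, dperp_symm H.ma, H.range.trans (by rw [Set.inter_comm (dperp m)])⟩

theorem mem (H : Base φ z m a) (x : T6) : φ.f x ∈ dperp z ∩ (dperp m ∩ dperp a) := H.range ▸ ⟨x, rfl⟩

/-- restriction to `dperp z` -/
def φ' (H : Base φ z m a) : Emb T6 (dperp z) := φ.cod _ fun x => (H.mem x).1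

theorem range' (H : Base φ z m a) : Set.range H.φ'.f = dperp ⟨m, H.mz⟩ ∩ dperp ⟨a, H.az⟩ := by
  rw [dperp_coe, dperp_coe, ← Set.preimage_inter]
  exact range_cod H.range _

theorem mem_z (H : Base φ z m a) {q : X} (h1 : z ⫫ q) (h2 : ¬ a ⫫ q) : q ∈ dperp z :=
  ⟨fun e => h2 (e ▸ H.az.2.symm), h1⟩

theorem exists_cl (H : Base φ z m a) (h : T24 X) {q : X} (h1 : z ⫫ q) (h2 : m ⫫ q) (h3 : ¬ a ⫫ q) :
    ∃ k < 3, IsCl φ q k := by
  obtain ⟨k, hk, hc⟩ := T23.exists_cl (h.loc z) (coe_mem_dperp.2 (dperp_symm H.ma)) H.range'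
    (b := ⟨q, H.mem_z h1 h3⟩) (coe_com.2 h2) (mt coe_com.1 h3)
  exact ⟨k, hk, (isCl_cod _ _).1 hc⟩

theorem exists_type [Finite X] (H : Base φ z m a) (h : T24 X) : ∃ q, z ⫫ q ∧ m ⫫ q ∧ ¬ a ⫫ q := by
  obtain ⟨q, h1, h2⟩ := Fi.exists_type (m := (⟨m, H.mz⟩ : dperp z)) (a := ⟨a, H.az⟩)
    ((h.loc z).loc _).prim (coe_mem_dperp.2 (dperp_symm H.ma))
  exact ⟨q, q.2.2, coe_com.1 h1, fun hc => h2 (coe_com.2 hc)⟩

theorem cl_ne (H : Base φ z m a) (h : T24 X) {p q : X} (p1 : z ⫫ p) (p2 : a ⫫ p) (p3 : ¬ m ⫫ p)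
    (q1 : z ⫫ q) (q2 : m ⫫ q) (q3 : ¬ a ⫫ q) {k : ℕ} (hk : k < 3) (h1 : IsCl φ p k) (h2 : IsCl φ q k) :
    False :=
  T23.cl_ne (h.loc z) (coe_mem_dperp.2 H.ma) H.range' (p := ⟨p, H.swap2.mem_z p1 p3⟩)
    (q := ⟨q, H.mem_z q1 q3⟩) (coe_com.2 p2) (mt coe_com.1 p3) (coe_com.2 q2) (mt coe_com.1 q3) hk
    ((isCl_cod _ _).2 h1) ((isCl_cod _ _).2 h2)

theorem com_iff_cnt (H : Base φ z m a) (h : T24 X) {p q : X} (p1 : z ⫫ p) (p2 : a ⫫ p) (p3 : ¬ m ⫫ p)
    (q1 : z ⫫ q) (q2 : m ⫫ q) (q3 : ¬ a ⫫ q) {P Q : ℕ → Bool} (hP : ∀ x, φ.f x ⫫ p ↔ P x.1 = true)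
    (hQ : ∀ x, φ.f x ⫫ q ↔ Q x.1 = true) {f : ℕ} (hf : (isPt f && P f && Q f) = true) :
    p ⫫ q ↔ cntL pts (fun x => dp f x && P x && Q x) = 18 := by
  simp only [Bool.and_eq_true] at hf
  have := (h.loc z).com_iff_ncard (coe_mem_dperp.2 H.ma) H.range' (p := ⟨p, H.swap2.mem_z p1 p3⟩)
    (q := ⟨q, H.mem_z q1 q3⟩) (coe_com.2 p2) (mt coe_com.1 p3) (coe_com.2 q2) (mt coe_com.1 q3)
    (f := pt f hf.1.1) (coe_com.2 ((hP _).2 hf.1.2)) (coe_com.2 ((hQ _).2 hf.2))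
  rw [coe_com] at this
  rw [this, ncard_eq_cnt (f := fun x => dp f x && P x && Q x)]
  intro x
  rw [Bool.and_eq_true, Bool.and_eq_true, and_assoc, ← hP, ← hQ, Set.mem_ofPred_eq, coe_com, coe_com,
    ← dp_iff]; rfl

end Base

/-- the codes of the points commuting with `k'` -/
def kB (x : ℕ) : Bool := tb O1 (wac [1376] x)

/-- a frame in type M(24) -/
structure Fr24 (φ : Emb T6 X) (l m a b j k' : X) : Prop where
  base : Base φ l m a
  lb : l ⫫ b
  mb : m ⫫ b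
  ab : ¬ a ⫫ b
  hO : ∀ x, φ.f x ⫫ b ↔ tb O0 x.1 = true
  lj : l ⫫ j
  aj : a ⫫ j
  mj : ¬ m ⫫ j
  hJ : ∀ x, φ.f x ⫫ j ↔ jB x.1 = true
  mk' : m ⫫ k'
  ak' : a ⫫ k'
  lk' : ¬ l ⫫ k'
  hK : ∀ x, φ.f x ⫫ k' ↔ kB x.1 = true

theorem T24.exists_frame [Finite X] (h : T24 X) :
    ∃ (φ : Emb T6 X) (l m a b j k' : X), Fr24 φ l m a b j k' := by
  have := h.prim.nontrivial
  obtain ⟨l, -⟩ := exists_pair_ne X
  obtain ⟨a, m, hne, hc⟩ := (h.loc l).wide
  obtain ⟨ψ, hψ⟩ := T23.exists_emb (h.loc l) (m := m) (a := a) ⟨hne, hc.symm⟩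
  have H : Base (ψ.comp (Emb.sub _)) l m a := ⟨m.2, a.2, coe_mem_dperp.1 ⟨hne.symm, hc⟩,
    range_comp_sub (by rw [hψ, dperp_coe, dperp_coe, ← Set.preimage_inter])⟩
  generalize ψ.comp (Emb.sub _) = φ at H
  generalize m.1 = m at H
  generalize a.1 = a at H
  obtain ⟨b, lb, mb, ab⟩ := H.exists_type h
  obtain ⟨j, lj, aj, mj⟩ := H.swap2.exists_type h
  obtain ⟨k, mk, ak, lk⟩ := H.swap1.swap2.exists_type h
  obtain ⟨k1, hk1, c1⟩ := H.exists_cl h lb mb ab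
  obtain ⟨k2, hk2, c2⟩ := H.swap2.exists_cl h lj aj mj
  obtain ⟨k3, hk3, c3⟩ := H.swap1.swap2.exists_cl h mk ak lk
  have n1 : k1 ≠ k2 := by rintro rfl; exact H.cl_ne h lj aj mj lb mb ab hk1 c2 c1
  have n2 : k1 ≠ k3 := by rintro rfl; exact H.swap1.cl_ne h mk ak lk mb lb ab hk1 c3 c1
  have n3 : k3 ≠ k2 := by rintro rfl; exact H.swap2.swap1.cl_ne h ak mk lk aj lj mj hk2 c3 c2
  obtain ⟨α, hα, h0⟩ := exists_aut_O hk1 hk3 hk2 n2 n1 n3
  have H' : Base (φ.pre hα) l m a := ⟨H.mz, H.az, H.ma, by rw [Emb.range_pre, H.range]⟩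
  obtain ⟨b', t1, o1⟩ := IsCl.exists_type (c1.pre hα fun x => (h0 x).1) (one_mem _)
  obtain ⟨j', t2, o2⟩ := IsCl.exists_type (c2.pre hα fun x => (h0 x).2.2) (wp_mem_Inn ([85, 117].map pD))
  obtain ⟨k', t3, o3⟩ := IsCl.exists_type (c3.pre hα fun x => (h0 x).2.1) (wp_mem_Inn ([1376].map pD))
  have tl := fun x => (H'.mem x).1.2.symm
  have tm := fun x => (H'.mem x).2.1.2.symm
  have ta := fun x => (H'.mem x).2.2.2.symm
  exact ⟨φ.pre hα, l, m, a, b', j', k', H', (t1 l tl).2 lb, (t1 m tm).2 mb, mt (t1 a ta).1 ab, o1,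
    (t2 l tl).2 lj, (t2 a ta).2 aj, mt (t2 m tm).1 mj, mem_iff_of_wp (by decide +kernel) o2,
    (t3 m tm).2 mk, (t3 a ta).2 ak, mt (t3 l tl).1 lk, mem_iff_of_wp (by decide +kernel) o3⟩

theorem OntoS3.aut {L : Set X} (h : OntoS3 L) {g : Equiv.Perm X} (hg : g ∈ Aut X) : OntoS3 (g '' L) := by
  obtain ⟨f, h1, h2, h3⟩ := h
  refine ⟨fun x => f (g⁻¹ x), ?_, ?_, ?_⟩
  · rintro _ ⟨x, hx, rfl⟩ _ ⟨y, hy, rfl⟩
    rw [← hg]
    simpa using h1 x hx y hy
  · rintro _ ⟨x, hx, rfl⟩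
    simpa using h2 x hx
  · rw [← h3, Set.image_image]
    simp

theorem s3_one {x y : Equiv.Perm (Fin 3)} (h : x * y * x⁻¹ = y * x * y⁻¹) : x = 1 ↔ y = 1 := by
  constructor
  · rintro rfl; simpa using h
  · rintro rfl; simpa using h.symm

set_option synthInstance.maxSize 1000 in
theorem s3_eq : ∀ x y : Equiv.Perm (Fin 3), x * x = 1 → y * y = 1 → x ≠ 1 → y ≠ 1 → x * y * x⁻¹ = y →
    x = y := by decide

/-- the letters of the generators of `Fi24` -/
def lt24 : Cfsg.Spor.Fi24.Gen → ℕ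
  | .a => 1 | .b => 2 | .c => 3 | .d => 4 | .e => 5 | .f => 6 | .g => 7 | .h => 8 | .i => 9 | .j => 10
  | .k => 11 | .l => 12

/-- the word `u` -/
def nU : List ℕ := [2, 3, 4, 5, 6, 7, 10, 8, 4, 3, 2, 5, 4, 6, 9, 8, 4, 3, 2, 5, 4, 3, 6, 5, 7, 6, 8, 4, 5,
  9, 8, 4, 3, 2, 1]

/-- the word `z` -/
def RZ : List ℕ := pw [4, 3, 2, 1, 11, 12, 4, 5, 6, 7, 10, 4, 8, 9] 17

/-- a word of `W(E8)` -/
def v8 : List ℕ := [1, 2, 3, 4, 5, 11, 1, 2, 3, 4, 8, 4, 5, 6, 3, 4, 5, 2, 3, 4, 8, 1, 2, 3, 4, 5, 11, 1, 2,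
  3, 4, 8, 6, 5, 4, 3, 2, 11]

theorem perm_cox {p : ℕ → X} {V : ℕ} (h : Diag p V) {s t m : ℕ}
    (e : (tb V s && tb V t && Nat.beq m (cond (Nat.beq s t) 1 (cond (adj s t) 3 2))) = true) :
    (toPerm (p s) * toPerm (p t)) ^ m = 1 := by
  simp only [Bool.and_eq_true, Nat.beq_eq] at e
  have h1 := h s t e.1.1 e.1.2
  rw [e.2]
  cases h2 : Nat.beq s t
  · cases h3 : adj s t
    · exact toPerm_mul_sq_of_com (h1.2 h3)
    · exact toPerm_mul_cube_of_ncom fun hc => by simpa [h3] using h1.1 hc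
  · rw [Nat.eq_of_beq_eq_true h2]
    simp

theorem isSub_toPerm_mem (H : Subgroup (Equiv.Perm X)) : IsSub {x : X | toPerm x ∈ H} :=
  ⟨fun x hx y hy => show toPerm (x ▹ y) ∈ H by
    rw [toPerm_act]; exact H.mul_mem (H.mul_mem hx hy) hx⟩

theorem inn_le_of_forall {H : Subgroup (Equiv.Perm X)} (h : ∀ x, toPerm x ∈ H) : Inn X ≤ H :=
  (Subgroup.closure_le _).2 (by rintro _ ⟨x, rfl⟩; exact h x)

/-- The orbits of `⟨b, …, j⟩` in type M(23). -/
theorem Fr23.orbits [Finite X] [hDC : Cfsg.Agent.Gate.Fi23DC] {φ : Emb T6 X} {m a b j : X}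
    (H : Fr23 φ m a b j) (hX : T23 X) (k l : X) {S : Set X}
    (hS : ∀ s, 2 ≤ s → s ≤ 10 → pF φ a b j k l s ∈ S) (y : X) :
    ∃ g ∈ InnOn S, y = g a ∨ y = g b ∨ y = g (ev (pF φ a b j k l) nU.reverse a) := by
  obtain ⟨h1, h3⟩ := H.rel23 hX k l
  have hd := H.diag (H.jb hX) k l
  have hg := H.gen23 hX k l
  have ea : pF φ a b j k l 1 = a := rfl
  have eb : pF φ a b j k l 2 = b := rfl
  generalize pF φ a b j k l = p at h1 h3 hd hg hS ea eb
  subst ea eb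
  let f := hom23 (fun s => toPerm (p s))
    (fun x y => perm_cox hd (by cases x <;> cases y <;> decide +kernel))
    ((ev_eq _ _).symm.trans h1) ((ev_eq _ _).symm.trans h3)
  have hf : ∀ x, f (PresentedGroup.of x) = toPerm (p (lt23 x)) := hom23_of _ _ _ _
  have hr : Inn X ≤ f.range := by
    have := isSub_toPerm_mem f.range
    refine inn_le_of_forall (hg {x | toPerm x ∈ f.range} fun s h1 h2 => ?_)
    interval_cases s
    exacts [⟨_, hf .a⟩, ⟨_, hf .b⟩, ⟨_, hf .c⟩, ⟨_, hf .d⟩, ⟨_, hf .e⟩, ⟨_, hf .f⟩, ⟨_, hf .g⟩, ⟨_, hf .h⟩,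
      ⟨_, hf .i⟩, ⟨_, hf .j⟩]
  obtain ⟨g, hg, rfl⟩ := hX.prim.conn (p 1) y
  obtain ⟨x, rfl⟩ := hr hg
  obtain ⟨κ, hκ, h⟩ := hDC.out x
  have hκ' : f κ ∈ InnOn S := by
    refine (Subgroup.closure_le (K := (InnOn S).comap f)).2 ?_ hκ
    rintro _ ⟨y, hy, rfl⟩
    rw [SetLike.mem_coe, Subgroup.mem_comap, hf]
    refine toPerm_mem_InnOn ?_
    cases y <;> first | exact absurd rfl hy | exact hS _ (by decide) (by decide)
  have hn : f Cfsg.Agent.Gate.fi23N = toPerm (ev p nU.reverse (p 1)) := by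
    rw [toPerm_ev, List.reverse_reverse, ev_eq, Cfsg.Agent.Gate.fi23N, map_list_prod, List.map_map,
      show nU.reverse ++ 1 :: nU = (Cfsg.Agent.Gate.fi23U.reverse ++
        Cfsg.Spor.Fi23.Gen.a :: Cfsg.Agent.Gate.fi23U).map lt23 by decide +kernel, List.map_map]
    exact congrArg _ (List.map_congr_left fun x _ => hf x)
  have key : ∀ r y, f r = toPerm y → x * PresentedGroup.of .a * x⁻¹ = κ * r * κ⁻¹ → f x (p 1) = f κ y := by
    intro r y e1 e2
    have := congrArg f e2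
    rw [map_mul, map_mul, map_mul, map_mul, map_inv, map_inv, hf, e1, Aut.conj (Inn_le_Aut hg),
      Aut.conj (InnOn_le_Aut _ hκ')] at this
    exact Prim.toPerm_inj hX.prim this
  exact ⟨f κ, hκ', h.imp (key _ _ (hf .a)) (Or.imp (key _ _ (hf .b)) (key _ _ hn))⟩

namespace Fr24

variable {φ : Emb T6 X} {l m a b j k' : X}

theorem bl (H : Fr24 φ l m a b j k') : b ∈ dperp l := H.base.mem_z H.lb H.ab

theorem jl (H : Fr24 φ l m a b j k') : j ∈ dperp l := H.base.swap2.mem_z H.lj H.mj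

theorem fr23 (H : Fr24 φ l m a b j k') :
    Fr23 H.base.φ' ⟨m, H.base.mz⟩ ⟨a, H.base.az⟩ ⟨b, H.bl⟩ ⟨j, H.jl⟩ :=
  ⟨coe_mem_dperp.2 (dperp_symm H.base.ma), H.base.range', coe_com.2 H.mb, mt coe_com.1 H.ab,
    fun x => coe_com.trans (H.hO x), coe_com.2 H.aj, mt coe_com.1 H.mj, fun x => coe_com.trans (H.hJ x)⟩

/-- the letters in `dperp l` -/
def q (H : Fr24 φ l m a b j k') : ℕ → dperp l :=
  pF H.base.φ' ⟨a, H.base.az⟩ ⟨b, H.bl⟩ ⟨j, H.jl⟩ ⟨a, H.base.az⟩ ⟨a, H.base.az⟩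

theorem pF_eq (H : Fr24 φ l m a b j k') (k : X) {s : ℕ} (hs : s < 11) : pF φ a b j k l s = (H.q s).1 :=
  (pF_congr' φ a b j k l a a hs).trans (pF_map (Emb.sub _) H.base.φ' ⟨a, H.base.az⟩ ⟨b, H.bl⟩ ⟨j, H.jl⟩
    ⟨a, H.base.az⟩ ⟨a, H.base.az⟩ s)

theorem ev_sub (H : Fr24 φ l m a b j k') (k : X) {w : List ℕ} (hw : allL w (fun s => Nat.blt s 11) = true)
    (x : dperp l) : ev (pF φ a b j k l) w x = (ev H.q w x).1 :=
  Emb_ev (Emb.sub _) (fun s hs => H.pF_eq k (lt_of_allL hw s hs)) x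

theorem ev_l (H : Fr24 φ l m a b j k') (k : X) {w : List ℕ} (hw : allL w (fun s => Nat.blt s 11) = true) :
    ev (pF φ a b j k l) w l = l :=
  InnOn_dperp_apply (ev_mem_InnOn fun s hs => H.pF_eq k (lt_of_allL hw s hs) ▸ Subtype.prop _)

theorem kb (H : Fr24 φ l m a b j k') (hX : T24 X) : ¬ k' ⫫ b := by
  rw [H.base.swap1.com_iff_cnt hX H.mk' H.ak' H.lk' H.mb H.lb H.ab H.hK H.hO (f := 5) (by decide +kernel)]
  decide +kernel

theorem kj (H : Fr24 φ l m a b j k') (hX : T24 X) : k' ⫫ j := by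
  rw [H.base.swap2.swap1.com_iff_cnt hX H.ak' H.mk' H.lk' H.aj H.lj H.mj H.hK H.hJ (f := 5)
    (by decide +kernel)]
  decide +kernel

theorem ckb (H : Fr24 φ l m a b j k') (hX : T24 X) : (φ.f (pt 102) ▹ k') ⫫ b := by
  have h := H.base.mem (pt 102)
  rw [H.base.swap1.com_iff_cnt hX (h.2.1.2.act H.mk') (h.2.2.2.act H.ak') (mt h.1.2.act_iff.1 H.lk')
    H.mb H.lb H.ab (P := fun x => kB (ac 102 x)) (fun x => by rw [← com_act_iff, ← φ.map_act, H.hK]; rfl)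
    H.hO (f := 6) (by decide +kernel)]
  decide +kernel

theorem lk (H : Fr24 φ l m a b j k') : ¬ l ⫫ ((a ▹ b) ▹ k') := by
  rw [(H.base.az.2.act H.lb).act_iff]; exact H.lk'

theorem diag (H : Fr24 φ l m a b j k') (hX : T24 X) : Diag (pF φ a b j ((a ▹ b) ▹ k') l) 8190 := by
  have h0 : Diag (pF φ a b j ((a ▹ b) ▹ k') l) 2046 := by
    intro s t hs ht
    have h1 : ∀ s, tb 2046 s = true → s < 11 := fun s hs => by
      have := tb_lt (by decide) hs
      interval_cases s <;> first | omega | exact absurd hs (by decide +kernel)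
    rw [H.pF_eq _ (h1 s hs), H.pF_eq _ (h1 t ht), ← coe_com]
    exact H.fr23.diag (H.fr23.jb (hX.loc l)) _ _ s t hs ht
  refine Diag.ext_one (V := 4094) (Diag.ext_one h0 11 4094 (by decide +kernel) fun t ht h1 => ?_) 12 8190
    (by decide +kernel) fun t ht h1 => ?_
  · show ((a ▹ b) ▹ k') ⫫ _ ↔ _
    rw [com_act_iff]
    by_cases e1 : t = 1
    · subst e1
      refine iff_of_false ?_ (by decide +kernel)
      show ¬ k' ⫫ ((a ▹ b) ▹ a)
      rw [act_act_left H.ab]; exact H.kb hX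
    by_cases e2 : t = 2
    · subst e2
      refine iff_of_true ?_ (by decide +kernel)
      show k' ⫫ ((a ▹ b) ▹ b)
      rw [act_act_left' H.ab]; exact H.ak'.symm
    by_cases e3 : t = 3
    · subst e3
      refine iff_of_true ?_ (by decide +kernel)
      rw [pF_T _ _ _ _ _ _ (by decide +kernel), show cd 3 = (pt 102).1 by decide +kernel, pD_val, act_act_act,
        (H.base.mem _).2.2.2.eq, H.ak'.symm.act_iff, act_comm, ← com_act_iff]
      · exact H.ckb hX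
      · rw [com_comm, H.hO]; decide +kernel
    have hab : (a ▹ b) ⫫ pF φ a b j ((a ▹ b) ▹ k') l t := by
      have h2 : (tb 2046 t && !(adj t 1) && !(adj t 2)) = true := by
        interval_cases t <;> first
          | exact absurd rfl e1
          | exact absurd rfl e2
          | exact absurd rfl e3
          | exact absurd h1 (by decide +kernel)
          | decide +kernel
      simp only [Bool.and_eq_true, Bool.not_eq_true'] at h2
      exact (((h0 t 1 h2.1.1 (by decide +kernel)).2 h2.1.2).act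
        ((h0 t 2 h2.1.1 (by decide +kernel)).2 h2.2)).symm
    rw [hab.eq]
    by_cases e4 : t = 10
    · subst e4; exact iff_of_true (H.kj hX) (by decide +kernel)
    have h2 : (tb TL t && (kB (cd t) == !(adj 11 t))) = true := by
      interval_cases t <;> first
        | exact absurd rfl e1
        | exact absurd rfl e2
        | exact absurd rfl e3
        | exact absurd rfl e4
        | exact absurd h1 (by decide +kernel)
        | decide +kernel
    rw [Bool.and_eq_true, beq_iff_eq] at h2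
    rw [pF_T _ _ _ _ _ _ h2.1, com_comm]
    refine (H.hK _).trans ?_
    rw [val_pD (isPt_cd h2.1), h2.2, Bool.not_eq_true']
  · by_cases e : t = 11
    · subst e; exact iff_of_false H.lk (by decide +kernel)
    have h2 : t < 11 ∧ adj 12 t = false := by
      interval_cases t <;> first
        | exact absurd rfl e
        | exact absurd h1 (by decide +kernel)
        | exact ⟨by omega, by decide +kernel⟩
    rw [H.pF_eq _ h2.1]
    exact iff_of_true (H.q t).2.2 h2.2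

theorem relR1 [Finite X] (H : Fr24 φ l m a b j k') (hX : T24 X) :
    ev (pF φ a b j ((a ▹ b) ▹ k') l) R1 = toPerm l := by
  have hD := H.diag hX
  have h1 := (H.fr23.rel23 (hX.loc l) ⟨a, H.base.az⟩ ⟨a, H.base.az⟩).1
  have hw : allL R1 (fun s => Nat.blt s 11) = true := by decide +kernel
  refine (hX.prim.eq_one_or_of_fix hX.wide hX.fib2 (ev_mem_Aut _ _) (H.ev_l _ hw)
    fun x hx => ?_).resolve_left fun e => ?_
  · rw [H.ev_sub _ hw ⟨x, hx⟩, q, h1]; rfl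
  · have e1 := pt_eq hD hX.prim R1 11 (v8 ++ [1]) 11 (by decide +kernel)
    have e2 := pt_eq hD hX.prim v8 11 [] 11 (by decide +kernel)
    rw [e, ev_append, ← ev_nil (pF φ a b j ((a ▹ b) ▹ k') l), ← e2, Equiv.Perm.mul_apply,
      (ev _ v8).injective.eq_iff] at e1
    exact absurd ((hD 1 11 (by decide +kernel) (by decide +kernel)).1 (by simpa [Com] using e1.symm))
      (by decide +kernel)

theorem relR3 [Finite X] (H : Fr24 φ l m a b j k') (hX : T24 X) :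
    ev (pF φ a b j ((a ▹ b) ▹ k') l) R3 = 1 := by
  have h1 := (H.fr23.rel23 (hX.loc l) ⟨a, H.base.az⟩ ⟨a, H.base.az⟩).2
  have hw : allL R3 (fun s => Nat.blt s 11) = true := by decide +kernel
  have h2 : (tb 8190 11 && allL R3 fun s => tb 8190 s && !(adj s 11)) = true := by decide +kernel
  have h4 := ev_fix (H.diag hX) h2
  have h5 := H.ev_l ((a ▹ b) ▹ k') hw
  have h6 : ∀ x ∈ dperp l, ev (pF φ a b j ((a ▹ b) ▹ k') l) R3 x = x := fun x hx => by
    rw [H.ev_sub _ hw ⟨x, hx⟩, q, h1]; rfl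
  have h7 := ev_mem_Aut (pF φ a b j ((a ▹ b) ▹ k') l) R3
  generalize ev (pF φ a b j ((a ▹ b) ▹ k') l) R3 = g at h4 h5 h6 h7 ⊢
  exact hX.prim.eq_one_of_fix hX.wide h7 h5 h6 H.lk h4

theorem gen24 [Finite X] (H : Fr24 φ l m a b j k') (hX : T24 X) (S : Set X) [hS : IsSub S]
    (h : ∀ s, 1 ≤ s → s ≤ 12 → pF φ a b j ((a ▹ b) ▹ k') l s ∈ S) (y : X) : y ∈ S := by
  have := (Emb.sub (dperp l)).isSub_preimage S
  refine hX.prim.eq_univ hX.wide (h 12 (by omega) (by omega)) (fun x hx => ?_) H.lk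
    (h 11 (by omega) (by omega)) y
  exact H.fr23.gen23 (hX.loc l) ⟨a, H.base.az⟩ ⟨a, H.base.az⟩ ((Emb.sub (dperp l)).f ⁻¹' S)
    (fun s h1 h2 => by
      have := h s h1 (by omega)
      rwa [H.pF_eq _ (by omega)] at this) ⟨x, hx⟩

theorem kn [Finite X] [Cfsg.Agent.Gate.Fi23DC] (H : Fr24 φ l m a b j k') (hX : T24 X) {d c : X}
    (hdc : ¬ d ⫫ c) (h3 : OntoS3 (dperp d ∩ dperp c)) :
    ((a ▹ b) ▹ k') ⫫ ev (pF φ a b j ((a ▹ b) ▹ k') l) nU.reverse a := by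
  have hD := H.diag hX
  have hlk := H.lk
  have hp := @pF_eq _ _ _ _ _ _ _ _ _ H ((a ▹ b) ▹ k')
  have hn := H.ev_sub ((a ▹ b) ▹ k') (w := nU.reverse) (by decide +kernel) ⟨a, H.base.az⟩
  rw [Subtype.coe_mk] at hn
  have ek : pF φ a b j ((a ▹ b) ▹ k') l 11 = (a ▹ b) ▹ k' := rfl
  have ea : pF φ a b j ((a ▹ b) ▹ k') l 1 = a := rfl
  have eb : pF φ a b j ((a ▹ b) ▹ k') l 2 = b := rfl
  generalize pF φ a b j ((a ▹ b) ▹ k') l = p at hD hp hn ek ea eb ⊢
  generalize (a ▹ b) ▹ k' = k at hlk ek ⊢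
  by_contra hkn
  obtain ⟨g, hg, rfl, rfl⟩ := hX.prim.exists_ncom_pair hX.wide hdc hlk
  have hL : g '' (dperp d ∩ dperp c) = dperp (g d) ∩ dperp (g c) := by
    ext x
    obtain ⟨x, rfl⟩ := g.surjective x
    simp only [g.injective.mem_set_image, Set.mem_inter_iff, Aut.mem_dperp (Inn_le_Aut hg)]
  obtain ⟨f, f1, f2, f3⟩ := hL ▸ OntoS3.aut h3 (Inn_le_Aut hg)
  generalize g d = l at *
  generalize g c = k at *
  have hmem : ∀ x : dperp l, k ⫫ x.1 → x.1 ∈ dperp l ∩ dperp k := fun x hx =>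
    ⟨x.2, fun e => hlk (e ▸ x.2.2), hx⟩
  have hs : ∀ s, 2 ≤ s → s ≤ 10 → p s ∈ dperp l ∩ dperp k := fun s h1 h2 => by
    rw [hp (by omega)]
    refine hmem _ ?_
    rw [← hp (by omega), ← ek]
    interval_cases s <;> exact (hD 11 _ (by decide +kernel) (by decide +kernel)).2 (by decide +kernel)
  have br : ∀ s t, 2 ≤ s → s ≤ 10 → 2 ≤ t → t ≤ 10 → (tb 8190 s && tb 8190 t && adj s t) = true →
      (f (p s) = 1 ↔ f (p t) = 1) := fun s t h1 h2 h3 h4 e => by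
    simp only [Bool.and_eq_true] at e
    refine s3_one ?_
    rw [← f1 _ (hs s h1 h2) _ (hs t h3 h4), ← f1 _ (hs t h3 h4) _ (hs s h1 h2), act_comm]
    exact fun hc => by simpa [e.2] using (hD s t e.1.1 e.1.2).1 hc
  have cm : ∀ s t, 2 ≤ s → s ≤ 10 → 2 ≤ t → t ≤ 10 → (tb 8190 s && tb 8190 t && !(adj s t)) = true →
      (f (p s) = 1 ↔ f (p t) = 1) → f (p s) = f (p t) := fun s t h1 h2 h3 h4 e e' => by
    simp only [Bool.and_eq_true, Bool.not_eq_true'] at e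
    by_cases h0 : f (p s) = 1
    · rw [h0, e'.1 h0]
    refine s3_eq _ _ (f2 _ (hs s h1 h2)) (f2 _ (hs t h3 h4)) h0 (mt e'.2 h0) ?_
    rw [← f1 _ (hs s h1 h2) _ (hs t h3 h4), ((hD s t e.1.1 e.1.2).2 e.2).eq]
  have b3 := br 2 3 (by omega) (by omega) (by omega) (by omega) (by decide +kernel)
  have b4 := b3.trans (br 3 4 (by omega) (by omega) (by omega) (by omega) (by decide +kernel))
  have b5 := b4.trans (br 4 5 (by omega) (by omega) (by omega) (by omega) (by decide +kernel))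
  have b6 := b5.trans (br 5 6 (by omega) (by omega) (by omega) (by omega) (by decide +kernel))
  have b7 := b6.trans (br 6 7 (by omega) (by omega) (by omega) (by omega) (by decide +kernel))
  have b8 := b4.trans (br 4 8 (by omega) (by omega) (by omega) (by omega) (by decide +kernel))
  have b9 := b8.trans (br 8 9 (by omega) (by omega) (by omega) (by omega) (by decide +kernel))
  have b10 := b7.trans (br 7 10 (by omega) (by omega) (by omega) (by omega) (by decide +kernel))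
  have c5 := cm 2 5 (by omega) (by omega) (by omega) (by omega) (by decide +kernel) b5
  have hall : ∀ s, 2 ≤ s → s ≤ 10 → f (p s) = f (p 2) := fun s h1 h2 => by
    interval_cases s
    · rfl
    · exact (cm 3 5 (by omega) (by omega) (by omega) (by omega) (by decide +kernel)
        (b3.symm.trans b5)).trans c5.symm
    · exact (cm 2 4 (by omega) (by omega) (by omega) (by omega) (by decide +kernel) b4).symm
    · exact c5.symm
    · exact (cm 2 6 (by omega) (by omega) (by omega) (by omega) (by decide +kernel) b6).symm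
    · exact (cm 2 7 (by omega) (by omega) (by omega) (by omega) (by decide +kernel) b7).symm
    · exact (cm 2 8 (by omega) (by omega) (by omega) (by omega) (by decide +kernel) b8).symm
    · exact (cm 2 9 (by omega) (by omega) (by omega) (by omega) (by decide +kernel) b9).symm
    · exact (cm 2 10 (by omega) (by omega) (by omega) (by omega) (by decide +kernel) b10).symm
  let S : Set (dperp l) := {x | k ⫫ x.1 ∧ f x.1 = f (p 2)}
  have hSS : ∀ x ∈ S, ∀ y ∈ S, x ▹ y ∈ S := fun x hx y hy =>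
    ⟨hx.1.act hy.1, by
      rw [coe_act, f1 _ (hmem x hx.1) _ (hmem y hy.1), hx.2, hy.2, mul_inv_cancel_right]⟩
  have hqS : ∀ s, 2 ≤ s → s ≤ 10 → H.q s ∈ S := fun s h1 h2 =>
    ⟨hp (s := s) (by omega) ▸ (hs s h1 h2).2.2, by rw [← hp (by omega), hall s h1 h2]⟩
  have hconst : ∀ y ∈ dperp l ∩ dperp k, f y = f (p 2) := by
    intro y hy
    obtain ⟨v, hv, e⟩ := Fr23.orbits H.fr23 (hX.loc l) ⟨a, H.base.az⟩ ⟨a, H.base.az⟩ hqS ⟨y, hy.1⟩
    have back : ∀ x : dperp l, ⟨y, hy.1⟩ = v x → k ⫫ x.1 := fun x e => by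
      have := InnOn_apply_mem (S := S) (T := {x : dperp l | k ⫫ x.1})
        (fun x hx y hy => Com.act hx.1 hy) (inv_mem hv) (y := ⟨y, hy.1⟩) hy.2.2
      rw [e] at this
      simpa using this
    rcases e with e | e | e
    · have : k ⫫ a := back _ e
      rw [← ek, ← ea] at this
      exact absurd ((hD 11 1 (by decide +kernel) (by decide +kernel)).1 this) (by decide +kernel)
    · have := InnOn_apply_mem hSS hv (hqS 2 (by omega) (by omega))
      exact (show (⟨y, hy.1⟩ : dperp l) ∈ S from e ▸ this).2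
    · refine absurd (back _ e) ?_
      rw [hn] at hkn
      exact hkn
  have : Subgroup.closure (f '' (dperp l ∩ dperp k)) ≤ Subgroup.centralizer {f (p 2)} ⊓
      Subgroup.zpowers (f (p 2)) := by
    rw [Subgroup.closure_le]
    rintro _ ⟨y, hy, rfl⟩
    rw [hconst y hy]
    exact ⟨by simp [Subgroup.mem_centralizer_iff], Subgroup.mem_zpowers _⟩
  rw [f3] at this
  obtain ⟨i, hi⟩ := (this (Subgroup.mem_top (Equiv.swap 0 1))).2
  obtain ⟨i', hi'⟩ := (this (Subgroup.mem_top (Equiv.swap 1 2))).2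
  have := (Commute.refl (f (p 2))).zpow_zpow i i'
  simp only at hi hi'
  rw [hi, hi'] at this
  exact absurd this.eq (by decide)

theorem relZ [Finite X] [Cfsg.Agent.Gate.Fi23DC] [hZ : Cfsg.Agent.Gate.Fi24Z.{u}]
    (H : Fr24 φ l m a b j k') (hX : T24 X) {d c : X} (hdc : ¬ d ⫫ c)
    (h3 : OntoS3 (dperp d ∩ dperp c)) : ev (pF φ a b j ((a ▹ b) ▹ k') l) RZ = 1 := by
  have hD := H.diag hX
  have r1 := H.relR1 hX
  have r3 := H.relR3 hX
  have hg := H.gen24 hX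
  have hn := toPerm_mul_sq_of_com (H.kn hX hdc h3)
  have ek : pF φ a b j ((a ▹ b) ▹ k') l 11 = (a ▹ b) ▹ k' := rfl
  have ea : pF φ a b j ((a ▹ b) ▹ k') l 1 = a := rfl
  have el : pF φ a b j ((a ▹ b) ▹ k') l 12 = l := rfl
  generalize pF φ a b j ((a ▹ b) ▹ k') l = p at hD r1 r3 hg hn ek ea el ⊢
  rw [← ek, ← ea, toPerm_ev, List.reverse_reverse, ev_eq,
    show nU.reverse ++ 1 :: nU = (Cfsg.Agent.Gate.fi24U.reverse ++
      Cfsg.Spor.Fi24.Gen.a :: Cfsg.Agent.Gate.fi24U).map lt24 by decide +kernel, List.map_map] at hn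
  subst el
  rw [R1, ev_pw] at r1
  rw [R3, ev_pw] at r3
  have := hZ.out (fun x => toPerm (p (lt24 x)))
    (fun x y => perm_cox hD (by cases x <;> cases y <;> decide +kernel))
    (by simpa [lt24, mul_assoc] using r1.symm) (by simpa [lt24, mul_assoc] using r3) hn
  have hr : Inn X ≤ Subgroup.closure (Set.range fun x => toPerm (p (lt24 x))) := by
    have := isSub_toPerm_mem (Subgroup.closure (Set.range fun x => toPerm (p (lt24 x))))
    refine inn_le_of_forall (hg {x | toPerm x ∈ Subgroup.closure (Set.range fun x => toPerm (p (lt24 x)))}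
      fun s h1 h2 => ?_)
    refine Subgroup.subset_closure (k := Set.range fun x => toPerm (p (lt24 x))) ?_
    interval_cases s
    exacts [⟨.a, rfl⟩, ⟨.b, rfl⟩, ⟨.c, rfl⟩, ⟨.d, rfl⟩, ⟨.e, rfl⟩, ⟨.f, rfl⟩, ⟨.g, rfl⟩, ⟨.h, rfl⟩,
      ⟨.i, rfl⟩, ⟨.j, rfl⟩, ⟨.k, rfl⟩, ⟨.l, rfl⟩]
  ext y
  obtain ⟨g, hg, rfl⟩ := hX.prim.conn (p 12) y
  have h1 : Subgroup.closure ((fun x => toPerm (p (lt24 x))) '' {y | y ≠ Cfsg.Spor.Fi24.Gen.k}) ≤
      InnOn (perp (p 12)) := by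
    rw [Subgroup.closure_le]
    rintro _ ⟨y, hy, rfl⟩
    refine toPerm_mem_InnOn ((hD 12 _ (by decide +kernel) ?_).2 ?_) <;>
      cases y <;> first | exact absurd rfl hy | decide +kernel
  have h2 := InnOn_perp_apply (h1 (this g (hr hg)))
  rw [Equiv.Perm.mul_apply, Equiv.Perm.mul_apply, Equiv.Perm.inv_eq_iff_eq] at h2
  rw [RZ, ev_pw]
  simpa [lt24, mul_assoc] using h2

end Fr24

variable {G : Type u} [Group G] {D : Set G}

theorem t24_of_type [Finite G] (hD : IsThreeTranspositionGroup D) (hp : IsPrimitiveUnderConj D)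
    (ht : IsOfTypeM24 G D) : haveI := IsTT.of_group hD
      T24 D ∧ ∃ d c : D, ¬ d ⫫ c ∧ OntoS3 (dperp d ∩ dperp c) := by
  have := IsTT.of_group hD
  obtain ⟨⟨d, d', e, he⟩, h⟩ := q24_of_type (rep_coe D) Subtype.val_injective (by rwa [Subtype.range_coe])
  exact ⟨t24_of_q0 ((prim_iff hD.2.2).2 hp) he, h⟩

theorem fi24Y [Finite G] [Cfsg.Agent.Gate.Fi23DC] [Cfsg.Agent.Gate.Fi24Z.{u}]
    (hD : IsThreeTranspositionGroup D) (hp : IsPrimitiveUnderConj D) (ht : IsOfTypeM24 G D) :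
    ∃ f : Cfsg.Spor.Fi24 →* G, Function.Surjective f ∧
      ∀ x : Cfsg.Spor.Fi24.Gen, f (PresentedGroup.of x) ∈ D := by
  have := IsTT.of_group hD
  obtain ⟨hX, d, c, hdc, h3⟩ := t24_of_type hD hp ht
  obtain ⟨φ, l, m, a, b, j, k', H⟩ := T24.exists_frame hX
  have hd := H.diag hX
  have h1 := H.relR1 hX
  have h2 := H.relZ hX hdc h3
  have hg := H.gen24 hX
  have el : pF φ a b j ((a ▹ b) ▹ k') l 12 = l := rfl
  generalize pF φ a b j ((a ▹ b) ▹ k') l = p at hd h1 h2 hg el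
  have r1 := prod_eq_of_ev hD ht.1 p (w := R1) (w' := [12]) (by rw [h1, ← el]; simp)
  have r2 := prod_eq_of_ev hD ht.1 p (w' := []) h2
  rw [R1, prod_pw] at r1
  rw [RZ, prod_pw] at r2
  let f : Cfsg.Spor.Fi24 →* G := coxHom (fun x => (p (lt24 x) : G))
    (fun x y => cox_rel hd (by cases x <;> cases y <;> decide +kernel)) (by
      intro r hr
      simp only [Cfsg.Spor.Fi24.extra, List.mem_cons, List.not_mem_nil, or_false] at hr
      rcases hr with rfl | rfl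
      · simpa [lt24, mul_assoc, mul_inv_eq_one] using r1.symm
      · simpa [lt24, mul_assoc] using r2)
  have hf : ∀ x, f (PresentedGroup.of x) = p (lt24 x) := coxHom_of _ _ _
  refine ⟨f, surjective_of_forall hD.2.2 f ?_, fun x => hf x ▸ (p _).2⟩
  have := isSub_mem_subgroup (D := D) f.range
  refine hg {x : D | (x : G) ∈ f.range} fun s h1 h2 => ?_
  interval_cases s
  exacts [⟨_, hf .a⟩, ⟨_, hf .b⟩, ⟨_, hf .c⟩, ⟨_, hf .d⟩, ⟨_, hf .e⟩, ⟨_, hf .f⟩, ⟨_, hf .g⟩, ⟨_, hf .h⟩,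
    ⟨_, hf .i⟩, ⟨_, hf .j⟩, ⟨_, hf .k⟩, ⟨_, hf .l⟩]

end Cfsg.Lib.Spor.Fi
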