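import Cfsg.Agent.Spor.Fi24TabC

set_option autoImplicit false
set_option maxRecDepth 100000
set_option Elab.async false

namespace Cfsg.Lib.Spor.Fi24P

open Cfsg.Lib.Spor.Bulk

theorem fi24a_j12 : (band (fi24a_C.just 13 idI fi24a_R fi24a_U [1,2,3,4,5,6,7,8,9,10,11,12] 1 (Nat.land (Nat.land (Nat.land (ones 306936) fi24a_a1_0) fi24a_a1_1) fi24a_a1_2) false [⟨2,0,[],[],0,0,0⟩]) <|
  band (fi24a_C.just 13 idI fi24a_R fi24a_U [1,2,3,4,5,6,7,8,9,10,11,12] 2 (Nat.land (Nat.land (Nat.land (ones 306936) fi24a_a2_0) fi24a_a2_1) fi24a_a2_2) false [⟨2,0,[],[],1,0,0⟩]) <|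
  band (fi24a_C.just 13 idI fi24a_R fi24a_U [1,2,3,4,5,6,7,8,9,10,11,12] 3 (Nat.land (Nat.land (Nat.land (ones 306936) fi24a_a3_0) fi24a_a3_1) fi24a_a3_2) false [⟨1,3,[3],[],0,2,0⟩, ⟨1,59,[3],[],0,2,0⟩, ⟨2,0,[],[],2,0,0⟩, ⟨2,2,[5,4,8,9,2,3,4,8,5,4,3,2,1,12,11],[4,8,9,1,2,3,4,8,5,4,3,2,1,11],11,0,0⟩]) <|
  band (fi24a_C.just 13 idI fi24a_R fi24a_U [1,2,3,4,5,6,7,8,9,10,11,12] 4 (Nat.land (Nat.land (Nat.land (ones 306936) fi24a_a4_0) fi24a_a4_1) fi24a_a4_2) false [⟨1,1,[4],[],0,2,0⟩, ⟨2,0,[],[],3,0,0⟩]) <|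
  band (fi24a_C.just 13 idI fi24a_R fi24a_U [1,2,3,4,5,6,7,8,9,10,11,12] 5 (Nat.land (Nat.land (Nat.land (Nat.land (ones 306936) fi24a_a5_0) fi24a_a5_1) fi24a_a5_2) fi24a_a5_3) false [⟨1,1,[5],[],0,2,0⟩, ⟨2,0,[],[],4,0,0⟩]) <|
  band (fi24a_C.just 13 idI fi24a_R fi24a_U [1,2,3,4,5,6,7,8,9,10,11,12] 6 (Nat.land (Nat.land (Nat.land (Nat.land (ones 306936) fi24a_a6_0) fi24a_a6_1) fi24a_a6_2) fi24a_a6_3) false [⟨1,1,[6],[],0,2,0⟩, ⟨2,0,[],[],5,0,0⟩]) <|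
  band (fi24a_C.just 13 idI fi24a_R fi24a_U [1,2,3,4,5,6,7,8,9,10,11,12] 7 (Nat.land (Nat.land (Nat.land (Nat.land (ones 306936) fi24a_a7_0) fi24a_a7_1) fi24a_a7_2) fi24a_a7_3) false [⟨2,0,[],[],6,0,0⟩]) <|
  band (fi24a_C.just 13 idI fi24a_R fi24a_U [1,2,3,4,5,6,7,8,9,10,11,12] 8 (Nat.land (Nat.land (Nat.land (Nat.land (ones 306936) fi24a_a8_0) fi24a_a8_1) fi24a_a8_2) fi24a_a8_3) false [⟨1,1,[8],[],0,2,0⟩, ⟨2,0,[],[],7,0,0⟩]) <|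
  band (fi24a_C.just 13 idI fi24a_R fi24a_U [1,2,3,4,5,6,7,8,9,10,11,12] 9 (dif (Nat.land (Nat.land (ones 306936) fi24a_a9_0) fi24a_a9_1) fi24a_a9_2) false [⟨1,1,[9],[],0,2,0⟩, ⟨1,3,[9],[],0,2,0⟩, ⟨2,0,[],[],8,0,0⟩]) <|
  band (fi24a_C.just 13 idI fi24a_R fi24a_U [1,2,3,4,5,6,7,8,9,10,11,12] 10 (Nat.land (Nat.land (Nat.land (Nat.land (ones 306936) fi24a_a10_0) fi24a_a10_1) fi24a_a10_2) fi24a_a10_3) false [⟨2,0,[],[],9,0,0⟩]) <|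
  band (fi24a_C.just 13 idI fi24a_R fi24a_U [1,2,3,4,5,6,7,8,9,10,11,12] 12 (Nat.land (Nat.land (ones 306936) fi24a_a12_0) fi24a_a12_1) false [⟨2,0,[],[],10,0,0⟩]) <|
  true) = true := by decide +kernel
theorem fi24a_j13 : (band (fi24a_C.just 13 idI fi24a_R fi24a_U [1,2,3,4,5,6,7,8,9,10,11,12] 9 (dif (Nat.land (Nat.land (Nat.land (ones 306936) fi24a_a9_0) fi24a_a9_1) fi24a_a9_2) fi24a_a9_3) false [⟨2,2,[8,4,5,3,4,8,9,6,5,4,8,7,6,5,4,2,3,1,2,11,1,12,11],[2,3,4,8,5,6,4,5,3,4,8,7,6,5,4,3,1,2,11,1,12,11],12,0,0⟩]) <|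
  true) = true := by decide +kernel
theorem fi24a_j14 : (band (fi24a_C.just 13 idI fi24a_R fi24a_U [1,2,3,4,5,6,7,8,9,10,11,12] 9 (Nat.land (Nat.land (Nat.land (Nat.land (ones 306936) fi24a_a9_0) fi24a_a9_1) fi24a_a9_2) fi24a_a9_3) false [⟨2,2,[8,4,5,3,4,8,6,7,5,6,2,3,4,5,1,2,3,4,8,9,6,4,5,2,3,4,8,10,7,6,5,4,3,2,1,11],[8,4,5,3,4,8,6,7,5,6,2,3,4,5,1,2,3,4,8,9,6,4,5,2,3,4,8,10,7,6,5,4,3,2,1,11],13,0,0⟩]) <|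
  true) = true := by decide +kernel

end Cfsg.Lib.Spor.Fi24P
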