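import Cfsg.Agent.Spor.Fi24TabT

set_option autoImplicit false
set_option maxRecDepth 100000
set_option Elab.async false

namespace Cfsg.Lib.Spor.Fi24P

open Cfsg.Lib.Spor.Bulk

theorem fi24a_r1_5 : eqsOn fi24a_T 306936 19 (relPairs idI [[7,4,7,4],[10,4,10,4],[8,4,8,4,8,4],[9,4,9,4],[6,5,6,5,6,5],[7,5,7,5],[10,5,10,5],[8,5,8,5],[9,5,9,5],[7,6,7,6,7,6],[10,6,10,6],[8,6,8,6],[9,6,9,6],[10,7,10,7,10,7],[8,7,8,7],[9,7,9,7],[8,10,8,10],[9,10,9,10],[9,8,9,8,9,8],[1,2,3,4,5,6,8,1,2,3,4,5,6,8,1,2,3,4,5,6,8,1,2,3,4,5,6,8,1,2,3,4,5,6,8,1,2,3,4,5,6,8,1,2,3,4,5,6,8,1,2,3,4,5,6,8,1,2,3,4,5,6,8,12]]) 5 1 = true := by decide +kernel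
theorem fi24a_r1_6 : eqsOn fi24a_T 306936 19 (relPairs idI [[7,4,7,4],[10,4,10,4],[8,4,8,4,8,4],[9,4,9,4],[6,5,6,5,6,5],[7,5,7,5],[10,5,10,5],[8,5,8,5],[9,5,9,5],[7,6,7,6,7,6],[10,6,10,6],[8,6,8,6],[9,6,9,6],[10,7,10,7,10,7],[8,7,8,7],[9,7,9,7],[8,10,8,10],[9,10,9,10],[9,8,9,8,9,8],[1,2,3,4,5,6,8,1,2,3,4,5,6,8,1,2,3,4,5,6,8,1,2,3,4,5,6,8,1,2,3,4,5,6,8,1,2,3,4,5,6,8,1,2,3,4,5,6,8,1,2,3,4,5,6,8,1,2,3,4,5,6,8,12]]) 6 1 = true := by decide +kernel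
theorem fi24a_r1_7 : eqsOn fi24a_T 306936 19 (relPairs idI [[7,4,7,4],[10,4,10,4],[8,4,8,4,8,4],[9,4,9,4],[6,5,6,5,6,5],[7,5,7,5],[10,5,10,5],[8,5,8,5],[9,5,9,5],[7,6,7,6,7,6],[10,6,10,6],[8,6,8,6],[9,6,9,6],[10,7,10,7,10,7],[8,7,8,7],[9,7,9,7],[8,10,8,10],[9,10,9,10],[9,8,9,8,9,8],[1,2,3,4,5,6,8,1,2,3,4,5,6,8,1,2,3,4,5,6,8,1,2,3,4,5,6,8,1,2,3,4,5,6,8,1,2,3,4,5,6,8,1,2,3,4,5,6,8,1,2,3,4,5,6,8,1,2,3,4,5,6,8,12]]) 7 1 = true := by decide +kernel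
theorem fi24a_r1_8 : eqsOn fi24a_T 306936 19 (relPairs idI [[7,4,7,4],[10,4,10,4],[8,4,8,4,8,4],[9,4,9,4],[6,5,6,5,6,5],[7,5,7,5],[10,5,10,5],[8,5,8,5],[9,5,9,5],[7,6,7,6,7,6],[10,6,10,6],[8,6,8,6],[9,6,9,6],[10,7,10,7,10,7],[8,7,8,7],[9,7,9,7],[8,10,8,10],[9,10,9,10],[9,8,9,8,9,8],[1,2,3,4,5,6,8,1,2,3,4,5,6,8,1,2,3,4,5,6,8,1,2,3,4,5,6,8,1,2,3,4,5,6,8,1,2,3,4,5,6,8,1,2,3,4,5,6,8,1,2,3,4,5,6,8,1,2,3,4,5,6,8,12]]) 8 1 = true := by decide +kernel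
theorem fi24a_r1_9 : eqsOn fi24a_T 306936 19 (relPairs idI [[7,4,7,4],[10,4,10,4],[8,4,8,4,8,4],[9,4,9,4],[6,5,6,5,6,5],[7,5,7,5],[10,5,10,5],[8,5,8,5],[9,5,9,5],[7,6,7,6,7,6],[10,6,10,6],[8,6,8,6],[9,6,9,6],[10,7,10,7,10,7],[8,7,8,7],[9,7,9,7],[8,10,8,10],[9,10,9,10],[9,8,9,8,9,8],[1,2,3,4,5,6,8,1,2,3,4,5,6,8,1,2,3,4,5,6,8,1,2,3,4,5,6,8,1,2,3,4,5,6,8,1,2,3,4,5,6,8,1,2,3,4,5,6,8,1,2,3,4,5,6,8,1,2,3,4,5,6,8,12]]) 9 1 = true := by decide +kernel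
theorem fi24a_r1_10 : eqsOn fi24a_T 306936 19 (relPairs idI [[7,4,7,4],[10,4,10,4],[8,4,8,4,8,4],[9,4,9,4],[6,5,6,5,6,5],[7,5,7,5],[10,5,10,5],[8,5,8,5],[9,5,9,5],[7,6,7,6,7,6],[10,6,10,6],[8,6,8,6],[9,6,9,6],[10,7,10,7,10,7],[8,7,8,7],[9,7,9,7],[8,10,8,10],[9,10,9,10],[9,8,9,8,9,8],[1,2,3,4,5,6,8,1,2,3,4,5,6,8,1,2,3,4,5,6,8,1,2,3,4,5,6,8,1,2,3,4,5,6,8,1,2,3,4,5,6,8,1,2,3,4,5,6,8,1,2,3,4,5,6,8,1,2,3,4,5,6,8,12]]) 10 1 = true := by decide +kernel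
theorem fi24a_r1_11 : eqsOn fi24a_T 306936 19 (relPairs idI [[7,4,7,4],[10,4,10,4],[8,4,8,4,8,4],[9,4,9,4],[6,5,6,5,6,5],[7,5,7,5],[10,5,10,5],[8,5,8,5],[9,5,9,5],[7,6,7,6,7,6],[10,6,10,6],[8,6,8,6],[9,6,9,6],[10,7,10,7,10,7],[8,7,8,7],[9,7,9,7],[8,10,8,10],[9,10,9,10],[9,8,9,8,9,8],[1,2,3,4,5,6,8,1,2,3,4,5,6,8,1,2,3,4,5,6,8,1,2,3,4,5,6,8,1,2,3,4,5,6,8,1,2,3,4,5,6,8,1,2,3,4,5,6,8,1,2,3,4,5,6,8,1,2,3,4,5,6,8,12]]) 11 1 = true := by decide +kernel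
theorem fi24a_r1_12 : eqsOn fi24a_T 306936 19 (relPairs idI [[7,4,7,4],[10,4,10,4],[8,4,8,4,8,4],[9,4,9,4],[6,5,6,5,6,5],[7,5,7,5],[10,5,10,5],[8,5,8,5],[9,5,9,5],[7,6,7,6,7,6],[10,6,10,6],[8,6,8,6],[9,6,9,6],[10,7,10,7,10,7],[8,7,8,7],[9,7,9,7],[8,10,8,10],[9,10,9,10],[9,8,9,8,9,8],[1,2,3,4,5,6,8,1,2,3,4,5,6,8,1,2,3,4,5,6,8,1,2,3,4,5,6,8,1,2,3,4,5,6,8,1,2,3,4,5,6,8,1,2,3,4,5,6,8,1,2,3,4,5,6,8,1,2,3,4,5,6,8,12]]) 12 1 = true := by decide +kernel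
theorem fi24a_r1_13 : eqsOn fi24a_T 306936 19 (relPairs idI [[7,4,7,4],[10,4,10,4],[8,4,8,4,8,4],[9,4,9,4],[6,5,6,5,6,5],[7,5,7,5],[10,5,10,5],[8,5,8,5],[9,5,9,5],[7,6,7,6,7,6],[10,6,10,6],[8,6,8,6],[9,6,9,6],[10,7,10,7,10,7],[8,7,8,7],[9,7,9,7],[8,10,8,10],[9,10,9,10],[9,8,9,8,9,8],[1,2,3,4,5,6,8,1,2,3,4,5,6,8,1,2,3,4,5,6,8,1,2,3,4,5,6,8,1,2,3,4,5,6,8,1,2,3,4,5,6,8,1,2,3,4,5,6,8,1,2,3,4,5,6,8,1,2,3,4,5,6,8,12]]) 13 1 = true := by decide +kernel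
theorem fi24a_r1_14 : eqsOn fi24a_T 306936 19 (relPairs idI [[7,4,7,4],[10,4,10,4],[8,4,8,4,8,4],[9,4,9,4],[6,5,6,5,6,5],[7,5,7,5],[10,5,10,5],[8,5,8,5],[9,5,9,5],[7,6,7,6,7,6],[10,6,10,6],[8,6,8,6],[9,6,9,6],[10,7,10,7,10,7],[8,7,8,7],[9,7,9,7],[8,10,8,10],[9,10,9,10],[9,8,9,8,9,8],[1,2,3,4,5,6,8,1,2,3,4,5,6,8,1,2,3,4,5,6,8,1,2,3,4,5,6,8,1,2,3,4,5,6,8,1,2,3,4,5,6,8,1,2,3,4,5,6,8,1,2,3,4,5,6,8,1,2,3,4,5,6,8,12]]) 14 1 = true := by decide +kernel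
theorem fi24a_r1_15 : eqsOn fi24a_T 306936 19 (relPairs idI [[7,4,7,4],[10,4,10,4],[8,4,8,4,8,4],[9,4,9,4],[6,5,6,5,6,5],[7,5,7,5],[10,5,10,5],[8,5,8,5],[9,5,9,5],[7,6,7,6,7,6],[10,6,10,6],[8,6,8,6],[9,6,9,6],[10,7,10,7,10,7],[8,7,8,7],[9,7,9,7],[8,10,8,10],[9,10,9,10],[9,8,9,8,9,8],[1,2,3,4,5,6,8,1,2,3,4,5,6,8,1,2,3,4,5,6,8,1,2,3,4,5,6,8,1,2,3,4,5,6,8,1,2,3,4,5,6,8,1,2,3,4,5,6,8,1,2,3,4,5,6,8,1,2,3,4,5,6,8,12]]) 15 1 = true := by decide +kernel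
theorem fi24a_r1_16 : eqsOn fi24a_T 306936 19 (relPairs idI [[7,4,7,4],[10,4,10,4],[8,4,8,4,8,4],[9,4,9,4],[6,5,6,5,6,5],[7,5,7,5],[10,5,10,5],[8,5,8,5],[9,5,9,5],[7,6,7,6,7,6],[10,6,10,6],[8,6,8,6],[9,6,9,6],[10,7,10,7,10,7],[8,7,8,7],[9,7,9,7],[8,10,8,10],[9,10,9,10],[9,8,9,8,9,8],[1,2,3,4,5,6,8,1,2,3,4,5,6,8,1,2,3,4,5,6,8,1,2,3,4,5,6,8,1,2,3,4,5,6,8,1,2,3,4,5,6,8,1,2,3,4,5,6,8,1,2,3,4,5,6,8,1,2,3,4,5,6,8,12]]) 16 1 = true := by decide +kernel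
theorem fi24a_r1_17 : eqsOn fi24a_T 306936 19 (relPairs idI [[7,4,7,4],[10,4,10,4],[8,4,8,4,8,4],[9,4,9,4],[6,5,6,5,6,5],[7,5,7,5],[10,5,10,5],[8,5,8,5],[9,5,9,5],[7,6,7,6,7,6],[10,6,10,6],[8,6,8,6],[9,6,9,6],[10,7,10,7,10,7],[8,7,8,7],[9,7,9,7],[8,10,8,10],[9,10,9,10],[9,8,9,8,9,8],[1,2,3,4,5,6,8,1,2,3,4,5,6,8,1,2,3,4,5,6,8,1,2,3,4,5,6,8,1,2,3,4,5,6,8,1,2,3,4,5,6,8,1,2,3,4,5,6,8,1,2,3,4,5,6,8,1,2,3,4,5,6,8,12]]) 17 1 = true := by decide +kernel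
theorem fi24a_r1_18 : eqsOn fi24a_T 306936 19 (relPairs idI [[7,4,7,4],[10,4,10,4],[8,4,8,4,8,4],[9,4,9,4],[6,5,6,5,6,5],[7,5,7,5],[10,5,10,5],[8,5,8,5],[9,5,9,5],[7,6,7,6,7,6],[10,6,10,6],[8,6,8,6],[9,6,9,6],[10,7,10,7,10,7],[8,7,8,7],[9,7,9,7],[8,10,8,10],[9,10,9,10],[9,8,9,8,9,8],[1,2,3,4,5,6,8,1,2,3,4,5,6,8,1,2,3,4,5,6,8,1,2,3,4,5,6,8,1,2,3,4,5,6,8,1,2,3,4,5,6,8,1,2,3,4,5,6,8,1,2,3,4,5,6,8,1,2,3,4,5,6,8,12]]) 18 1 = true := by decide +kernel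

end Cfsg.Lib.Spor.Fi24P
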