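import Cfsg.Agent.Spor.Fi24TabJ0
import Cfsg.Agent.Spor.Fi24TabJ1
import Cfsg.Agent.Spor.Fi24TabS
import Cfsg.Agent.Spor.Fi24TabQ

set_option autoImplicit false
set_option maxRecDepth 100000

namespace Cfsg.Lib.Spor.Fi24P

open Cfsg.Lib.Spor.Bulk

theorem fi24a_tree : ∀ l ∈ ([1,2,3,4,5,6,7,8,9,10,11,12] : List ℕ), fi24a_C.treeOK l = true := (forall_mem_append' (forall_mem_append' (allL_iff.1 fi24a_tr0) (allL_iff.1 fi24a_tr5)) (allL_iff.1 fi24a_tr10))
theorem fi24a_just : ∀ l ∈ ([1,2,3,4,5,6,7,8,9,10,11,12] : List ℕ), fi24a_C.Just 13 idI fi24a_R fi24a_U [1,2,3,4,5,6,7,8,9,10,11,12] l (ones fi24a_C.n) :=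
  (forall_mem_cons' (BulkCert.Just.split fi24a_a1_0 (BulkCert.Just.split fi24a_a1_1 (BulkCert.Just.split fi24a_a1_2 (BulkCert.Just.of_just (C := fi24a_C) fi24a_nets (band_left fi24a_j12)) (BulkCert.Just.of_just (C := fi24a_C) fi24a_nets (band_left fi24a_j11))) (BulkCert.Just.of_just (C := fi24a_C) fi24a_nets (band_left fi24a_j4))) (BulkCert.Just.split fi24a_a1_1 (BulkCert.Just.split fi24a_a1_2 (BulkCert.Just.of_just (C := fi24a_C) fi24a_nets (band_left fi24a_j3)) (BulkCert.Just.of_just (C := fi24a_C) fi24a_nets (band_left fi24a_j2))) (BulkCert.Just.of_just (C := fi24a_C) fi24a_nets (band_left fi24a_j0))))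
  (forall_mem_cons' (BulkCert.Just.split fi24a_a2_0 (BulkCert.Just.split fi24a_a2_1 (BulkCert.Just.split fi24a_a2_2 (BulkCert.Just.of_just (C := fi24a_C) fi24a_nets (band_left (band_right fi24a_j12))) (BulkCert.Just.of_just (C := fi24a_C) fi24a_nets (band_left (band_right fi24a_j11)))) (BulkCert.Just.split fi24a_a2_2 (BulkCert.Just.of_just (C := fi24a_C) fi24a_nets (band_left fi24a_j6)) (BulkCert.Just.of_just (C := fi24a_C) fi24a_nets (band_left fi24a_j5)))) (BulkCert.Just.split fi24a_a2_1 (BulkCert.Just.split fi24a_a2_2 (BulkCert.Just.of_just (C := fi24a_C) fi24a_nets (band_left (band_right fi24a_j3))) (BulkCert.Just.of_just (C := fi24a_C) fi24a_nets (band_left (band_right fi24a_j2)))) (BulkCert.Just.of_just (C := fi24a_C) fi24a_nets (band_left (band_right fi24a_j0)))))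
  (forall_mem_cons' (BulkCert.Just.split fi24a_a3_0 (BulkCert.Just.split fi24a_a3_1 (BulkCert.Just.split fi24a_a3_2 (BulkCert.Just.of_just (C := fi24a_C) fi24a_nets (band_left (band_right (band_right fi24a_j12)))) (BulkCert.Just.of_just (C := fi24a_C) fi24a_nets (band_left (band_right (band_right fi24a_j11))))) (BulkCert.Just.split fi24a_a3_2 (BulkCert.Just.of_just (C := fi24a_C) fi24a_nets (band_left fi24a_j7)) (BulkCert.Just.of_just (C := fi24a_C) fi24a_nets (band_left (band_right fi24a_j6))))) (BulkCert.Just.split fi24a_a3_1 (BulkCert.Just.split fi24a_a3_2 (BulkCert.Just.of_just (C := fi24a_C) fi24a_nets (band_left (band_right fi24a_j5))) (BulkCert.Just.of_just (C := fi24a_C) fi24a_nets (band_left (band_right (band_right fi24a_j3))))) (BulkCert.Just.split fi24a_a3_2 (BulkCert.Just.of_just (C := fi24a_C) fi24a_nets (band_left (band_right (band_right fi24a_j2)))) (BulkCert.Just.of_just (C := fi24a_C) fi24a_nets (band_left (band_right (band_right fi24a_j0)))))))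
  (forall_mem_cons' (BulkCert.Just.split fi24a_a4_0 (BulkCert.Just.split fi24a_a4_1 (BulkCert.Just.split fi24a_a4_2 (BulkCert.Just.of_just (C := fi24a_C) fi24a_nets (band_left (band_right (band_right (band_right fi24a_j12))))) (BulkCert.Just.of_just (C := fi24a_C) fi24a_nets (band_left fi24a_j8))) (BulkCert.Just.split fi24a_a4_2 (BulkCert.Just.of_just (C := fi24a_C) fi24a_nets (band_left (band_right fi24a_j7))) (BulkCert.Just.of_just (C := fi24a_C) fi24a_nets (band_left (band_right (band_right fi24a_j6)))))) (BulkCert.Just.split fi24a_a4_1 (BulkCert.Just.split fi24a_a4_2 (BulkCert.Just.of_just (C := fi24a_C) fi24a_nets (band_left (band_right (band_right fi24a_j5)))) (BulkCert.Just.of_just (C := fi24a_C) fi24a_nets (band_left (band_right fi24a_j4)))) (BulkCert.Just.split fi24a_a4_2 (BulkCert.Just.of_just (C := fi24a_C) fi24a_nets (band_left (band_right (band_right (band_right fi24a_j2))))) (BulkCert.Just.of_just (C := fi24a_C) fi24a_nets (band_left (band_right (band_right (band_right fi24a_j0))))))))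
  (forall_mem_cons' (BulkCert.Just.split fi24a_a5_0 (BulkCert.Just.split fi24a_a5_1 (BulkCert.Just.split fi24a_a5_2 (BulkCert.Just.split fi24a_a5_3 (BulkCert.Just.of_just (C := fi24a_C) fi24a_nets (band_left (band_right (band_right (band_right (band_right fi24a_j12)))))) (BulkCert.Just.of_just (C := fi24a_C) fi24a_nets (band_left fi24a_j9))) (BulkCert.Just.of_just (C := fi24a_C) fi24a_nets (band_left (band_right fi24a_j8)))) (BulkCert.Just.split fi24a_a5_2 (BulkCert.Just.of_just (C := fi24a_C) fi24a_nets (band_left (band_right (band_right fi24a_j7)))) (BulkCert.Just.of_just (C := fi24a_C) fi24a_nets (band_left (band_right (band_right (band_right fi24a_j6))))))) (BulkCert.Just.split fi24a_a5_1 (BulkCert.Just.split fi24a_a5_2 (BulkCert.Just.of_just (C := fi24a_C) fi24a_nets (band_left (band_right (band_right (band_right fi24a_j5))))) (BulkCert.Just.of_just (C := fi24a_C) fi24a_nets (band_left (band_right (band_right fi24a_j4))))) (BulkCert.Just.split fi24a_a5_2 (BulkCert.Just.of_just (C := fi24a_C) fi24a_nets (band_left (band_right (band_right (band_right (band_right fi24a_j2)))))) (BulkCert.Just.of_just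 (C := fi24a_C) fi24a_nets (band_left fi24a_j1)))))
  (forall_mem_cons' (BulkCert.Just.split fi24a_a6_0 (BulkCert.Just.split fi24a_a6_1 (BulkCert.Just.split fi24a_a6_2 (BulkCert.Just.split fi24a_a6_3 (BulkCert.Just.of_just (C := fi24a_C) fi24a_nets (band_left (band_right (band_right (band_right (band_right (band_right fi24a_j12))))))) (BulkCert.Just.of_just (C := fi24a_C) fi24a_nets (band_left fi24a_j10))) (BulkCert.Just.of_just (C := fi24a_C) fi24a_nets (band_left (band_right fi24a_j9)))) (BulkCert.Just.split fi24a_a6_2 (BulkCert.Just.of_just (C := fi24a_C) fi24a_nets (band_left (band_right (band_right fi24a_j8)))) (BulkCert.Just.of_just (C := fi24a_C) fi24a_nets (band_left (band_right (band_right (band_right fi24a_j7))))))) (BulkCert.Just.split fi24a_a6_1 (BulkCert.Just.split fi24a_a6_2 (BulkCert.Just.split fi24a_a6_3 (BulkCert.Just.of_just (C := fi24a_C) fi24a_nets (band_left (band_right (band_right (band_right (band_right fi24a_j6)))))) (BulkCert.Just.of_just (C := fi24a_C) fi24a_nets (band_left (band_right (band_right (band_right (band_right fi24a_j5))))))) (BulkCert.Just.of_just (C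 := fi24a_C) fi24a_nets (band_left (band_right (band_right (band_right fi24a_j4)))))) (BulkCert.Just.split fi24a_a6_2 (BulkCert.Just.of_just (C := fi24a_C) fi24a_nets (band_left (band_right (band_right (band_right (band_right (band_right fi24a_j2))))))) (BulkCert.Just.of_just (C := fi24a_C) fi24a_nets (band_left (band_right fi24a_j1))))))
  (forall_mem_cons' (BulkCert.Just.split fi24a_a7_0 (BulkCert.Just.split fi24a_a7_1 (BulkCert.Just.split fi24a_a7_2 (BulkCert.Just.split fi24a_a7_3 (BulkCert.Just.of_just (C := fi24a_C) fi24a_nets (band_left (band_right (band_right (band_right (band_right (band_right (band_right fi24a_j12)))))))) (BulkCert.Just.of_just (C := fi24a_C) fi24a_nets (band_left (band_right (band_right (band_right fi24a_j11)))))) (BulkCert.Just.of_just (C := fi24a_C) fi24a_nets (band_left (band_right fi24a_j10)))) (BulkCert.Just.split fi24a_a7_2 (BulkCert.Just.split fi24a_a7_3 (BulkCert.Just.of_just (C := fi24a_C) fi24a_nets (band_left (band_right (band_right fi24a_j9)))) (BulkCert.Just.of_just (C := fi24a_C) fi24a_nets (band_left (band_right (band_right (band_right fi24a_j8))))))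 (BulkCert.Just.of_just (C := fi24a_C) fi24a_nets (band_left (band_right (band_right (band_right (band_right fi24a_j7)))))))) (BulkCert.Just.split fi24a_a7_1 (BulkCert.Just.split fi24a_a7_2 (BulkCert.Just.split fi24a_a7_3 (BulkCert.Just.of_just (C := fi24a_C) fi24a_nets (band_left (band_right (band_right (band_right (band_right (band_right fi24a_j6))))))) (BulkCert.Just.of_just (C := fi24a_C) fi24a_nets (band_left (band_right (band_right (band_right (band_right (band_right fi24a_j5)))))))) (BulkCert.Just.of_just (C := fi24a_C) fi24a_nets (band_left (band_right (band_right (band_right (band_right fi24a_j4))))))) (BulkCert.Just.split fi24a_a7_2 (BulkCert.Just.of_just (C := fi24a_C) fi24a_nets (band_left (band_right (band_right (band_right fi24a_j3))))) (BulkCert.Just.of_just (C := fi24a_C) fi24a_nets (band_left (band_right (band_right fi24a_j1)))))))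
  (forall_mem_cons' (BulkCert.Just.split fi24a_a8_0 (BulkCert.Just.split fi24a_a8_1 (BulkCert.Just.split fi24a_a8_2 (BulkCert.Just.split fi24a_a8_3 (BulkCert.Just.of_just (C := fi24a_C) fi24a_nets (band_left (band_right (band_right (band_right (band_right (band_right (band_right (band_right fi24a_j12))))))))) (BulkCert.Just.of_just (C := fi24a_C) fi24a_nets (band_left (band_right (band_right (band_right (band_right fi24a_j11))))))) (BulkCert.Just.of_just (C := fi24a_C) fi24a_nets (band_left (band_right (band_right fi24a_j10))))) (BulkCert.Just.split fi24a_a8_2 (BulkCert.Just.of_just (C := fi24a_C) fi24a_nets (band_left (band_right (band_right (band_right fi24a_j9))))) (BulkCert.Just.of_just (C := fi24a_C) fi24a_nets (band_left (band_right (band_right (band_right (band_right fi24a_j8)))))))) (BulkCert.Just.split fi24a_a8_1 (BulkCert.Just.split fi24a_a8_2 (BulkCert.Just.split fi24a_a8_3 (BulkCert.Just.of_just (C := fi24a_C) fi24a_nets (band_left (band_right (band_right (band_right (band_right (band_right fi24a_j7))))))) (BulkCert.Just.of_just (C := fi24a_C) fi24a_nets (band_left (band_right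 (band_right (band_right (band_right (band_right (band_right fi24a_j6))))))))) (BulkCert.Just.of_just (C := fi24a_C) fi24a_nets (band_left (band_right (band_right (band_right (band_right (band_right fi24a_j4)))))))) (BulkCert.Just.split fi24a_a8_2 (BulkCert.Just.of_just (C := fi24a_C) fi24a_nets (band_left (band_right (band_right (band_right (band_right fi24a_j3)))))) (BulkCert.Just.of_just (C := fi24a_C) fi24a_nets (band_left (band_right (band_right (band_right fi24a_j1))))))))
  (forall_mem_cons' (BulkCert.Just.split fi24a_a9_0 (BulkCert.Just.split fi24a_a9_1 (BulkCert.Just.split fi24a_a9_2 (BulkCert.Just.split fi24a_a9_3 (BulkCert.Just.of_just (C := fi24a_C) fi24a_nets (band_left fi24a_j14)) (BulkCert.Just.of_just (C := fi24a_C) fi24a_nets (band_left fi24a_j13))) (BulkCert.Just.of_just (C := fi24a_C) fi24a_nets (band_left (band_right (band_right (band_right (band_right (band_right (band_right (band_right (band_right fi24a_j12))))))))))) (BulkCert.Just.split fi24a_a9_2 (BulkCert.Just.split fi24a_a9_3 (BulkCert.Just.of_just (C := fi24a_C) fi24a_nets (band_left (band_right (band_right (band_right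 (band_right (band_right fi24a_j11))))))) (BulkCert.Just.of_just (C := fi24a_C) fi24a_nets (band_left (band_right (band_right (band_right fi24a_j10)))))) (BulkCert.Just.of_just (C := fi24a_C) fi24a_nets (band_left (band_right (band_right (band_right (band_right fi24a_j9)))))))) (BulkCert.Just.split fi24a_a9_1 (BulkCert.Just.split fi24a_a9_2 (BulkCert.Just.split fi24a_a9_3 (BulkCert.Just.of_just (C := fi24a_C) fi24a_nets (band_left (band_right (band_right (band_right (band_right (band_right fi24a_j8))))))) (BulkCert.Just.of_just (C := fi24a_C) fi24a_nets (band_left (band_right (band_right (band_right (band_right (band_right (band_right fi24a_j7))))))))) (BulkCert.Just.of_just (C := fi24a_C) fi24a_nets (band_left (band_right (band_right (band_right (band_right (band_right (band_right (band_right fi24a_j6)))))))))) (BulkCert.Just.split fi24a_a9_2 (BulkCert.Just.split fi24a_a9_3 (BulkCert.Just.of_just (C := fi24a_C) fi24a_nets (band_left (band_right (band_right (band_right (band_right (band_right (band_right fi24a_j4)))))))) (BulkCert.Just.of_just (C := fi24a_C) fi24a_nets (band_left (band_right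 (band_right (band_right (band_right (band_right fi24a_j3)))))))) (BulkCert.Just.of_just (C := fi24a_C) fi24a_nets (band_left (band_right (band_right (band_right (band_right fi24a_j1)))))))))
  (forall_mem_cons' (BulkCert.Just.split fi24a_a10_0 (BulkCert.Just.split fi24a_a10_1 (BulkCert.Just.split fi24a_a10_2 (BulkCert.Just.split fi24a_a10_3 (BulkCert.Just.of_just (C := fi24a_C) fi24a_nets (band_left (band_right (band_right (band_right (band_right (band_right (band_right (band_right (band_right (band_right fi24a_j12))))))))))) (BulkCert.Just.of_just (C := fi24a_C) fi24a_nets (band_left (band_right (band_right (band_right (band_right (band_right (band_right fi24a_j11))))))))) (BulkCert.Just.of_just (C := fi24a_C) fi24a_nets (band_left (band_right (band_right (band_right (band_right fi24a_j10))))))) (BulkCert.Just.split fi24a_a10_2 (BulkCert.Just.of_just (C := fi24a_C) fi24a_nets (band_left (band_right (band_right (band_right (band_right (band_right fi24a_j9))))))) (BulkCert.Just.of_just (C := fi24a_C) fi24a_nets (band_left (band_right (band_right (band_right (band_right (band_right (band_right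 fi24a_j8)))))))))) (BulkCert.Just.split fi24a_a10_1 (BulkCert.Just.split fi24a_a10_2 (BulkCert.Just.split fi24a_a10_3 (BulkCert.Just.of_just (C := fi24a_C) fi24a_nets (band_left (band_right (band_right (band_right (band_right (band_right (band_right (band_right fi24a_j7))))))))) (BulkCert.Just.of_just (C := fi24a_C) fi24a_nets (band_left (band_right (band_right (band_right (band_right (band_right (band_right fi24a_j5))))))))) (BulkCert.Just.of_just (C := fi24a_C) fi24a_nets (band_left (band_right (band_right (band_right (band_right (band_right (band_right (band_right fi24a_j4)))))))))) (BulkCert.Just.split fi24a_a10_2 (BulkCert.Just.of_just (C := fi24a_C) fi24a_nets (band_left (band_right (band_right (band_right (band_right (band_right (band_right fi24a_j3)))))))) (BulkCert.Just.of_just (C := fi24a_C) fi24a_nets (band_left (band_right (band_right (band_right (band_right (band_right fi24a_j1))))))))))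
  (forall_mem_cons' (BulkCert.Just.split fi24a_a11_0 (BulkCert.Just.split fi24a_a11_1 (BulkCert.Just.of_just (C := fi24a_C) fi24a_nets (band_left (band_right (band_right (band_right (band_right (band_right (band_right (band_right fi24a_j11))))))))) (BulkCert.Just.of_just (C := fi24a_C) fi24a_nets (band_left (band_right (band_right (band_right (band_right (band_right (band_right (band_right fi24a_j3)))))))))) (BulkCert.Just.split fi24a_a11_1 (BulkCert.Just.of_just (C := fi24a_C) fi24a_nets (band_left (band_right (band_right (band_right (band_right (band_right (band_right fi24a_j2)))))))) (BulkCert.Just.of_just (C := fi24a_C) fi24a_nets (band_left (band_right (band_right (band_right (band_right fi24a_j0))))))))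
  (forall_mem_cons' (BulkCert.Just.split fi24a_a12_0 (BulkCert.Just.split fi24a_a12_1 (BulkCert.Just.of_just (C := fi24a_C) fi24a_nets (band_left (band_right (band_right (band_right (band_right (band_right (band_right (band_right (band_right (band_right (band_right fi24a_j12)))))))))))) (BulkCert.Just.of_just (C := fi24a_C) fi24a_nets (band_left (band_right (band_right (band_right (band_right (band_right (band_right (band_right (band_right fi24a_j11))))))))))) (BulkCert.Just.split fi24a_a12_1 (BulkCert.Just.of_just (C := fi24a_C) fi24a_nets (band_left (band_right (band_right (band_right (band_right (band_right (band_right fi24a_j1)))))))) (BulkCert.Just.of_just (C := fi24a_C) fi24a_nets (band_left (band_right (band_right (band_right (band_right (band_right fi24a_j0)))))))))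
  forall_mem_nil'))))))))))))
theorem fi24a_idx {G : Type*} [Group G] {g : ℕ → G} {H : Subgroup G} (hg : Sat g 13 idI fi24a_R)
    (hH : ∀ u ∈ fi24a_U, wv g u ∈ H) : IdxLe H (Subgroup.closure {x | ∃ l ∈ ([1,2,3,4,5,6,7,8,9,10,11,12] : List ℕ), g l = x}) 306936 :=
  BulkCert.idxLe (C := fi24a_C) fi24a_nets fi24a_sat fi24a_head fi24a_tree fi24a_just hg hH

end Cfsg.Lib.Spor.Fi24P
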