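import Cfsg.Agent.Spor.FmTu2
import Cfsg.Agent.Spor.F23Cl
import Cfsg.Agent.Spor.Fi23Tr
import Cfsg.Agent.Trans.Quasisimple

/-! `Fi23`: tuples of commuting transpositions. -/

set_option autoImplicit false
set_option maxRecDepth 100000
set_option Elab.async false

namespace Cfsg.Lib.Spor.F23

open Cfsg.Lib.Spor.Bulk Cfsg.Lib.Spor.Fm

theorem tp1 : band (C.ltB []) (C.covB ⟨[], [], []⟩ (cellA []) [11589] [[2], [13], (wd (nat_lit 0xe4e)), [3], [6], [1]] (.gr [1,0,5,3,4,0,1,2,4,0,5,1,3,0,1,5,4,0,1,3,2,0,1,5,0,3,1,4,2])) = true := by decide +kernel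
theorem tp2 : band (C.ltB [11589]) (C.covB ⟨[11589], [], []⟩ (cellA [11589]) [8003] [[4], [3], [5], [8], (wd (nat_lit 0xc9c)), [6], [7]] (.gr [0,1,3,2,5,4,0,2,3,6,0,5,1,2,3,4,6,3,2,0,5,2,1,3,6,4,0,3,2,5,0,4,1,2,6,3])) = true := by decide +kernel
theorem tp3 : band (C.ltB [8003,11589]) (C.covB ⟨[8003,11589], [], []⟩ (cellA [8003,11589]) [8001] [[6], [12], [5], [7], (wd (nat_lit 0xfde6edf)), (wd (nat_lit 0xbab))] (.gr [0,1,3,2,5,4,3,1,0,5,2,1,3,4,3,1,0,2,5,3,1,0,4,1,3,0,2])) = true := by decide +kernel
theorem tup1 {G : Type*} [Group G] {D : Set G} (M : Mdl G D C) : M.Tup [11589] := M.tup_nil.cons tp1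
theorem tup2 {G : Type*} [Group G] {D : Set G} (M : Mdl G D C) : M.Tup [8003,11589] := (tup1 M).cons tp2
theorem tup3 {G : Type*} [Group G] {D : Set G} (M : Mdl G D C) : M.Tup [8001,8003,11589] := (tup2 M).cons tp3
theorem pp1 : C.perpB [11589] [1] [2794,4795,10748,2688,1983] = true := by decide +kernel
theorem uf1 {G : Type*} [Group G] {D : Set G} (M : Mdl G D C) : UF D 1 := (tup1 M).uf pp1
theorem tt1 {G : Type*} [Group G] {D : Set G} (M : Mdl G D C) : TT D 1 := (tup1 M).tt
theorem ct1 {G : Type*} [Group G] {D : Set G} (M : Mdl G D C) : CT D 1 ([11589].map M.t) ∧ ([11589].map M.t).prod = M.el [1] :=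
  ⟨M.ct_of_clqB (s := ones 31671) (A := [11589]) (by decide +kernel), M.prod_eq_el (by decide +kernel)⟩
theorem pp2 : C.perpB [8003,11589] [3,1] [6594,4883,6598,8740,502] = true := by decide +kernel
theorem uf2 {G : Type*} [Group G] {D : Set G} (M : Mdl G D C) : UF D 2 := (tup2 M).uf pp2
theorem tt2 {G : Type*} [Group G] {D : Set G} (M : Mdl G D C) : TT D 2 := (tup2 M).tt
theorem ct2 {G : Type*} [Group G] {D : Set G} (M : Mdl G D C) : CT D 2 ([8003,11589].map M.t) ∧ ([8003,11589].map M.t).prod = M.el [3,1] :=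
  ⟨M.ct_of_clqB (s := ones 31671) (A := [8003,11589]) (by decide +kernel), M.prod_eq_el (by decide +kernel)⟩
theorem pp3 : C.perpB [8001,8003,11589] (wd (nat_lit 0x135)) [10621,5505,8462,8029] = true := by decide +kernel
theorem uf3 {G : Type*} [Group G] {D : Set G} (M : Mdl G D C) : UF D 3 := (tup3 M).uf pp3
theorem tt3 {G : Type*} [Group G] {D : Set G} (M : Mdl G D C) : TT D 3 := (tup3 M).tt
theorem ct3 {G : Type*} [Group G] {D : Set G} (M : Mdl G D C) : CT D 3 ([8001,8003,11589].map M.t) ∧ ([8001,8003,11589].map M.t).prod = M.el [5,3,1] :=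
  ⟨M.ct_of_clqB (s := ones 31671) (A := [8001,8003,11589]) (by decide +kernel), M.prod_eq_el (by decide +kernel)⟩
noncomputable def w23 : Clq := (.orb false 0 [[10], [13], (wd (nat_lit 0xe4e)), [7], [1], [2]] (.gr [1,0,3,4,5,1,4,0,3,5,1,2,0,4,3,5,1,0,4,3,5,1,4,2,0,1,4,5]) (.orb false 7999 [[4], [9], (wd (nat_lit 0xefcfe)), (wd (nat_lit 0xedade)), [1], [2]] (.gr [0,1,2,4,1,0,5,3,4,1,0,5,2,4,0,1,5,3,1,4,0,2,0,4,1,3,5,4]) (.orb false 8001 [[6], (wd (nat_lit 0xedade)), (wd (nat_lit 0xde9ed)), [1], [3], [5]] (.gr [0,5,1,5,4,3,2,3,0,4,5,1,4,3,0,5,2,0,4,3,1,5,0,3,4,5,2]) (.orb false 8003 [[2], (wd (nat_lit 0xefd1dfe)), (wd (nat_lit 0xde9ed)), [7], [1], [3]] (.gr [0,5,4,1,0,3,4,2,4,5,1,0,4,5,3]) (.orb false 8005 [(wd (nat_lit 0xabde2edba)), [1], [7], (wd (nat_lit 0xe56e2e65e)), (wd (nat_lit 0xf75d4d57f)), (wd (nat_lit 0xabc656cba))] (.tr (dig 21 (nat_lit 0x136b0063180524803e6a00ca1146508025b8520a628f01146a88a3544426e201f37006518a328c0779e00c541462a0044345221a2110d01bf2002d74516ba011111488888444400d3c2869e1034f061a78012662956b14ab588131c5098e204c70c4890a24484122418912083510a1a8840d44186a208351027d140)))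 .card .card) .card) .card) .card) .card)
theorem w23c : w23.chk C (ones 31671) 23 = true := by decide +kernel
theorem width23 {G : Type*} [Group G] {D : Set G} (M : Mdl G D C) : commutingWidth D = 23 := by
  have := M.width_eq (P := Set.univ) (fun q hq => by rw [testBit_ones]; simpa using (show q < 31671 from hq)) w23c (A := (dig 15 (nat_lit 0xdde939b1f453e826a30d439a8535064f789ed13a017542df837a06d20c96036406200be015c01a801a0000))) (by decide +kernel)
  rwa [Set.inter_univ] at this
theorem nc2 : C.covB ⟨[11589], [], []⟩ (.dif .all (.nb (.c 11589))) [8004] [[3], [4], [5], [8], [6], [9], [12], [7]] (.gr [0,1,2,3,4,6,5,1,7,2,6,3,0,1,2,4,1,0,3,5,6,2,7,1,3,6,5,2,0,4,6,1,2,3,1,4,7,5,0]) = true := by decide +kernel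
noncomputable def c2σ : Sp := ⟨[8003,11589], [], []⟩
noncomputable def c2P0 : List Step := [.orb (.dif (.dif (.and (.nb (.c 8003)) (.nb (.c 11589))) (.one (.c 8003))) (.one (.c 11589))) 0 693 [[10], [12], (wd (nat_lit 0xfde6edf)), (wd (nat_lit 0x76567)), (wd (nat_lit 0xba7ab)), [6]] (.gr [1,0,2,0,1,3,1,0,4,5,1,2,1,0,4,1,5,3,0,1,2,4,1,0,5,3]),
  .orb (.dif (.and (.nb (.c 8003)) (.nb (.c 11589))) (.nb (.c 0))) 356 512 [[5], [9], (wd (nat_lit 0xd8e5e8d)), [6], [7]] (.gr [1,0,3,4,2,0,3,4,1,3,0,2,3,1,0,4,3,4,2,1,0]),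
  .orb (.dif (.dif (.and (.nb (.c 8003)) (.nb (.c 0))) (.nb (.c 11589))) (.nb (.c 356))) 1240 432 [[7], [8], (wd (nat_lit 0xabc5cba)), (wd (nat_lit 0x23feaef32)), [6]] (.gr [0,1,4,2,4,0,3,0,1,4,2,0,4,3,0,1,2,4,0,3,0,2]),
  .orb (.dif (.and (.and (.and (.and (.nb (.c 8003)) (.nb (.c 11589))) (.nb (.c 1240))) (.nb (.c 356))) (.nb (.c 0))) (.one (.c 8003))) 8002 10 [(wd (nat_lit 0xfc4f2f4cf)), [6], (wd (nat_lit 0xfe2ef)), (wd (nat_lit 0xabc989cba))] (.tr (dig 21 (nat_lit 0x3a9820d6019bc70cde3807de4313ba10cf90867c827d080))),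
  .orb (.dif (.dif (.dif (.and (.and (.nb (.c 11589)) (.nb (.c 1240))) (.nb (.c 356))) (.nb (.c 8003))) (.nb (.c 8002))) (.nb (.c 0))) 1412 12 [[3], [6], (wd (nat_lit 0xabc989cba)), (wd (nat_lit 0xfe2ef))] (.tr (dig 21 (nat_lit 0x3170c11686116830b061031c0c200041e1820f0c08584082c20216100))),
  .orb (.dif (.dif (.dif (.and (.and (.and (.and (.and (.nb (.c 8003)) (.nb (.c 11589))) (.nb (.c 1240))) (.nb (.c 356))) (.nb (.c 0))) (.nb (.c 8002))) (.one (.c 8003))) (.one (.c 8002))) (.nb (.c 1412))) 2526 2 [(wd (nat_lit 0xfe2ef))] (.tr [161664]),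
  .sing (.and (.and (.and (.and (.and (.and (.nb (.c 8003)) (.nb (.c 1412))) (.nb (.c 0))) (.nb (.c 8002))) (.nb (.c 11589))) (.nb (.c 356))) (.nb (.c 1240))) 1712,
  .der (.th (.c 2526) (.th (.c 1712) (.th (.c 1412) (.th (.c 2526) (.th (.c 356) (.th (.c 0) (.th (.c 1412) (.th (.c 1240) (.th (.c 356) (.th (.c 0) (.th (.c 8003) (.th (.c 1412) (.th (.c 8002) (.th (.c 11589) (.th (.c 1240) (.th (.c 356) (.th (.c 0) (.th (.c 1412) (.th (.c 2526) (.th (.c 1712) (.th (.c 8003) (.th (.c 1412) (.th (.c 2526) (.th (.c 8002) (.th (.c 1412) (.c 0)))))))))))))))))))))))))) 1,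
  .der (.th (.c 1712) (.th (.c 2526) (.th (.c 1412) (.th (.c 0) (.th (.c 8003) (.th (.c 1412) (.th (.c 2526) (.th (.c 8002) (.th (.c 1412) (.th (.c 0) (.th (.c 8003) (.th (.c 1412) (.th (.c 2526) (.th (.c 1712) (.th (.c 8002) (.th (.c 1412) (.th (.c 2526) (.th (.c 11589) (.th (.c 1240) (.th (.c 356) (.th (.c 0) (.th (.c 1412) (.c 8003))))))))))))))))))))))) 224,
  .der (.th (.c 1712) (.th (.c 2526) (.th (.c 0) (.th (.c 1412) (.th (.c 8002) (.th (.c 356) (.th (.c 0) (.th (.c 8003) (.th (.c 1412) (.th (.c 2526) (.th (.c 1712) (.th (.c 8002) (.th (.c 356) (.th (.c 0) (.th (.c 1412) (.th (.c 2526) (.th (.c 8002) (.th (.c 11589) (.th (.c 1240) (.th (.c 356) (.th (.c 0) (.th (.c 1412) (.c 8003))))))))))))))))))))))) 1640,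
  .der (.th (.c 1712) (.th (.c 2526) (.th (.c 0) (.th (.c 1412) (.th (.c 8002) (.th (.c 8003) (.th (.c 1412) (.th (.c 2526) (.th (.c 1712) (.th (.c 0) (.th (.c 8003) (.th (.c 1412) (.th (.c 2526) (.th (.c 8002) (.th (.c 1412) (.th (.c 356) (.c 0))))))))))))))))) 2]
theorem c2c0 : chkL C c2P0 c2σ c2σ = true := by decide +kernel
noncomputable def c2P : List Step := c2P0
theorem c2c : chkL C c2P c2σ c2σ = true := c2c0
noncomputable def c2W : List (List ℕ) := [[10], [12], (wd (nat_lit 0xfde6edf)), (wd (nat_lit 0x76567)), (wd (nat_lit 0xba7ab)), [6], [5], [9], (wd (nat_lit 0xd8e5e8d)), [6], [7], [7], [8], (wd (nat_lit 0xabc5cba)), (wd (nat_lit 0x23feaef32)), [6], (wd (nat_lit 0xfc4f2f4cf)), [6], (wd (nat_lit 0xfe2ef)), (wd (nat_lit 0xabc989cba)), [3], [6], (wd (nat_lit 0xabc989cba)), (wd (nat_lit 0xfe2ef)), (wd (nat_lit 0xfe2ef))]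
theorem c2 {G : Type*} [Group G] {D : Set G} (M : Mdl G D C) :
    Nat.card (M.grp c2σ) = 36787322880 ∧ M.grp c2σ = gW M.g c2W :=
  M.ctl_of_chain c2c (M.isBase_base) (by decide +kernel)
noncomputable def s2t : ℕ := (jn 8192 (nat_lit 0x5c03e0c0f0032580003d0070e6800000000000200000000000000000000000000000000000020000000000000001400000000002a00000000040000000000005000000000000000000000000000000000000000000000000000000000000000000000000000000000001d0000000000000e000000000fb801c03c0618000140000000056000000000000000000000000000ee00010000000000000007c0000000000001e000000000000000000000000000000f80783c030c17700007e001e00000000020a100000000000000000000000000000000000000000000000000000000000000000001400000000000560000000025c000000002800000000ac0000000000000000000000000000000000000000000000000000000000003e00000000078000000fe00f000f00c030400560000025c00000000000000000000f80000000000003c000000006000000000000000000003c030c1107c003c0300000000000120000000000000000000000000000000000000000000000000000000000000000000000000000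000000015800000004b8000003b80000158000009700000000000000000000000000000000000000000001e000000300001780600c10100cb80001dc0000000000000007800000000c00000400000000000001822003c03040000800000000000000000000400000000000000000000000000000000000000000000000000000000000000000000000000000000000025c000003b80003e0025c0000ee00000000000000000000000000000060000200030404000fb8003e00000000000300000100000000000001000182000600000000000000000000000000000000000000000200000000000000000000000000000000000000000000000000000000000000000000003b80003e001e0770007c00000000000000000000400000100023fc003c000000000800000000000000080172000000000000000000000000000000000000000000002000000000000000000000000000000000000000000000000000000001f000f00c7c003c0000000000000000000466f00c000000000000000003e6000000000000000000000000000000000000020100000000000000000000000000000000000000000001e01823c0300000000000119930400000080000fce00000000000000000000000000000040400000000000000000000000000000000018203040000004990800024001f9c000000000000000000000008080000000000000000000000000100400009240112401f86000000000000000004000000000000000000000000048064806c10000000000004000000000000000100103206200000000000000000000300084000000000000001c0000000000003804000000e3000037000f00e0c201f)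
 (jn 8192 (nat_lit 0x12000000000000000000000000000000002112100000000009600000000000000000000000000000000000000000000000000000000000000000000000000000000000000000000000000000000000000000000000000000000000000000000000000000000000000000000000000000000000040000000000000000000000000000000000000000000000000000000000000000000000000000000000000000000000000000000000000000000000000000000000000000000000000000000000000000000000000000000000001000000000000000000000000000000000000002000400000000000000000000000000000000000000000000000000000000000000000000000000000000000000001000000000000000000000000000000000000000000089200000000000000480000000000000000000000000000000000000000000000000000000000000000000000000000000000000000000000000000000000000000000000000000000000000000000000000000000000000000000000000000000000000000000000000000000000000000000000000000000000000000000000000000000000000000000000000000000000000000000000000000000008000010000000000000000000000000000000000000000000000540000040000000000000000000000000001280010000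000000000000000000000000000000000000000000000000000000000000000000000000600000000000000000100000000000000000000000000000000000000048000000000000000200000000000000000000000000000000000000000000000000000000000000000000000000000000000000000000000000000000000000000000000000000000000000000000000000000000000000000000000000000000000000000000000000000000030000000000000000000000002000000000000000000000000000000000000000000000000a8000028000000000000000000000000000000097000004000000000000000000001d80010000000000000000000000000000000000000000000000000000000000c02e0030005000005400c0000000004000000000000000000000000000000000000000000002000200000000000000200000000000000000000000000800000000000000000000000000000000000000000000000000000000000000000000000000000000000000000000000000000000000000024000000000000000006000000000009700301800000010000000000001400000000000000000000000000000000000970000060000000000000000000000ee00008000000000000003e0000000000000000000000)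
 (nat_lit 0x10000400000000000000000100000002000000000000000000000000000000000000000000000000000000000000000000000000000000000000000000000000000000000000000000000000000000000000000000000000000000000000000000000000000024000000000000000000000000000000000000000000000000000000000000000000000000000000000000000000000000000000000000000000000000000000000000000000000000000000000000000000000000000000000000100000000000000000000000000000000000000000000)))
theorem s2tc : band (C.ltB [8003,11589]) (C.eqS s2t ((cellA [8003,11589]).ev C [] [] C.root)) = true := by decide +kernel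
theorem c2p : C.prodB s2t c2W [[16013], [713], [107], [10531], [5], [16005], [16003], [16015], [11443], [16005], [16011], [16011], [15999], [2003], [7501], [16005], [5051], [16005], [3425], [5053], (dig 16 (nat_lit 0x215d2cb74257103b004b22813f0b330710351d4d33ff1cfd2d2f2923298b1cfb0b3b14c5358d217b00253017228125e93e8b2281217b1d4d362d2629)), [16005], [5053], [3425], [3425]] = true := by decide +kernel
noncomputable def z2σ : Sp := ⟨[6795,2665,5265,10521,15821,8003,11589], [], []⟩
noncomputable def z2P0 : List Step := [.orb (.dif (.and (.and (.and (.nb (.c 6795)) (.nb (.c 2665))) (.nb (.c 10521))) (.nb (.c 5265))) (.nb (.c 11589))) 18802 2 [[1]] (.tr [1203328]),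
  .orb (.dif (.and (.and (.and (.nb (.c 6795)) (.nb (.c 2665))) (.nb (.c 10521))) (.nb (.c 5265))) (.nb (.c 8003))) 13034 2 [[3]] (.tr [834176]),
  .der (.th (.c 18802) (.th (.c 15821) (.th (.c 2665) (.th (.c 6795) (.th (.c 15821) (.th (.c 18802) (.th (.c 10521) (.th (.c 5265) (.th (.c 2665) (.th (.c 10521) (.th (.c 15821) (.c 6795)))))))))))) 0,
  .der (.th (.c 10521) (.th (.c 15821) (.th (.c 5265) (.th (.c 10521) (.th (.c 2665) (.c 6795)))))) 1,
  .der (.th (.c 15821) (.th (.c 2665) (.th (.c 6795) (.th (.c 10521) (.th (.c 5265) (.th (.c 15821) (.th (.c 18802) (.th (.c 6795) (.th (.c 15821) (.c 2665)))))))))) 224,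
  .der (.th (.c 8003) (.th (.c 10521) (.th (.c 15821) (.th (.c 13034) (.th (.c 18802) (.th (.c 10521) (.th (.c 5265) (.th (.c 15821) (.th (.c 2665) (.c 6795)))))))))) 1640,
  .der (.th (.c 18802) (.th (.c 15821) (.th (.c 10521) (.th (.c 5265) (.th (.c 15821) (.th (.c 18802) (.th (.c 5265) (.th (.c 6795) (.th (.c 2665) (.th (.c 10521) (.th (.c 15821) (.c 6795)))))))))))) 2]
theorem z2c0 : chkL C z2P0 z2σ z2σ = true := by decide +kernel
noncomputable def z2P : List Step := z2P0
theorem z2c : chkL C z2P z2σ z2σ = true := z2c0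
noncomputable def z2W : List (List ℕ) := [[1], [3]]
theorem z2 {G : Type*} [Group G] {D : Set G} (M : Mdl G D C) :
    Nat.card (M.grp z2σ) = 4 ∧ M.grp z2σ = gW M.g z2W :=
  M.ctl_of_chain z2c (M.isBase_base) (by decide +kernel)
theorem z2q : allL (fun q => band (Nat.blt q C.n) (tb s2t q)) [6795,2665,5265,10521,15821] = true := by decide +kernel
theorem z2p : C.prodB (setL [8003,11589]) z2W [[23179], [16007]] = true := by decide +kernel
theorem perf2 {G : Type*} [Group G] {D : Set G} (M : Mdl G D C) : Group.IsPerfect (Subgroup.closure (M.tS s2t)) :=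
  M.perfect_tS (r := 0) (Ws := [[12], [10], (wd (nat_lit 0xfde6edf)), (wd (nat_lit 0x76567)), (wd (nat_lit 0xba7ab)), [11]]) (E := [[713], [16013], [107], [10531], [5], [1]]) (o := (.gr [0,1,5,3,1,2,0,5,1,4,0,5,1,2,0,1,5,3,0,1,4,5,2,1,0,5,0,3,4])) (A := [14202,6580,0,15821,8005,2524,7159]) (by decide +kernel) (by decide +kernel) (by decide +kernel)
theorem nt2 : C.eqW (repW ([14,10,3,2,5,5].reverse ++ ([3,1] ++ ([14,10,3,2,5,5] ++ [3,1]))) [] 6) [] = false := by decide +kernel
theorem nt3 : C.eqW (repW ([6,14,6,14,8,13].reverse ++ ([5,3,1] ++ ([6,14,6,14,8,13] ++ [5,3,1]))) [] 6) [] = false := by decide +kernel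

section
variable {G : Type*} [Group G] {D : Set G} (M : Mdl G D C)

theorem not_tt {W c : List ℕ} (h : C.eqW (repW (c.reverse ++ (W ++ (c ++ W))) [] 6) [] = false) :
    (M.el W * (M.el c * M.el W * (M.el c)⁻¹)) ^ 6 ≠ 1 := by
  have := M.pow_ne_one h
  rwa [Mdl.el, wv_append, wv_append, wv_append, ← Mdl.el, ← Mdl.el, ← Mdl.el, M.el_reverse, mul_assoc,
    mul_assoc, ← mul_assoc (M.el c)] at this

include M in
theorem one_notMem : (1 : G) ∉ D := fun h => by
  obtain ⟨p, hp, e⟩ := (M.mem_D _).1 h
  obtain ⟨y, hy⟩ := M.exists_act hp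
  have := M.t_act y p hp
  rw [hy, e, M.t_root] at this
  exact M.pow_ne_one (k := 1) (W := [1]) (by decide +kernel) (by simpa using this)

include M in
theorem uf {m : ℕ} (h1 : 1 ≤ m) (h3 : m ≤ 3) : UF D m := by
  interval_cases m
  exacts [uf1 M, uf2 M, uf3 M]

include M in
theorem tt {m : ℕ} (h1 : 1 ≤ m) (h3 : m ≤ 3) : TT D m := by
  interval_cases m
  exacts [tt1 M, tt2 M, tt3 M]

/-- non-commuting pairs -/
theorem pair {a d : G} (ha : a ∈ D) (hd : d ∈ D) (h : ¬ Commute a d) :
    ∃ y, a = (M.conj y).g 1 ∧ d = (M.conj y).g 2 := by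
  obtain ⟨y, rfl⟩ := M.exists_t_eq ha (p := 11589) (by decide)
  obtain ⟨q, hq, rfl⟩ := ((M.conj y).mem_D d).1 hd
  obtain ⟨z, h1, h2⟩ := (M.conj y).exists_t_eq_of_covB nc2 (by decide) hq ⟨trivial, h⟩
  have e : ∀ l, ((M.conj y).conj z).g l = (M.conj (z * y)).g l := fun p => by
    simp only [Mdl.conj_g]; group
  refine ⟨z * y, ?_, ?_⟩
  · rw [← e, ← h2 _ List.mem_cons_self]; exact ((M.conj y).conj z).t_root
  · rw [← e, ← h1]; simpa using ((M.conj y).conj z).t_eq_el (W := [2]) (by decide +kernel)

theorem g1_z : g1 11 = Fi23P.z := by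
  have := weq (A := [11]) (B := Fi23P.zW) (by decide +kernel)
  rw [wv_congr (g := g1) (g' := Fi23P.g0) (L := Fi23P.zW) fun l hl =>
    g1_eq (lt_of_ltB (k := 11) (Ws := [Fi23P.zW]) (by decide +kernel) _ List.mem_cons_self l hl)] at this
  simpa [Fi23P.z] using this

/-- the centraliser of a transposition -/
theorem cent1 (e : Cfsg.Spor.Fi23 ≃* G) (he : ∀ l, M.g l = e (g1 l)) {d : G} (hd : d ∈ D) :
    Subgroup.closure {y | y ∈ D ∧ y ≠ d ∧ Commute d y} = Subgroup.centralizer {d} ∧
    IsQuasisimple (Subgroup.closure {y | y ∈ D ∧ y ≠ d ∧ Commute d y}) ∧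
    Subgroup.center (Subgroup.closure {y | y ∈ D ∧ y ≠ d ∧ Commute d y}) =
      (Subgroup.zpowers d).subgroupOf (Subgroup.closure {y | y ∈ D ∧ y ≠ d ∧ Commute d y}) := by
  obtain ⟨y, rfl⟩ := M.exists_t_eq hd (p := 0) (by decide)
  have he' : ∀ l, (M.conj y).g l = (e.trans (MulAut.conj y)) (g1 l) := fun l => by rw [Mdl.conj_g, he]; rfl
  generalize M.conj y = N at he' hd ⊢
  generalize e.trans (MulAut.conj y) = f at he'
  have := N.fin
  have h1 : N.t 0 = f Fi23P.z := by
    rw [← g1_z, ← he']; simpa using N.t_eq_el (W := [11]) (by decide +kernel)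
  have h2 : Subgroup.centralizer {N.t 0} = Fi23P.K.map f.toMonoidHom := by
    rw [← Fi23P.centralizer_z, h1]
    ext x
    obtain ⟨x, rfl⟩ := f.surjective x
    rw [Subgroup.mem_map_equiv, Subgroup.mem_centralizer_singleton_iff, Subgroup.mem_centralizer_singleton_iff,
      ← map_mul, ← map_mul, f.apply_eq_iff_eq, f.symm_apply_apply]
  have h3 : Subgroup.closure {y | y ∈ D ∧ y ≠ N.t 0 ∧ Commute (N.t 0) y} = Subgroup.centralizer {N.t 0} := by
    refine le_antisymm ((Subgroup.closure_le _).2 fun y hy =>
      Subgroup.mem_centralizer_singleton_iff.2 hy.2.2.eq.symm) ?_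
    have h4 := N.gW_le_of_prodB (s := (cellA [0]).ev C [] [] C.root) (Ws := [[1],[2],[3],[4],[5],[6],[7],[8],[9]])
      (E := [[23179],[16009],[16007],[16001],[16003],[16005],[16011],[15999],[16015]]) (by decide +kernel)
    rw [N.tS_cellA (A := [0]) (by decide +kernel)] at h4
    rw [h2, ← Fi23P.K_eq, Subgroup.map_le_iff_le_comap]
    refine gW_le fun W hW => Subgroup.closure_mono (fun y hy => ?_) (h4 ?_)
    · exact ⟨hy.1, (hy.2 0 List.mem_cons_self).2, (hy.2 0 List.mem_cons_self).1⟩
    · have h5 : ltB 11 [[1],[2],[3],[4],[5],[6],[7],[8],[9]] = true := by decide +kernel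
      rw [wv_congr (g := Fi23P.g0) (g' := g1) fun l hl => (g1_eq (lt_of_ltB h5 W hW l hl)).symm, map_wv]
      rw [show N.g = fun l => f.toMonoidHom (g1 l) from funext he']
      exact mem_gW hW
  have e1 : Fi23P.K ≃* Subgroup.closure {y | y ∈ D ∧ y ≠ N.t 0 ∧ Commute (N.t 0) y} :=
    (f.subgroupMap _).trans (MulEquiv.subgroupCongr (h3.trans h2).symm)
  obtain ⟨h4, ⟨e2⟩, -⟩ := Fi23P.nonsplit
  have := Fi22P.simple
  refine ⟨h3, Trans.IsQuasisimple.of_mulEquiv ⟨⟨Fi23P.perfectK⟩, e2.isSimpleGroup⟩ e1, center_eq_of_card h3 ?_⟩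
  rw [← Nat.card_congr (Subgroup.centerCongr e1).toEquiv, h4, h1, MulEquiv.orderOf_eq, Fi23P.order_z]

include M in
/-- the centraliser of two commuting transpositions -/
theorem cent2 {a b : G} (h : CT D 2 [a, b]) :
    Subgroup.centralizer {a, b} = Subgroup.closure {y | (y ∈ D ∧ y ≠ a ∧ Commute a y) ∧ y ≠ b ∧ Commute b y} ∧
    Group.IsPerfect (Subgroup.centralizer ({a, b} : Set G)) ∧ ∀ x ∈ Subgroup.centralizer ({a, b} : Set G),
      (∀ y ∈ D, y ≠ a → y ≠ b → Commute a y → Commute b y → Commute x y) → x ∈ Subgroup.closure {a, b} := by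
  obtain ⟨y, e⟩ := tup2 M _ h
  generalize M.conj y = N at e
  obtain ⟨rfl, e'⟩ := List.cons.inj e
  obtain ⟨rfl, -⟩ := List.cons.inj e'
  have h1 : ∀ x, x ∈ Subgroup.centralizer {N.t 8003, N.t 11589} ↔ x ∈ N.grp c2σ := fun x => by
    rw [c2σ, N.mem_grp_F (by decide), Subgroup.mem_centralizer_iff]
    simp [Commute, SemiconjBy, eq_comm]
  have h2 : N.tS s2t = {y | (y ∈ D ∧ y ≠ N.t 8003 ∧ Commute (N.t 8003) y) ∧ y ≠ N.t 11589 ∧ Commute (N.t 11589) y} := by
    rw [N.tS_cellA s2tc]; ext y; simp; tauto
  have h3 : Subgroup.centralizer {N.t 8003, N.t 11589} = Subgroup.closure (N.tS s2t) := by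
    refine le_antisymm (fun x hx => N.gW_le_of_prodB c2p ((c2 N).2 ▸ (h1 x).1 hx)) ?_
    rw [h2, Subgroup.closure_le]
    rintro y hy _ (rfl | rfl)
    exacts [hy.1.2.2, hy.2.2]
  refine ⟨h2 ▸ h3, h3 ▸ perf2 N, fun x hx h4 => ?_⟩
  have h5 := N.gW_le_of_prodB z2p
  rw [N.tS_setL (by decide +kernel), ← (z2 N).2] at h5
  refine Subgroup.closure_mono (fun y hy => by simpa using hy) (h5 ((N.mem_grp_F (by decide)).2 fun p hp => ?_))
  rcases List.mem_append.1 (show p ∈ [6795,2665,5265,10521,15821] ++ [8003, 11589] from hp) with hp | hp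
  · have h6 := allL_iff.1 z2q p hp
    have h7 : N.t p ∈ N.tS s2t := ⟨p, by simpa using band_left h6, tb_eq _ _ ▸ band_right h6, rfl⟩
    rw [h2] at h7
    exact h4 _ h7.1.1 h7.1.2.1 h7.2.1 h7.1.2.2 h7.2.2
  · exact (N.mem_grp_F (by decide)).1 ((h1 x).1 hx) p hp

end


end Cfsg.Lib.Spor.F23
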