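import Cfsg.Agent.Spor.BmAbs
import Cfsg.Agent.Spor.BmCv1
import Cfsg.Agent.Spor.BmCv2
import Cfsg.Agent.Spor.BmCv3
import Cfsg.Agent.Spor.BmCv4

/-! The collapsed adjacency matrix of rank 23: all covers and the arithmetic. -/

set_option autoImplicit false
set_option maxRecDepth 100000

namespace Cfsg.Lib.Spor.Bm

open Cfsg.Lib.Spor.Bulk Cfsg.Lib.Spor.Fm Finset

/-- generators of the node stabilisers -/
def G0L : List (List (List ℕ)) := [[[1], [2], [3], [4], [5], [6], [7], [8], [9], [10]], G0_1, G0_2, G0_3, G0_4, G0_5, G0_6, G0_7, G0_8, G0_9, G0_10, G0_11, G0_12, G0_13, G0_14, G0_15, G0_16, G0_17, G0_18, G0_19, G0_20, G0_21, G0_22]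

/-- representatives with their targets -/
def repsL : List (List (List ℕ × ℕ × ℕ × ℕ)) := [[([], 1, 1, 1)], reps_1, reps_2, reps_3, reps_4, reps_5, reps_6, reps_7, reps_8, reps_9, reps_10, reps_11, reps_12, reps_13, reps_14, reps_15, reps_16, reps_17, reps_18, reps_19, reps_20, reps_21, reps_22]

/-- the rows of the matrix -/
def rowL : List (List ℕ) := [[0, 412896, 0, 0, 0, 0, 0, 0, 0, 0, 0, 0, 0, 0, 0, 0, 0, 0, 0, 0, 0, 0, 0], row_1, row_2, row_3, row_4, row_5, row_6, row_7, row_8, row_9, row_10, row_11, row_12, row_13, row_14, row_15, row_16, row_17, row_18, row_19, row_20, row_21, row_22]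

noncomputable def G0 : ℕ → List (List ℕ) := getN [] G0L

noncomputable def reps : ℕ → List (List ℕ × ℕ × ℕ × ℕ) := getN [] repsL

/-- the collapsed adjacency matrix -/
noncomputable def A (i : ℕ) : ℕ → ℕ := getN 0 (getN [] rowL i)

/-- the orbit lengths -/
noncomputable def nB : ℕ → ℕ := getN 0 [1, 412896, 86316516, 23478092352, 33816182400, 195747435, 1584771233760, 8537488128, 7888639030272, 160533964800, 262954634342400, 1044084577536, 283991005089792, 5282570779200, 190172548051200, 21514470082560, 133120783635840, 1152560897280, 50712679480320, 113778447552, 504245392560, 12678169870080, 43028940165120]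

/-- the defining tree -/
noncomputable def parB : ℕ → ℕ := getN 0 [0, 0, 1, 1, 1, 3, 3, 2, 2, 4, 4, 3, 3, 3, 3, 4, 3, 5, 5, 9, 7, 11, 15]

/-- the iterates of the indicator of the base node -/
noncomputable def wB (m : ℕ) : ℕ → ℕ := getN 0 (getN [] [[1, 0, 0, 0, 0, 0, 0, 0, 0, 0, 0, 0, 0, 0, 0, 0, 0, 0, 0, 0, 0, 0, 0], [0, 1, 0, 0, 0, 0, 0, 0, 0, 0, 0, 0, 0, 0, 0, 0, 0, 0, 0, 0, 0, 0, 0], [412896, 2, 136, 1, 4, 0, 0, 0, 0, 0, 0, 0, 0, 0, 0, 0, 0, 0, 0, 0, 0, 0, 0], [825792, 5646778, 544, 274, 40, 16192, 9002, 124432, 772, 1456, 7, 272, 1, 72, 2, 880, 200, 0, 0, 0, 0, 0, 0], [2331532049088, 56270000, 9003786432, 266230896, 1390368768, 77316800, 2806320, 1796256, 5517360, 3028896, 41001048, 1803904, 19629480, 59206336, 13047792, 4998576, 8508160, 22992288, 91327952, 13963456, 577587648, 186220288, 29237560]] m)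

theorem cov_0 : CovOK 23 (G0 0) (reps 0) (A 0) := by
  intro _ f v h1 h2 h3
  rw [covOK_top (r := 23) (k := 1) (by norm_num) f v h1 h2 h3]
  refine congrArg _ (sum_congr rfl fun k hk => congrArg (· * v k) ?_)
  have : ∀ k < 23, (if k = 1 then 412896 else 0) = A 0 k := by decide +kernel
  exact this k (mem_range.1 hk)

theorem cov_all : ∀ i < 23, CovOK 23 (G0 i) (reps i) (A i)
  | 0, _ => cov_0
  | 1, _ => cov_1
  | 2, _ => cov_2
  | 3, _ => cov_3
  | 4, _ => cov_4
  | 5, _ => cov_5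
  | 6, _ => cov_6
  | 7, _ => cov_7
  | 8, _ => cov_8
  | 9, _ => cov_9
  | 10, _ => cov_10
  | 11, _ => cov_11
  | 12, _ => cov_12
  | 13, _ => cov_13
  | 14, _ => cov_14
  | 15, _ => cov_15
  | 16, _ => cov_16
  | 17, _ => cov_17
  | 18, _ => cov_18
  | 19, _ => cov_19
  | 20, _ => cov_20
  | 21, _ => cov_21
  | 22, _ => cov_22
  | _ + 23, h => absurd h (by omega)

theorem arithG : ArithG 23 4 A wB parB nB 3 47 := by decide +kernel

theorem sum_nB : ∑ k ∈ range 23, nB k = 1015970529280000 := by decide +kernel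

theorem sum_nB_17 : ∑ k ∈ range 23, nB k % 17 = 4 := by decide +kernel

end Cfsg.Lib.Spor.Bm
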