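import Cfsg.Agent.Spor.ONUp
import Cfsg.Agent.Spor.ONTab

set_option autoImplicit false
set_option maxRecDepth 100000
set_option Elab.async false

namespace Cfsg.Lib.Spor.ONP

open Cfsg.Lib.Spor.Bulk

theorem up_all {G : Type*} [Group G] {g : ℕ → G} (hg : Sat g 9 iota R) :
    Finite (gL g [1,2,3,4,5,6,7,8]) ∧ Nat.card (gL g [1,2,3,4,5,6,7,8]) ≤ 460815505920 :=
  ((on (hg.sub (by decide +kernel)) forall_mem_nil' (forall_mem_gL g [1,2,3,4,5,6])).card_le (up_H (hg.sub (by decide +kernel)))).imp id fun h => h.trans (by norm_num)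

/-- the permutation representation of degree 122760 -/
noncomputable def ρ : Cfsg.Spor.ON →* Equiv.Perm (Fin 122760) := hom (on_sat.sub (by decide +kernel))

theorem ρ_g0 : ∀ l < 9, ρ (g0 l) = prm on_T 122760 l := hom_g0 _

theorem model : CosetModel (gW g0 [[1],[2],[3],[4],[5],[6]]) ρ ⟨0, by norm_num⟩ :=
  BulkCert.cosetModel (C := on_C) on_nets on_sat on_head on_tree on_just (sat.sub (by decide +kernel))
    (on_loops (sat.sub (by decide +kernel)) (mem_gW_of_subL (by decide +kernel)) (mem_gW_of_subL_sing (by decide +kernel)))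
    ρ_g0 top (by decide +kernel) rfl

theorem low_H_l0 : levB on_T 122760 17 [1,2,3,4,5,6] [] [[4],[2],[1],[3],[5],[6]] 7 1 58653 = true := by decide +kernel
theorem low_H_l1 : levB on_T 122760 17 [1,2,3,4,5,6] [1] [[2,3,4,3,2,1,4,3,5,4,3,2,4,3,5,6,4,3,4,5,4,2,3,4,3,2],[2,1,3,2,4,3,5,4,3,2,4,5,3,4,3,2,4,5,3,4,3,4,5,6,2,3,4,5],[6,2,1,5,4,3,2,4,3,5,4,3,2,4,3,4,5,3,4,3,2,4,5,6,3,4,5,3,2],[1],[6],[3,4,3,4],[5,4,3,2,6,5,4,3,4,3,5,4,2,3,4,3,2,5,4,3,4,3,2,5,4,3,2,1,2]] 1 27 64 = true := by decide +kernel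
theorem low_H : 3753792 ≤ Nat.card (gL (prm on_T 122760) [1,2,3,4,5,6]) :=
  le_trans (by norm_num) (Low.le (Low.step on_nets on_w (Low.step on_nets on_w (Low.one _ _) low_H_l1) low_H_l0))

theorem low_all_l0 : levB on_T 122760 17 [1,2,3,4,5,6,7,8] [] [[1],[2],[3],[4],[5],[6],[7],[8]] 6 0 122760 = true := by decide +kernel
theorem low_all : 460815505920 ≤ Nat.card (gL (prm on_T 122760) [1,2,3,4,5,6,7,8]) :=
  le_trans (by norm_num) (Low.le (Low.step on_nets on_w (Low.par on_nets low_H (by decide +kernel)) low_all_l0))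

theorem up : Finite Cfsg.Spor.ON ∧ Nat.card Cfsg.Spor.ON ≤ 460815505920 := finite_card_of_top top (up_all sat)

theorem card_inj : Nat.card Cfsg.Spor.ON = 460815505920 ∧ Function.Injective ρ :=
  card_eq_of_bounds ρ up (gL_le_range ρ_g0 (by decide +kernel)) low_all

theorem card : Nat.card Cfsg.Spor.ON = 460815505920 := card_inj.1

theorem injective : Function.Injective ρ := card_inj.2

instance finite : Finite Cfsg.Spor.ON := up.1

theorem card_H : Nat.card (gL g0 [1,2,3,4,5,6]) = 3753792 := by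
  apply le_antisymm (up_H (sat.sub (by decide +kernel))).2
  rw [← Subgroup.card_map_of_injective injective, map_gL ρ_g0 (by decide +kernel)]
  exact low_H

theorem coatom : IsCoatom (gW g0 [[1],[2],[3],[4],[5],[6]]) :=
  model.isCoatom rfl on_nets ρ_g0 (by decide +kernel) (cw := [7])
    (model.eq_top_of_grow rfl on_nets ρ_g0 (gW_mono (by decide +kernel)) (j := 5) (by decide +kernel))
    (c := 1) (by norm_num) (by norm_num) (by decide +kernel) (by decide +kernel)
    (reps := [(1, [7], [[7]]), (10, [7,2,7], [[7,2,7],[3],[2],[7,2,7],[4],[3],[7,2,7],[4],[3],[2]]), (15, [7,3,7], [[7,3,7],[2],[7,3,7],[1],[4],[7,3,7],[2],[7,3,7],[2],[4],[7,3,7],[2]]), (32, [7,2,4,7], [[7,2,4,7],[3],[2],[7,2,4,7],[3],[7,2,4,7],[3],[2],[4]])]) (j := 9) (by decide +kernel) (by decide +kernel) (by decide +kernel)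

noncomputable def col_C : SeqCert := ⟨nat_lit 6, nat_lit 9, nat_lit 9, nat_lit 0x70808070606050504040303020201010000, (NT.leaf (nat_lit 0) (nat_lit 0x80000400000100051040060405000006c400140056db007050079b036de0279e0579e0479c086dc066de0571c0371c0815b0075b0271c026db0871e0171c016db08100060000018000204032040088402208005c806108041880810603145021450114502104003c80034600305002c4030000200001000000400810d0610f0418f0314c071000068d0064f0054c0300100500001c4000c100280049d60081603527072e7048270214c0210b041ca004cc0048b0044a0200100081002400040900902061cf0084f01951011ce007ce068e5039a302366043a5024240621f041990221703155071140215302112041d1073470720d0118d0114c010ca029ca069890394901909048c8038880684702807017c7087850774506705046c5076840664405604035c4075830554302503054c2044820344201402083c1073810634105301042c1032810224108200071c0061800514004100030c0020800104000000)), (NT.node (nat_lit 20) (NT.node (nat_lit 10) (NT.node (nat_lit 5) (NT.node (nat_lit 2) (NT.node (nat_lit 1) (NT.leaf (nat_lit 16388)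 (nat_lit 0x1030103)) (NT.leaf (nat_lit 16396) (nat_lit 0x1050105))) (NT.node (nat_lit 3) (NT.leaf (nat_lit 16400) (nat_lit 0x1060106)) (NT.node (nat_lit 4) (NT.leaf (nat_lit 32829) (nat_lit 0x7070106)) (NT.leaf (nat_lit 49213) (nat_lit 0x7010607))))) (NT.node (nat_lit 7) (NT.node (nat_lit 6) (NT.leaf (nat_lit 32857) (nat_lit 0x4080203)) (NT.leaf (nat_lit 16408) (nat_lit 0x2040204))) (NT.node (nat_lit 8) (NT.leaf (nat_lit 16412) (nat_lit 0x2050205)) (NT.node (nat_lit 9) (NT.leaf (nat_lit 88) (nat_lit 0x7040302)) (NT.leaf (nat_lit 16424) (nat_lit 0x3050305)))))) (NT.node (nat_lit 15) (NT.node (nat_lit 12) (NT.node (nat_lit 11) (NT.leaf (nat_lit 49240) (nat_lit 0x2070403)) (NT.leaf (nat_lit 16436) (nat_lit 0x4060406))) (NT.node (nat_lit 13) (NT.leaf (nat_lit 16445) (nat_lit 0x6070701)) (NT.node (nat_lit 14) (NT.leaf (nat_lit 0) (nat_lit 0x20102010201)) (NT.leaf (nat_lit 16416) (nat_lit 0x2060206))))) (NT.node (nat_lit 17) (NT.node (nat_lit 16) (NT.leaf (nat_lit 32856) (nat_lit 0x3020704))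 (NT.leaf (nat_lit 44) (nat_lit 0x6030603))) (NT.node (nat_lit 18) (NT.leaf (nat_lit 52) (nat_lit 0x6040604)) (NT.node (nat_lit 19) (NT.leaf (nat_lit 6) (nat_lit 0x101)) (NT.leaf (nat_lit 16392) (nat_lit 0x1040104))))))) (NT.node (nat_lit 30) (NT.node (nat_lit 25) (NT.node (nat_lit 22) (NT.node (nat_lit 21) (NT.leaf (nat_lit 32828) (nat_lit 0x6010808)) (NT.leaf (nat_lit 26) (nat_lit 0x606))) (NT.node (nat_lit 23) (NT.leaf (nat_lit 10) (nat_lit 0x202)) (NT.node (nat_lit 24) (NT.leaf (nat_lit 14) (nat_lit 0x303)) (NT.leaf (nat_lit 18) (nat_lit 0x404))))) (NT.node (nat_lit 27) (NT.node (nat_lit 26) (NT.leaf (nat_lit 22) (nat_lit 0x505)) (NT.leaf (nat_lit 24) (nat_lit 0x4020402))) (NT.node (nat_lit 28) (NT.leaf (nat_lit 20) (nat_lit 0x30203020302)) (NT.node (nat_lit 29) (NT.leaf (nat_lit 16472) (nat_lit 0x4030207)) (NT.leaf (nat_lit 114756) (nat_lit 0x4080307040704030408)))))) (NT.node (nat_lit 35) (NT.node (nat_lit 32) (NT.node (nat_lit 31) (NT.leaf (nat_lit 34) (nat_lit 0x807))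 (NT.leaf (nat_lit 30) (nat_lit 0x708))) (NT.node (nat_lit 33) (NT.leaf (nat_lit 80) (nat_lit 0x307030207020307030207)) (NT.node (nat_lit 34) (NT.leaf (nat_lit 16444) (nat_lit 0x8060108)) (NT.leaf (nat_lit 49241) (nat_lit 0x8020304))))) (NT.node (nat_lit 37) (NT.node (nat_lit 36) (NT.leaf (nat_lit 16428) (nat_lit 0x3060306)) (NT.leaf (nat_lit 16440) (nat_lit 0x50605060506))) (NT.node (nat_lit 38) (NT.leaf (nat_lit 60) (nat_lit 0x8080601)) (NT.node (nat_lit 39) (NT.leaf (nat_lit 82005) (nat_lit 0x508050408040805040804)) (NT.leaf (nat_lit 16432) (nat_lit 0x40504050405))))))))⟩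
noncomputable def col_U : List (List ℕ) := []
noncomputable def col_HL : List ℕ := []
theorem col_head : col_C.head 9 iota (R ++ [[7,4,3,2]]) col_U col_HL 40 6 0 = true := by decide +kernel
noncomputable def col_s0 : List ℕ := [nat_lit 0x22aae0107a2a08010621e09898221e090309e2230010661b08860c408198582804197242e0efb0207c17077bc18081982bfe08030c8de0afc01861db0280c0ddb020306df8fb7600c1ef9763e0060e7e3a9f8f6753f1d4fc7b3a814267a3b9d40302ba070f20189478f27300c28380538816390289070ce1c80c46f11d0083c3667b347604110e19839018386ccc1b80c0c3c650e406211c3287203010d994370184dc2d101079c20c0105412df6980c30c96eb65b8c96e81836db220082e2f6b11406176b99404166ab25a864020398eb5010558eb3010618ab70107986b10105d86930105986530104982910105820b90f80c3e0c5c86c0615052e432030c82172170186172a70105d7287010597202010482264172b94c87089905cae5302c40ad1a0083cab190082aab3380830a9318082ea5308083e58510d4061e3ea8866030a861422b0186542060105d0ca11480c2c084fa3c06180127ca2030903d1c140ba59382c0303d1c0a0ea6d28020c0b052984a810384e0a21c0e290286c9c140b80c104e47904061a4697c04164597404164496c04180c2144e030c8590a250186028851180c2e85020082c0241a04400409014fe6b400102c493f0840612119e4944902000f642010543c1d3b90c08142d9d8d803099d47c02091b0e64634010224a269c0061023158dc0307930241b0183894120e80c0a48090080a21028347c0e0880c183204034060b170202203050a80c0b0182450060480c10260202c060712010120303088080f018141c0d2a00c081a0104406030d0081a0301060040b0180428020380c0065]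
theorem col_ok0 : col_C.StepsOK 40 141 := (SeqCert.StepsOK.refl _ 40).step (L := col_s0) (by decide +kernel)
theorem col_ok : col_C.StepsOK (40 + 0) 141 := col_ok0
noncomputable def col_r0 : List ℕ := [nat_lit 0x2300464071010e022c02f805e00ba000]
theorem col_final : col_C.final 9 141 (nat_lit 0x1) 1 [1,2,3,4,5,6,7,8] (col_r0) = true := by decide +kernel
theorem col {G : Type*} [Group G] {g : ℕ → G} {H : Subgroup G} (hg : Sat g 9 iota (R ++ [[7,4,3,2]]))
    (hU : ∀ u ∈ col_U, wv g u ∈ H) (hL : ∀ l ∈ col_HL, g l ∈ H) :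
    IdxLe H (Subgroup.closure {x | ∃ l ∈ ([1,2,3,4,5,6,7,8] : List ℕ), g l = x}) 1 :=
  SeqCert.idxLe_of_final hg hU hL col_head col_ok col_final

theorem simple : IsSimpleGroup Cfsg.Spor.ON :=
  haveI := up.1
  isSimpleGroup_of_cert sat top model injective coatom (x := [7,4,3,2]) (m := 5) (h := 3753792)
    (sat.rel _ (by decide +kernel)) card (by norm_num) (by norm_num)
    fun _ _ h => col h forall_mem_nil' forall_mem_nil'


end Cfsg.Lib.Spor.ONP
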