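import Cfsg.Agent.Spor.Fi23Pres
import Cfsg.Agent.Spor.YCox
import Cfsg.Agent.Spor.YA
import Cfsg.Agent.Spor.YB
import Cfsg.Agent.Spor.Fi23Tab

set_option autoImplicit false
set_option maxRecDepth 100000

namespace Cfsg.Lib.Spor.Fi23P

open Cfsg.Lib.Spor.Bulk Cfsg.Lib.Spor.YP

theorem up_O7 {G : Type*} [Group G] {g : ℕ → G} (hg : Sat g 11 idI R) :
    Finite (gL g [2,3,4,5,6,7,8,9]) ∧ Nat.card (gL g [2,3,4,5,6,7,8,9]) ≤ 9170703360 :=
  ((ya (hg.deriv' (k' := 10) (by norm_num) (E := [(9,0),(10,0),(11,0),(12,0),(13,0),(15,0),(16,0),(17,0),(18,0),(19,0),(20,0),(22,0),(23,0),(24,0),(25,0),(26,0),(28,0),(29,0),(30,0),(31,0),(33,0),(34,0),(35,0),(37,0),(38,0),(40,0),(41,0),(44,0),(45,0)]) (by decide +kernel)) forall_mem_nil' (forall_mem_gL g [2,3,4,5,6,7,8])).card_le (up_bcdefgh (hg.deriv' (k' := 9) (by norm_num) (E := [(0,0),(1,0),(2,0),(3,0),(4,0),(5,0),(7,0),(9,0),(10,0),(11,0),(12,0),(13,0),(15,0),(17,0),(18,0),(19,0),(20,0),(22,0),(24,0),(25,0),(26,0),(28,0),(30,0),(31,0),(33,0),(35,0),(37,0),(40,0)])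 (by decide +kernel)))).imp id fun h => h.trans (by norm_num)

theorem up_Fi22 {G : Type*} [Group G] {g : ℕ → G} (hg : Sat g 11 idI R) :
    Finite (gL g [1,2,3,4,5,6,7,8,9]) ∧ Nat.card (gL g [1,2,3,4,5,6,7,8,9]) ≤ 129123503308800 :=
  ((yb (hg.deriv' (k' := 10) (by norm_num) (E := [(0,0),(1,0),(2,0),(3,0),(4,0),(5,0),(7,0),(8,0),(9,0),(10,0),(11,0),(12,0),(13,0),(15,0),(16,0),(17,0),(18,0),(19,0),(20,0),(22,0),(23,0),(24,0),(25,0),(26,0),(28,0),(29,0),(30,0),(31,0),(33,0),(34,0),(35,0),(37,0),(38,0),(40,0),(41,0),(44,0),(45,0),(46,0)]) (by decide +kernel)) forall_mem_nil' (forall_mem_gL g [2,3,4,5,6,7,8,9])).card_le (up_O7 hg)).imp id fun h => h.trans (by norm_num)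

theorem up_all {G : Type*} [Group G] {g : ℕ → G} (hg : Sat g 11 idI R) :
    Finite (gL g [1,2,3,4,5,6,7,8,9,10]) ∧ Nat.card (gL g [1,2,3,4,5,6,7,8,9,10]) ≤ 4089470473293004800 :=
  ((fi23a (hg.sub (by decide +kernel)) forall_mem_nil' (forall_mem_gL g [1,2,3,4,5,6,7,8,9])).card_le (up_Fi22 hg)).imp id fun h => h.trans (by norm_num)

/-- the permutation representation of degree 31671 -/
noncomputable def ρ : Cfsg.Spor.Fi23 →* Equiv.Perm (Fin 31671) := hom (fi23a_sat.sub (by decide +kernel))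

theorem ρ_g0 : ∀ l < 11, ρ (g0 l) = prm fi23a_T 31671 l := hom_g0 _

theorem model : CosetModel (gW g0 [[1],[2],[3],[4],[5],[6],[7],[8],[9]]) ρ ⟨0, by norm_num⟩ :=
  BulkCert.cosetModel (C := fi23a_C) fi23a_nets fi23a_sat fi23a_head fi23a_tree fi23a_just (sat.sub (by decide +kernel))
    (fi23a_loops (sat.sub (by decide +kernel)) (mem_gW_of_subL (by decide +kernel)) (mem_gW_of_subL_sing (by decide +kernel)))
    ρ_g0 top (by decide +kernel) rfl

theorem low_O7_l0 : levB fi23a_T 31671 15 [1,2,3,4,5,6,8,9] [] [[1],[2],[3],[4],[5],[6],[8],[9]] 7 224 21840 = true := by decide +kernel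
theorem low_O7_l1 : levB fi23a_T 31671 15 [1,2,3,4,5,6,8,9] [224] [[2],[3],[5],[6],[8],[9],[3,4,3,5,8,4,3,2,5,4,6,9,6,5,4,8,4,5,3,4],[1,2,3,2,1,4,3,5,6,8,4,3,2,1,5,4,3,2,6,5,8,9,8,4,5,6,3,4,5,2,3,4,8,1,2,3,4,2,1]] 3 1640 7776 = true := by decide +kernel
theorem low_O7_l2 : levB fi23a_T 31671 15 [1,2,3,4,5,6,8,9] [1640,224] [[3,4,5,6,5,4,8,4,3,5,4,8,9,8,4,5,3,4,8,9,6,5,4,8],[3,4,3,2,1,5,4,8,4,3,5,4,6,5,8,9,8,4,5,8,5,6,3,4,5,1,2,3,4,8,3,4,5,6,5,2,3,2],[1,6,5,4,3,2,8,4,3,2,5,4,8,9,8,4,3,5,4,6,5,8,2,3,4,8,9,5,3,4,8,5,6,3,4,5,3,4,2,1]] 2 2 27 = true := by decide +kernel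
theorem low_O7 : 4585351680 ≤ Nat.card (gL (prm fi23a_T 31671) [1,2,3,4,5,6,8,9]) :=
  le_trans (by norm_num) (Low.le (Low.step fi23a_nets fi23a_w (Low.step fi23a_nets fi23a_w (Low.step fi23a_nets fi23a_w (Low.one _ _) low_O7_l2) low_O7_l1) low_O7_l0))

theorem low_Fi22_l0 : levB fi23a_T 31671 15 [1,2,3,4,5,6,7,8,9] [] [[1],[2],[3],[4],[5],[6],[7],[8],[9]] 12 1 28160 = true := by decide +kernel
theorem low_Fi22 : 129123503308800 ≤ Nat.card (gL (prm fi23a_T 31671) [1,2,3,4,5,6,7,8,9]) :=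
  le_trans (by norm_num) (Low.le (Low.step fi23a_nets fi23a_w (Low.par fi23a_nets low_O7 (by decide +kernel)) low_Fi22_l0))

theorem low_all_l0 : levB fi23a_T 31671 15 [1,2,3,4,5,6,7,8,9,10] [] [[1],[2],[3],[4],[5],[6],[7],[8],[9],[10]] 13 0 31671 = true := by decide +kernel
theorem low_all : 4089470473293004800 ≤ Nat.card (gL (prm fi23a_T 31671) [1,2,3,4,5,6,7,8,9,10]) :=
  le_trans (by norm_num) (Low.le (Low.step fi23a_nets fi23a_w (Low.par fi23a_nets low_Fi22 (by decide +kernel)) low_all_l0))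

theorem up : Finite Cfsg.Spor.Fi23 ∧ Nat.card Cfsg.Spor.Fi23 ≤ 4089470473293004800 := finite_card_of_top top (up_all sat)

theorem card_inj : Nat.card Cfsg.Spor.Fi23 = 4089470473293004800 ∧ Function.Injective ρ :=
  card_eq_of_bounds ρ up (gL_le_range ρ_g0 (by decide +kernel)) low_all

theorem card : Nat.card Cfsg.Spor.Fi23 = 4089470473293004800 := card_inj.1

theorem injective : Function.Injective ρ := card_inj.2

instance finite : Finite Cfsg.Spor.Fi23 := up.1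

theorem coatom : IsCoatom (gW g0 [[1],[2],[3],[4],[5],[6],[7],[8],[9]]) :=
  model.isCoatom rfl fi23a_nets ρ_g0 (by decide +kernel) (cw := [10])
    (gW_eq_top_of_subL top (by decide +kernel))
    (c := 1) (by norm_num) (by norm_num) (by decide +kernel) (by decide +kernel)
    (reps := [(1, [10], [[10]]), (52, [10,7,6,5,4,3,8,4,5,6,7,10], [[10,7,6,5,4,3,8,4,5,6,7,10],[2],[10,7,6,5,4,3,8,4,5,6,7,10],[2],[3],[4],[5],[6],[7]])]) (j := 12) (by decide +kernel) (by decide +kernel) (by decide +kernel)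

theorem orb_0 : (MulAction.orbit (gW g0 [[1],[2],[3],[4],[5],[6],[7],[8],[9]]) (model.equiv.symm ⟨52, by norm_num⟩)).ncard = 3510 := by
  rw [model.ncard_orbit, map_gW ρ_g0 (by decide +kernel)]
  exact ncard_orbit_of_orbCnt fi23a_nets fi23a_w (k := 6) (by decide +kernel)

theorem orb_1 : (MulAction.orbit (gW g0 [[1],[2],[3],[4],[5],[6],[7],[8],[9]]) (model.equiv.symm ⟨1, by norm_num⟩)).ncard = 28160 := by
  rw [model.ncard_orbit, map_gW ρ_g0 (by decide +kernel)]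
  exact ncard_orbit_of_orbCnt fi23a_nets fi23a_w (k := 12) (by decide +kernel)

theorem card_2Fi22 : Nat.card (gL g0 [1,2,3,4,5,6,7,8,9]) = 129123503308800 := by
  apply le_antisymm (up_Fi22 sat).2
  rw [← Subgroup.card_map_of_injective injective, map_gL ρ_g0 (by decide +kernel)]
  exact low_Fi22

end Cfsg.Lib.Spor.Fi23P
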