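import Cfsg.Agent.Spor.SuzUp

set_option autoImplicit false
set_option maxRecDepth 100000

namespace Cfsg.Lib.Spor.SuzP

open Cfsg.Lib.Spor.Bulk

/-- the permutation representation of degree 1782 -/
noncomputable def ρ : Cfsg.Spor.Suz →* Equiv.Perm (Fin 1782) := hom (sz_sat.sub (by decide +kernel))

theorem ρ_g0 : ∀ l < 8, ρ (g0 l) = prm sz_T 1782 l := hom_g0 _

theorem model : CosetModel (gW g0 [[1],[2],[3],[4],[5],[6]]) ρ ⟨0, by norm_num⟩ :=
  BulkCert.cosetModel (C := sz_C) sz_nets sz_sat sz_head sz_tree sz_just (sat.sub (by decide +kernel))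
    (sz_loops (sat.sub (by decide +kernel)) (mem_gW_of_subL (by decide +kernel)) (mem_gW_of_subL_sing (by decide +kernel)))
    ρ_g0 top (by decide +kernel) rfl

theorem low_abcde_l0 : levB sz_T 1782 11 [1,2,3,4,5] [] [[1],[2],[3],[4],[5]] 6 21 1050 = true := by decide +kernel
theorem low_abcde_l1 : levB sz_T 1782 11 [1,2,3,4,5] [21] [[5],[2,3],[1,2,1],[2,1,2,3,4,3,4,5,4,3,2,4,3,1],[1,2,1,2,4,3,2,4,3,2,1,2,1,4,2,3,4,2],[3,2]] 2 8 192 = true := by decide +kernel
theorem low_abcde_l2 : levB sz_T 1782 11 [1,2,3,4,5] [8,21] [[1,2,1,2,3,2,1,4,3,2,1,2,3,4,3,4,2,3,4]] 2 14 3 = true := by decide +kernel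
theorem low_abcde : 604800 ≤ Nat.card (gL (prm sz_T 1782) [1,2,3,4,5]) :=
  le_trans (by norm_num) (Low.le (Low.step sz_nets sz_w (Low.step sz_nets sz_w (Low.step sz_nets sz_w (Low.one _ _) low_abcde_l2) low_abcde_l1) low_abcde_l0))

theorem low_abcdef_l0 : levB sz_T 1782 11 [1,2,3,4,5,6] [] [[1],[2],[3],[4],[5],[6]] 6 995 416 = true := by decide +kernel
theorem low_abcdef : 251596800 ≤ Nat.card (gL (prm sz_T 1782) [1,2,3,4,5,6]) :=
  le_trans (by norm_num) (Low.le (Low.step sz_nets sz_w (Low.par sz_nets low_abcde (by decide +kernel)) low_abcdef_l0))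

theorem low_all_l0 : levB sz_T 1782 11 [1,2,3,4,5,6,7] [] [[1],[2],[3],[4],[5],[6],[7]] 6 0 1782 = true := by decide +kernel
theorem low_all : 448345497600 ≤ Nat.card (gL (prm sz_T 1782) [1,2,3,4,5,6,7]) :=
  le_trans (by norm_num) (Low.le (Low.step sz_nets sz_w (Low.par sz_nets low_abcdef (by decide +kernel)) low_all_l0))

theorem up : Finite Cfsg.Spor.Suz ∧ Nat.card Cfsg.Spor.Suz ≤ 448345497600 := finite_card_of_top top (up_all sat)

theorem card_inj : Nat.card Cfsg.Spor.Suz = 448345497600 ∧ Function.Injective ρ :=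
  card_eq_of_bounds ρ up (gL_le_range ρ_g0 (by decide +kernel)) low_all

theorem card : Nat.card Cfsg.Spor.Suz = 448345497600 := card_inj.1

theorem injective : Function.Injective ρ := card_inj.2

instance finite : Finite Cfsg.Spor.Suz := up.1

theorem coatom : IsCoatom (gW g0 [[1],[2],[3],[4],[5],[6]]) :=
  model.isCoatom rfl sz_nets ρ_g0 (by decide +kernel) (cw := [7])
    (gW_eq_top_of_subL top (by decide +kernel))
    (c := 1) (by norm_num) (by norm_num) (by decide +kernel) (by decide +kernel)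
    (reps := [(1, [7], [[7]]), (47, [7,2,3,4,3,2,7], [[7,2,3,4,3,2,7],[4],[7,2,3,4,3,2,7],[6],[2]])]) (j := 5) (by decide +kernel) (by decide +kernel) (by decide +kernel)

theorem xord_0 : eqsOn sz_T 1782 11 (relPairs idI [[5,6,3,4,2,7,5,6,3,4,2,7,5,6,3,4,2,7,5,6,3,4,2,7,5,6,3,4,2,7,5,6,3,4,2,7,5,6,3,4,2,7,5,6,3,4,2,7,5,6,3,4,2,7,5,6,3,4,2,7,5,6,3,4,2,7]]) 0 11 = true := by decide +kernel
theorem xord : ∀ r ∈ ([[5,6,3,4,2,7,5,6,3,4,2,7,5,6,3,4,2,7,5,6,3,4,2,7,5,6,3,4,2,7,5,6,3,4,2,7,5,6,3,4,2,7,5,6,3,4,2,7,5,6,3,4,2,7,5,6,3,4,2,7,5,6,3,4,2,7]] : List (List ℕ)), wv (prm sz_T 1782) r = 1 :=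
  rels_of_eqs sz_nets sz_w sz_inv (by decide +kernel) ((EqsBelow.zero _ _ _ _).step xord_0)

noncomputable def col_C : SeqCert := ⟨nat_lit 6, nat_lit 9, nat_lit 8, nat_lit 0x7070606050504040303020201010000, (NT.leaf (nat_lit 0) (nat_lit 0x50000400003000020000008007000060000018000442021910075107006034460145105080040800100003080001c60095101082041910034700040003c000592050420404200500063540038200691000c2041d200a5600103002820079400a25006d2004010088f00bc9022940081402043031140020305262032a202be200554063a501465004c1023c907a2f066ef053ef0342f008e2013de01496031d100b2500b8900c2f00ade0625200b56005d10084f03430028b0007cf0091200c4700cf000c8c05281006400354400aa8009c1038ca00144002ca02be300615009a30586f04ce1028b307cea05cdf06733029af04ba6069f205a32034b207a30047f007c5906c1b056f103471034ee014ad0146c013eb0532a04369016e9016a80166701626015e503324015a4032e30156301522022a00731f0179f0635e051dc041db0419a031d70315502110011cd0114b0110a010c903cd007c8f06c4f05c0f04bcf02b8f07b4e06b0e03ace06a8b07a4a06a0a059ca0398a0794906909058c9048890284904808067c7077860274607705076c4066840564403604075c3065830554304503024c3074820644204402033c2013820734106301052c1042810324102201071c0061800514004100030c0020800104000000)),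 (NT.node (nat_lit 18) (NT.node (nat_lit 9) (NT.node (nat_lit 4) (NT.node (nat_lit 2) (NT.node (nat_lit 1) (NT.leaf (nat_lit 16388) (nat_lit 0x1030103)) (NT.leaf (nat_lit 16392) (nat_lit 0x1040104))) (NT.node (nat_lit 3) (NT.leaf (nat_lit 16396) (nat_lit 0x1050105)) (NT.leaf (nat_lit 16404) (nat_lit 0x1070107)))) (NT.node (nat_lit 6) (NT.node (nat_lit 5) (NT.leaf (nat_lit 16412) (nat_lit 0x2040204)) (NT.leaf (nat_lit 16432) (nat_lit 0x3050305))) (NT.node (nat_lit 7) (NT.leaf (nat_lit 16440) (nat_lit 0x3070307)) (NT.node (nat_lit 8) (NT.leaf (nat_lit 16448) (nat_lit 0x4060406)) (NT.leaf (nat_lit 16452) (nat_lit 0x4070407)))))) (NT.node (nat_lit 13) (NT.node (nat_lit 11) (NT.node (nat_lit 10) (NT.leaf (nat_lit 16460) (nat_lit 0x5070507)) (NT.leaf (nat_lit 32856) (nat_lit 0x607010607))) (NT.node (nat_lit 12) (NT.leaf (nat_lit 16400) (nat_lit 0x1060106)) (NT.leaf (nat_lit 16472) (nat_lit 0x706070106)))) (NT.node (nat_lit 15) (NT.node (nat_lit 14) (NT.leaf (nat_lit 16436) (nat_lit 0x3060306))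 (NT.leaf (nat_lit 16456) (nat_lit 0x5060506))) (NT.node (nat_lit 16) (NT.leaf (nat_lit 24) (nat_lit 0x30203020302)) (NT.node (nat_lit 17) (NT.leaf (nat_lit 82025) (nat_lit 0x50702040306)) (NT.leaf (nat_lit 72) (nat_lit 0x6050605))))))) (NT.node (nat_lit 27) (NT.node (nat_lit 22) (NT.node (nat_lit 20) (NT.node (nat_lit 19) (NT.leaf (nat_lit 76) (nat_lit 0x7050705)) (NT.leaf (nat_lit 65625) (nat_lit 0x601070607))) (NT.node (nat_lit 21) (NT.leaf (nat_lit 49256) (nat_lit 0x40207050603)) (NT.leaf (nat_lit 65641) (nat_lit 0x60507020403)))) (NT.node (nat_lit 24) (NT.node (nat_lit 23) (NT.leaf (nat_lit 16489) (nat_lit 0x20403060507)) (NT.leaf (nat_lit 28) (nat_lit 0x4020402))) (NT.node (nat_lit 25) (NT.leaf (nat_lit 60) (nat_lit 0x50405040504)) (NT.node (nat_lit 26) (NT.leaf (nat_lit 16416) (nat_lit 0x2050205)) (NT.leaf (nat_lit 6) (nat_lit 0x101)))))) (NT.node (nat_lit 32) (NT.node (nat_lit 29) (NT.node (nat_lit 28) (NT.leaf (nat_lit 10) (nat_lit 0x202)) (NT.leaf (nat_lit 14) (nat_lit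 0x303))) (NT.node (nat_lit 30) (NT.leaf (nat_lit 22) (nat_lit 0x505)) (NT.node (nat_lit 31) (NT.leaf (nat_lit 26) (nat_lit 0x606)) (NT.leaf (nat_lit 30) (nat_lit 0x707))))) (NT.node (nat_lit 34) (NT.node (nat_lit 33) (NT.leaf (nat_lit 18) (nat_lit 0x404)) (NT.leaf (nat_lit 100) (nat_lit 0x50403040302040304030204030403020403040302040304030205040304030204030403020403040302040304030204030403020504030403020403040302040304030204030403020403040302))) (NT.node (nat_lit 35) (NT.leaf (nat_lit 65640) (nat_lit 0x20705060304)) (NT.node (nat_lit 36) (NT.leaf (nat_lit 16476) (nat_lit 0x302010603020106030201060302010603020106)) (NT.leaf (nat_lit 16384) (nat_lit 0x1020102010201020102))))))))⟩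
noncomputable def col_U : List (List ℕ) := []
noncomputable def col_HL : List ℕ := []
theorem col_head : col_C.head 8 idI (R ++ [[5,6,3,4,2,7]]) col_U col_HL 52 6 0 = true := by decide +kernel
noncomputable def col_s0 : List ℕ := [nat_lit 0xca0cfe98040f08a7b100187a7a1c0106a7677010826d479aa64082004cca714302082831d994e03e050e09262539a0103f316d0083b310a008400598c88061b979f4041e9894659110207a1d2d4a80c3425958da64040fcacf202103f656960186a3f293880c361f93c5c061c42499fc030d12a4b090187de3258380c3c1392c0c061c8549628030dc2c3c218117a14120ac58890b0f086045e850482b162242c3c218117a09148b85026458ac0c401f2fc522e14099162b031007cbf148b85026458cc2c3c218117a14120ac58890b0f086045e850482b162242c3c218117a084e10c8506020d8a236410188236100106e26d6010704f0c0880c3701230083b0168008390165808368480a1c061a7c960041e7ca7c041a09bdd46030e3dcb8020dbd55e020fbd550020f3d4c0020ebd5d2020e399e8ca0186de69d01069dea101069da75010711eec4f00c344375174061b2f3955803101f9c89c01869c6480107914e25000c34a4701d0061c72ab1bec202081be6601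071bec10106ccadc4000c3eb06e230061c0736556030fabdaabf0187c30d35a00c3cd3270083a0b670cc061d679c8041c28334aa030f05d984f018759a880107062c83980c384d63224061c63ae0041b4331d22030d11886c45c810325e30ab57ac20286084456000c2ebe4d860264502858a86d1cae8080c1f1e97403071984004079e80a152f1756c0302130a2b2321740a143218d54920204cc8615780c12640f094060654258a4510203150791f80c0e321ba98061253188c203089883c21388dc0a10310784603069703c040389c0a0f2d0704a030196038230182cac1c0f80c00540b064060e29050360304148d6370180ca06b1a80c164e358cc0602261ac620300128d22f0180c90120c80c1a48348b4060b230482e0302918d22b0180888691480c02400805406041f1b83419020307c6e3e00c163c0600c3604050e0140f018246c080780c1034040340607170181e03030a80c0b0181440040480c081a0103c06030b00816030105004090180424020380c0077,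
 nat_lit 0xb8d70041db8d680420b8d58041cb8810041b02d40095802d40095802d401424b5d8c041fb5830041e02da6ce030d88ebd67b088aa004ab88ebd67b088aa004ab88ebd67b085047651d008374fb088ab9621d8184555070083f557d008395387808354ba20083b4ba1008414b0100835490f0083812]
theorem col_ok0 : col_C.StepsOK 52 189 := (SeqCert.StepsOK.refl _ 52).step (L := col_s0) (by decide +kernel)
theorem col_ok : col_C.StepsOK (52 + 0) 189 := col_ok0
noncomputable def col_r0 : List ℕ := [nat_lit 0x5b80b6017802ec05d00b90158000]
theorem col_final : col_C.final 8 189 (nat_lit 0x1) 1 [1,2,3,4,5,6,7] (col_r0) = true := by decide +kernel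
theorem col {G : Type*} [Group G] {g : ℕ → G} {H : Subgroup G} (hg : Sat g 8 idI (R ++ [[5,6,3,4,2,7]]))
    (hU : ∀ u ∈ col_U, wv g u ∈ H) (hL : ∀ l ∈ col_HL, g l ∈ H) :
    IdxLe H (Subgroup.closure {x | ∃ l ∈ ([1,2,3,4,5,6,7] : List ℕ), g l = x}) 1 :=
  SeqCert.idxLe_of_final hg hU hL col_head col_ok col_final

theorem simple : IsSimpleGroup Cfsg.Spor.Suz :=
  haveI := up.1
  isSimpleGroup_of_cert sat top model injective coatom (x := [5,6,3,4,2,7]) (m := 11) (h := 251596800)
    (wv_eq_one_of_injective ρ_g0 injective (by decide +kernel) (xord _ (by decide +kernel))) card (by norm_num) (by norm_num)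
    fun _ _ h => col h forall_mem_nil' forall_mem_nil'


end Cfsg.Lib.Spor.SuzP
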