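import Cfsg.Agent.Spor.Fi24Z2
import Cfsg.Agent.Spor.Fi24Fact

set_option autoImplicit false
set_option maxRecDepth 100000
set_option Elab.async false

namespace Cfsg.Lib.Spor.F24

open Cfsg.Lib.Spor.Bulk Cfsg.Lib.Spor.Fm

noncomputable def zn_s : Sp := ⟨[], [zW], [setL [0,6,254,964], setL [249,10464,10721,12136], setL [24,1768,1834,2124], setL [51,3259,3380,3919], setL [113,5979,6155,7079], setL [261157,263586,286465,289660]]⟩
noncomputable def zn_p0 : List Step := [.orb (.st 0) 6 4 [] (.gr []),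
  .orb (.st 2) 24 4 [] (.gr []),
  .orb (.st 3) 51 4 [] (.gr []),
  .orb (.st 4) 113 4 [] (.gr []),
  .orb (.st 1) 249 4 [] (.gr []),
  .orb (.st 5) 263586 4 [] (.gr []),
  .orb (.dif (.st 0) (.one (.c 6))) 0 3 [] (.gr []),
  .orb (.fa (.dif (.and (.and (.and (.and (.dif .all (.nb (.c 6))) (.nb (.c 51))) (.nb (.c 249))) (.nb (.c 24))) (.nb (.c 113))) (.fa (.and (.and (.and (.and (.dif .all (.nb (.c 6))) (.nb (.c 51))) (.nb (.c 249))) (.nb (.c 24))) (.nb (.c 113))) (.c 0) .v)) (.th (.th (.c 51) (.c 263586)) (.th (.c 24) (.th (.c 6) (.c 263586)))) .v) 4 2 [] (.gr []),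
  .der (.th (.c 4) (.th (.th (.th (.c 263586) (.th (.c 113) (.c 249))) (.th (.c 0) (.th (.c 24) (.c 263586)))) (.th (.th (.th (.c 51) (.c 263586)) (.th (.c 113) (.th (.c 24) (.c 51)))) (.th (.th (.c 4) (.th (.c 0) (.th (.c 51) (.c 263586)))) (.th (.c 6) (.c 263586)))))) 96815,
  .der (.th (.c 263586) (.th (.th (.th (.c 263586) (.c 4)) (.th (.c 113) (.th (.c 6) (.c 263586)))) (.th (.c 6) (.th (.th (.th (.c 0) (.c 4)) (.th (.th (.c 113) (.c 249)) (.th (.c 24) (.c 263586)))) (.th (.th (.c 113) (.c 263586)) (.th (.c 113) (.th (.c 24) (.c 51)))))))) 268387,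
  .der (.th (.th (.th (.c 263586) (.th (.c 113) (.c 249))) (.th (.c 0) (.th (.c 24) (.c 263586)))) (.th (.th (.th (.c 6) (.c 263586)) (.th (.c 0) (.c 4))) (.th (.th (.th (.c 263586) (.c 4)) (.th (.c 113) (.th (.c 6) (.c 263586)))) (.th (.th (.c 0) (.th (.c 51) (.c 263586))) (.th (.th (.c 0) (.c 4)) (.th (.c 263586) (.th (.c 113) (.c 249)))))))) 249436,
  .der (.th (.th (.th (.c 51) (.c 263586)) (.th (.c 113) (.th (.c 24) (.c 51)))) (.th (.th (.th (.c 263586) (.c 4)) (.th (.c 113) (.th (.c 6) (.c 263586)))) (.th (.th (.th (.c 263586) (.th (.c 113) (.c 249))) (.th (.c 0) (.th (.c 24) (.c 263586)))) (.th (.th (.c 263586) (.c 0)) (.im 0 (.c 4)))))) 97608,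
  .der (.th (.th (.th (.c 263586) (.c 4)) (.th (.c 113) (.th (.c 6) (.c 263586)))) (.th (.th (.th (.c 263586) (.c 0)) (.th (.c 263586) (.c 4))) (.th (.c 249) (.th (.th (.th (.c 263586) (.th (.c 113) (.c 249))) (.th (.c 0) (.th (.c 24) (.c 263586)))) (.th (.c 113) (.th (.c 24) (.c 51))))))) 49347,
  .der (.th (.th (.th (.c 263586) (.th (.c 113) (.c 249))) (.th (.c 0) (.th (.c 24) (.c 263586)))) (.th (.th (.th (.c 0) (.c 4)) (.th (.th (.c 24) (.c 51)) (.th (.c 24) (.c 263586)))) (.th (.th (.th (.c 263586) (.c 4)) (.th (.c 113) (.th (.c 6) (.c 263586)))) (.th (.th (.th (.c 0) (.c 4)) (.th (.th (.c 113) (.c 249)) (.th (.c 24) (.c 263586)))) (.th (.th (.c 24) (.c 263586)) (.th (.c 6) (.c 4))))))) 234143]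
theorem zn_c0 : upL C zn_p0 zn_s = true := by decide +kernel
noncomputable def zn_p : List Step := zn_p0
theorem zn_c : upL C zn_p zn_s = true := zn_c0
noncomputable def zc_s : Sp := ⟨[0,6,254,249,10464,10721,24,1768,1834,51,3259,3380,113,6155,5979,286465,261157,263586], [], []⟩
noncomputable def zc_p0 : List Step := [.orb (.fa (.fa (.fa (.and (.and (.and (.and (.dif .all (.nb (.c 6))) (.nb (.th (.c 263586) (.th (.c 6) (.c 286465))))) (.nb (.c 24))) (.nb (.c 51))) (.nb (.c 113))) (.c 1768) .v) (.c 249) .v) (.th (.c 286465) (.th (.c 51) (.th (.c 24) (.th (.c 0) (.c 286465))))) .v) 4 2 [] (.gr []),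
  .der (.th (.th (.c 4) (.th (.c 3259) (.c 286465))) (.th (.c 6155) (.th (.c 3259) (.th (.th (.th (.c 10721) (.c 113)) (.th (.c 263586) (.c 4))) (.th (.c 6) (.c 4)))))) 96815,
  .der (.th (.c 1768) (.th (.th (.c 254) (.c 261157)) (.th (.th (.th (.c 10721) (.c 113)) (.th (.c 263586) (.c 4))) (.th (.c 1768) (.th (.th (.c 3380) (.c 113)) (.th (.c 286465) (.c 4))))))) 268387,
  .der (.th (.c 5979) (.th (.c 286465) (.th (.c 1834) (.th (.c 249) (.th (.th (.th (.c 10721) (.c 113)) (.th (.c 263586) (.c 4))) (.th (.th (.th (.c 1834) (.c 3259)) (.th (.c 286465) (.c 4))) (.th (.c 3380) (.c 113)))))))) 249436,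
  .der (.th (.th (.c 4) (.th (.c 3259) (.c 286465))) (.th (.c 0) (.th (.c 4) (.th (.th (.th (.c 10721) (.c 113)) (.th (.c 263586) (.c 4))) (.th (.c 3380) (.c 113)))))) 97608,
  .der (.th (.c 3380) (.th (.c 6155) (.th (.c 1834) (.th (.th (.c 4) (.th (.c 3259) (.c 286465))) (.th (.th (.c 254) (.c 261157)) (.th (.c 10721) (.c 4))))))) 49347,
  .der (.th (.th (.th (.c 1834) (.c 51)) (.th (.c 0) (.c 286465))) (.th (.th (.c 4) (.th (.c 3259) (.c 286465))) (.th (.c 24) (.th (.c 3259) (.th (.th (.th (.c 10721) (.c 113)) (.th (.c 263586) (.c 4))) (.th (.c 113) (.th (.c 24) (.c 286465)))))))) 234143]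
theorem zc_c0 : upL C zc_p0 zc_s = true := by decide +kernel
noncomputable def zc_p : List Step := zc_p0
theorem zc_c : upL C zc_p zc_s = true := zc_c0
theorem zn {G : Type*} [Group G] {D : Set G} (M : Mdl G D C) : Nat.card (M.grp ⟨[], [zW], zS⟩) ≤ 24576 :=
  M.card_le_up zn_c M.isBase_base (by decide +kernel)
noncomputable def zT : List (ℕ × ℕ × ℕ × ℕ × ℕ) := [(0, 6, 254, 0, 1), (249, 10464, 10721, 2, 3), (24, 1768, 1834, 4, 5), (51, 3259, 3380, 6, 7), (113, 6155, 5979, 8, 9), (286465, 261157, 263586, 10, 11)]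
theorem zc {G : Type*} [Group G] {D : Set G} (M : Mdl G D C) : Nat.card (M.grp ⟨triF zT, [], []⟩) ≤ 2 :=
  M.card_le_up zc_c M.isBase_base (by decide +kernel)
noncomputable def zQ : List (List ℕ) := [[12,1], [12,9], (wd (nat_lit 0xdcad1dacd6)), (wd (nat_lit 0xda9d1d9ad6)), (wd (nat_lit 0xda6d3d6ad3)), (wd (nat_lit 0xf61d7e2e7d16f3)), (wd (nat_lit 0xda6d4d6ad4)), (wd (nat_lit 0xf2dc6f1f6cd2f4)), (wd (nat_lit 0xb2f8e3e8f2b5)), (wd (nat_lit 0x65dcad1dacd565)), (wd (nat_lit 0x98dfafd898fdadf8)), (wd (nat_lit 0xf86d1d68f8fdadf8))]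
noncomputable def z3 : List ℕ := (wd (nat_lit 0xc4da6df4b32123b8f7d1d7f84dc2d1d2cdb4321234bfc4))
theorem zq_t : C.triB zQ zT = true := by decide +kernel
theorem zq_m : allL (C.memS ⟨[], [zW], zS⟩) (z3 :: zQ) = true := by decide +kernel
theorem zq_c : band (C.comZ zW 2 zQ) (allL (C.memB ⟨[], [zW], []⟩) zQ) = true := by decide +kernel
theorem zq_p : band (C.powB 2 (zW :: zQ)) (allL (fun W => parW W true) (z3 :: zQ)) = true := by decide +kernel
theorem zq_n : C.nrmL zQ [z3] [[[1],[0,1],[3],[2,9,3,9],[5],[4,6,5,6],[7],[6,7],[8,9],[2,8,2],[0,11,0],[0,10,11,0]]] = true := by decide +kernel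
theorem zq_z : C.exprB zQ [zW] [[0,11,0,11]] = true := by decide +kernel
noncomputable def zq_L : List Lv := [⟨1, 128, [[12,1], [12,9], (wd (nat_lit 0xda9d1d9ad6)), (wd (nat_lit 0xb2f8e3e8f2b5)), (wd (nat_lit 0xf61d7e2e7d16f3)), (wd (nat_lit 0xf2dc6f1f6cd2f4)), (wd (nat_lit 0xf86d1d68f8fdadf8))], (.tr (dig 25 (nat_lit 0x59991407160c287f450e348280b881822dd0a029b0602ec028adc51801018a0080c40265830a2081851040a1ff1850ff7c28cbe9140dec0a06f6040b17628087b1808b08a317a060058e2802c71007d78c2f794617bca2835b51403d70c005bc5002de200e2b183fe28c1ff1451cc2828e61410730a06221806197f230cbf9140cde0c066f05033782064381451050a085e45042f220062c140a680a0534040497e3024bf14125f88092fc308a422806441801020a0081040170e309c4a184e250a47484523a42211d210c4e3c8c3b5a061dad028153c180a9e0a054f040040428020210010106029ac600b5a3005ad1409958c04cac50265620221f18110f8a0887c40443e180796140ca80a0654040574a302ba51415d2880ae94300006300003140001880000c30000610016d1400b688005b43010f43004a11802508a03eb8601f5c280fae100e3f8c071fc5038fe201c7f0c00010c000085000042000020c0001040001060000828000410000206000102000080800011800008a0000440000218000108000082000040)))⟩,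 ⟨31, 64, [(wd (nat_lit 0xdcad1dacd6)), (wd (nat_lit 0xda6d3d6ad3)), (wd (nat_lit 0xda6d4d6ad4)), (wd (nat_lit 0x65dcad1dacd565)), (wd (nat_lit 0xa6d4567984fbaf1fabf948765476a7ad)), (wd (nat_lit 0xbc1b6573dc8d1d8cd43896548a765498765a769a7a))], (.tr (dig 25 (nat_lit 0x3ef1439eb8a0a3f45005cc2805521405e40a02f20400464285a831403980a022ac50115620021e141a9b8a0403c50201e2036c0140ad98a056cc404d4e2826a7101353861c37050893a280bcf1405e78811a0c501ff8280ffc1003340a019a0400cd018449c140ae50a05728403ce0281e70100f3806074a4503a52201d290c0e9484160845020322810191004578a022bc40115e1804ba14025d08012e8300974101d4a140ea50807528303a94101d4a04000f8a0007c40003e18001f08000f820007c0)))⟩]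
theorem zq_l : band (C.lowB zq_L []) (Nat.ble 8192 (lowN zq_L)) = true := by decide +kernel
theorem zq_e : C.exprB zQ (lowW zq_L) [[0],[1],[3],[8],[5],[7],[11],[2],[4],[6],[9],[0,1,2,5,7,9,10],[1,2,4,5,6,7,9,10]] = true := by decide +kernel

end Cfsg.Lib.Spor.F24
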