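/-
Strings of four 3-transpositions generate non-solvable groups.
-/
import Cfsg.Agent.Spor.FsMain

set_option autoImplicit false

namespace Cfsg.Lib.Spor

open TQ Cfsg.Lib.Class

theorem eq_of_comm_braid {K : Type*} [Group K] {x y : K} (h1 : x * y = y * x) (h2 : x * y * x = y * x * y) :
    x = y := by
  rw [← h1, mul_left_cancel_iff] at h2
  exact h2

theorem not_isSolvable_of_string {H : Type*} [Group H] {a b c d : H} (ha : a * a = 1) (hb : b * b = 1)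
    (hc : c * c = 1) (hd : d * d = 1) (hab : a * b * a = b * a * b) (hbc : b * c * b = c * b * c)
    (hcd : c * d * c = d * c * d) (hac : a * c = c * a) (had : a * d = d * a) (hbd : b * d = d * b)
    (hne : a ≠ b) : ¬ Group.IsSolvable H := by
  have key : ∀ N : Subgroup H, N.Normal → a * b ∈ N → a * b ∈ ⁅N, N⁆ := fun N _ h => by
    have m : ∀ (M : Subgroup H) [M.Normal] {x y : H}, x * x = 1 →
        (x * y ∈ M ↔ QuotientGroup.mk' M x = QuotientGroup.mk' M y) := fun M _ x y hx => by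
      rw [QuotientGroup.mk'_apply, QuotientGroup.mk'_apply, QuotientGroup.eq, inv_eq_of_mul_eq_one_left hx]
    have e1 := (m N ha).1 h
    have e2 : QuotientGroup.mk' N b = QuotientGroup.mk' N c :=
      eq_of_comm_braid (by rw [← e1, ← map_mul, ← map_mul, hac]) (by simp only [← map_mul, hbc])
    have e3 : QuotientGroup.mk' N c = QuotientGroup.mk' N d :=
      eq_of_comm_braid (by rw [← e2, ← map_mul, ← map_mul, hbd]) (by simp only [← map_mul, hcd])
    have k : ∀ {x y z : H}, x * x = 1 → y * y = 1 → z * z = 1 → x * y * x = y * x * y → y * z * y = z * y * z →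
        x * z = z * x → x * y ∈ N → y * z ∈ N → QuotientGroup.mk' ⁅N, N⁆ x = QuotientGroup.mk' ⁅N, N⁆ z := by
      intro x y z hx hy hz h1 h2 h3 h4 h5
      rw [← m _ hx, ← QuotientGroup.eq_one_iff]
      have c1 : Commute (QuotientGroup.mk' ⁅N, N⁆ (x * y)) (QuotientGroup.mk' ⁅N, N⁆ (y * z)) := by
        rw [← commutatorElement_eq_one_iff_commute, ← map_commutatorElement]
        exact (QuotientGroup.eq_one_iff _).2 (Subgroup.commutator_mem_commutator h4 h5)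
      have c2 := c1.mul_pow 3
      rw [← map_pow, ← map_pow, cube_of_braid hx hy h1, cube_of_braid hy hz h2, ← map_mul, map_one, one_mul,
        show x * y * (y * z) = x * z by rw [mul_assoc, ← mul_assoc y, hy, one_mul], pow_succ, ← map_pow,
        sq_of_commute hx hz h3, map_one, one_mul] at c2
      exact c2
    have f1 := k ha hb hc hab hbc hac h ((m N hb).2 e2)
    have f2 := k hb hc hd hbc hcd hbd ((m N hb).2 e2) ((m N hc).2 e3)
    exact (m _ ha).2 (eq_of_comm_braid (by rw [f2, ← map_mul, ← map_mul, had]) (by simp only [← map_mul, hab]))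
  rintro ⟨n, hn⟩
  have : ∀ n, a * b ∈ derivedSeries H n := fun n => by
    induction n with
    | zero => trivial
    | succ n ih => exact key _ inferInstance ih
  have := this n
  rw [hn, Subgroup.mem_bot] at this
  exact hne (by rw [← mul_left_cancel_iff (a := a), ha, this])

/-- there is a string of length four -/
def Str4 (X : Type*) [TQ X] : Prop :=
  ∃ a b c d : X, ¬ a ⫫ b ∧ ¬ b ⫫ c ∧ ¬ c ⫫ d ∧ a ⫫ c ∧ a ⫫ d ∧ b ⫫ d

variable {X : Type*} [TQ X]

theorem Str4.of_emb {Y : Type*} [TQ Y] (h : Str4 X) (φ : Emb X Y) : Str4 Y := by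
  obtain ⟨a, b, c, d, h⟩ := h
  exact ⟨φ.f a, φ.f b, φ.f c, φ.f d, by simpa only [φ.com_iff] using h⟩

theorem Str4.not_isSolvable {G : Type*} [Group G] {D : Set G} [IsTT D] (h : Str4 D) :
    ¬ Group.IsSolvable G := by
  obtain ⟨a, b, c, d, h1, h2, h3, h4, h5, h6⟩ := h
  have k : ∀ {x y : D}, ¬ x ⫫ y → (x : G) * y * x = y * x * y := fun {x y} h =>
    tt_braid IsTT.set x.2 y.2 (mt IsTT.com_iff.2 h)
  exact not_isSolvable_of_string (IsTT.mul_self a) (IsTT.mul_self b) (IsTT.mul_self c) (IsTT.mul_self d)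
    (k h1) (k h2) (k h3) (IsTT.com_iff.1 h4) (IsTT.com_iff.1 h5) (IsTT.com_iff.1 h6)
    fun e => ne_of_ncom h1 (Subtype.ext e)

theorem str4_dperp {x a b c d : X} (h1 : ¬ a ⫫ b) (h2 : ¬ b ⫫ c) (h3 : ¬ c ⫫ d) (h4 : a ⫫ c) (h5 : a ⫫ d)
    (h6 : b ⫫ d) (ha : x ⫫ a) (hb : x ⫫ b) (hc : x ⫫ c) (hd : x ⫫ d) : Str4 (dperp x) :=
  ⟨⟨a, fun e => h1 (e ▸ hb), ha⟩, ⟨b, fun e => h2 (e ▸ hc), hb⟩, ⟨c, fun e => h3 (e ▸ hd), hc⟩,
    ⟨d, fun e => h3 (e ▸ hc.symm), hd⟩, mt coe_com.1 h1, mt coe_com.1 h2, mt coe_com.1 h3, coe_com.2 h4,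
    coe_com.2 h5, coe_com.2 h6⟩

theorem SpT.four_le {n : ℕ} (h : SpT X n) (hw : Wide X) : 4 ≤ n := by
  obtain ⟨B, v, hL, -⟩ := h
  obtain ⟨x, y, h1, h2⟩ := hw
  have := hL.finrank_add_le (hL.indep2 h1) (hL.indep2 h1) fun i j => by
    fin_cases i <;> fin_cases j
    exacts [hL.self2 x, hL.com2.1 h2, hL.com2.1 h2.symm, hL.self2 y]
  simpa using this

theorem SpT.str4 {n : ℕ} (h : SpT X n) (hn : 5 ≤ n) : ∃ x : X, Str4 (dperp x) := by
  obtain ⟨B, v, hL, hs⟩ := h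
  obtain ⟨m, e, f, hF, -, hm⟩ := exists_isSympFam_top hL.nondegenerate (show LinearMap.BilinForm.IsAlt B from hL.alt2)
  obtain ⟨m, rfl⟩ : ∃ k, m = k + 3 := ⟨m - 3, by simp at hm; omega⟩
  have fe : ∀ i j, B (f i) (e j) = if j = i then 1 else 0 := fun i j => by rw [hL.comm2, hF.ef]
  have n1 : ∀ u w, B u w = 1 → u ≠ 0 := fun u w h e => by simp [e] at h
  obtain ⟨x, hx⟩ := hs (e 0) (n1 _ (f 0) (by simp [hF.ef]))
  obtain ⟨a, ha⟩ := hs (e 1) (n1 _ (f 1) (by simp [hF.ef]))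
  obtain ⟨b, hb⟩ := hs (f 1) (n1 _ (e 1) (by simp [fe]))
  have t : (1 : Fin (m + 3)) ≠ 2 := by simp [Fin.ext_iff, Nat.mod_eq_of_lt]
  have t' : (0 : Fin (m + 3)) ≠ 2 := by simp [Fin.ext_iff, Nat.mod_eq_of_lt]
  obtain ⟨c, hc⟩ := hs (e 1 + e 2) (n1 _ (f 1) (by simp [hF.ef, t.symm]))
  obtain ⟨d, hd⟩ := hs (f 2) (n1 _ (e 2) (by simp [fe]))
  refine ⟨x, str4_dperp (a := a) (b := b) (c := c) (d := d) ?_ ?_ ?_ ?_ ?_ ?_ ?_ ?_ ?_ ?_⟩ <;>
    simp [hL.com2, hx, ha, hb, hc, hd, hF.ee, hF.ff, hF.ef, fe, t, t.symm, t']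

theorem UT.str4 {n : ℕ} (h : UT X n) (hn : 6 ≤ n) : ∃ x : X, Str4 (dperp x) := by
  obtain ⟨B, v, hL, hs⟩ := h
  have hH : Form.Herm B := Form.herm_of_isSymm (fun e => by
    have := DFunLike.congr_fun e GF4.w
    revert this; decide) hL.σσ ⟨hL.symm⟩ hL.nondeg'
  obtain ⟨e', he'⟩ := hH.exists_orthonormal_fin 6 (by simpa)
  have k : ∀ p q : Fin 6 → GF4, B (∑ i, p i • e' i) (∑ i, q i • e' i) = ∑ i, p i ^ 2 * q i := fun p q => by
    simp [map_sum, LinearMap.sum_apply, he', mul_comm]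
  have pt : ∀ p : Fin 6 → GF4, (∃ i, p i ≠ 0) → ∑ i, p i ^ 2 * p i = 0 → ∃ x, OnPt GF4 v x (∑ i, p i • e' i) :=
    fun p ⟨i, hi⟩ h => hs _ (fun e => hi (by
      have := k (Pi.single i 1) p
      rw [e, map_zero] at this
      simpa [Pi.single_apply] using this.symm)) (by rw [k, h])
  obtain ⟨x, hx⟩ := pt ![1, 1, 0, 0, 0, 0] (by decide) (by decide)
  obtain ⟨a, ha⟩ := pt ![0, 0, 1, 1, 0, 0] (by decide) (by decide)
  obtain ⟨b, hb⟩ := pt ![0, 0, 0, 1, 1, 0] (by decide) (by decide)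
  obtain ⟨c, hc⟩ := pt ![0, 0, 0, 0, 1, 1] (by decide) (by decide)
  obtain ⟨d, hd⟩ := pt ![0, 0, 1, 1, 1, GF4.w] (by decide) (by decide)
  refine ⟨x, str4_dperp (a := a) (b := b) (c := c) (d := d) ?_ ?_ ?_ ?_ ?_ ?_ ?_ ?_ ?_ ?_⟩
  all_goals
    rw [hL.on_com4 ‹_› ‹_›, k]
    decide

theorem not_isSolvable_of_triv {G : Type*} [Group G] [Finite G] {D : Set G} [IsTT D]
    (hgen : Subgroup.closure D = ⊤) (hX : Conn D) [Nontrivial D] (hV : VTriv D) (hW : WTriv D) :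
    ¬ Group.IsSolvable G := fun _ =>
  Trans.IsQuasisimple.ne_bot (layer_quasisimple hgen hX hV hW)
    (Trans.eq_bot_of_perfect_of_le_isSolvable (Trans.layer_perfect G) le_rfl inferInstance)

end Cfsg.Lib.Spor
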