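/-
3-transposition groups with a disconnected commuting graph: the structure of the blocks.
-/
import Cfsg.Agent.Spor.FsStr
import Cfsg.Agent.Spor.TQSym

set_option autoImplicit false

namespace Cfsg.Lib.Spor

open TQ Subgroup

variable {G : Type*} [Group G]

theorem card_eq_ncard_conj_mul (B : Subgroup G) (x : G) :
    Nat.card B = {y : G | ∃ b ∈ B, b * x * b⁻¹ = y}.ncard *
      Nat.card (B ⊓ centralizer ({x} : Set G) : Subgroup G) := by
  let _ : MulAction B G := MulAction.compHom G ((MulAut.conj (G := G)).comp B.subtype)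
  have h1 : MulAction.orbit B x = {y : G | ∃ b ∈ B, b * x * b⁻¹ = y} := by
    ext y
    exact ⟨fun ⟨b, hb⟩ => ⟨b, b.2, hb⟩, fun ⟨b, hb, e⟩ => ⟨⟨b, hb⟩, e⟩⟩
  have h2 : MulAction.stabilizer B x = (centralizer ({x} : Set G)).subgroupOf B := by
    ext b
    rw [MulAction.mem_stabilizer_iff, mem_subgroupOf, mem_centralizer_singleton_iff]
    change (b : G) * x * (b : G)⁻¹ = x ↔ _
    rw [mul_inv_eq_iff_eq_mul]
  rw [← (MulAction.stabilizer B x).index_mul_card, MulAction.index_stabilizer, h1, h2,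
    ← inf_subgroupOf_right, Nat.card_congr (subgroupOfEquivOfLe inf_le_right).toEquiv, inf_comm]

theorem index_dvd_card_out (L : Subgroup G) [L.Normal] (hC : centralizer (L : Set G) = ⊥) :
    L.index ∣ Nat.card (Out L) := by
  have : ((QuotientGroup.mk' (Cfsg.Inn L)).comp MulAut.conjNormal).ker = L := by
    ext g
    refine (QuotientGroup.eq_one_iff _).trans ⟨fun ⟨l, hl⟩ => ?_, fun hg => ⟨⟨g, hg⟩, by ext; rfl⟩⟩
    have h2 : (l : G)⁻¹ * g ∈ centralizer (L : Set G) := fun x hx => by
      have := congrArg Subtype.val (DFunLike.congr_fun hl ⟨x, hx⟩)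
      simp only [MulAut.conj_apply, coe_mul, coe_inv, MulAut.conjNormal_apply] at this
      calc x * ((l : G)⁻¹ * g) = (l : G)⁻¹ * ((l : G) * x * (l : G)⁻¹) * g := by group
        _ = _ := by rw [this]; group
    rw [hC, mem_bot, inv_mul_eq_one] at h2
    exact h2 ▸ l.2
  conv_lhs => rw [← this, index_ker]
  exact card_subgroup_dvd_card _

theorem le_closure_conj {L : Subgroup G} [hL : L.Normal] [IsSimpleGroup L] (hC : centralizer (L : Set G) = ⊥)
    {b : G} (hb : b ≠ 1) : L ≤ closure {y | ∃ l ∈ L, l * b * l⁻¹ = y} := by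
  have hN : ((closure {y | ∃ l ∈ L, l * b * l⁻¹ = y}).subgroupOf L).Normal := ⟨fun n hn g => by
    rw [mem_subgroupOf] at hn ⊢
    simp only [coe_mul, coe_inv]
    generalize (n : G) = n at hn
    induction hn using closure_induction with
    | mem x hx =>
      obtain ⟨l, hl, rfl⟩ := hx
      exact subset_closure ⟨g * l, mul_mem g.2 hl, by group⟩
    | one => simp
    | mul x y _ _ h1 h2 => simpa [mul_assoc] using mul_mem h1 h2
    | inv x _ h => simpa [mul_assoc] using inv_mem h⟩
  refine subgroupOf_eq_top.1 (hN.eq_bot_or_eq_top.resolve_left fun h => hb ?_)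
  rw [← mem_bot, ← hC]
  intro l hl
  have := (eq_bot_iff_forall _).1 h ⟨l * (b * l⁻¹ * b⁻¹), mul_mem hl (hL.conj_mem _ (inv_mem hl) b)⟩ (by
    rw [mem_subgroupOf]
    have k : ∀ l ∈ L, l * b * l⁻¹ ∈ closure {y | ∃ l ∈ L, l * b * l⁻¹ = y} := fun l hl =>
      Subgroup.subset_closure ⟨l, hl, rfl⟩
    simpa [mul_assoc] using mul_mem (k l hl) (inv_mem (k 1 (one_mem _))))
  replace this : l * (b * l⁻¹ * b⁻¹) = 1 := congrArg Subtype.val this
  calc l * b = l * (b * l⁻¹ * b⁻¹) * (b * l) := by group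
    _ = b * l := by rw [this, one_mul]

variable {D : Set G} [IsTT D]

/-- the members of `D` in the coset of `a` -/
def blk (L : Subgroup G) (a : D) : Set D := {b | (a : G) * b ∈ L}

theorem mul_mem_symm {L : Subgroup G} {a b : D} (h : (a : G) * b ∈ L) : (b : G) * a ∈ L := by
  simpa using inv_mem h

theorem mul_mem_trans {L : Subgroup G} {a b c : D} (h : (a : G) * b ∈ L) (h' : (b : G) * c ∈ L) :
    (a : G) * c ∈ L := by
  have := mul_mem h h'
  rwa [mul_assoc, ← mul_assoc (b : G), IsTT.mul_self, one_mul] at this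

instance instIsSubBlk (L : Subgroup G) (a : D) : IsSub (blk L a) := ⟨fun b hb c hc => by
  have := mul_mem hb (mul_mem_trans (mul_mem_symm hc) hb)
  rwa [mul_assoc, ← mul_assoc (b : G), ← IsTT.coe_act'] at this⟩

theorem self_mem_blk (L : Subgroup G) (a : D) : a ∈ blk L a := by simp [blk]

/-- an almost simple 3-transposition group whose socle contains the products of commuting pairs, but
not all products -/
structure DisH (D : Set G) [IsTT D] (L : Subgroup G) : Prop where
  gen : closure D = ⊤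
  conn : Conn D
  normal : L.Normal
  simple : IsSimpleGroup L
  perf : ⁅L, L⁆ = L
  cent : centralizer (L : Set G) = ⊥
  com : ∀ a b : D, a ⫫ b → (a : G) * b ∈ L
  out : ∃ a b : D, (a : G) * b ∉ L

namespace DisH

variable {L : Subgroup G} (h : DisH D L)
include h

theorem notMem (a : D) : (a : G) ∉ L := fun ha => by
  have k : ∀ b : D, (b : G) ∈ L := fun b => by
    obtain ⟨g, -, e⟩ := isConj_of_conn h.conn a.2 b.2
    exact e ▸ h.normal.conj_mem _ ha g
  obtain ⟨a, b, hab⟩ := h.out
  exact hab (mul_mem (k a) (k b))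

theorem exists_out (a : D) : ∃ x : D, (a : G) * x ∉ L := by
  by_contra! k
  obtain ⟨b, c, hbc⟩ := h.out
  exact hbc (mul_mem_trans (mul_mem_symm (k b)) (k c))

theorem conj_mem {a b : D} (hb : b ∈ blk L a) {l : G} (hl : l ∈ L) :
    (⟨l * b * l⁻¹, IsTT.conj_of_gen h.gen _ _ b.2⟩ : D) ∈ blk L a := by
  have := mul_mem (mul_mem (h.normal.conj_mem _ hl a) hb) (inv_mem hl)
  change (a : G) * (l * b * l⁻¹) ∈ L
  rwa [show (a : G) * l * (a : G)⁻¹ * (a * b) * l⁻¹ = a * (l * b * l⁻¹) by group] at this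

theorem le_closure (a : D) : L ≤ closure (Subtype.val '' blk L a) := by
  have := h.normal
  have := h.simple
  refine (le_closure_conj h.cent (tt_ne_one IsTT.set a.2)).trans (closure_mono ?_)
  rintro _ ⟨l, hl, rfl⟩
  exact ⟨_, h.conj_mem (self_mem_blk L a) hl, rfl⟩

theorem exists_conj {a b c : D} (hb : b ∈ blk L a) (hc : c ∈ blk L a) :
    ∃ g ∈ closure (Subtype.val '' blk L a), g * b * g⁻¹ = c := by
  have := h.normal
  have := h.simple
  by_contra! k
  refine tt_ne_one IsTT.set c.2 ?_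
  suffices L ≤ centralizer {(c : G)} from
    (eq_bot_iff_forall _).1 h.cent _ fun l hl => mem_centralizer_singleton_iff.1 (this hl)
  refine (le_closure_conj h.cent (tt_ne_one IsTT.set b.2)).trans ((closure_le _).2 ?_)
  rintro _ ⟨l, hl, rfl⟩
  have h1 := h.conj_mem hb hl
  generalize hy : (⟨l * b * l⁻¹, IsTT.conj_of_gen h.gen _ _ b.2⟩ : D) = y at h1
  replace hy : l * b * l⁻¹ = y := congrArg Subtype.val hy
  rw [hy, SetLike.mem_coe, mem_centralizer_singleton_iff]
  by_contra hn
  refine k (y * c * l) (mul_mem (mul_mem (subset_closure ⟨y, h1, rfl⟩) (subset_closure ⟨c, hc, rfl⟩))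
    (h.le_closure a hl)) ?_
  have := congrArg Subtype.val (act_act_of_ncom (mt IsTT.com_iff.1 hn))
  rw [IsTT.coe_act, IsTT.coe_act] at this
  calc (y : G) * c * l * b * (y * c * l)⁻¹ = y * (c * (l * b * l⁻¹) * (c : G)⁻¹) * (y : G)⁻¹ := by group
    _ = c := by rw [hy, this]

theorem conn_blk (a : D) : Conn (subSet (blk L a)) :=
  conn_of_isConj (IsTT.conj_of_gen (closure_subSet _)) (closure_subSet _) (by
    rintro b ⟨b', hb, e1⟩ c ⟨c', hc, e2⟩
    obtain ⟨g, hg, e⟩ := h.exists_conj hb hc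
    exact ⟨⟨g, hg⟩, Subtype.ext (by rw [e1, e2] at e; exact e)⟩)

theorem commutator_eq (a : D) :
    commutator (closure (Subtype.val '' blk L a)) = L.subgroupOf _ := by
  have := h.normal
  refine le_antisymm (commutator_le_of_mul_mem (closure_subSet _) ?_) ?_
  · rintro ⟨b, b', hb, e1⟩ ⟨c, c', hc, e2⟩
    have := mul_mem_trans (mul_mem_symm hb) hc
    rw [e1, e2] at this
    exact this
  · apply (map_le_map_iff_of_injective (subtype_injective _)).1
    rw [map_subgroupOf_eq_of_le (h.le_closure a), map_subtype_commutator]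
    exact h.perf.symm.le.trans (commutator_mono (h.le_closure a) (h.le_closure a))

/-- the derived subgroup of the group generated by a block -/
noncomputable def equiv (a : D) : commutator (closure (Subtype.val '' blk L a)) ≃* L :=
  (MulEquiv.subgroupCongr (h.commutator_eq a)).trans (subgroupOfEquivOfLe (h.le_closure a))

theorem center_eq (a : D) : center (closure (Subtype.val '' blk L a)) = ⊥ :=
  (eq_bot_iff_forall _).2 fun g hg => Subtype.ext ((eq_bot_iff_forall _).1 h.cent g fun l hl =>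
    congrArg Subtype.val (mem_center_iff.1 hg ⟨l, h.le_closure a hl⟩))

theorem commutator_ne (a : D) : commutator (closure (Subtype.val '' blk L a)) ≠ ⊤ := fun e => by
  rw [h.commutator_eq, subgroupOf_eq_top] at e
  exact h.notMem a (e (subset_closure ⟨a, self_mem_blk L a, rfl⟩))

theorem not_isSolvable (a : D) : ¬ Group.IsSolvable (closure (Subtype.val '' blk L a)) := fun k => by
  have := h.simple
  exact (nontrivial_iff_ne_bot L).1 inferInstance
    (Trans.eq_bot_of_perfect_of_le_isSolvable h.perf (h.le_closure a) k)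

variable [Finite G]

theorem wide_blk (a : D) : Wide (subSet (blk L a)) :=
  wide_of_not_isSolvable (closure_subSet _) (h.not_isSolvable a)

theorem prim_blk (a : D) : Prim (subSet (blk L a)) :=
  have := h.simple
  have := (h.wide_blk a).nontrivial
  prim_of_simple_commutator (closure_subSet _) (h.conn_blk a) (h.equiv a).isSimpleGroup

theorem orbit_eq {a x : D} (hx : (a : G) * x ∉ L) :
    {y : G | ∃ k ∈ L ⊓ centralizer {(a : G)}, k * x * k⁻¹ = y} = Subtype.val '' blk L x := by
  refine Set.Subset.antisymm ?_ ?_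
  · rintro _ ⟨k, hk, rfl⟩
    exact ⟨_, h.conj_mem (self_mem_blk L x) hk.1, rfl⟩
  rintro _ ⟨y, hy, rfl⟩
  refine (((h.prim_blk x).comConn (h.wide_blk x)).of_iso (subIso _).symm).induction
    (p := fun y => ∃ k ∈ L ⊓ centralizer {(a : G)}, k * x * k⁻¹ = y.1) (a := ⟨x, self_mem_blk L x⟩)
    ⟨1, one_mem _, by simp⟩ ?_ ⟨y, hy⟩
  rintro ⟨y, hy⟩ ⟨z, hz⟩ hyz ⟨k, hk, e⟩
  replace hyz : y ⫫ z := coe_com.1 hyz
  have n1 : ¬ y ⫫ a := fun c => hx (mul_mem_symm (mul_mem_trans hy (h.com _ _ c)))
  have n2 : ¬ z ⫫ a := fun c => hx (mul_mem_symm (mul_mem_trans hz (h.com _ _ c)))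
  have c1 := string_com' hyz n1 n2
  refine ⟨a * (y ▹ z ▹ a : D) * k, mul_mem ⟨h.com _ _ c1, ?_⟩ hk, ?_⟩
  · exact mem_centralizer_singleton_iff.2 ((Commute.refl _).mul_left (IsTT.com_iff.1 c1).symm)
  · have : a ▹ (y ▹ z ▹ a) ▹ y = z := by
      rw [act_act_act y, act_self, act_act_act z, hyz.symm.eq, hyz.act_act_comm, act_act_of_ncom n1,
        act_act_of_ncom (ncom_symm n2)]
    replace this := congrArg Subtype.val this
    rw [IsTT.coe_act, IsTT.coe_act] at this
    change _ = (z : G)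
    change _ = (y : G) at e
    rw [← this, ← e]
    group

omit [Finite G] in
theorem ncard_blk (a x : D) : (Subtype.val '' blk L x).ncard = (Subtype.val '' blk L a).ncard := by
  obtain ⟨g, -, e⟩ := isConj_of_conn h.conn a.2 x.2
  rw [← Set.ncard_image_of_injective (Subtype.val '' blk L a) (MulAut.conj g).injective]
  congr 1
  ext y
  constructor
  · rintro ⟨y, hy, rfl⟩
    refine ⟨_, ⟨⟨g⁻¹ * y * g⁻¹⁻¹, IsTT.conj_of_gen h.gen _ _ y.2⟩, ?_, rfl⟩, by simp [mul_assoc]⟩
    have := h.normal.conj_mem _ hy g⁻¹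
    rw [← e] at this
    simpa [blk, mul_assoc] using this
  · rintro ⟨_, ⟨y, hy, rfl⟩, rfl⟩
    refine ⟨⟨g * y * g⁻¹, IsTT.conj_of_gen h.gen _ _ y.2⟩, ?_, rfl⟩
    have := h.normal.conj_mem _ hy g
    simpa [blk, mul_assoc, ← e] using this

theorem sq_dvd (a : D) : (subSet (blk L a)).ncard ^ 2 ∣ Nat.card (closure (Subtype.val '' blk L a)) := by
  obtain ⟨x, hx⟩ := h.exists_out a
  have h1 := card_eq_ncard_conj_mul (L ⊓ centralizer {(a : G)}) x
  have h2 := card_eq_ncard_conj_mul (closure (Subtype.val '' blk L a)) a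
  rw [h.orbit_eq hx, h.ncard_blk a] at h1
  have h3 : {y : G | ∃ k ∈ closure (Subtype.val '' blk L a), k * a * k⁻¹ = y} = Subtype.val '' blk L a := by
    refine Set.Subset.antisymm ?_ ?_
    · rintro _ ⟨k, hk, rfl⟩
      have := IsTT.of_isSub (blk L a)
      exact IsTT.conj_mem_of_mem_closure hk ⟨a, self_mem_blk L a, rfl⟩
    · rintro _ ⟨y, hy, rfl⟩
      exact h.exists_conj (self_mem_blk L a) hy
  have h4 : (subSet (blk L a)).ncard = (Subtype.val '' blk L a).ncard :=
    Set.ncard_preimage_of_injective_subset_range (subtype_injective _) (by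
      rw [← MonoidHom.coe_range, range_subtype]; exact subset_closure)
  rw [h4, h2, h3, pow_two]
  exact mul_dvd_mul_left _ ((Dvd.intro _ h1.symm).trans (card_dvd_of_le (inf_le_inf_right _ (h.le_closure a))))

theorem quot [L.Normal] : 6 ∣ L.index ∧ ¬ 4 ∣ L.index ∧
    (L.index = 6 → Nonempty (G ⧸ L ≃* Equiv.Perm (Fin 3))) := by
  have : IsTT (QuotientGroup.mk' L '' D) :=
    IsTT.image _ fun d hd e => h.notMem ⟨d, hd⟩ ((QuotientGroup.eq_one_iff _).1 e)
  have hgen : closure (QuotientGroup.mk' L '' D) = ⊤ := by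
    rw [← MonoidHom.map_closure, h.gen, ← MonoidHom.range_eq_map, QuotientGroup.range_mk']
  have k : ∀ a b : D, Commute (QuotientGroup.mk' L a) (QuotientGroup.mk' L b) → (a : G) * b ∈ L := fun a b c => by
    by_cases hab : a ⫫ b
    · exact h.com a b hab
    refine mul_mem_of_sq_mem hab ((QuotientGroup.eq_one_iff _).1 ?_)
    change QuotientGroup.mk' L _ = 1
    rw [map_pow, map_mul, c.mul_pow, pow_two, pow_two, ← map_mul, ← map_mul, IsTT.mul_self, IsTT.mul_self,
      map_one, one_mul]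
  obtain ⟨a, b, hab⟩ := h.out
  obtain ⟨e⟩ := closure_pair_equiv_perm3 this.set ⟨a, a.2, rfl⟩ ⟨b, b.2, rfl⟩ (mt (k a b) hab)
  have c6 : Nat.card (closure {QuotientGroup.mk' L a, QuotientGroup.mk' L b}) = 6 := by
    rw [Nat.card_congr e.toEquiv]; simp [Fintype.card_perm, Nat.factorial]
  refine ⟨c6 ▸ card_subgroup_dvd_card _, fun h4 => ?_, fun h6 =>
    ⟨(topEquiv.symm.trans (MulEquiv.subgroupCongr (eq_top_of_card_eq _ (c6.trans h6.symm)).symm)).trans e⟩⟩
  have h1 := sup_pCore_three_of_narrow hgen (by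
    rintro _ ⟨x, hx, rfl⟩ _ ⟨y, hy, rfl⟩ c
    have := k ⟨x, hx⟩ ⟨y, hy⟩ c
    rw [← IsTT.inv] at this
    exact QuotientGroup.eq.2 this) ⟨a, a.2, rfl⟩
  obtain ⟨n, hn⟩ := IsPGroup.iff_card.1 (Solv.pCore_isPGroup 3 (G ⧸ L))
  have h2 : (pCore 3 (G ⧸ L)).index ∣ 2 := by
    rw [← relIndex_top_right, ← h1, relIndex_sup_right, ← this.set.1 _ ⟨a, a.2, rfl⟩, ← Nat.card_zpowers]
    exact relIndex_dvd_card _ _
  have h3 := (pCore 3 (G ⧸ L)).index_mul_card
  rw [hn] at h3
  rw [index, ← h3] at h4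
  have := (Nat.Coprime.pow_right n (by norm_num : Nat.Coprime 4 3)).dvd_of_dvd_mul_right h4
  exact absurd (this.trans h2) (by norm_num)

end DisH

theorem disH_layer [Finite G] (hgen : closure D = ⊤) (hX : Conn D) [Nontrivial D] (hV : VTriv D)
    (hW : WTriv D) (hZ : center G = ⊥) (hc : ¬ ComConn D) : DisH D (layer G) := by
  have hq := layer_quasisimple hgen hX hV hW
  have hn := layer_not_le_center hgen hX hV hW
  have hC : centralizer (layer G : Set G) = ⊥ := by
    by_contra k
    have := perfect_le_of_normal hgen hX hV hW (N := centralizer (layer G : Set G))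
      (by rwa [hZ, le_bot_iff]) (Trans.layer_perfect G)
    rw [← commutator_eq_bot_iff_le_centralizer, Trans.layer_perfect] at this
    exact hn (this ▸ bot_le)
  have hZ' : center (layer G) = ⊥ := (eq_bot_iff_forall _).2 fun g hg =>
    Subtype.ext ((eq_bot_iff_forall _).1 hC g fun l hl => congrArg Subtype.val (mem_center_iff.1 hg ⟨l, hl⟩))
  have hs : IsSimpleGroup (layer G) :=
    have := hq.2
    ((QuotientGroup.quotientMulEquivOfEq hZ').trans QuotientGroup.quotientBot).symm.isSimpleGroup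
  refine ⟨hgen, hX, inferInstance, hs, Trans.layer_perfect G, hC,
    fun a b => mul_mem_of_com_of_normal hgen hX hV hW hn, by_contra fun k => hc ?_⟩
  push Not at k
  have e : commutator G = layer G := le_antisymm (commutator_le_of_mul_mem hgen k)
    ((Trans.layer_perfect G).symm.le.trans (commutator_mono le_top le_top))
  exact (prim_of_simple_commutator hgen hX (e ▸ hs)).comConn
    (wide_of_not_isSolvable hgen (not_isSolvable_of_triv hgen hX hV hW))

end Cfsg.Lib.Spor
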