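import Cfsg.Agent.Spor.M24Gens

/-!
The conjugacy classes of `Spor.M22`.
-/

set_option autoImplicit false
set_option maxRecDepth 100000

namespace Cfsg.Lib.Spor.MP

open Cfsg Cfsg.Lib.Spor

/-- Class representatives of `Spor.M22`: packed permutation, order, centraliser order. -/
def reps22 : List (ℕ × ℕ × ℕ) :=
  [(984818244535754528103549039458486304, 1, 443520),
   (966182099583441531322624363496310816, 2, 384),
   (964862721552653238424309835408443424, 3, 36),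
   (980226563732632765101527450628261920, 4, 32),
   (962508496607438698101436973414746144, 4, 16),
   (966397621084152595608325226481453088, 5, 5),
   (964611380959165519915201691186996704, 6, 12),
   (961374254557235751992303295406949408, 7, 7),
   (972347006467051243678894342352812064, 7, 7),
   (970090398290860516393695858876011200, 8, 8),
   (970567384681219435340729552166356352, 11, 11),
   (983435072843990828779021698901151808, 11, 11)]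

/-- Generators followed by the class representatives. -/
def gensC22 : List ℕ := gens22 ++ reps22.map Prod.fst

/-- Certificate for one class. -/
def cl22_0 : Cfsg.Lib.Spor.PK.Cl where
  wd := [2]
  cert := [⟨1, [448, 385, 1344, 577, 512, 1152, 1280, 1217, 897, 640, 961, 1024, 1409, 832, 768, 192, 1089, 256, 704,
    320, 128], [[0, 0, 0, 0, 0, 1, 0, 0, 0, 0], [0, 0, 1, 0, 0, 0, 1, 0, 1]]⟩,
   ⟨2, [448, 961, 769, 576, 1153, 896, 1024, 1217, 832, 1088, 1281, 256, 321, 1344, 193, 704, 513, 640, 1408,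
    385], [[1, 0, 0, 1, 0, 0, 0, 1, 0], [1, 0, 0, 1, 0, 1, 1, 0, 1, 1]]⟩,
   ⟨3, [576, 769, 320, 449, 512, 1025, 1280, 832, 897, 1409, 1344, 385, 961, 640, 705, 1216, 256, 1088, 1152],
    [[0, 0, 1, 0, 1, 1, 0], [0, 0, 0, 1, 0, 1, 0, 0, 0], [1, 0, 1, 1, 1, 1, 0, 0]]⟩,
   ⟨4, [448, 1218, 640, 769, 1026, 576, 705, 514, 962, 384, 1409, 832, 1345, 1154, 1281], [[1]]⟩,
   ⟨5, [1088, 896], []⟩]
  es := [1]
  c := 443520
  nc := []

theorem cl22_ok0 : PK.clOk 9 24 (gensC22.map toPK) 443520 cl22_0 = true := by decide +kernel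

/-- Certificate for one class. -/
def cl22_1 : Cfsg.Lib.Spor.PK.Cl where
  wd := [3]
  cert := [⟨4, [384, 1153, 512, 640, 961, 64, 897, 769, 1216, 833, 448, 704, 1025, 1281, 1345, 577, 1088, 192, 1409, 320,
    128], [[1, 1, 1, 0], [1, 1, 0, 0, 0]]⟩,
   ⟨18, [513, 704, 833, 64, 449, 1280, 641, 768, 1345, 1024, 385, 320, 129, 1409, 193, 897, 960, 1089, 577,
    1216], [[1, 1, 0, 1, 0, 0, 1, 1], [1, 0, 0, 0, 0, 1]]⟩,
   ⟨6, [576, 769, 1280, 129, 1024, 897, 640, 1344, 513, 1408, 321, 705, 192, 832, 960, 1088, 449, 1216, 65], [[0,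
    0, 0, 0, 1, 1, 0, 1], [1, 0, 0, 0, 1, 0, 1, 1], [0, 1, 1, 0, 0, 0, 0, 1, 0, 0]]⟩,
   ⟨15, [64, 1345, 192, 577, 768, 449, 130, 896, 1408, 1089, 1282, 322, 832, 706, 642], [[0, 2]]⟩,
   ⟨7, [768, 640], []⟩]
  es := [1]
  c := 384
  nc := []

theorem cl22_ok1 : PK.clOk 9 24 (gensC22.map toPK) 443520 cl22_1 = true := by decide +kernel

/-- Certificate for one class. -/
def cl22_2 : Cfsg.Lib.Spor.PK.Cl where
  wd := [4]
  cert := [⟨4, [384, 1153, 512, 640, 961, 64, 897, 769, 1216, 833, 448, 704, 1025, 1281, 1345, 577, 1088, 192, 1409, 320,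
    128], [[1, 0, 1, 1, 0, 0, 0, 0, 1, 1], [1, 1, 1, 1, 1, 1, 1, 0, 0]]⟩,
   ⟨21, [704, 513, 640, 321, 768, 897, 576, 1216, 384, 65, 1408, 833, 192, 960, 129, 1153, 1281, 1024, 448,
    1089], [[0, 0, 0, 1, 1, 0, 0, 1, 1], [0, 1, 0, 0, 0, 1, 1, 0, 1, 0]]⟩,
   ⟨9, [1152, 513, 1280, 449, 896, 129, 768, 833, 1408, 1217, 705, 640, 385, 65, 1088, 321, 960, 1025, 192], [[0,
    1, 0, 1, 1, 0, 0], [1, 0, 1, 0, 1, 0, 0, 1, 0], [0, 1, 0, 0, 1]]⟩,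
   ⟨5, [640, 1089, 1282, 768, 833, 66, 896, 1409, 962, 1026, 1153, 384, 449, 1216, 704], [[2, 1, 0]]⟩,
   ⟨17, [1216, 1408], []⟩]
  es := [1, 2]
  c := 36
  nc := []

theorem cl22_ok2 : PK.clOk 9 24 (gensC22.map toPK) 443520 cl22_2 = true := by decide +kernel

/-- Certificate for one class. -/
def cl22_3 : Cfsg.Lib.Spor.PK.Cl where
  wd := [5]
  cert := [⟨3, [320, 128, 1408, 705, 896, 1089, 65, 768, 641, 576, 257, 448, 385, 1025, 960, 1280, 1217, 1153, 1344, 512,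
    833], [[0, 0, 0, 1, 0, 1, 1, 0, 0], [0, 0, 0, 0, 1, 0, 0, 1, 0, 0]]⟩,
   ⟨20, [512, 257, 1024, 641, 1216, 129, 960, 769, 384, 448, 1345, 896, 1153, 320, 833, 64, 1409, 704, 1089,
    577], [[1, 1, 1, 0, 1, 0, 1], [0, 1, 1, 0]]⟩,
   ⟨14, [1216, 449, 640, 65, 768, 385, 1344, 705, 576, 513, 1088, 128, 1025, 320, 960, 833, 1408, 1153, 256],
    [[1, 1, 0, 0], [1, 0, 1, 0, 1, 0, 0, 1], [1, 0, 0, 0, 0, 1, 0, 1, 1]]⟩,
   ⟨15, [1152, 514], [[0, 1, 0], [0, 2], [2, 1], [2, 0]]⟩,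
   ⟨4, [448, 769, 834, 1347, 577, 1026, 1219, 322, 1091, 387, 66, 131, 1411, 707, 643], []⟩]
  es := [1, 3, 2]
  c := 32
  nc := []

theorem cl22_ok3 : PK.clOk 9 24 (gensC22.map toPK) 443520 cl22_3 = true := by decide +kernel

/-- Certificate for one class. -/
def cl22_4 : Cfsg.Lib.Spor.PK.Cl where
  wd := [6]
  cert := [⟨3, [320, 128, 1408, 705, 896, 1089, 65, 768, 641, 576, 257, 448, 385, 1025, 960, 1280, 1217, 1153, 1344, 512,
    833], [[1, 0, 0, 0, 0, 1, 0], [0, 0, 0, 1, 1, 0, 0, 1, 0, 1, 0]]⟩,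
   ⟨4, [1152, 897, 64, 129, 640, 1344, 513, 320, 385, 1025, 449, 832, 1409, 1216, 705, 960, 577, 769, 1088,
    1281], [[0, 0, 0, 1, 1, 0, 0, 1], [0, 1, 1, 0, 0, 0, 1, 0, 0, 0]]⟩,
   ⟨14, [128, 961, 704, 385, 1345, 1152, 576, 641, 64, 1024, 769, 1216, 449, 1408, 832, 513, 320, 1281, 1089],
    [[0, 1, 1, 0, 0, 1, 1, 0], [1, 1, 0, 1, 0, 0, 1, 1], [0, 1, 0, 1, 1, 0, 0, 1]]⟩,
   ⟨16, [640, 1217, 770, 1281, 1154, 704, 1345, 832, 514, 64, 129, 320, 576, 1089, 961], [[0, 2, 2, 1]]⟩,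
   ⟨5, [1280, 576], []⟩]
  es := [1, 3, 2]
  c := 16
  nc := []

theorem cl22_ok4 : PK.clOk 9 24 (gensC22.map toPK) 443520 cl22_4 = true := by decide +kernel

/-- Certificate for one class. -/
def cl22_5 : Cfsg.Lib.Spor.PK.Cl where
  wd := [7]
  cert := [⟨3, [320, 128, 1408, 705, 896, 1089, 65, 768, 641, 576, 257, 448, 385, 1025, 960, 1280, 1217, 1153, 1344, 512,
    833], [[0, 0, 1, 1, 1, 0, 1, 0, 1, 0], [1, 0, 0, 0, 0, 1, 0]]⟩,
   ⟨4, [1280, 1153, 64, 385, 1344, 1216, 128, 576, 704, 1089, 321, 832, 769, 512, 448, 640, 1025, 1408, 897,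
    961], [[0, 1, 0, 1, 0, 1, 0, 1, 0, 0], [0, 1, 0, 1, 1, 1, 0, 1, 0, 0]]⟩,
   ⟨12, [512, 321, 448, 1281, 576, 833, 1216, 1345, 960, 897, 1408, 705, 1088, 384, 64, 1024, 641, 129, 1152],
    [[1, 1, 0, 1, 0, 0], [0, 0, 0, 1, 0, 0, 0], [0, 1, 0, 0, 1]]⟩,
   ⟨7, [576, 65, 642, 960, 897, 386, 1216, 129, 1408, 1025, 1346, 705, 1090, 512, 1281], [[1, 1, 2]]⟩,
   ⟨10, [128, 64], []⟩]
  es := [1, 4]
  c := 5
  nc := []

theorem cl22_ok5 : PK.clOk 9 24 (gensC22.map toPK) 443520 cl22_5 = true := by decide +kernel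

/-- Certificate for one class. -/
def cl22_6 : Cfsg.Lib.Spor.PK.Cl where
  wd := [8]
  cert := [⟨1, [448, 385, 1344, 577, 512, 1152, 1280, 1217, 897, 640, 961, 1024, 1409, 832, 768, 192, 1089, 256, 704,
    320, 128], [[0, 1, 1, 0, 0, 0, 0, 0], [1, 0, 0]]⟩,
   ⟨15, [576, 385, 320, 257, 449, 897, 1280, 128, 1025, 768, 1217, 704, 1344, 1088, 1152, 193, 1408, 513, 833,
    640], [[1, 1, 0, 1, 0, 0], [1, 0, 1, 0, 1, 0, 0]]⟩,
   ⟨13, [256, 513, 1344, 897, 1408, 705, 1280, 193, 1088, 640, 1216, 384, 128, 769, 320, 1024, 448, 1153, 577],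
    [[0, 1, 0, 1, 0, 0, 0, 0], [0, 0, 1, 0, 0, 0, 0, 1, 0], [0, 0, 1, 1, 0, 0, 1]]⟩,
   ⟨21, [1024, 449, 578, 194, 641, 258, 128, 769, 706, 384, 321, 1282, 898, 514, 1409], [[1, 1, 0, 1]]⟩,
   ⟨3, [768, 1408], []⟩]
  es := [1, 5, 2, 3]
  c := 12
  nc := []

theorem cl22_ok6 : PK.clOk 9 24 (gensC22.map toPK) 443520 cl22_6 = true := by decide +kernel

/-- Certificate for one class. -/
def cl22_7 : Cfsg.Lib.Spor.PK.Cl where
  wd := [9]
  cert := [⟨2, [1408, 705, 896, 1089, 65, 768, 641, 576, 257, 448, 385, 1025, 960, 1280, 1217, 1153, 1344, 512, 192, 833,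
    320], [[1, 1, 1, 0, 1, 0, 1, 0, 0, 0], [0, 0, 0, 1, 0, 1, 0]]⟩,
   ⟨17, [1408, 1152, 1281, 320, 448, 577, 704, 257, 768, 512, 961, 64, 192, 1345, 640, 896, 1025, 833, 1217,
    384], [[0, 0, 1, 0, 0], [0, 1, 0, 0, 1, 0, 0, 0]]⟩,
   ⟨8, [384, 577, 1408, 1217, 832, 321, 705, 640, 65, 256, 1281, 768, 193, 448, 1153, 1345, 961, 896, 1024], [[1,
    1, 0, 1, 1, 1], [0, 0, 1, 1, 0, 1, 0, 1, 0], [0, 0, 1, 0, 1, 1, 0]]⟩,
   ⟨14, [256, 449, 1346, 704, 1217, 1282, 576, 1025, 768, 833, 193, 66, 320, 640, 1152], [[0, 1, 2]]⟩,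
   ⟨21, [1216, 1152], []⟩]
  es := [1, 6]
  c := 7
  nc := []

theorem cl22_ok7 : PK.clOk 9 24 (gensC22.map toPK) 443520 cl22_7 = true := by decide +kernel

/-- Certificate for one class. -/
def cl22_8 : Cfsg.Lib.Spor.PK.Cl where
  wd := [10]
  cert := [⟨2, [1408, 705, 896, 1089, 65, 768, 641, 576, 257, 448, 385, 1025, 960, 1280, 1217, 1153, 1344, 512, 192, 833,
    320], [[0, 0, 1, 0, 1, 0, 1, 0, 1, 1, 0, 0, 0], [0, 1, 0, 0, 0, 0, 0, 0]]⟩,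
   ⟨14, [576, 769, 320, 1281, 832, 1217, 512, 1088, 705, 1408, 385, 257, 960, 641, 449, 1153, 1025, 64, 1345,
    193], [[0, 1, 1, 0, 1, 1, 1, 0, 0, 0, 0], [1, 0, 1, 0, 1, 1, 1, 0]]⟩,
   ⟨18, [512, 705, 1280, 577, 320, 1025, 192, 641, 1345, 768, 65, 960, 1408, 833, 1217, 1089, 449, 384, 256],
    [[0, 1, 1, 0, 0, 1, 0], [1, 0, 0, 0, 0, 1], [0, 0, 1, 0, 0, 1, 1, 0, 1, 0]]⟩,
   ⟨8, [704, 257, 64, 1281, 770, 960, 321, 642, 449, 1345, 1218, 1089, 1410, 192, 1026], [[2, 0, 0]]⟩,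
   ⟨19, [1088, 1344], []⟩]
  es := [1, 6]
  c := 7
  nc := [[9]]

theorem cl22_ok8 : PK.clOk 9 24 (gensC22.map toPK) 443520 cl22_8 = true := by decide +kernel

/-- Certificate for one class. -/
def cl22_9 : Cfsg.Lib.Spor.PK.Cl where
  wd := [11]
  cert := [⟨1, [448, 385, 1344, 577, 512, 1152, 1280, 1217, 897, 640, 961, 1024, 1409, 832, 768, 192, 1089, 256, 704,
    320, 128], [[0, 1, 1, 0, 0, 1, 0, 1, 0, 1], [0, 1, 0, 1, 1, 1, 0, 0, 0]]⟩,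
   ⟨22, [384, 641, 128, 897, 576, 513, 320, 705, 1281, 832, 448, 257, 768, 1344, 1153, 1088, 1024, 1216, 193,
    961], [[0, 1, 1, 0, 1, 1, 0, 0, 0], [0, 0, 0, 0, 0, 1, 1, 1, 0, 1, 1]]⟩,
   ⟨11, [832, 385, 960, 1089, 640, 512, 897, 256, 321, 128, 1153, 1280, 1025, 1344, 449, 769, 193, 1216, 577],
    [[1, 0, 1, 1, 0, 0, 0, 1, 0], [0, 1, 0, 0, 1, 1, 1, 1, 0], [1, 1, 0, 0, 0]]⟩,
   ⟨16, [1152, 961, 770, 1344, 1281, 258, 128, 897, 832, 1217, 513, 322, 192, 384, 576], [[0, 1, 2]]⟩,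
   ⟨2, [256, 832], []⟩]
  es := [1, 7, 2, 4]
  c := 8
  nc := []

theorem cl22_ok9 : PK.clOk 9 24 (gensC22.map toPK) 443520 cl22_9 = true := by decide +kernel

/-- Certificate for one class. -/
def cl22_10 : Cfsg.Lib.Spor.PK.Cl where
  wd := [12]
  cert := [⟨1, [448, 385, 1344, 577, 512, 1152, 1280, 1217, 897, 640, 961, 1024, 1409, 832, 768, 192, 1089, 256, 704,
    320, 128], [[0, 1, 0, 0, 1, 0, 0, 1, 1], [0, 0, 0, 1, 1, 0, 0, 0, 0]]⟩,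
   ⟨12, [832, 129, 896, 257, 192, 320, 1153, 1408, 449, 960, 1281, 640, 1089, 1345, 385, 1025, 1216, 576, 513,
    704], [[1, 0, 0, 1, 0, 0, 1], [0, 1, 1, 0, 0, 1, 0, 1, 0, 0, 1, 0]]⟩,
   ⟨6, [1152, 1025, 1088, 833, 640, 1345, 128, 192, 961, 1280, 449, 705, 896, 513, 257, 1408, 577, 1217, 321],
    [[1, 1, 0, 1, 1, 1, 0, 0, 1, 0], [0, 1, 0, 0, 0, 1, 0], [1, 0, 1, 1, 1, 1, 0, 0]]⟩,
   ⟨3, [640, 1345, 898, 129, 706, 1216, 961, 1282, 448, 322, 833, 1154, 1024, 1410, 512], [[2, 1, 0]]⟩,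
   ⟨13, [640, 512], []⟩]
  es := [1, 10]
  c := 11
  nc := []

theorem cl22_ok10 : PK.clOk 9 24 (gensC22.map toPK) 443520 cl22_10 = true := by decide +kernel

/-- Certificate for one class. -/
def cl22_11 : Cfsg.Lib.Spor.PK.Cl where
  wd := [13]
  cert := [⟨1, [448, 385, 1344, 577, 512, 1152, 1280, 1217, 897, 640, 961, 1024, 1409, 832, 768, 192, 1089, 256, 704,
    320, 128], [[0, 1, 1, 0, 1, 0, 0, 1, 0, 1], [0, 1, 0, 0, 0, 0, 1, 1, 1]]⟩,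
   ⟨2, [1408, 705, 448, 833, 512, 1281, 320, 577, 896, 1217, 1344, 1025, 768, 961, 1153, 1089, 641, 193, 385,
    257], [[1, 1, 0, 1, 1, 1, 0, 0, 1, 1, 0], [1, 0, 1, 1, 0, 0, 1, 1, 0, 1, 0]]⟩,
   ⟨4, [193, 320, 385, 896, 449, 768, 961, 1217, 1152, 577, 1409, 1344, 512, 641, 1280, 832, 704, 1025, 1089],
    [[1, 0, 0, 1, 1, 1, 0, 1, 1], [1, 1, 1, 0, 1, 0, 0, 1], [1, 1, 1, 0, 0, 1, 1, 0, 0, 1, 0, 1]]⟩,
   ⟨8, [704, 321, 450, 1152, 897, 1218, 1280, 961, 192, 1089, 1346, 577, 642, 385, 769], [[2, 1, 2]]⟩,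
   ⟨16, [1408, 832], []⟩]
  es := [1, 10]
  c := 11
  nc := [[12]]

theorem cl22_ok11 : PK.clOk 9 24 (gensC22.map toPK) 443520 cl22_11 = true := by decide +kernel

/-- All class certificates. -/
def cls22 : List PK.Cl := [cl22_0, cl22_1, cl22_2, cl22_3, cl22_4, cl22_5, cl22_6, cl22_7, cl22_8, cl22_9, cl22_10, cl22_11]

theorem isClassList_M22 : IsClassList Spor.M22 reps22 :=
  isClassList_of_check (gens := gensC22) (by decide +kernel)
    (pclosure_append pclosure_gens22 fun t ht => inSub_M22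
      (List.all_eq_true.1 (by decide +kernel : (reps22.map Prod.fst).all (isFix [23, 0]) = true) t ht))
    card_M22 (K := 6) (cls := cls22)
    (by
      simp only [cls22, List.forall_mem_cons, List.not_mem_nil, false_imp_iff, implies_true, and_true]
      exact ⟨cl22_ok0, cl22_ok1, cl22_ok2, cl22_ok3, cl22_ok4, cl22_ok5, cl22_ok6, cl22_ok7, cl22_ok8, cl22_ok9, cl22_ok10, cl22_ok11⟩)
    (by decide +kernel) (by decide +kernel)

end Cfsg.Lib.Spor.MP
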