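import Cfsg.Agent.Spor.O24FDefs

/-!
A simple group of order 244823040: there are not three characters of each of the degrees 5544 and
5796.
-/

set_option autoImplicit false

namespace Cfsg.Lib.Spor.O24F

open Subgroup Cfsg.Lib.Spor.Mo Cfsg.Lib.PrimeOne Cfsg.Lib.Block.Princ
open Cfsg.Lib.Spor.O7920 (instFact11 instFact5)
open Cfsg.Lib.Spor.O10200960 (instFact23)

variable {G : Type*} [Group G] [Finite G]

variable {c : ℕ} {α β χ ψ : IrrCharacter G}

namespace BB

theorem tab : ∀ d ∈ O24.D, modOk 23 11 d = true → d % 11 = 1 → d ≤ 1288 ∨ 3312 ≤ d := by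
  decide +kernel

theorem ineq {d : ℕ} {s : ℤ} (h1 : d ∈ O24.D) (h2 : modOk 23 11 d = true) (h3 : s = d ∨ s = -d)
    (h4 : s % 11 = 1) :
    4600 * s - 4265856 + (if d = 5796 then 64521072 else 0) ≤ ((d ^ 2 : ℕ) : ℤ) := by
  have := tab d h1 h2
  push_cast
  split_ifs with e
  · subst e
    omega
  · rcases h3 with rfl | rfl
    · rcases this (by omega) with h | h <;> nlinarith
    · nlinarith

end BB

theorem B5.notBB (h : B5 c α β χ ψ) {χ' χ'' ψ' ψ'' : IrrCharacter G} (h1 : [χ, χ', χ''].Nodup)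
    (h2 : [ψ, ψ', ψ''].Nodup) (d1 : deg χ' = 5544) (d2 : deg χ'' = 5544) (d3 : deg ψ' = 5796)
    (d4 : deg ψ'' = 5796) : False := by
  classical
  obtain ⟨L, Y, θ, δ, ε, k⟩ := h.b11
  obtain ⟨a1, a2, a3, a4⟩ := h.degs
  have hθ : θ ∉ L := fun e => (k.val e).2.2.1 k.mem
  have nd : (θ :: L).Nodup := List.nodup_cons.2 ⟨hθ, k.nodup.of_cons⟩
  have hY : ∀ φ ∈ Y, φ = θ := fun φ hφ => Finset.card_le_one.1 k.card_Y.le φ hφ θ k.mem
  have len : (θ :: L).toFinset.card = 10 := by
    obtain ⟨I, b⟩ := k.b0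
    have := b.card_X
    rw [List.toFinset_card_of_nodup k.nodup] at this
    rw [List.toFinset_card_of_nodup nd]
    exact this
  obtain ⟨s, hs⟩ : ∃ s : IrrCharacter G → ℤ,
      ∀ φ, s φ = if φ = θ then -(ε * deg θ) else δ φ * deg φ := ⟨_, fun _ => rfl⟩
  have sum : ∑ φ ∈ (θ :: L).toFinset, s φ = -1 := by
    have e : L.map s = sd δ L := List.map_congr_left fun φ hφ => by
      rw [hs, if_neg fun e : φ = θ => hθ (e ▸ hφ)]
    rw [List.sum_toFinset _ nd, List.map_cons, List.sum_cons, e, hs, if_pos rfl, k.deg_rel]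
    ring
  have key : ∀ φ ∈ (θ :: L).toFinset, 4600 * s φ - 4265856 +
      (if deg φ = 5796 then 64521072 else 0) ≤ ((deg φ ^ 2 : ℕ) : ℤ) := fun φ hφ => by
    have m := O24.ord.dvd _ (h.card ▸ deg_dvd_card φ)
    refine BB.ineq m (h.s23.mod φ) ?_ ?_ <;> rw [hs] <;> split_ifs with e
    · rcases k.sign with rfl | rfl <;> simp [e]
    · rcases (k.val (by simpa [e] using hφ)).1 with e | e <;> simp [e]
    · have := k.modEq_Y
      rcases k.sign with rfl | rfl <;> simp only [Int.ModEq] at this <;> omega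
    · have hφ' : φ ∈ L := by simpa [e] using hφ
      have := k.modEq hφ'
      rcases (k.val hφ').1 with e | e <;> simp only [Int.ModEq, e] at this ⊢ <;> omega
  have mem : ∀ φ, deg φ = 5796 → φ ∈ (θ :: L).toFinset := fun φ e => by
    rcases k.mem_of_not_dvd rfl (χ := φ) (by omega) with rfl | a | a
    · rw [deg_triv] at e; omega
    · simp [a]
    · simp [hY φ a]
  have three : 3 ≤ ((θ :: L).toFinset.filter fun φ => deg φ = 5796).card := by
    refine (List.toFinset_card_of_nodup h2).ge.trans (Finset.card_le_card fun φ hφ => ?_)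
    have : deg φ = 5796 := by
      simp only [List.mem_toFinset, List.mem_cons, List.not_mem_nil, or_false] at hφ
      rcases hφ with rfl | rfl | rfl <;> assumption
    exact Finset.mem_filter.2 ⟨mem φ this, this⟩
  have s1 := Finset.sum_le_sum key
  rw [Finset.sum_add_distrib, Finset.sum_sub_distrib, ← Finset.mul_sum, sum, Finset.sum_const, len,
    ← Finset.sum_filter, Finset.sum_const, ← Nat.cast_sum] at s1
  have nd' : [α, β, χ, χ', χ''].Nodup := by
    have : ∀ {a b : IrrCharacter G}, deg a ≠ deg b → a ≠ b := fun e e' => e (e' ▸ rfl)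
    refine List.nodup_cons.2 ⟨?_, List.nodup_cons.2 ⟨?_, h1⟩⟩ <;>
      simp only [List.mem_cons, List.not_mem_nil, or_false, not_or] <;>
      refine ⟨this (by omega), this (by omega), ?_⟩
    · exact ⟨this (by omega), this (by omega)⟩
    · exact this (by omega)
  have dj : Disjoint (θ :: L).toFinset [α, β, χ, χ', χ''].toFinset := by
    refine Finset.disjoint_left.2 fun φ a b => k.not_dvd_deg (χ := φ) ?_ ?_
    · rcases List.mem_cons.1 (List.mem_toFinset.1 a) with rfl | a
      exacts [Or.inr k.mem, Or.inl a]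
    · simp only [List.mem_toFinset, List.mem_cons, List.not_mem_nil, or_false] at b
      rcases b with rfl | rfl | rfl | rfl | rfl <;> omega
  have s2 := Finset.sum_le_sum_of_subset (f := fun φ : IrrCharacter G => deg φ ^ 2)
    (Finset.subset_univ ((θ :: L).toFinset ∪ [α, β, χ, χ', χ''].toFinset))
  rw [sum_deg_sq, h.card, Finset.sum_union dj, List.sum_toFinset _ nd'] at s2
  simp only [List.map_cons, List.map_nil, List.sum_cons, List.sum_nil, a1, a2, a3, d1, d2] at s2
  simp only [nsmul_eq_mul] at s1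
  omega

end Cfsg.Lib.Spor.O24F
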