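import Cfsg.Agent.Spor.MoMom

/-!
The sums of the members of a principal block over the elements of another prime order.
-/

set_option autoImplicit false

namespace Cfsg.Lib.Spor.Mo

open Cfsg Cfsg.Lib.Char Cfsg.Lib.Solv Cfsg.Lib.PrimeOne Cfsg.Lib.Block.Princ Subgroup
open Cfsg.Lib.Block hiding dg dg_cast
open Cfsg.Lib.Spor.CKit

noncomputable def vL (s : ℤ) (nx : List (ℤ × ℕ × ℕ) → ℕ → ℕ → List (ℤ × ℤ) → Bool) (b U : ℕ)
    (acc : List (ℤ × ℤ)) (o : List (ℤ × ℕ × ℕ)) : Bool :=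
  List.rec true (fun c cs r => Bool.rec false r (Bool.rec true (nx (c :: cs) (Nat.sub b c.2.1)
    (Nat.add U c.2.2) ((s, c.1) :: acc)) (Nat.ble c.2.1 b))) o

/-- One option for each row, equal rows in the order of the options. -/
noncomputable def vR (leaf : ℕ → ℕ → List (ℤ × ℤ) → Bool) (R : List (ℤ × List (ℤ × ℕ × ℕ))) :
    ℤ → List (ℤ × ℕ × ℕ) → ℕ → ℕ → List (ℤ × ℤ) → Bool :=
  List.rec (fun _ _ b U acc => leaf b U acc)
    (fun r _ ih s cs b U acc => vL r.1 (ih r.1) b U acc (Bool.rec r.2 cs (r.1 == s))) R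

theorem vL_cons {s : ℤ} {nx : List (ℤ × ℕ × ℕ) → ℕ → ℕ → List (ℤ × ℤ) → Bool} {b U : ℕ}
    {acc : List (ℤ × ℤ)} {c : ℤ × ℕ × ℕ} {cs : List (ℤ × ℕ × ℕ)}
    (h : vL s nx b U acc (c :: cs) = true) : (c.2.1 ≤ b →
      nx (c :: cs) (b - c.2.1) (U + c.2.2) ((s, c.1) :: acc) = true) ∧ vL s nx b U acc cs = true := by
  change Bool.rec false (vL s nx b U acc cs) (Bool.rec true
    (nx (c :: cs) (b - c.2.1) (U + c.2.2) ((s, c.1) :: acc)) (Nat.ble c.2.1 b)) = true at h
  rw [← Nat.ble_eq]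
  generalize nx (c :: cs) (b - c.2.1) (U + c.2.2) ((s, c.1) :: acc) = x at h
  generalize Nat.ble c.2.1 b = y at h
  cases x <;> cases y <;> simp_all

theorem vR_sound {leaf : ℕ → ℕ → List (ℤ × ℤ) → Bool} {op : ℤ → List ℤ} {f g : ℤ × ℤ → ℕ} :
    ∀ (l : List ℤ) (s : ℤ) (cs : List ℤ) (b U : ℕ) (acc : List (ℤ × ℤ)),
      vR leaf (l.map fun s => (s, (op s).map fun a => (a, g (s, a), f (s, a)))) s
        (cs.map fun a => (a, g (s, a), f (s, a))) b U acc = true →
      ∀ Z : Multiset (ℤ × ℤ), Z.map Prod.fst = l → (∀ z ∈ Z, z.2 ∈ op z.1) →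
      (∀ z ∈ Z, z.1 = s → z.2 ∈ cs) → (Z.map g).sum ≤ b → ∃ A : List (ℤ × ℤ),
        (A : Multiset (ℤ × ℤ)) = Z + acc ∧ leaf (b - (Z.map g).sum) (U + (Z.map f).sum) A = true
  | [], _, _, _, _, acc, h, Z, hZ, _, _, _ => by
    obtain rfl : Z = 0 := Multiset.map_eq_zero.1 hZ
    exact ⟨acc, (zero_add _).symm, h⟩
  | r :: l, s, cs, b, U, acc, h, Z, hZ, h1, h2, hb => by
    obtain ⟨o, ho, h⟩ : ∃ o : List ℤ, (∀ z ∈ Z, z.1 = r → z.2 ∈ o) ∧ vL r (vR leaf (l.map fun s =>
        (s, (op s).map fun a => (a, g (s, a), f (s, a)))) r) b U acc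
        (o.map fun a => (a, g (r, a), f (r, a))) = true := by
      change vL r _ b U acc (Bool.rec _ _ (r == s)) = true at h
      by_cases h3 : r = s
      · subst h3
        rw [beq_self_eq_true] at h
        exact ⟨cs, h2, h⟩
      · rw [beq_false_of_ne h3] at h
        exact ⟨op r, fun z hz e => e ▸ h1 z hz, h⟩
    induction o with
    | nil =>
      obtain ⟨z, hz, h3⟩ := Multiset.mem_map.1 (show r ∈ Z.map Prod.fst by simp [hZ])
      exact absurd (ho z hz h3) List.not_mem_nil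
    | cons c o ih =>
      have h3 := vL_cons h
      by_cases hc : (r, c) ∈ Z
      · obtain ⟨Z, rfl⟩ := Multiset.exists_cons_of_mem hc
        simp only [Multiset.map_cons, Multiset.sum_cons] at hb hZ ⊢
        obtain ⟨A, hA, h4⟩ := vR_sound l r (c :: o) _ _ _ (h3.1 (by simp only; omega)) Z
          ((Multiset.cons_inj_right r).1 hZ) (fun z hz => h1 z (Multiset.mem_cons_of_mem hz))
          (fun z hz => ho z (Multiset.mem_cons_of_mem hz)) (by simp only; omega)
        exact ⟨A, by rw [hA, ← Multiset.cons_coe, Multiset.add_cons, Multiset.cons_add],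
          by rwa [← Nat.sub_sub, ← add_assoc]⟩
      · exact ih (fun z hz e => (List.mem_cons.1 (ho z hz e)).resolve_left fun e' =>
          hc (by rwa [← e, ← e'])) h3.2

def vOk (q u : ℕ) (ok : ℕ → ℤ → Bool) (d : ℕ) (a : ℤ) : Bool :=
  (a - u * d) % q == 0 && (d % q != 0 || a == 0) && ok d a

noncomputable def vG (q K u b B t k : ℕ) (y : ℤ) (ok : ℕ → ℤ → Bool) (l : List ℤ)
    (fin : List (ℤ × ℤ) → Bool) : Bool :=
  vR (fun b U acc => quick (Nat.mod (dst U k) (y.natAbs / y.natAbs.gcd K)) t (dst U k) b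
    (!vOk q u ok y.natAbs (y.sign * (k - U)) || fin ((y, y.sign * (k - U)) :: acc)))
    (l.map fun s => (s, (optsAux (vOk q u ok s.natAbs) (s.natAbs / s.natAbs.gcd K)
      (B / (s.natAbs / s.natAbs.gcd K))).map fun a => (a, a.natAbs ^ 2, (s.sign * a + B).toNat)))
    0 [] (b - u ^ 2) u []

/-- All admissible sums over the elements of order `q` pass the test `fin`. -/
noncomputable def vS (q K u b B t : ℕ) (ok : ℕ → ℤ → Bool) (l : List ℤ)
    (fin : List (ℤ × ℤ) → Bool) : Bool :=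
  b ≤ B * B && vG q K u b B t (l.length * B) (-(1 + l.sum)) ok l fin

theorem div_gcd_dvd {K d : ℕ} {a : ℤ} (h : 0 < d) (h3 : (d : ℤ) ∣ K * a) :
    d / d.gcd K ∣ a.natAbs := by
  have h5 : 0 < d.gcd K := Nat.gcd_pos_of_pos_left _ h
  have h6 : d ∣ K * a.natAbs := by simpa [Int.natAbs_mul] using Int.natAbs_dvd_natAbs.2 h3
  refine (Nat.coprime_div_gcd_div_gcd h5).dvd_of_dvd_mul_left (Nat.dvd_of_mul_dvd_mul_left h5 ?_)
  rwa [← mul_assoc, Nat.mul_div_cancel' (Nat.gcd_dvd_left _ _),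
    Nat.mul_div_cancel' (Nat.gcd_dvd_right _ _)]

/-- The pair of a degree and a value occurs. -/
def hasP (Z : List (ℤ × ℤ)) (d : ℕ) (a : ℤ) : Bool := Z.any fun z => z.1.natAbs == d && z.2 == a

/-- The values on the degrees prime to `P` are in the table. -/
def inT (P : ℕ) (T : List (ℕ × ℤ)) (Z : List (ℤ × ℤ)) : Bool :=
  Z.all fun z => z.1.natAbs % P == 0 || T.contains (z.1.natAbs, z.2)

theorem inT_hasP {P d : ℕ} {a : ℤ} {T : List (ℕ × ℤ)} {Z : List (ℤ × ℤ)} (h : inT P T Z = true)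
    (h1 : hasP Z d a = true) (h2 : ¬ P ∣ d) : T.contains (d, a) = true := by
  simp only [hasP, List.any_eq_true, Bool.and_eq_true, beq_iff_eq] at h1
  obtain ⟨z, hz, rfl, rfl⟩ := h1
  simpa [mt Nat.dvd_of_mod_eq_zero h2] using List.all_eq_true.1 h z hz

theorem eq_of_count {α β : Type*} [BEq β] [LawfulBEq β] {f : α → β} {a b : α} (hab : f a = f b) :
    ∀ {l : List α}, (l.map f).count (f a) ≤ 1 → a ∈ l → b ∈ l → a = b
  | c :: l, h, ha, hb => by
    rw [List.map_cons, List.count_cons] at h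
    have h1 : ∀ x ∈ l, f x = f a → f c ≠ f a := fun x hx e e' => by
      have := List.count_pos_iff.2 (e ▸ List.mem_map_of_mem (f := f) hx)
      simp only [e', beq_self_eq_true, if_true] at h
      omega
    rcases List.mem_cons.1 ha with rfl | ha' <;> rcases List.mem_cons.1 hb with rfl | hb'
    exacts [rfl, absurd rfl (h1 b hb' hab.symm), absurd hab.symm (h1 a ha' rfl),
      eq_of_count hab (by omega) ha' hb']

variable {G : Type*} [Group G] [Finite G] {p : ℕ} [hp : Fact p.Prime]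

namespace Blk

variable {M e c t : ℕ} {L : List (IrrCharacter G)} {Y : Finset (IrrCharacter G)}
  {θ : IrrCharacter G} {δ : IrrCharacter G → ℤ} {ε : ℤ} (h : Blk p M e c t L Y θ δ ε)
  {q K u b : ℕ} [hq : Fact q.Prime] {U : Finset G} {a : IrrCharacter G → ℤ}
  (hv : Vals q K u b U a) (hne : p ≠ q)
include h hv hne

omit h [Finite G] in
theorem vals_reg {g : G} (hg : g ∈ U) : ¬ p ∣ orderOf g := by
  rwa [hv.ord g hg, Nat.prime_dvd_prime_iff_eq hp.out hq.out]

theorem vals_Y {ψ : IrrCharacter G} (hψ : ψ ∈ Y) : a ψ = a θ := by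
  have h1 := hv.sum ψ
  rw [Finset.sum_congr rfl fun g hg => (h.val_Y hψ).2.2 g (vals_reg hv hne hg), hv.sum] at h1
  exact_mod_cast (mul_left_cancel₀ (Nat.cast_ne_zero.2 hv.pos.ne') h1).symm

theorem vS {B : ℕ} {ok : ℕ → ℤ → Bool} (hok : ∀ χ ∈ θ :: L, ok (deg χ) (a χ) = true)
    {fin : List (ℤ × ℤ) → Bool} (hc : vS q K u b B t ok (sd δ L) fin = true) {n : ℕ}
    (hn : Nat.card G = n) : ∃ Z, fin Z = true ∧ ¬ momBad n c t K u Z = true ∧
      ∀ χ, χ ∈ L ∨ χ ∈ Y → hasP Z (deg χ) (a χ) = true := by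
  classical
  simp only [Mo.vS, Bool.and_eq_true, decide_eq_true_eq] at hc
  have h1 : a (triv G) = u := (hv.val _ 1 fun _ _ => Int.cast_one.symm).trans (mul_one _)
  have h2 := hv.nrm ((triv G :: L).toFinset ∪ Y)
  obtain ⟨I, h0⟩ := h.b0
  rw [Finset.sum_union h0.disj, h.sum_eq, h1, Finset.sum_congr rfl fun ψ hψ => by
    rw [h.vals_Y hv hne hψ], Finset.sum_const, h.card_Y, smul_eq_mul, Int.natAbs_natCast] at h2
  have h3 : ∀ χ ∈ θ :: L, vOk q u ok (deg χ) (a χ) = true := fun χ hχ => by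
    simp only [vOk, Int.emod_eq_zero_of_dvd (hv.mod χ), hok χ hχ, beq_self_eq_true, Bool.true_and,
      Bool.and_true, Bool.or_eq_true, bne_iff_ne, beq_iff_eq]
    exact or_iff_not_imp_left.2 fun h3 => hv.zero χ (Nat.dvd_of_mod_eq_zero (not_not.1 h3))
  have h4 : ∀ χ, (a χ).natAbs ≤ B := fun χ => by
    have := hv.nrm {χ}
    rw [Finset.sum_singleton] at this
    nlinarith [hc.1]
  have h5 : ε * a θ = u + (L.map fun χ => δ χ * a χ).sum := by
    have h5 := Finset.sum_congr (s₁ := U) rfl fun g hg => h.rel (vals_reg hv hne hg)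
    have h6 : ∀ L : List (IrrCharacter G), ∑ g ∈ U, (L.map fun χ => (δ χ : ℂ) *
        (χ : G → ℂ) g).sum = K * ((L.map fun χ => δ χ * a χ).sum : ℤ) := fun L => by
      induction L with
      | nil => simp
      | cons χ L ih =>
        simp only [List.map_cons, List.sum_cons, Finset.sum_add_distrib, ← Finset.mul_sum,
          hv.sum, ih, Int.cast_add, Int.cast_mul]
        ring
    rw [← Finset.mul_sum, hv.sum, Finset.sum_add_distrib, Finset.sum_const, hv.card, h6] at h5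
    apply Int.cast_injective (α := ℂ)
    apply mul_left_cancel₀ (Nat.cast_ne_zero.2 hv.pos.ne' : (K : ℂ) ≠ 0)
    simp only [nsmul_eq_mul] at h5
    push_cast at h5 ⊢
    linear_combination h5
  obtain ⟨A, hA, h6⟩ := vR_sound (f := fun z => (z.1.sign * z.2 + B).toNat)
    (g := fun z => z.2.natAbs ^ 2) (sd δ L) 0 [] _ _ _ hc.2 (L.map fun χ => (δ χ * deg χ, a χ))
    (by simp [sd, Function.comp_def]) (fun z hz => by
      obtain ⟨χ, hχ, rfl⟩ := List.mem_map.1 (Multiset.mem_coe.1 hz)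
      obtain ⟨j, hj⟩ := div_gcd_dvd (deg_pos χ) (hv.dvd χ)
      simp only [h.natAbs_sd hχ]
      exact mem_optsAux (h3 χ (List.mem_cons_of_mem _ hχ)) hj ((Nat.le_div_iff_mul_le (Nat.div_pos
        (Nat.le_of_dvd (deg_pos χ) (Nat.gcd_dvd_left _ _)) (Nat.gcd_pos_of_pos_left _
          (deg_pos χ)))).2 (by rw [mul_comm, ← hj]; exact h4 χ))) (fun z hz e => by
      obtain ⟨χ, hχ, rfl⟩ := List.mem_map.1 (Multiset.mem_coe.1 hz)
      have := h.natAbs_sd hχ
      rw [show δ χ * deg χ = 0 from e] at this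
      exact absurd this (deg_pos χ).ne) (by
      simp only [Multiset.map_coe, Multiset.sum_coe, List.map_map, Function.comp_def]; omega)
  simp only [Multiset.map_coe, Multiset.sum_coe, List.map_map, Function.comp_def,
    Multiset.coe_nil, add_zero, Multiset.coe_eq_coe] at h6 hA
  have h7 : (((L.map fun χ => ((δ χ * deg χ).sign * a χ + B).toNat).sum : ℕ) : ℤ) =
      L.length * B + (L.map fun χ => δ χ * a χ).sum := by
    have h7 := fun χ => h.sign_sd (χ := χ)
    have h8 := fun χ (hχ : χ ∈ L) => (h.val hχ).1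
    clear h hok hc h0 h2 h3 h5 h6 hA
    induction L with
    | nil => simp
    | cons χ L ih =>
      have := h4 χ
      rw [List.map_cons, List.sum_cons, Nat.cast_add, ih (fun ψ hψ => h7 ψ (.tail _ hψ))
        fun ψ hψ => h8 ψ (.tail _ hψ), h7 χ (.head _), Int.toNat_of_nonneg (by
          rcases h8 χ (.head _) with h | h <;> rw [h] <;> omega)]
      simp only [List.map_cons, List.sum_cons, List.length_cons]
      push_cast
      ring
  have h8 : ε * ε = 1 := by rcases h.sign with h | h <;> simp [h]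
  generalize (L.map fun χ => ((δ χ * deg χ).sign * a χ + B).toNat).sum = W at h6 h7
  rw [dst_eq (u := ε * a θ) (by simp only [sd, List.length_map]; push_cast; linarith), h.sign_eq,
    Int.natAbs_neg, h.natAbs_eq, show -ε * (((sd δ L).length * B : ℕ) - (u + W : ℕ)) = a θ by
      simp only [sd, List.length_map]; push_cast; linear_combination ε * h7 - ε * h5 + a θ * h8,
    show (ε * a θ).natAbs = (a θ).natAbs by rcases h.sign with h | h <;> simp [h],
    show Nat.mod _ _ = 0 from Nat.mod_eq_zero_of_dvd (div_gcd_dvd (deg_pos θ) (hv.dvd θ))] at h6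
  have h9 := quick_sound h6 (by omega)
  rw [h3 θ (.head _), Bool.not_true, Bool.false_or] at h9
  refine ⟨_, h9, ?_, fun χ hχ => ?_⟩
  · have h10 := h.not_momBad hv.inv (fun g => vals_reg hv hne) hv.card
      (fun χ _ => ⟨hv.sum χ, hv.dvd χ⟩) hn
    rw [h.zp_eq, neg_mul, h.deg_rel] at h10
    simpa only [momBad, momZ, List.map_cons, List.sum_cons, (hA.map _).sum_eq] using h10
  · simp only [hasP, List.any_cons, Int.natAbs_neg, h.natAbs_eq, Bool.or_eq_true, List.any_eq_true,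
      Bool.and_eq_true, beq_iff_eq]
    rcases hχ with hχ | hχ
    · exact .inr ⟨_, hA.symm.subset (List.mem_map_of_mem hχ), h.natAbs_sd hχ, rfl⟩
    · exact .inl ⟨(h.val_Y hχ).1.symm, (h.vals_Y hv hne hχ).symm⟩

omit hv hne hq in
theorem mom_nonneg (hp2 : p ≠ 2) {s : G} (hs : orderOf s = 2) {n : ℕ} (hn : Nat.card G = n)
    (j : ℕ) : 0 ≤ (((n / Nat.card (centralizer ({s} : Set G))) ^ j : ℕ) : ℤ) +
      momZ (n / Nat.card (centralizer ({s} : Set G))) j (zp (sd δ L) ((θ :: L).map (iv · s))) := by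
  classical
  have := Fintype.ofFinite G
  have hK : n / Nat.card (centralizer ({s} : Set G)) = (centralizer ({s} : Set G)).index := by
    rw [← hn, ← card_mul_index (centralizer ({s} : Set G)), Nat.mul_div_cancel_left _ Nat.card_pos]
  have h1 : (Finset.univ.filter (IsConj s)).card = (centralizer ({s} : Set G)).index := by
    rw [← Set.ncard_coe_finset, ← O24.ncard_cls, Finset.coe_filter]
    simp only [Finset.mem_univ, true_and]
  rw [hK]
  generalize hU' : Finset.univ.filter (IsConj s) = U at h1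
  have hm : ∀ g, g ∈ U ↔ IsConj s g := fun g => by simp [← hU']
  have hU : CInv U := fun x u hu => (hm _).2 (((hm u).1 hu).trans (isConj_iff.2 ⟨x, rfl⟩))
  have hr : ∀ g ∈ U, ¬ p ∣ orderOf g := fun g hg => by
    obtain ⟨x, rfl⟩ := isConj_iff.1 ((hm g).1 hg)
    rw [← MulAut.conj_apply, MulEquiv.orderOf_eq]
    exact not_dvd_two hs hp2
  have ha : ∀ χ, (deg χ : ℤ) ∣ (centralizer ({s} : Set G)).index * iv χ s := fun χ =>
    dg_dvd_index_mul χ (iv_two χ hs).symm
  generalize (centralizer ({s} : Set G)).index = K at h1 ha ⊢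
  obtain ⟨I, h0⟩ := h.b0
  have h2 : ∀ χ : IrrCharacter G, ∑ g, (cv U j g : ℂ) * (χ : G → ℂ) g⁻¹ =
      (deg χ * (K * iv χ s / deg χ) ^ j : ℤ) := fun χ => by
    rw [hU.sum_cv χ.2, Finset.sum_congr rfl fun u hu => (χ.2.isClassFunction.eq_of_isConj
      ((hm u).1 hu)).symm, Finset.sum_const, h1, ← iv_two χ hs, nsmul_eq_mul, ← deg_cast,
      Int.cast_mul, Int.cast_pow, Int.cast_div_charZero (ha χ)]
    push_cast
    ring
  have h4 : ∑ χ ∈ (triv G :: L).toFinset, (δ χ : ℂ) * ∑ g, (cv U j g : ℂ) * (χ : G → ℂ) g⁻¹ -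
      ε * (deg θ * (K * iv θ s / deg θ) ^ j : ℤ) =
      (((K ^ j : ℕ) + momZ K j (zp (sd δ L) ((θ :: L).map (iv · s))) : ℤ) : ℂ) := by
    have h5 : (-ε * deg θ).natAbs = deg θ := by rcases h.sign with h | h <;> simp [h]
    rw [h.sum_eq, hU.sum_cv (triv G).2, h0.δ_triv, h.zp_eq, momZ, List.map_cons, List.sum_cons,
      List.map_map, List.map_congr_left (g := fun χ => ((δ χ * deg χ * (K * iv χ s / deg χ) ^ j :
        ℤ) : ℂ)) fun χ _ => by rw [h2 χ]; push_cast; ring,
      List.map_congr_left (f := _ ∘ _) (g := fun χ => δ χ * deg χ * (K * iv χ s / deg χ) ^ j)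
        fun χ hχ => by simp only [Function.comp, h.natAbs_sd hχ], h5]
    simp [h1, Int.cast_list_sum, Function.comp_def]
    ring
  have h6 : ∑ g, (cv U j g : ℂ) * (if p ∣ orderOf g⁻¹ then (p : ℂ) else 0) =
      (∑ g, cv U j g * if p ∣ orderOf g⁻¹ then p else 0 : ℕ) := by push_cast; rfl
  generalize (∑ g, cv U j g * if p ∣ orderOf g⁻¹ then p else 0 : ℕ) = N at h6
  simp only [h.ind, mul_sub, Finset.sum_sub_distrib, mul_left_comm (_ : ℂ) (t : ℂ),
    mul_left_comm (_ : ℂ) (ε : ℂ), ← Finset.mul_sum] at h6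
  simp only [Finset.mul_sum] at h6
  rw [Finset.sum_comm, Finset.sum_comm (t := Y)] at h6
  simp only [mul_left_comm (cv U j _ : ℂ), ← Finset.mul_sum] at h6
  rw [Finset.sum_congr (s₁ := Y) rfl fun ψ hψ => by
    rw [h2, (h.val_Y hψ).1, iv, (h.val_Y hψ).2.2 s (not_dvd_two hs hp2), ← iv],
    Finset.sum_const, h.card_Y, nsmul_eq_mul, mul_left_comm, ← mul_sub, h4] at h6
  exact nonneg_of_mul_nonneg_right ((Int.natCast_nonneg N).trans_eq (by exact_mod_cast h6.symm))
    (Int.natCast_pos.2 h.t_pos)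

end Blk

end Cfsg.Lib.Spor.Mo
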