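import Cfsg.Agent.Spor.O24FIIa
import Cfsg.Agent.Spor.MoVs
import Cfsg.Agent.Spor.CharKit2

/-!
The principal 7-block excludes the candidates for the principal 11-block.
-/

set_option autoImplicit false

namespace Cfsg.Lib.Spor.O24F

open Subgroup Cfsg.Lib.Spor.Mo Cfsg.Lib.PrimeOne Cfsg.Lib.Block.Princ
open Cfsg.Lib.Spor.O7920 (instFact11 instFact5)
open Cfsg.Lib.Spor.O443520 (instFact7)
open Cfsg.Lib.Spor.O10200960 (instFact23)
open Cfsg.Lib.Spor.O24 (R D ord)

variable {G : Type*} [Group G] [Finite G] {c : ℕ} {α β χ ψ : IrrCharacter G}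

namespace IIb

def lA : List ℤ := [23, -736, 1288, 3840, 3840, 3840, -5796, -252, -252]

theorem num : ∀ l ∈ L11,
    enumF 244823040 7 R D (fun d => modOk 23 11 d && modOk 11 10 d && okD 11 l d)
    (fun M e => (244823040 / (7 * M * e)).gcd 1265 != 1) (fun M e l7 => tauBad 23 11 l7 ||
      tauBad 11 10 l7 || !(((1 + l7.sum) :: l7).map Int.natAbs).contains 2024 ||
      (l == lA && e == 6 && (M == 242880 || M == 1943040))) = true := by decide +kernel

theorem v1 : vS 7 (242880 * 6) 1 (1 * (7 * 24)) 13 1 (fun d a => 0 ≤ d + 6 * a) lA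
    (fun Z => momBad 244823040 1 1 (242880 * 6) 1 Z) = true := by decide +kernel

theorem v2 : vS 7 (1943040 * 6) 1 (1 * (7 * 3)) 5 1 (fun d a => 0 ≤ d + 6 * a) lA
    (fun Z => momBad 244823040 1 1 (1943040 * 6) 1 Z) = true := by decide +kernel

theorem nonneg {M e c K b : ℕ} {L : List (IrrCharacter G)} {Y : Finset (IrrCharacter G)}
    {θ : IrrCharacter G} {δ : IrrCharacter G → ℤ} {ε : ℤ} (j : Blk 7 M e c 1 L Y θ δ ε)
    {U : Finset G} {a : IrrCharacter G → ℤ} (hv : Vals 7 K 1 b U a) (φ : IrrCharacter G) :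
    0 ≤ (deg φ : ℤ) + 6 * a φ := by
  obtain ⟨v, h1⟩ := Finset.card_pos.1 (show 0 < U.card by rw [hv.card, mul_one]; exact hv.pos)
  have h2 := hv.ord v h1
  have h3 : ∀ g, orderOf g = 7 → (φ : G → ℂ) g = a φ := fun g hg => by
    have h4 := hv.sum φ
    rw [Finset.sum_congr rfl fun u hu => φ.2.isClassFunction.eq_of_isConj
      (j.isConj rfl (hv.ord u hu) hg), Finset.sum_const, hv.card, mul_one, nsmul_eq_mul] at h4
    exact mul_left_cancel₀ (Nat.cast_ne_zero.2 hv.pos.ne') h4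
  obtain ⟨n, hn⟩ := CKit.exists_nat_sum_pow φ.2.isCharacter h2
  rw [sum_range_const h2 fun i h0 h1 => h3 _ (orderOf_pow_eq h2 h0 h1), ← deg_cast] at hn
  have h5 : (deg φ : ℤ) + 6 * a φ = n * 7 := by
    apply Int.cast_injective (α := ℂ)
    push_cast at hn ⊢
    linear_combination hn
  omega

end IIb

open IIb

theorem B5.not_rest11 [IsSimpleGroup G] (h : B5 c α β χ ψ) {L : List (IrrCharacter G)}
    {Y : Finset (IrrCharacter G)} {θ : IrrCharacter G} {δ : IrrCharacter G → ℤ} {ε : ℤ}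
    (k : Blk 11 2225664 10 1 1 L Y θ δ ε) : sd δ L ∉ L11 := fun hl => by
  have hn : ¬ IsMulCommutative G := not_comm_of_not_prime (by rw [h.card]; norm_num)
  obtain ⟨dα, dβ, dχ, dψ⟩ := h.degs
  obtain ⟨M5, δ5, k5, -⟩ := h.blk
  obtain ⟨L3, Y3, θ3, δ3, ε3, k3⟩ := h.b23
  have hc := h.hc
  obtain ⟨M, e, c7, t, L7, Y7, θ7, δ7, ε7, j, hm⟩ := exists_blk' (G := G) (p := 7)
    (by rw [h.card]; norm_num) (by rw [h.card]; norm_num)
  have h1 : c7.gcd 1265 = 1 := by
    have h1 : c7 % 5 ≠ 0 := fun e => by have := j.dvd_c k5 (by norm_num) e; omega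
    have h2 : c7 % 11 ≠ 0 := fun e => by have := j.dvd_c k (by norm_num) e; omega
    have h3 : c7 % 23 ≠ 0 := fun e => by have := j.dvd_c k3 (by norm_num) e; omega
    refine Nat.Coprime.mul_right (m := 5 * 11) (n := 23) (Nat.Coprime.mul_right ?_ ?_) ?_ <;>
      exact ((Nat.Prime.coprime_iff_not_dvd (by norm_num)).2 (by omega)).symm
  obtain ⟨L', j', h2⟩ := (j.enumF hn h.card ord hm (fun φ hφ => by
    rw [h.s23.mod, h.s11.mod, k.okD rfl (j.ne_triv hφ)]; rfl) (num _ hl)).resolve_left (by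
      rw [← h.card, j.c_eq, h1]; simp)
  simp only [Bool.or_eq_true, Bool.and_eq_true, beq_iff_eq, Bool.not_eq_true',
    ← Bool.not_eq_true, List.contains_iff_mem, j'.map_natAbs] at h2
  obtain ⟨⟨h3, rfl⟩, h4⟩ := h2.resolve_left fun h2 => by
    rcases h2 with (h2 | h2) | h2
    · exact j'.not_tauBad h.s23 (by norm_num) h2
    · exact j'.not_tauBad h.s11 (by norm_num) h2
    · obtain ⟨φ, h5, h6⟩ := O24.exists_common k5 j' (by omega)
      have h7 := j'.not_dvd_deg h6
      have h8 : deg φ = 2024 := by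
        simp only [List.mem_cons, List.not_mem_nil, or_false] at h5
        rcases h5 with rfl | rfl | rfl | rfl <;> omega
      refine h2 (List.mem_map.2 ?_)
      rcases h6 with h6 | h6
      exacts [⟨φ, List.mem_cons_of_mem _ h6, h8⟩,
        ⟨θ7, List.mem_cons_self, (j'.val_Y h6).1.symm.trans h8⟩]
  obtain rfl : t = 1 := by have := j.card_eq; omega
  obtain ⟨U, a, hv⟩ := j.exists_vals
  have h5 := j.card_group
  rw [h.card] at h5
  have h6 : ∀ φ ∈ θ :: L, (fun (d : ℕ) (a : ℤ) => decide (0 ≤ d + 6 * a)) (deg φ) (a φ) = true :=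
    fun φ _ => decide_eq_true (nonneg j hv φ)
  rcases h4 with rfl | rfl
  · obtain rfl : c7 = 24 := by omega
    obtain ⟨Z, h7, h8, -⟩ := k.vS hv (by norm_num) h6 (h3 ▸ v1) h.card
    exact h8 h7
  · obtain rfl : c7 = 3 := by omega
    obtain ⟨Z, h7, h8, -⟩ := k.vS hv (by norm_num) h6 (h3 ▸ v2) h.card
    exact h8 h7

end Cfsg.Lib.Spor.O24F
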