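import Cfsg.Agent.Spor.O24FTwo

/-!
A simple group of order 244823040: the elements of order 3 commuting with an element of order 5.
-/

set_option autoImplicit false

namespace Cfsg.Lib.Spor.O24F

open Subgroup Cfsg.Lib.Spor.Mo Cfsg.Lib.PrimeOne Cfsg.Lib.Block.Princ Cfsg.Lib.Trans
open Cfsg.Lib.Spor.O7920 (instFact11 instFact5)
open Cfsg.Lib.Spor.O10200960 (instFact23)

variable {G : Type*} [Group G] [Finite G]
variable {c : ℕ} {α β χ ψ ξ : IrrCharacter G} {d y : G} {T : Subgroup G}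

theorem L5.no_six (h : L5 12 y T) {s z : G} (k : Two ξ s z) {t : G} (ot : orderOf t = 2)
    (od : orderOf d = 3) (h1 : t ∈ C1 y) (h2 : d ∈ C1 y) (h3 : d ∈ C1 t) : False := by
  have cT : Nat.card T = 2 ^ 2 := by have := h.cT; omega
  have tT : t ∈ T := h.two t h1 1 (by rw [pow_one, ← ot, pow_orderOf_eq_one])
  have CN : C1 y ≤ N1 y := fun g hg => mem_normalizer_of_cj_le (by
    rw [cj_zpowers, mem_centralizer_singleton_iff.1 hg, mul_inv_cancel_right])
  have yt : y ∈ C1 t := mem_centralizer_singleton_iff.2 (mem_centralizer_singleton_iff.1 h1).symm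
  have ab := IsPGroup.isMulCommutative_of_card_eq_prime_sq cT
  have d4 : 2 ^ 2 ∣ Nat.card (N1 y ⊓ C1 t : Subgroup G) := cT ▸ card_dvd_of_le (le_inf (h.le.trans CN)
    fun u hu => mem_centralizer_singleton_iff.2
      (congrArg Subtype.val (ab.1.comm (⟨u, hu⟩ : T) ⟨t, tT⟩)))
  have d3 : 3 ∣ Nat.card (N1 y ⊓ C1 t : Subgroup G) := od ▸ orderOf_dvd_natCard _ ⟨CN h2, h3⟩
  have d5 : 5 ∣ Nat.card (N1 y ⊓ C1 t : Subgroup G) :=
    h.oy ▸ orderOf_dvd_natCard _ ⟨le_normalizer (mem_zpowers y), yt⟩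
  have d240 : Nat.card (N1 y ⊓ C1 t : Subgroup G) ∣ 20 * 12 := h.cN ▸ card_dvd_of_le inf_le_left
  have c5 : 5 ∣ Nat.card (C1 t) := h.oy ▸ orderOf_dvd_natCard _ yt
  have ct : Nat.card (C1 t) = 7680 := by
    rcases k.two t ot with e | e
    · rw [← card_C1_conj e, k.cs]
    · rw [← card_C1_conj e, k.cz] at c5
      omega
  obtain ⟨m, e, hm⟩ := sylow_cnt h.oy (by rw [h.card]; norm_num) yt
  rw [ct] at e
  change 7680 = Nat.card (N1 y ⊓ C1 t : Subgroup G) * m at e
  have := Nat.le_of_dvd (by omega) d240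
  obtain ⟨j, hj⟩ : 60 ∣ Nat.card (N1 y ⊓ C1 t : Subgroup G) := by omega
  rw [hj] at e d240 this
  have : j ≤ 4 := by omega
  interval_cases j <;> omega

theorem L5.a4 (h : L5 12 y T) {s z : G} (k : Two ξ s z) :
    {g : G | orderOf g = 3}.ncard % 5 = 3 ∧
      ∀ d : G, orderOf d = 3 → d * y = y * d → Nat.card (C1 y ⊓ C1 d : Subgroup G) = 15 := by
  have cT : (T : Set G).ncard = 4 := by
    have := h.cT
    have e : (T : Set G).ncard = Nat.card T := rfl
    omega
  refine ⟨?_, fun d od e => ?_⟩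
  · have up := (Set.ncard_le_ncard (s := (T : Set G) ∪ O24.cel y 3) (by
      rintro u (a | a)
      · refine ⟨fun b => ?_, (mem_centralizer_singleton_iff.1 (h.le a)).symm⟩
        have : 5 ∣ (T : Set G).ncard := b.trans (orderOf_dvd_natCard _ a)
        omega
      · exact ⟨by rw [a.1]; omega, a.2⟩)).trans (O24.ncard_reg_le h.oy (c := 12) (by omega) h.cC)
    have dj : Disjoint (T : Set G) (O24.cel y 3) := Set.disjoint_left.2 fun u a b => by
      have : 3 ∣ (T : Set G).ncard := b.1 ▸ orderOf_dvd_natCard _ a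
      omega
    have fr : 12 ≤ {x : C1 y | x ^ 12 = 1}.ncard :=
      Nat.le_of_dvd ((Set.ncard_pos (s := {x : C1 y | x ^ 12 = 1})).2 ⟨1, one_pow 12⟩)
        (Solv.Frob.dvd_card_pow_eq_one (by rw [h.cC]; norm_num))
    have lo := fr.trans (Set.ncard_le_ncard_of_injOn (t := (T : Set G) ∪ O24.cel y 3) Subtype.val
      (fun x hx => by
        have e : (x : G) ^ 12 = 1 := congrArg Subtype.val hx
        by_cases a : (x : G) ^ 4 = 1
        · exact Or.inl (h.two _ x.2 2 a)
        have o3 : orderOf ((x : G) ^ 4) = 3 := orderOf_eq_prime (by rw [← pow_mul, e]) a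
        refine Or.inr ⟨orderOf_eq_prime ?_ fun b => a (by rw [b, one_pow]),
          (mem_centralizer_singleton_iff.1 x.2).symm⟩
        by_contra b
        have cm : ∀ i j, (x : G) ^ i ∈ C1 ((x : G) ^ j) := fun i j =>
          mem_centralizer_singleton_iff.2 (Commute.pow_pow_self _ i j)
        by_cases b' : (x : G) ^ 6 = 1
        · exact h.no_six k (orderOf_eq_prime (by rw [← pow_mul, b']) b) o3 (pow_mem x.2 3)
            (pow_mem x.2 4) (cm 4 3)
        · exact h.no_six k (orderOf_eq_prime (by rw [← pow_mul, e]) b') o3 (pow_mem x.2 6)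
            (pow_mem x.2 4) (cm 4 6)) Subtype.val_injective.injOn)
    rw [Set.ncard_union_eq dj] at up lo
    have := O24.cnt_mod h.oy 3
    unfold Nat.ModEq at this
    omega
  · have dy : d ∈ C1 y := mem_centralizer_singleton_iff.2 e
    have d3 : 3 ∣ Nat.card (C1 y ⊓ C1 d : Subgroup G) :=
      od ▸ orderOf_dvd_natCard _ ⟨dy, mem_centralizer_singleton_iff.2 rfl⟩
    have d5 : 5 ∣ Nat.card (C1 y ⊓ C1 d : Subgroup G) := h.oy ▸ orderOf_dvd_natCard _
      ⟨mem_centralizer_singleton_iff.2 rfl, mem_centralizer_singleton_iff.2 e.symm⟩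
    have d60 : Nat.card (C1 y ⊓ C1 d : Subgroup G) ∣ 5 * 12 := h.cC ▸ card_dvd_of_le inf_le_left
    have d2 : ¬ 2 ∣ Nat.card (C1 y ⊓ C1 d : Subgroup G) := fun a => by
      obtain ⟨⟨t, ht⟩, ot⟩ := exists_prime_orderOf_dvd_card' 2 a
      rw [orderOf_mk] at ot
      exact h.no_six k ot od ht.1 dy
        (mem_centralizer_singleton_iff.2 (mem_centralizer_singleton_iff.1 ht.2).symm)
    have := Nat.le_of_dvd (by omega) d60
    obtain ⟨j, hj⟩ : 15 ∣ Nat.card (C1 y ⊓ C1 d : Subgroup G) := by omega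
    rw [hj] at d60 d2 this ⊢
    have : j ≤ 4 := by omega
    interval_cases j <;> omega

end Cfsg.Lib.Spor.O24F
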