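import Cfsg.Agent.Spor.O24FLdc

/-! Passage to the quotient by the kernel of the character of degree 9. -/

set_option autoImplicit false

namespace Cfsg.Lib.Spor.O24F

open Subgroup Cfsg.Lib.Spor.Mo Cfsg.Lib.PrimeOne Cfsg.Lib.Block.Princ
open Cfsg.Lib.Spor.O7920 (instFact11 instFact5)
open Cfsg.Lib.Spor.O10200960 (instFact23)

variable {G : Type*} [Group G] [Finite G] {d : G}

namespace Ldd

theorem exists_quot (φ : IrrCharacter G) (K : Subgroup G) [K.Normal]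
    (h : ∀ n ∈ K, (φ : G → ℂ) n = deg φ) :
    ∃ ψ : IrrCharacter (G ⧸ K), deg ψ = deg φ ∧ ∀ g : G, (ψ : G ⧸ K → ℂ) g = (φ : G → ℂ) g := by
  obtain ⟨ψ, h1, h2⟩ := φ.2.exists_quotient K fun n hn => (h n hn).trans (deg_cast φ)
  refine ⟨⟨ψ, h1⟩, ?_, h2⟩
  rw [← Nat.cast_inj (R := ℂ), deg_cast, deg_cast]
  exact h2 1

omit [Finite G] in
theorem dvd_iff {K : Subgroup G} [K.Normal] (h : ∀ n ∈ K, ¬ 5 ∣ orderOf n) (g : G) :
    5 ∣ orderOf (g : G ⧸ K) ↔ 5 ∣ orderOf g := by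
  refine ⟨fun k => k.trans (orderOf_map_dvd (QuotientGroup.mk' K) g), fun k => ?_⟩
  have h1 : g ^ orderOf (g : G ⧸ K) ∈ K := by
    rw [← QuotientGroup.eq_one_iff, QuotientGroup.mk_pow, pow_orderOf_eq_one]
  have h2 : orderOf g ∣ orderOf (g : G ⧸ K) * orderOf (g ^ orderOf (g : G ⧸ K)) :=
    orderOf_dvd_of_pow_eq_one (by rw [pow_mul, pow_orderOf_eq_one])
  exact ((Nat.Prime.dvd_mul Nat.prime_five).1 (k.trans h2)).resolve_right (h _ h1)

theorem nine_dvd {K : Subgroup G} (hd : orderOf d = 3) (hz : ∀ g, d * g = g * d) {x : G} {k : ℕ}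
    (hx : x ^ 3 ^ k = 1) (hxd : x ∉ zpowers d) (h1 : d ∈ K) (h2 : x ∈ K) : 9 ∣ Nat.card K := by
  have : Fact (Nat.Prime 3) := ⟨Nat.prime_three⟩
  have hn : (zpowers d).Normal := ⟨by
    rintro _ ⟨i, rfl⟩ g
    have h3 : Commute g (d ^ i) := Commute.zpow_right (hz g).symm i
    rw [h3.eq, mul_inv_cancel_right]
    exact ⟨i, rfl⟩⟩
  have c1 : Nat.card (zpowers d) = 3 := by rw [Nat.card_zpowers, hd]
  have p1 : IsPGroup 3 (zpowers d) := IsPGroup.of_card (n := 1) c1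
  have p2 : IsPGroup 3 (zpowers x) := by
    obtain ⟨j, -, hj⟩ := (Nat.dvd_prime_pow Nat.prime_three).1 (orderOf_dvd_of_pow_eq_one hx)
    exact IsPGroup.of_card (n := j) (by rw [Nat.card_zpowers, hj])
  obtain ⟨n, hn'⟩ := IsPGroup.iff_card.1 (p1.to_sup_of_normal_left p2)
  have h3 : 2 ≤ n := by
    by_contra! h4
    have h5 : zpowers d = zpowers d ⊔ zpowers x := eq_of_le_of_card_ge le_sup_left (by
      rw [hn', c1]
      interval_cases n <;> norm_num)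
    exact hxd (h5.ge (mem_sup_right (mem_zpowers x)))
  refine Dvd.dvd.trans ?_ (card_dvd_of_le (sup_le (zpowers_le.2 h1) (zpowers_le.2 h2)))
  rw [hn']
  exact pow_dvd_pow 3 h3

end Ldd

theorem HD.val_eq {θ η η' : IrrCharacter G} (h : HD θ η η') (hH : Nat.card G ∣ 17280)
    (hd : orderOf d = 3) (hz : ∀ g, d * g = g * d) (hk : (θ : G → ℂ) d = 9) {s x : G}
    (hs : orderOf s = 2) {k : ℕ} (hx : x ^ 3 ^ k = 1) (hxd : x ∉ zpowers d)
    (hc : s * x = x * s) : (θ : G → ℂ) s = 9 := by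
  have hn := θ.2.charKer_normal
  have hK : ∀ g, g ∈ Cfsg.Lib.Char.charKer (θ : G → ℂ) ↔ (θ : G → ℂ) g = 9 := fun g => by
    rw [θ.2.mem_charKer_iff, ← deg_cast, h.dθ]
    rfl
  generalize Cfsg.Lib.Char.charKer (θ : G → ℂ) = K at hn hK
  have h5 : ∀ n ∈ K, ¬ 5 ∣ orderOf n := fun n h1 h2 => by
    have h3 := (hK n).1 h1
    rw [(h.sing n h2).1] at h3
    norm_num at h3
  obtain ⟨θ₁, d1, e1⟩ := Ldd.exists_quot θ K fun n h1 => by rw [(hK n).1 h1, h.dθ]; rfl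
  obtain ⟨η₁, d2, e2⟩ := Ldd.exists_quot η K fun n h1 => by
    rw [(h.reg n (h5 n h1)).1, (hK n).1 h1, h.dη]; norm_num
  obtain ⟨η₂, d3, e3⟩ := Ldd.exists_quot η' K fun n h1 => by
    rw [(h.reg n (h5 n h1)).2, (hK n).1 h1, h.dη']; norm_num
  have k1 : HD θ₁ η₁ η₂ := by
    refine ⟨d1.trans h.dθ, d2.trans h.dη, d3.trans h.dη', fun e => h.ne (Subtype.ext (funext fun g => ?_)),
      fun q => ?_, fun q => ?_, fun q => ?_⟩
    · rw [← e2, ← e3, e]
    · obtain ⟨g, rfl⟩ := QuotientGroup.mk_surjective q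
      rw [← QuotientGroup.mk_inv, e1, e1, h.real]
    · obtain ⟨g, rfl⟩ := QuotientGroup.mk_surjective q
      rw [Ldd.dvd_iff h5, e1, e2, e3]
      exact h.sing g
    · obtain ⟨g, rfl⟩ := QuotientGroup.mk_surjective q
      rw [Ldd.dvd_iff h5, e1, e2, e3]
      exact h.reg g
  have c1 := card_eq_card_quotient_mul_card_subgroup K
  have c2 : 3 ∣ Nat.card K := hd ▸ orderOf_dvd_natCard K ((hK d).2 hk)
  have c3 : 9 ∣ Nat.card (G ⧸ K) := k1.dθ ▸ deg_dvd_card θ₁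
  have c4 : Nat.card (G ⧸ K) ∣ 5760 := by
    refine Nat.dvd_of_mul_dvd_mul_right (show 0 < 3 by norm_num) ?_
    exact (mul_dvd_mul_left _ c2).trans (c1 ▸ hH)
  have xK : x ∉ K := fun h1 => by
    have h2 := (mul_dvd_mul c3 (Ldd.nine_dvd hd hz hx hxd ((hK d).2 hk) h1)).trans (c1 ▸ hH)
    norm_num at h2
  by_contra h9
  have o1 : orderOf (s : G ⧸ K) = 2 := orderOf_eq_prime
    (by rw [← QuotientGroup.mk_pow, ← hs, pow_orderOf_eq_one, QuotientGroup.mk_one])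
    fun e => h9 ((hK s).1 ((QuotientGroup.eq_one_iff s).1 e))
  have o2 : 3 ∣ orderOf (x : G ⧸ K) := by
    obtain ⟨j, -, hj⟩ := (Nat.dvd_prime_pow Nat.prime_three).1 (orderOf_dvd_of_pow_eq_one
      (show (x : G ⧸ K) ^ 3 ^ k = 1 by rw [← QuotientGroup.mk_pow, hx, QuotientGroup.mk_one]))
    rw [hj]
    refine dvd_pow_self 3 fun e => xK ?_
    rw [e, pow_zero, orderOf_eq_one_iff] at hj
    exact (QuotientGroup.eq_one_iff x).1 hj
  refine k1.false (fun q hq => ?_) c4 o1 (orderOf_pow_orderOf_div (orderOf_pos _).ne' o2) ?_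
  · obtain ⟨g, rfl⟩ := QuotientGroup.mk_surjective q
    exact (QuotientGroup.eq_one_iff g).2 ((hK g).2 (e1 g ▸ hq))
  · refine Commute.pow_right ?_ _
    show (s : G ⧸ K) * x = x * s
    rw [← QuotientGroup.mk_mul, hc, QuotientGroup.mk_mul]

end Cfsg.Lib.Spor.O24F
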