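import Cfsg.Agent.Spor.O24FCongA
import Cfsg.Agent.Spor.O24FLdd

/-! Congruences for the values of the characters of degrees 252 and 5544 on involutions. -/

set_option autoImplicit false

namespace Cfsg.Lib.Spor.O24F

open Subgroup Cfsg.Lib.Spor.Mo Cfsg.Lib.PrimeOne

variable {G : Type*} [Group G] [Finite G]
variable {c : ℕ} {α β χ ψ ξ : IrrCharacter G} {d y : G}

theorem Jt.cong (h : Jt c α β χ ψ ξ d y) {θ η η' : IrrCharacter (C1 d)} (h1 : Th d χ 1 θ)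
    (h2 : HD θ η η') (h3 : Nat.card (C1 d) ∣ 17280) {s : G} (hs : orderOf s = 2) :
    (9 ∣ Nat.card (C1 s) → 18 ∣ 252 - iv ξ s ∧ 18 ∣ 5544 - iv χ s) ∧
    (27 ∣ Nat.card (C1 s) → 54 ∣ 252 - iv ξ s ∧ 54 ∣ 5544 - iv χ s) := by
  have hd : d ∈ C1 d := mem_centralizer_singleton_iff.2 rfl
  have hv : ∀ s x : C1 d, ∀ k : ℕ, orderOf s = 2 → x ^ 3 ^ k = 1 →
      (x : G) ∉ zpowers d → s * x = x * s → (θ : C1 d → ℂ) s = 9 := fun s x k os hx hxd hc =>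
    h2.val_eq (d := ⟨d, hd⟩) h3 ((orderOf_coe _).symm.trans h.od)
      (fun g => Subtype.ext (mem_centralizer_singleton_iff.1 g.2).symm)
      (by rw [h1.ker 1 _ (by simp), ← deg_cast, h2.dθ]; norm_num) os hx
      (fun ⟨i, hi⟩ => hxd ⟨i, congrArg Subtype.val hi⟩) hc
  exact ⟨fun e => Cong.cong_of h h1 h2.dθ hv hs (n := 0) e,
    fun e => Cong.cong_of h h1 h2.dθ hv hs (n := 1) e⟩

end Cfsg.Lib.Spor.O24F
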