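import Cfsg.Agent.Spor.O24FGen

/-!
Congruences for the values at involutions of the characters in the 3-block of defect one.
-/

set_option autoImplicit false

namespace Cfsg.Lib.Spor.O24F

open Cfsg Cfsg.Lib.Char Cfsg.Lib.Solv Cfsg.Lib.PrimeOne Cfsg.Lib.Block.Princ Subgroup
open Cfsg.Lib.Block hiding dg dg_cast
open Cfsg.Lib.Spor.CKit Cfsg.Lib.Spor.Mo

variable {G : Type*} [Group G] [Finite G] {c : ℕ} {α β χ ψ ξ : IrrCharacter G} {d y : G}

theorem Cong0.diff {x s : G} (hx : orderOf x = 3) (h : Commute s x) (φ φ' : IrrCharacter G)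
    {a b : ℤ} (ha : (φ : G → ℂ) s = a) (hb : (φ' : G → ℂ) s = b)
    (e : ∀ u ∈ zpowers x, u ≠ 1 → (φ : G → ℂ) (s * u) = (φ' : G → ℂ) (s * u)) : 3 ∣ a - b := by
  classical
  have := Fintype.ofFinite (zpowers x)
  have hP : Nat.card (zpowers x) = 3 := by rw [Nat.card_zpowers, hx]
  have k := zpowers_le.2 (mem_centralizer_singleton_iff.2 h.symm)
  have h1 := (isIntegral_avg_char φ.2.isCharacter k).sub (isIntegral_avg_char φ'.2.isCharacter k)
  rw [← mul_sub, ← Finset.sum_sub_distrib, Finset.sum_eq_single 1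
    (fun u _ hu => sub_eq_zero.2 (e _ u.2 (by simpa using hu))) (by simp), hP,
    OneMemClass.coe_one, mul_one, ha, hb] at h1
  exact int_dvd_of_isIntegral_div (a := a - b) (b := 3) (by norm_num)
    (by simpa [div_eq_inv_mul] using h1)

omit [Finite G] in
theorem Cong0.ord {s u : G} (hu : orderOf u = 3) (h : Commute s u) (hs : (orderOf s).Coprime 3) :
    3 ∣ orderOf (s * u) := by
  rw [h.orderOf_mul_eq_mul_orderOf_of_coprime (hu ▸ hs), hu]
  exact dvd_mul_left _ _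

theorem Cong0.conj (h : Jt c α β χ ψ ξ d y) {s g u : G} (hg : orderOf g = 3) (hu : u ∈ zpowers g)
    (u1 : u ≠ 1) (hc : Commute s g) (hs : (orderOf s).Coprime 3)
    (n : (χ : G → ℂ) (s * u) ≠ 0) : IsConj d g := by
  classical
  have : Fact (Nat.Prime 3) := ⟨Nat.prime_three⟩
  have g3 : g ^ 3 = 1 := hg ▸ pow_orderOf_eq_one g
  have su : Commute s u := by obtain ⟨k, rfl⟩ := hu; exact hc.zpow_right k
  have ou : orderOf u = 3 := PS.orderOf_eq_of_card (by rw [Nat.card_zpowers, hg]) hu u1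
  obtain ⟨-, k, m, hm⟩ := h.van _ (Cong0.ord ou su hs) n
  have e : s ^ m * u ^ m = k⁻¹ * d * k := by
    rw [← su.mul_zpow, ← hm]
    simp only [conj_zpow]
    group
  have e3 : (s ^ m) ^ 3 = 1 := by
    have := congrArg (· ^ 3) e
    rw [(su.zpow_zpow m m).mul_pow, ← zpow_natCast (u ^ m), ← zpow_mul, mul_comm m, zpow_mul,
      zpow_natCast, ← ou, pow_orderOf_eq_one, one_zpow, mul_one, ou] at this
    rw [this, show k⁻¹ * d * k = k⁻¹ * d * k⁻¹⁻¹ by rw [inv_inv], conj_pow, ← h.od,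
      pow_orderOf_eq_one]
    group
  rw [orderOf_eq_one_iff.1 (Nat.eq_one_of_dvd_coprimes hs (orderOf_dvd_of_mem_zpowers
    (zpow_mem_zpowers s m))
    (orderOf_dvd_of_pow_eq_one e3)), one_mul] at e
  have c1 : IsConj d (u ^ m) := isConj_iff.2 ⟨k⁻¹, by rw [e, inv_inv]⟩
  have m1 : u ^ m ≠ 1 := fun e' => by
    rw [e', isConj_one_left] at c1
    have := h.od
    rw [c1, orderOf_one] at this
    omega
  obtain ⟨j, hj, e'⟩ := Finset.mem_image.1 (mem_zpowers_iff_mem_range_orderOf.1 (zpow_mem hu m))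
  rw [hg, Finset.mem_range] at hj
  interval_cases j
  · exact absurd (e'.symm.trans (pow_zero g)) m1
  · rwa [← e', pow_one] at c1
  · rw [← e', show g ^ 2 = g⁻¹ from eq_inv_of_mul_eq_one_left (by rw [← pow_succ, g3])] at c1
    obtain ⟨t, ht⟩ := isConj_iff.1 c1
    exact h.real.trans (isConj_iff.2 ⟨t, by rw [← conj_inv, ht, inv_inv]⟩)

theorem Jt.cong0 (h : Jt c α β χ ψ ξ d y) {s : G} (hs : orderOf s = 2) :
    iv ξ s = iv ψ s - iv χ s ∧ (3 ∣ Nat.card (C1 s) → 3 ∣ iv χ s - iv ξ s) ∧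
    (∀ g, orderOf g = 3 → g * s = s * g → ¬ IsConj d g → 3 ∣ iv ξ s) ∧
    ∀ g, orderOf g = 3 → 5 ∣ Nat.card (C1 g) → IsConj d g := by
  have : Fact (Nat.Prime 3) := ⟨Nat.prime_three⟩
  have : Fact (Nat.Prime 5) := ⟨Nat.prime_five⟩
  have cp : (orderOf s).Coprime 3 := by rw [hs]; decide
  have o3 : ∀ g, orderOf g = 3 → Commute s g → ∀ u ∈ zpowers g, u ≠ 1 → 3 ∣ orderOf (s * u) :=
    fun g hg hc u hu u1 => Cong0.ord (PS.orderOf_eq_of_card (by rw [Nat.card_zpowers, hg]) hu u1)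
      (by obtain ⟨k, rfl⟩ := hu; exact hc.zpow_right k) cp
  refine ⟨Int.cast_injective (α := ℂ) ?_, fun h3 => ?_, fun g hg hc n => ?_, fun g hg h5 => ?_⟩
  · rw [Int.cast_sub, iv_two _ hs, iv_two _ hs, iv_two _ hs, h.reg s (by rw [hs]; decide)]
    ring
  · obtain ⟨g, hg⟩ := exists_prime_orderOf_dvd_card' 3 h3
    have hc : Commute s g := (mem_centralizer_singleton_iff.1 g.2).symm
    have og : orderOf (g : G) = 3 := (orderOf_coe g).trans hg
    exact Cong0.diff og hc χ ξ (iv_two _ hs).symm (iv_two _ hs).symm fun u hu u1 =>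
      (h.sing _ (o3 g og hc u hu u1)).1.symm
  · simpa using cong_mul (b := 0) hg hc.symm ξ (iv_two _ hs).symm fun u hu u1 => by
      rw [(h.sing _ (o3 g hg hc.symm u hu u1)).1, Int.cast_zero]
      exact by_contra fun e => n (Cong0.conj h hg hu u1 hc.symm cp e)
  · obtain ⟨x, hx⟩ := exists_prime_orderOf_dvd_card' 5 h5
    have hc : Commute (x : G) g := mem_centralizer_singleton_iff.1 x.2
    have ox : orderOf (x : G) = 5 := (orderOf_coe x).trans hx
    have cp' : (orderOf (x : G)).Coprime 3 := by rw [ox]; decide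
    refine Cong0.conj h hg (mem_zpowers g) (fun e => by rw [e, orderOf_one] at hg; omega) hc cp' ?_
    rw [(h.sing5 (by
      rw [hc.orderOf_mul_eq_mul_orderOf_of_coprime (hg ▸ cp'), ox]; exact dvd_mul_right _ _)).2.2.1]
    norm_num

end Cfsg.Lib.Spor.O24F
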