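import Cfsg.Agent.Spor.O24FInv

/-! The automizer of an element of order 5 in the centralizer of an element of order 3. -/

set_option autoImplicit false

namespace Cfsg.Lib.Spor.O24F

open Subgroup Cfsg.Lib.Spor.Mo Cfsg.Lib.PrimeOne Cfsg.Lib.Block.Princ Cfsg.Lib.Trans
open Cfsg.Lib.Spor.O7920 (instFact11 instFact5)
open Cfsg.Lib.Spor.O10200960 (instFact23)

variable {G : Type*} [Group G] [Finite G]

variable {c : ℕ} {d y : G} {T : Subgroup G}

open InvP

theorem L5.e_two (h : L5 c y T) (hd : orderOf d = 3) (hc : d * y = y * d) (hr : IsConj d d⁻¹) :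
    Nat.card (N1 y ⊓ C1 d : Subgroup G) = 2 * Nat.card (C1 y ⊓ C1 d : Subgroup G) := by
  classical
  have : Fact (Nat.Prime 3) := ⟨Nat.prime_three⟩
  have d3 : d ^ 3 = 1 := hd ▸ pow_orderOf_eq_one d
  have d2 : d ^ 2 = d⁻¹ := eq_inv_of_mul_eq_one_left (by rw [← pow_succ, d3])
  have dC : d ∈ C1 y := mem_C1.2 hc
  have ne : d⁻¹ ≠ d := fun e => by
    have : orderOf d ∣ 2 := orderOf_dvd_of_pow_eq_one (by rw [pow_two, ← mul_inv_cancel d, e])
    rw [hd] at this; omega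
  have pm : ∀ g ∈ N1 d, g * d * g⁻¹ = d ∨ g * d * g⁻¹ = d⁻¹ := fun g hg => by
    have m := mem_normalizer_conj hg (mem_zpowers d)
    rw [mem_zpowers_iff_mem_range_orderOf, hd, Finset.mem_image] at m
    obtain ⟨i, hi, e⟩ := m
    have hi := Finset.mem_range.1 hi
    interval_cases i
    · rw [conj_eq_one_iff.1 (e.symm.trans (pow_zero d)), orderOf_one] at hd
      omega
    · exact .inl (e.symm.trans (pow_one d))
    · exact .inr (e.symm.trans d2)
  have e1 : C1 y ⊓ (N1 y ⊓ N1 d) = C1 y ⊓ C1 d := by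
    refine le_antisymm (fun g hg => ⟨hg.1, mem_C1.2 (mul_inv_eq_iff_eq_mul.1
      ((pm g hg.2.2).resolve_right fun e => ?_))⟩) fun g hg => ⟨hg.1, CN y hg.1, CN d hg.2⟩
    have m := comm h hg.1 dC
    rw [e, ← d2, ← pow_add, show 2 + 2 = 3 + 1 from rfl, pow_add, d3, one_mul, pow_one] at m
    have k := orderOf_dvd_natCard _ m
    have := cardA h
    rw [hd] at k
    rcases h.hc with rfl | rfl <;> omega
  have s3 : IsSylowIn 3 (zpowers d) (C1 y) := by
    refine ⟨zpowers_le.2 dC, .of_card (n := 1) (by rw [Nat.card_zpowers, hd]; rfl), fun k => ?_⟩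
    have e := card_mul_relIndex (zpowers_le.2 dC)
    rw [Nat.card_zpowers, hd, h.cC] at e
    rcases h.hc with rfl | rfl <;> omega
  have e2 : C1 y ⊔ (N1 y ⊓ N1 d) = N1 y := by
    refine le_antisymm (sup_le (CN y) inf_le_left) fun g hg => ?_
    obtain ⟨k, hk, n, hn, rfl⟩ := s3.frattini (NC y hg)
    exact mul_mem (mem_sup_left hk) (mem_sup_right ⟨(mul_mem_cancel_left (CN y hk)).1 hg, hn⟩)
  have e3 := Solv.card_sup_mul_card_inf_of_le_normalizer (N := C1 y) (H := N1 y ⊓ N1 d)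
    (inf_le_left.trans (NC y))
  rw [e1, e2, h.cC, h.cN] at e3
  have s5 : IsSylowIn 5 (zpowers y) (C1 d) := by
    have yC : zpowers y ≤ C1 d := zpowers_le.2 (mem_C1.2 hc.symm)
    refine ⟨yC, .of_card (n := 1) (by rw [Nat.card_zpowers, h.oy]; rfl), fun k => ?_⟩
    have e := card_mul_relIndex yC
    have e' := card_subgroup_dvd_card (C1 d)
    rw [Nat.card_zpowers, h.oy] at e
    rw [← e, h.card] at e'
    exact absurd ((Nat.mul_dvd_mul_left 5 k).trans e') (by norm_num)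
  obtain ⟨g, hg⟩ := isConj_iff.1 hr
  obtain ⟨k, hk, n, hn, rfl⟩ := s5.frattini (NC d (mem_N1 (hg ▸ inv_mem (mem_zpowers d))))
  have nd : n * d * n⁻¹ = d⁻¹ := by
    calc n * d * n⁻¹ = k⁻¹ * (k * n * d * (k * n)⁻¹) * k := by group
      _ = (k⁻¹ * (d * k))⁻¹ := by rw [hg]; group
      _ = d⁻¹ := by rw [← mem_C1.1 hk, inv_mul_cancel_left]
  have le : N1 y ⊓ C1 d ≤ N1 y ⊓ N1 d := inf_le_inf_left _ (CN d)
  have i2 : (N1 y ⊓ C1 d).relIndex (N1 y ⊓ N1 d) = 2 := index_eq_two_iff.2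
    ⟨⟨n, hn, mem_N1 (nd ▸ inv_mem (mem_zpowers d))⟩, fun ⟨b, hb⟩ => by
      have q : b * n * d * (b * n)⁻¹ = (b * d * b⁻¹)⁻¹ := by
        calc b * n * d * (b * n)⁻¹ = b * (n * d * n⁻¹) * b⁻¹ := by group
          _ = _ := by rw [nd]; group
      rcases pm b hb.2 with e | e
      · refine .inr ⟨⟨hb.1, mem_C1.2 (mul_inv_eq_iff_eq_mul.1 e)⟩, fun m => ne ?_⟩
        rw [← e, ← q, e]
        exact mul_inv_eq_iff_eq_mul.2 (mem_C1.1 m.2)
      · refine .inl ⟨⟨mul_mem hb.1 hn, mem_C1.2 (mul_inv_eq_iff_eq_mul.1 ?_)⟩, fun m => ne ?_⟩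
        · exact q.trans (by rw [e, inv_inv])
        · exact e.symm.trans (mul_inv_eq_iff_eq_mul.2 (mem_C1.1 m.2))⟩
  have e4 := card_mul_relIndex le
  rw [i2] at e4
  rcases h.hc with rfl | rfl <;> omega

end Cfsg.Lib.Spor.O24F
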