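import Cfsg.Agent.Spor.O24FDefs

/-!
The principal 5-block of the centralizer of the element `d` of order 3 has degrees 1, 9, 8, 8.
-/

set_option autoImplicit false

namespace Cfsg.Lib.Spor.O24F

open Cfsg Cfsg.Lib.Char Cfsg.Lib.Solv Cfsg.Lib.PrimeOne Cfsg.Lib.Block.Princ Subgroup
open Cfsg.Lib.Block hiding dg dg_cast
open Cfsg.Lib.Spor.CKit Cfsg.Lib.Spor.Mo
open Cfsg.Lib.Spor.O7920 (instFact11 instFact5)
open Cfsg.Lib.Spor.O10200960 (instFact23)

variable {G : Type*} [Group G] [Finite G]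

namespace Hdx

theorem mem_zp {p : ℕ} [Fact p.Prime] {K : Subgroup G} (h2 : ¬ p ^ 2 ∣ Nat.card K) {a b : G}
    (ha : orderOf a = p) (hb : orderOf b = p) (haK : a ∈ K) (hbK : b ∈ K) (hc : K ≤ C1 b) :
    b ∈ zpowers a := by
  obtain ⟨P⟩ : Nonempty (Sylow p K) := inferInstance
  have hP := PS.card_sylow_eq (ha ▸ Subgroup.orderOf_dvd_natCard K haK) h2 P
  obtain ⟨Q, hQ⟩ := PS.exists_sylow_eq P hP (H := zpowers (⟨a, haK⟩ : K))
    (by rw [Nat.card_zpowers, orderOf_mk, ha])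
  obtain ⟨k, hk⟩ := PS.exists_conj_mem Q (by rw [hQ, Nat.card_zpowers, orderOf_mk, ha])
    (y := ⟨b, hbK⟩) (by rw [orderOf_mk, hb])
  rw [hQ] at hk
  obtain ⟨i, hi⟩ := hk
  refine ⟨i, ?_⟩
  have h3 := congrArg Subtype.val hi
  simp only [SubgroupClass.coe_zpow, coe_mul, InvMemClass.coe_inv] at h3
  rw [mem_centralizer_singleton_iff.1 (hc k.2), mul_inv_cancel_right] at h3
  exact h3

theorem dec : ∀ T < 256, 3 ∣ T → (T % 5 = 1 → T * (T + 1) ∣ 64512 → T = 6) ∧
    (T % 5 = 4 → T * (T - 1) ∣ 64512 → T = 9) := by decide +kernel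

variable {c : ℕ} {α β χ ψ ξ : IrrCharacter G} {d y : G}

theorem sing (h : Jt c α β χ ψ ξ d y) {σ : ℤ} {θ : IrrCharacter (C1 d)} (k : Th d χ σ θ)
    (g : C1 d) (hg : 5 ∣ orderOf g) : (θ : C1 d → ℂ) g = ((-σ : ℤ) : ℂ) := by
  have : Fact (Nat.Prime 3) := ⟨Nat.prime_three⟩
  have h0 : ∀ x : C1 d, 5 ∣ orderOf (x : G) → d ∈ zpowers (x : G) →
      (θ : C1 d → ℂ) x = ((-σ : ℤ) : ℂ) := fun x h1 h2 => by
    have h3 := k.val x h2
    rw [(h.toB5.sing5 h1).2.2.1] at h3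
    rcases k.sgn with rfl | rfl
    · push_cast at h3 ⊢; linear_combination -h3
    · push_cast at h3 ⊢; linear_combination h3
  rw [← orderOf_coe] at hg
  have hn : orderOf (g : G) ≠ 0 := (orderOf_pos _).ne'
  have hc : Commute (g : G) d := mem_centralizer_singleton_iff.1 g.2
  have hd : d ∈ C1 d := mem_centralizer_singleton_iff.2 rfl
  by_cases h3 : 3 ∣ orderOf (g : G)
  · refine h0 g hg (zpowers_le.2 (npow_mem_zpowers (g : G) (orderOf (g : G) / 3)) ?_)
    have h5 := orderOf_pow_orderOf_div hn hg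
    refine mem_zp (p := 3) (K := C1 ((g : G) ^ (orderOf (g : G) / 5)) ⊓ C1 d) (fun h9 => ?_)
      (orderOf_pow_orderOf_div hn h3) h.od ⟨mem_centralizer_singleton_iff.2
        ((Commute.refl _).pow_pow _ _), pow_mem g.2 _⟩ ⟨mem_centralizer_singleton_iff.2
        (hc.symm.pow_right _), hd⟩ inf_le_right
    have h6 := h9.trans (card_dvd_of_le inf_le_left)
    rw [h.toB5.cC h5] at h6
    rcases h.hc with rfl | rfl <;> omega
  · rw [← k.ker g (⟨d, hd⟩ * g) rfl]
    have h4 : d ^ 3 = 1 := by rw [← h.od, pow_orderOf_eq_one]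
    refine h0 _ ?_ ?_
    · refine Dvd.dvd.trans ?_ (orderOf_pow_dvd 3)
      rw [coe_mul, hc.symm.mul_pow, h4, one_mul,
        ((Nat.prime_three.coprime_iff_not_dvd.2 h3).symm).orderOf_pow]
      exact hg
    · refine zpowers_le.2 (npow_mem_zpowers _ (orderOf (g : G))) ?_
      rw [coe_mul, hc.symm.mul_pow, pow_orderOf_eq_one, mul_one, mem_zpowers_pow_iff, h.od,
        Nat.gcd_comm]
      exact Nat.prime_three.coprime_iff_not_dvd.2 h3

end Hdx

variable {c : ℕ} {α β χ ψ ξ : IrrCharacter G} {d y : G}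

theorem Jt.exists_HD (h : Jt c α β χ ψ ξ d y)
    (he : Nat.card (N1 y ⊓ C1 d : Subgroup G) = 2 * Nat.card (C1 y ⊓ C1 d : Subgroup G)) :
    ∃ θ η η' : IrrCharacter (C1 d), Th d χ 1 θ ∧ HD θ η η' ∧ Nat.card (C1 d) ∣ 17280 ∧
      27 ∣ Nat.card (C1 d) := by
  classical
  obtain ⟨σ, θ, k⟩ := h.th
  have hs := Hdx.sing h k
  have hd : d ∈ C1 d := mem_centralizer_singleton_iff.2 rfl
  have hy : y ∈ C1 d := mem_centralizer_singleton_iff.2 h.comm.symm
  have hK := card_mul_index (C1 d)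
  rw [h.card] at hK
  have oy : orderOf (⟨y, hy⟩ : C1 d) = 5 := by rw [orderOf_mk, h.oy]
  obtain ⟨M, e, cH, t, L, Y, θ0, δ, ε, b⟩ := exists_blk (G := C1 d) (p := 5)
    (oy ▸ orderOf_dvd_natCard _) fun h1 => by
      have := h1.mul_right (C1 d).index
      rw [hK] at this
      omega
  have c1 := b.card_centralizer oy
  have c2 := b.card_norm oy
  have e1 : centralizer ({⟨y, hy⟩} : Set (C1 d)) = (C1 y).subgroupOf (C1 d) := by
    ext g
    simp only [mem_centralizer_singleton_iff, mem_subgroupOf, Subtype.ext_iff, coe_mul]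
  have e2 : zpowers (⟨y, hy⟩ : C1 d) = (zpowers y).subgroupOf (C1 d) := by
    rw [← comap_map_eq_self_of_injective (subtype_injective _) (zpowers _), MonoidHom.map_zpowers]
    rfl
  have c3 : 3 ∣ 5 * cH := by
    rw [← c1, ← h.od, ← orderOf_mk d hd]
    exact Subgroup.orderOf_dvd_natCard _ (mem_centralizer_singleton_iff.2 (Subtype.ext h.comm))
  have c4 := card_mul_index (centralizer ({⟨y, hy⟩} : Set (C1 d)))
  rw [c1] at c4
  have c5 : 0 < 5 * cH := c1 ▸ Nat.card_pos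
  rw [e1, card_subgroupOf] at c1
  rw [e2, ← subgroupOf_normalizer_eq (zpowers_le.2 hy), card_subgroupOf, he, c1] at c2
  obtain rfl : e = 2 := Nat.eq_of_mul_eq_mul_left c5 (by linarith)
  obtain rfl : t = 2 := by have := b.card_eq; omega
  obtain ⟨I, b0⟩ := b.b0
  have l1 : L.length = 1 := by
    have := b0.card_X
    rw [List.toFinset_card_of_nodup b.nodup, List.length_cons] at this
    omega
  have v1 : (χ : G → ℂ) d = ((σ * deg θ : ℤ) : ℂ) := by
    have h1 := k.val ⟨d, hd⟩ (mem_zpowers d)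
    rw [k.ker 1 ⟨d, hd⟩ (by simp), ← deg_cast] at h1
    simpa using h1
  have v2 : 3 ∣ deg θ := by
    obtain ⟨a, ha, h3⟩ := exists_val_three h.od χ
      (χ.2.isClassFunction.eq_of_isConj h.real).symm
    rw [v1, Int.cast_inj] at ha
    rw [h.toB5.degs.2.2.1] at h3
    rcases k.sgn with rfl | rfl <;> omega
  have v3 := dg_dvd_index_mul χ v1
  rw [show dg χ = 5544 from h.toB5.degs.2.2.1] at v3
  have v4 : (deg θ : ℤ) ≡ -σ [ZMOD 5] := by
    have := modEq_of_const θ (zpowers ⟨y, hy⟩) (n := -σ) fun g hg hg1 => hs g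
      (PS.orderOf_eq_of_card (by rw [Nat.card_zpowers, oy]) hg hg1).symm.dvd
    rwa [Nat.card_zpowers, oy] at this
  have v5 := b.modEq_Y
  have m0 : ∀ φ : IrrCharacter (C1 d), deg φ = deg θ → (∀ g, 5 ∣ orderOf g →
      (φ : C1 d → ℂ) g = ((-σ : ℤ) : ℂ)) → φ ∈ L := fun φ h1 h2 => by
    refine (b.mem_of_val (by rintro rfl; rw [deg_triv] at h1; omega)
      (by rcases k.sgn with rfl | rfl <;> simp) h2).resolve_right fun h3 => ?_
    have h4 := (b.val_Y h3).1
    rw [Int.ModEq] at v4 v5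
    rcases k.sgn with rfl | rfl <;> rcases b.sign with rfl | rfl <;> omega
  have m1 := m0 θ rfl hs
  obtain ⟨θ', rfl⟩ := List.length_eq_one_iff.1 l1
  obtain rfl : θ = θ' := List.mem_singleton.1 m1
  have s1 : δ θ = -σ := Int.cast_injective (α := ℂ)
    (((b.val m1).2.2.2 _ oy.symm.dvd).symm.trans (hs _ oy.symm.dvd))
  have r1 := b.deg_rel
  simp only [sd, List.map_cons, List.map_nil, List.sum_cons, List.sum_nil, add_zero, s1] at r1
  have i1 := deg_dvd_index_of_sign θ (s := -σ) (by rcases k.sgn with rfl | rfl <;> simp)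
    (hs _ oy.symm.dvd)
  have i2 := b0.deg_Y_dvd b.mem oy.symm.dvd
  obtain ⟨n11, n23⟩ := h.toB5.cent (g := d) (fun e => by simpa [e] using h.od)
    (by rw [h.od]; norm_num) (by rw [h.od]; norm_num)
  generalize (centralizer ({⟨y, hy⟩} : Set (C1 d))).index = J at c4 i1 i2
  generalize (C1 d).index = K at hK v3
  have n1 : Nat.card (C1 d) ∣ 967680 := by
    refine ((Nat.Prime.coprime_iff_not_dvd (by norm_num)).2 n11).symm.dvd_of_dvd_mul_right ?_
    exact ((Nat.Prime.coprime_iff_not_dvd (by norm_num)).2 n23).symm.dvd_of_dvd_mul_right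
      ⟨K, hK.symm⟩
  obtain ⟨c', rfl⟩ : 3 ∣ cH := by omega
  have n2 : J ∣ 64512 := Nat.dvd_of_mul_dvd_mul_left (k := 15) (by norm_num)
    (Dvd.dvd.trans ⟨c', by rw [← c4]; ring⟩ n1)
  have p1 := deg_pos θ
  have p2 := deg_pos θ0
  rw [Int.ModEq] at v4
  rcases k.sgn with rfl | rfl
  swap
  · exfalso
    have q1 : deg θ0 = deg θ + 1 := by rcases b.sign with rfl | rfl <;> omega
    rw [q1] at i2
    have q2 := (Nat.Coprime.mul_dvd_of_dvd_of_dvd (by simp) i1 i2).trans n2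
    have q3 := Nat.le_of_dvd (by norm_num) q2
    have q4 := (Hdx.dec _ (by nlinarith) v2).1 (by omega) q2
    rw [q4] at i2 v3
    obtain ⟨j, rfl⟩ := i2
    obtain ⟨k', rfl⟩ : 7 ∣ K := by omega
    have : 49 ∣ 244823040 := ⟨15 * c' * j * k', by rw [← hK, ← c4]; ring⟩
    omega
  obtain ⟨rfl, q1⟩ : ε = -1 ∧ deg θ0 + 1 = deg θ := by rcases b.sign with rfl | rfl <;> omega
  have q2 : deg θ * (deg θ - 1) ∣ J := by
    rw [← q1] at i1 ⊢
    exact Nat.Coprime.mul_dvd_of_dvd_of_dvd (by simp) i1 (by simpa using i2)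
  have q3 := Nat.le_of_dvd (by norm_num) (q2.trans n2)
  have q4 := (Hdx.dec _ (by
    by_contra! q5
    have : 256 * 255 ≤ deg θ * (deg θ - 1) := Nat.mul_le_mul q5 (by omega)
    omega) v2).2 (by omega) (q2.trans n2)
  rw [q4] at q2 v3 q1
  obtain ⟨η, η', hne, rfl⟩ := Finset.card_eq_two.1 b.card_Y
  have y1 := b.val_Y (ψ := η) (by simp)
  have y2 := b.val_Y (ψ := η') (by simp)
  refine ⟨θ, η, η', k, ⟨q4, by omega, by omega, hne, fun g => ?_, fun g hg => ⟨by
    simpa using hs g hg, ?_⟩, fun g hg => ?_⟩, ?_, ?_⟩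
  · have h1 := m0 (cj θ) (dg_cj θ) fun g hg => by
      rw [cj_apply]; exact hs _ (by rwa [orderOf_inv])
    rw [← cj_apply, List.mem_singleton.1 h1]
  · have h1 := b.sum_Y hg
    rw [Finset.sum_pair hne] at h1
    simpa using h1
  · have h1 := b.rel hg
    simp only [List.map_cons, List.map_nil, List.sum_cons, List.sum_nil, s1] at h1
    rw [y1.2.2 g hg, y2.2.2 g hg, and_self]
    push_cast at h1
    linear_combination -h1
  · obtain ⟨k', rfl⟩ : 616 ∣ K := by omega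
    refine ((Nat.Prime.coprime_iff_not_dvd (by norm_num)).2 n23).symm.dvd_of_dvd_mul_right
      ⟨k', Nat.eq_of_mul_eq_mul_left (show 0 < 616 by norm_num) ?_⟩
    linarith
  · obtain ⟨j, rfl⟩ := q2
    exact ⟨40 * c' * j, by rw [← c4]; ring⟩

end Cfsg.Lib.Spor.O24F
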