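import Cfsg.Agent.Spor.O24FDefs
import Cfsg.Agent.Trans.SylowIn

/-! The involutions inverting an element of order 5. -/

set_option autoImplicit false

namespace Cfsg.Lib.Spor.O24F

open Subgroup Cfsg.Lib.Spor.Mo Cfsg.Lib.PrimeOne Cfsg.Lib.Block.Princ Cfsg.Lib.Trans
open Cfsg.Lib.Spor.O7920 (instFact11 instFact5)
open Cfsg.Lib.Spor.O10200960 (instFact23)

variable {G : Type*} [Group G] [Finite G]

variable {c : ℕ} {y : G} {T : Subgroup G}

namespace InvP

theorem three {Q : Type*} [Group Q] [Finite Q] (c : Nat.card Q = 3) (x y : Q) :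
    x = 1 ∨ y = 1 ∨ x * y = 1 ∨ x * y⁻¹ = 1 := by
  classical
  refine or_iff_not_imp_left.2 fun hx => ?_
  have o : orderOf x = 3 := ((Nat.dvd_prime Nat.prime_three).1
    (c ▸ _root_.orderOf_dvd_natCard x)).resolve_left (by simpa using hx)
  have hy : y ∈ zpowers x := (eq_top_of_card_eq _ (by rw [Nat.card_zpowers, o, c])).ge (mem_top y)
  rw [mem_zpowers_iff_mem_range_orderOf, o, Finset.mem_image] at hy
  obtain ⟨i, hi, rfl⟩ := hy
  have hi := Finset.mem_range.1 hi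
  interval_cases i
  · exact .inl (pow_zero x)
  · exact .inr (.inr (by simp))
  · exact .inr (.inl (by rw [← pow_succ']; exact orderOf_dvd_iff_pow_eq_one.1 o.dvd))

omit [Finite G] in
theorem mem_C1 {a g : G} : g ∈ C1 a ↔ g * a = a * g := mem_centralizer_singleton_iff

omit [Finite G] in
theorem C1_eq (y : G) : C1 y = centralizer (zpowers y : Set G) := by
  refine le_antisymm (fun g hg x hx => ?_) (centralizer_le (by simp))
  obtain ⟨m, rfl⟩ := mem_zpowers_iff.1 hx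
  exact ((show Commute g y from mem_C1.1 hg).zpow_right m).symm.eq

omit [Finite G] in
theorem CN (y : G) : C1 y ≤ N1 y := (C1_eq y).le.trans (centralizer_le_normalizer _)

omit [Finite G] in
theorem NC (y : G) : N1 y ≤ normalizer (C1 y : Set G) := by
  rw [C1_eq]; exact normalizer_le_normalizer_centralizer _

theorem mem_N1 {g : G} (h : g * y * g⁻¹ ∈ zpowers y) : g ∈ N1 y :=
  mem_normalizer_of_cj_le (cj_le_iff.2 fun x hx => by
    obtain ⟨m, rfl⟩ := mem_zpowers_iff.1 hx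
    rw [← conj_zpow]; exact zpow_mem h m)

omit [Finite G] in
theorem two (h : L5 c y T) : IsPGroup 2 T := by
  have := h.cT
  rcases h.hc with rfl | rfl
  · exact .of_card (n := 2) (by omega)
  · exact .of_card (n := 6) (by omega)

theorem nT (h : L5 c y T) : N1 y ≤ normalizer (T : Set G) := fun g hg =>
  mem_normalizer_of_cj_le (cj_le_iff.2 fun u hu => by
    obtain ⟨k, hk⟩ := two h ⟨u, hu⟩
    have hk' : u ^ 2 ^ k = 1 := congrArg Subtype.val hk
    exact h.two _ (mem_normalizer_conj (NC y hg) (h.le hu)) k (by rw [conj_pow, hk']; group))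

theorem nA (h : L5 c y T) : N1 y ≤ normalizer ((T ⊔ zpowers y : Subgroup G) : Set G) :=
  Solv.le_normalizer_sup (nT h) le_rfl

omit [Finite G] in
theorem AC (h : L5 c y T) : T ⊔ zpowers y ≤ C1 y := sup_le h.le (zpowers_le.2 (mem_C1.2 rfl))

theorem cardA (h : L5 c y T) : 3 * Nat.card (T ⊔ zpowers y : Subgroup G) = 5 * c := by
  have : Fact (Nat.Prime 2) := ⟨Nat.prime_two⟩
  have e := Solv.card_sup_mul_card_inf_of_le_normalizer (N := T) (H := zpowers y)
    (le_normalizer.trans (nT h))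
  obtain ⟨k, hk⟩ := IsPGroup.iff_card.1 (two h)
  rw [(disjoint_of_coprime_natCard (by
    rw [hk, Nat.card_zpowers, h.oy]; exact Nat.Coprime.pow_left k (by norm_num))).eq_bot, card_bot,
    Nat.card_zpowers, h.oy] at e
  have := h.cT
  omega

theorem idx (h : L5 c y T) : (T ⊔ zpowers y).relIndex (C1 y) = 3 := by
  have e := card_mul_relIndex (AC h)
  have e2 := cardA h
  rw [h.cC, ← e2, mul_comm 3] at e
  exact Nat.eq_of_mul_eq_mul_left Nat.card_pos e

theorem four (h : L5 c y T) {a b : G} (ha : a ∈ C1 y) (hb : b ∈ C1 y) :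
    a ∈ T ⊔ zpowers y ∨ b ∈ T ⊔ zpowers y ∨ a * b ∈ T ⊔ zpowers y ∨ a * b⁻¹ ∈ T ⊔ zpowers y := by
  have hN : ((T ⊔ zpowers y).subgroupOf (C1 y)).Normal :=
    normal_subgroupOf_of_le_normalizer ((CN y).trans (nA h))
  have := three (Q := C1 y ⧸ (T ⊔ zpowers y).subgroupOf (C1 y)) (idx h)
    (QuotientGroup.mk ⟨a, ha⟩) (QuotientGroup.mk ⟨b, hb⟩)
  rwa [← QuotientGroup.mk_inv, ← QuotientGroup.mk_mul, ← QuotientGroup.mk_mul,
    QuotientGroup.eq_one_iff, QuotientGroup.eq_one_iff, QuotientGroup.eq_one_iff,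
    QuotientGroup.eq_one_iff] at this

theorem comm (h : L5 c y T) {a w : G} (ha : a ∈ C1 y) (hw : w ∈ C1 y) :
    a * w * a⁻¹ * w⁻¹ ∈ T ⊔ zpowers y := by
  have k : ∀ g ∈ C1 y, ∀ x ∈ T ⊔ zpowers y, g * x * g⁻¹ ∈ T ⊔ zpowers y := fun g hg x hx =>
    mem_normalizer_conj (nA h (CN y hg)) hx
  rcases four h ha hw with e | e | e | e
  · simpa [mul_assoc] using mul_mem e (k w hw _ (inv_mem e))
  · exact mul_mem (k a ha w e) (inv_mem e)
  · rw [show a * w * a⁻¹ * w⁻¹ = a * w * (w * (a * w)⁻¹ * w⁻¹) by group]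
    exact mul_mem e (k w hw _ (inv_mem e))
  · rw [show a * w * a⁻¹ * w⁻¹ = a * w⁻¹ * (w * (a * w⁻¹)⁻¹ * w⁻¹) by group]
    exact mul_mem e (k w hw _ (inv_mem e))

theorem sq (h : L5 c y T) {n w : G} (hn : n ∈ N1 y) (hw : w ∈ C1 y) :
    n * n * w * (n * n)⁻¹ * w⁻¹ ∈ T ⊔ zpowers y := by
  have k : ∀ g ∈ N1 y, ∀ x ∈ T ⊔ zpowers y, g * x * g⁻¹ ∈ T ⊔ zpowers y := fun g hg x hx =>
    mem_normalizer_conj (nA h hg) hx
  rcases four h (mem_normalizer_conj (NC y hn) hw) hw with e | e | e | e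
  · have e' := k _ (inv_mem hn) _ e
    rw [show n⁻¹ * (n * w * n⁻¹) * n⁻¹⁻¹ = w by group] at e'
    exact mul_mem (k _ (mul_mem hn hn) w e') (inv_mem e')
  · exact mul_mem (k _ (mul_mem hn hn) w e) (inv_mem e)
  · rw [show n * n * w * (n * n)⁻¹ * w⁻¹ =
      n * (n * w * n⁻¹ * w) * n⁻¹ * (w * (n * w * n⁻¹ * w)⁻¹ * w⁻¹) by group]
    exact mul_mem (k n hn _ e) (k w (CN y hw) _ (inv_mem e))
  · rw [show n * n * w * (n * n)⁻¹ * w⁻¹ =
      n * (n * w * n⁻¹ * w⁻¹) * n⁻¹ * (n * w * n⁻¹ * w⁻¹) by group]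
    exact mul_mem (k n hn _ e) e

omit [Finite G] in
theorem idxN (h : L5 c y T) : (C1 y).relIndex (N1 y) = 4 := by
  have e := card_mul_relIndex (CN y)
  rw [h.cC, h.cN] at e
  rcases h.hc with rfl | rfl <;> omega

theorem exists_n (h : L5 c y T) {a : G} (ha : a * y * a⁻¹ = y⁻¹) :
    ∃ n ∈ N1 y, n * n * y * (n * n)⁻¹ = y⁻¹ := by
  classical
  by_contra! hn
  have y5 : y ^ 5 = 1 := h.oy ▸ pow_orderOf_eq_one y
  have y4 : y ^ 4 = y⁻¹ := eq_inv_of_mul_eq_one_left (by rw [← pow_succ, y5])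
  have : (C1 y).relIndex (N1 y) ∣ 2 := index_dvd_two_iff.2
    ⟨⟨a, mem_N1 (ha ▸ inv_mem (mem_zpowers y))⟩, fun ⟨g, hg⟩ => by
      have m := mem_normalizer_conj hg (mem_zpowers y)
      rw [mem_zpowers_iff_mem_range_orderOf, h.oy, Finset.mem_image] at m
      obtain ⟨i, hi, e⟩ := m
      have e2 : g * g * y * (g * g)⁻¹ = y ^ (i * i) := by
        calc g * g * y * (g * g)⁻¹ = g * (g * y * g⁻¹) * g⁻¹ := by group
          _ = _ := by rw [← e, ← conj_pow, ← e, ← pow_mul]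
      have hi := Finset.mem_range.1 hi
      interval_cases i
      · have := h.oy
        rw [conj_eq_one_iff.1 (e.symm.trans (pow_zero y)), orderOf_one] at this
        omega
      · exact .inr (mem_C1.2 (mul_inv_eq_iff_eq_mul.1 (e.symm.trans (pow_one y))))
      · exact absurd (e2.trans y4) (hn g hg)
      · exact absurd (e2.trans (by rw [← y4, show 3 * 3 = 5 + 4 from rfl, pow_add, y5, one_mul]))
          (hn g hg)
      · refine .inl (mem_C1.2 (mul_inv_eq_iff_eq_mul.1 ?_))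
        change g * a * y * (g * a)⁻¹ = y
        calc g * a * y * (g * a)⁻¹ = g * (a * y * a⁻¹) * g⁻¹ := by group
          _ = (g * y * g⁻¹)⁻¹ := by rw [ha]; group
          _ = y := by rw [← e, y4, inv_inv]⟩
  rw [idxN h] at this
  omega

theorem fix (h : L5 c y T) {a w : G} (ha : a * y * a⁻¹ = y⁻¹) (hw : w ∈ C1 y) :
    a * w * a⁻¹ * w⁻¹ ∈ T ⊔ zpowers y := by
  obtain ⟨n, hn, e⟩ := exists_n h ha
  have m : (n * n)⁻¹ * a ∈ C1 y := mem_C1.2 (mul_inv_eq_iff_eq_mul.1 (by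
    calc (n * n)⁻¹ * a * y * ((n * n)⁻¹ * a)⁻¹ = (n * n)⁻¹ * (a * y * a⁻¹) * (n * n) := by
          simp only [mul_inv_rev, inv_inv, mul_assoc]
      _ = y := by rw [ha, ← e]; group))
  rw [show a * w * a⁻¹ * w⁻¹ = n * n * ((n * n)⁻¹ * a * w * ((n * n)⁻¹ * a)⁻¹ * w⁻¹) * (n * n)⁻¹ *
    (n * n * w * (n * n)⁻¹ * w⁻¹) by group]
  exact mul_mem (mem_normalizer_conj (nA h (mul_mem hn hn)) (comm h m hw)) (sq h hn hw)

end InvP

open InvP

theorem L5.inv_le (h : L5 c y T) :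
    3 * {a : G | a * a = 1 ∧ a * y * a⁻¹ = y⁻¹}.ncard ≤ 5 * c := by
  rcases Set.eq_empty_or_nonempty {a : G | a * a = 1 ∧ a * y * a⁻¹ = y⁻¹} with e | ⟨a, a2, ay⟩
  · simp [e]
  rw [← cardA h, ← SetLike.coe_sort_coe, Nat.card_coe_set_eq]
  refine Nat.mul_le_mul_left 3 (Set.ncard_le_ncard_of_injOn (a * ·) ?_
    (fun _ _ _ _ e => mul_left_cancel e) (Set.toFinite _))
  rintro b ⟨b2, by'⟩
  have m : a * b ∈ C1 y := mem_C1.2 (mul_inv_eq_iff_eq_mul.1 (by
    calc a * b * y * (a * b)⁻¹ = a * (b * y * b⁻¹) * a⁻¹ := by group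
      _ = (a * y * a⁻¹)⁻¹ := by rw [by']; group
      _ = y := by rw [ay, inv_inv]))
  have k := inv_mem (fix h ay m)
  have e : (a * (a * b) * a⁻¹ * (a * b)⁻¹)⁻¹ = a * b * (a * b) := by
    calc (a * (a * b) * a⁻¹ * (a * b)⁻¹)⁻¹ = a * b * (a * b⁻¹) * (a * a)⁻¹ := by group
      _ = _ := by rw [a2, inv_eq_of_mul_eq_one_right b2, inv_one, mul_one]
  rw [e] at k
  have hN : ((T ⊔ zpowers y).subgroupOf (C1 y)).Normal :=
    normal_subgroupOf_of_le_normalizer ((CN y).trans (nA h))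
  have p := pow_index_mem ((T ⊔ zpowers y).subgroupOf (C1 y)) ⟨_, m⟩
  rw [show ((T ⊔ zpowers y).subgroupOf (C1 y)).index = 3 from idx h] at p
  have p' : (a * b) ^ 3 ∈ T ⊔ zpowers y := p
  rw [pow_three] at p'
  exact (mul_mem_cancel_right k).1 p'

end Cfsg.Lib.Spor.O24F
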