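import Cfsg.Agent.Spor.O24FDefs
import Cfsg.Agent.Trans.Pumpup

/-! A central involution in a large subgroup of a `2`-group. -/

set_option autoImplicit false

namespace Cfsg.Lib.Spor.O24F

open Subgroup Cfsg.Lib.Spor.Mo Cfsg.Lib.PrimeOne Cfsg.Lib.Block.Princ Cfsg.Lib.Trans
open Cfsg.Lib.Spor.O7920 (instFact11 instFact5)
open Cfsg.Lib.Spor.O10200960 (instFact23)

variable {G : Type*} [Group G] [Finite G]

theorem exists_central {T P P' : Subgroup G} (hP' : IsPGroup 2 P') (h1 : T ≤ P) (h2 : P ≤ P')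
    (hi : P.relIndex P' = 2) (hn : ∀ g ∈ P, ∀ u ∈ T, g * u * g⁻¹ ∈ T)
    (hc : Nat.card P < Nat.card T ^ 2) : ∃ t ∈ T, orderOf t = 2 ∧ P' ≤ C1 t := by
  have : Fact (Nat.Prime 2) := ⟨Nat.prime_two⟩
  have two : ∀ a ∈ P', ∀ b ∈ P', (a * b ∈ P ↔ (a ∈ P ↔ b ∈ P)) := fun a ha b hb =>
    mul_mem_iff_of_index_two (H := P.subgroupOf P') hi (a := ⟨a, ha⟩) (b := ⟨b, hb⟩)
  obtain ⟨s, hs, hs'⟩ : ∃ s ∈ P', s ∉ P := SetLike.not_le_iff_exists.1 fun h => by
    rw [relIndex_eq_one.2 h] at hi; omega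
  have nT : P ≤ normalizer (T : Set G) := fun g hg =>
    mem_normalizer_of_cj_le (cj_le_iff.2 (hn g hg))
  have cjP : ∀ a ∈ P', ∀ g ∈ P, a * g * a⁻¹ ∈ P := fun a ha g hg => by
    rw [two _ (mul_mem ha (h2 hg)) _ (inv_mem ha), two _ ha _ (h2 hg), inv_mem_iff]
    tauto
  have le' : cj s T ≤ P := cj_le_iff.2 fun u hu => cjP s hs u (h1 hu)
  have nT' : P ≤ normalizer (cj s T : Set G) := fun g hg => by
    rw [← cj_normalizer, mem_cj]
    simpa using nT (cjP _ (inv_mem hs) g hg)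
  have ns : s ∈ normalizer ((T ⊓ cj s T : Subgroup G) : Set G) := by
    rw [← cj_eq_self_iff, cj_inf, ← cj_mul,
      cj_eq_of_mem_normalizer (nT ((two s hs s hs).2 Iff.rfl)), inf_comm]
  have nI : P' ≤ normalizer ((T ⊓ cj s T : Subgroup G) : Set G) := fun g hg => by
    by_cases h : g ∈ P
    · exact Solv.le_normalizer_inf nT nT' h
    · rw [← mul_inv_cancel_left s g]
      refine mul_mem ns (Solv.le_normalizer_inf nT nT' ?_)
      rw [two _ (inv_mem hs) _ hg, inv_mem_iff]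
      tauto
  have ne : T ⊓ cj s T ≠ ⊥ := fun e => by
    have := Solv.card_sup_mul_card_inf_of_le_normalizer (le'.trans nT)
    rw [e, card_bot, card_cj, mul_one, ← pow_two] at this
    have := Subgroup.card_le_of_le (sup_le h1 le')
    omega
  obtain ⟨z, hz, c, o⟩ := exists_orderOf_eq_mem_centralizer hP'
    (hP'.to_le (inf_le_left.trans (h1.trans h2))) nI ne
  exact ⟨z, hz.1, o, fun g hg => mem_centralizer_singleton_iff.2 (c g hg)⟩

end Cfsg.Lib.Spor.O24F
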