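import Cfsg.Agent.Spor.O24FSix
import Cfsg.Agent.Spor.O24FInt

/-! The case `c = 192`: a 2-central involution that centralizes `y`. -/

set_option autoImplicit false

namespace Cfsg.Lib.Spor.O24F

open Subgroup Cfsg.Lib.Spor.Mo Cfsg.Lib.PrimeOne Cfsg.Lib.Block.Princ
open Cfsg.Lib.Spor.O7920 (instFact11 instFact5)
open Cfsg.Lib.Spor.O10200960 (instFact23)

variable {G : Type*} [Group G] [Finite G]
variable {c : ℕ} {χ ξ : IrrCharacter G} {y : G} {T : Subgroup G}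

namespace Ka

omit [Finite G] in
theorem norm (h : L5 c y T) : ∀ g ∈ N1 y, ∀ u ∈ T, g * u * g⁻¹ ∈ T := by
  intro g hg u hu
  refine h.two _ ?_ 6 (by rw [conj_pow, Six.pow_eq h hu, mul_one, mul_inv_cancel])
  obtain ⟨i, hi⟩ := (mem_normalizer_iff.1 (inv_mem hg) y).1 (mem_zpowers y)
  have h1 : Commute u (y ^ i) := Commute.zpow_right (mem_centralizer_singleton_iff.1 (h.le hu)) i
  have h2 : y ^ i = g⁻¹ * y * g := by simpa using hi
  rw [h2] at h1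
  refine mem_centralizer_singleton_iff.2 ?_
  calc g * u * g⁻¹ * y = g * (u * (g⁻¹ * y * g)) * g⁻¹ := by group
    _ = y * (g * u * g⁻¹) := by rw [h1.eq]; group

omit [Finite G] in
theorem C1_le_N1 (y : G) : C1 y ≤ N1 y := by
  intro g hg
  refine centralizer_le_normalizer _ ?_
  rintro _ ⟨i, rfl⟩
  exact (Commute.zpow_left (mem_centralizer_singleton_iff.1 hg).symm i).eq

omit [Finite G] in
theorem y_mem (h : L5 c y T) {t : G} (ht : t ∈ T) : y ∈ C1 t :=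
  mem_centralizer_singleton_iff.2 (mem_centralizer_singleton_iff.1 (h.le ht)).symm

theorem tab : ∀ r ∈ T192, 512 ∣ r.1 → ∀ j ∈ [1280, 3840], (r.1 / j) % 5 = 1 →
    (j = 1280 ∧ r.2.1 = -108 ∧ r.2.2 = 144) ∨ (r.1 = 6 * j ∧ ¬ 1024 ∣ r.1) := by
  decide

theorem key (h : L5 192 y T) (ht : Tab192 ξ χ y) {P P' : Subgroup G} (hP : Nat.card P = 2 ^ 8)
    (hN : P ≤ N1 y) (hle : P ≤ P') (hP' : 512 ∣ Nat.card P') {t : G} (h1 : t ∈ T)
    (h2 : orderOf t = 2) (h3 : P' ≤ C1 t) :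
    (Nat.card (N1 y ⊓ C1 t : Subgroup G) = 1280 ∧ iv ξ t = -108 ∧ iv χ t = 144) ∨
      (Nat.card (C1 t) = 6 * Nat.card (N1 y ⊓ C1 t : Subgroup G) ∧ ¬ 1024 ∣ Nat.card (C1 t)) := by
  have d1 : 256 ∣ Nat.card (N1 y ⊓ C1 t : Subgroup G) := by
    have := card_dvd_of_le (le_inf hN (hle.trans h3))
    rwa [hP] at this
  have d2 : 5 ∣ Nat.card (N1 y ⊓ C1 t : Subgroup G) := by
    rw [← h.oy]
    exact orderOf_dvd_natCard _ ⟨le_normalizer (H := zpowers y) (mem_zpowers y), y_mem h h1⟩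
  have d3 : 1280 ∣ Nat.card (N1 y ⊓ C1 t : Subgroup G) :=
    Nat.Coprime.mul_dvd_of_dvd_of_dvd (by norm_num : Nat.Coprime 256 5) d1 d2
  have d4 : Nat.card (N1 y ⊓ C1 t : Subgroup G) ∣ 3840 := by
    have := card_dvd_of_le (inf_le_left : N1 y ⊓ C1 t ≤ N1 y)
    rwa [h.cN] at this
  obtain ⟨k, hk, k5⟩ := sylow_cnt h.oy (Six.not25 h) (y_mem h h1)
  have hj : Nat.card (N1 y ⊓ C1 t : Subgroup G) ∈ [1280, 3840] := by
    obtain ⟨m, hm⟩ := d3
    rw [hm] at d4 ⊢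
    have h4 : m ∣ 3 := Nat.dvd_of_mul_dvd_mul_left (by norm_num : 0 < 1280) d4
    rcases (Nat.dvd_prime Nat.prime_three).1 h4 with rfl | rfl <;> simp
  refine tab _ (ht t h2 (h.le h1) d3) (hP'.trans (card_dvd_of_le h3)) _ hj ?_
  show Nat.card (C1 t) / _ % 5 = 1
  rw [hk, Nat.mul_div_cancel_left _ Nat.card_pos, k5]

omit [Finite G] in
theorem rel_two {P P' : Subgroup G} {n : ℕ} (hP : Nat.card P = 2 ^ n) (hP' : Nat.card P' = 2 ^ (n + 1))
    (h : P ≤ P') : P.relIndex P' = 2 := by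
  have h1 := (P.subgroupOf P').card_mul_index
  rw [Cfsg.Lib.Solv.card_subgroupOf_of_le h, hP, hP', pow_succ] at h1
  exact Nat.eq_of_mul_eq_mul_left (by positivity) h1

end Ka

theorem L5.exists_z (h : L5 192 y T) (ht : Tab192 ξ χ y) :
    ∃ z ∈ T, orderOf z = 2 ∧ T ≤ C1 z ∧ iv ξ z = -108 ∧ iv χ z = 144 ∧
      Nat.card (N1 y ⊓ C1 z : Subgroup G) = 1280 := by
  have cT : Nat.card T = 2 ^ 6 := by have := h.cT; omega
  have hTN : T ≤ N1 y := h.le.trans (Ka.C1_le_N1 y)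
  obtain ⟨K, hK, hTK⟩ := Sylow.exists_subgroup_card_pow_prime_le 2 (n := 6) (m := 8)
    (by rw [h.cN]; norm_num) (T.subgroupOf (N1 y))
    (by rw [Cfsg.Lib.Solv.card_subgroupOf_of_le hTN, cT]) (by norm_num)
  have c1 : Nat.card (K.map (N1 y).subtype) = 2 ^ 8 := by
    rw [card_map_of_injective (subtype_injective _), hK]
  have l1 : K.map (N1 y).subtype ≤ N1 y := map_subtype_le _
  have l0 : T ≤ K.map (N1 y).subtype := fun u hu => ⟨⟨u, hTN hu⟩, hTK hu, rfl⟩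
  generalize K.map (N1 y).subtype = T1 at c1 l1 l0
  obtain ⟨T2, c2, l2⟩ := Sylow.exists_subgroup_card_pow_succ (p := 2) (n := 8)
    (by rw [h.card]; norm_num) c1
  obtain ⟨t, t1, t2, t3⟩ := exists_central (IsPGroup.of_card c2) l0 l2 (Ka.rel_two c1 c2 l2)
    (fun g hg => Ka.norm h g (l1 hg)) (by rw [c1, cT]; norm_num)
  rcases Ka.key h ht c1 l1 l2 (by rw [c2]; norm_num) t1 t2 t3 with ⟨a1, a2, a3⟩ | ⟨a1, -⟩
  · exact ⟨t, t1, t2, l0.trans (l2.trans t3), a2, a3, a1⟩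
  obtain ⟨S, c3, l3⟩ := Sylow.exists_subgroup_card_pow_succ (p := 2) (n := 9)
    (by rw [h.card]; norm_num) c2
  have hn := (h.six (l0.trans (l2.trans t3)) (Ka.y_mem h t1) a1).1
  obtain ⟨z, z1, z2, z3⟩ := exists_central (IsPGroup.of_card c3) (l0.trans l2) l3
    (Ka.rel_two c2 c3 l3) (fun g hg => hn g (t3 hg)) (by rw [c2, cT]; norm_num)
  rcases Ka.key h ht c1 l1 (l2.trans l3) (by rw [c3]; norm_num) z1 z2 z3 with ⟨b1, b2, b3⟩ | ⟨-, b2⟩
  · exact ⟨z, z1, z2, l0.trans (l2.trans (l3.trans z3)), b2, b3, b1⟩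
  · refine absurd ?_ b2
    have := card_dvd_of_le z3
    rwa [c3] at this

end Cfsg.Lib.Spor.O24F
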