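import Cfsg.Agent.Spor.O24FKa
import Cfsg.Agent.S1010

/-! The case `c = 192` does not occur. -/

set_option autoImplicit false

namespace Cfsg.Lib.Spor.O24F

open Subgroup Cfsg.Lib.Spor.Mo Cfsg.Lib.PrimeOne Cfsg.Lib.Block.Princ
open Cfsg.Lib.Spor.O7920 (instFact11 instFact5)
open Cfsg.Lib.Spor.O10200960 (instFact23)

variable {G : Type*} [Group G] [Finite G]
variable {c : ℕ} {χ ξ : IrrCharacter G} {y : G} {T : Subgroup G}

namespace Kb

omit [Finite G] in
theorem exists_hom {z : G} (hz : z * z = 1) : ∃ f : ℤˣ →* G, f (-1) = z := by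
  classical
  refine ⟨MonoidHom.mk' (fun a => if a = 1 then 1 else z) fun a b => ?_, by simp⟩
  rcases Int.units_eq_one_or a with rfl | rfl <;> rcases Int.units_eq_one_or b with rfl | rfl <;>
    simp [hz]

omit [Finite G] in
theorem sum8 {φ : G → ℂ} (hφ : IsCharacter G φ) {a b e : G} (ha : a * a = 1) (hb : b * b = 1)
    (he : e * e = 1) (hab : Commute a b) (hae : Commute a e) (hbe : Commute b e) :
    ∃ n : ℕ, φ 1 + φ a + φ b + φ e + φ (a * b) + φ (a * e) + φ (b * e) + φ (a * (b * e)) = 8 * n := by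
  obtain ⟨fa, h1⟩ := exists_hom ha
  obtain ⟨fb, h2⟩ := exists_hom hb
  obtain ⟨fe, h3⟩ := exists_hom he
  have c1 : ∀ u v, Commute (fb u) (fe v) := fun u v => by
    rcases Int.units_eq_one_or u with rfl | rfl <;> rcases Int.units_eq_one_or v with rfl | rfl <;>
      simp [h2, h3, hbe]
  have c2 : ∀ u v, Commute (fa u) (fb.noncommCoprod fe c1 v) := by
    rintro u ⟨v, w⟩
    rcases Int.units_eq_one_or u with rfl | rfl <;> rcases Int.units_eq_one_or v with rfl | rfl <;>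
      rcases Int.units_eq_one_or w with rfl | rfl <;> simp [h1, h2, h3, hab, hae, hab.mul_right hae]
  obtain ⟨m, hm⟩ := (hφ.comp (fa.noncommCoprod (fb.noncommCoprod fe c1) c2)).exists_nat_classInner
    Cfsg.Lib.Char.isCharacter_one
  have h4 := Cfsg.Lib.Char.card_mul_classInner
    (fun g => φ (fa.noncommCoprod (fb.noncommCoprod fe c1) c2 g)) fun _ => 1
  erw [hm] at h4
  refine ⟨m, ?_⟩
  simp [Fintype.sum_prod_type, UnitsInt.univ, h1, h2, h3] at h4
  linear_combination -h4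

theorem tab : ∀ r ∈ T192, ∀ s ∈ T192, r.1 / 1280 % 5 = 1 → s.1 / 3840 % 5 = 1 → 3840 ∣ s.1 →
    0 ≤ 3 * r.2.1 + s.2.1 - 72 → 8 ∣ 3 * r.2.1 + s.2.1 - 72 → 8 ∣ 5976 + 3 * r.2.2 + s.2.2 →
    s.1 = 3840 ∧ (r.1 = 7680 ∨ r.1 = 26880) := by
  decide

end Kb

theorem L5.not192 (h : L5 192 y T) (ht : Tab192 ξ χ y) (hξ : deg ξ = 252) (hχ : deg χ = 5544)
    {z : G} (hz : z ∈ T) (oz : orderOf z = 2) (hT : T ≤ C1 z) (v1 : iv ξ z = -108)
    (v2 : iv χ z = 144) (hj : Nat.card (N1 y ⊓ C1 z : Subgroup G) = 1280) : False := by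
  have : Fact (Nat.Prime 3) := ⟨Nat.prime_three⟩
  obtain ⟨⟨d, dC⟩, od⟩ := exists_prime_orderOf_dvd_card' (G := C1 y) 3 (by rw [h.cC]; norm_num)
  rw [Subgroup.orderOf_mk] at od
  have dN : d ∈ N1 y := Ka.C1_le_N1 y dC
  have d3 : d * d * d = 1 := by rw [← pow_orderOf_eq_one d, od]; simp [pow_succ]
  have dz : d ∉ C1 z := fun k => by
    have := orderOf_dvd_natCard (N1 y ⊓ C1 z) ⟨dN, k⟩
    rw [od, hj] at this
    norm_num at this
  have zz : z * z = 1 := by rw [← pow_orderOf_eq_one z, oz, sq]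
  obtain ⟨b, hb⟩ : ∃ b, b = d * z * d⁻¹ := ⟨_, rfl⟩
  obtain ⟨e, he⟩ : ∃ e, e = d * b * d⁻¹ := ⟨_, rfl⟩
  have hz' : d * e * d⁻¹ = z := by
    rw [he, hb]
    calc d * (d * (d * z * d⁻¹) * d⁻¹) * d⁻¹ = (d * d * d) * z * (d * d * d)⁻¹ := by group
      _ = z := by rw [d3]; simp
  have bT : b ∈ T := hb ▸ Ka.norm h d dN z hz
  have eT : e ∈ T := he ▸ Ka.norm h d dN b bT
  have step : ∀ s : G, T ≤ C1 s → T ≤ C1 (d * s * d⁻¹) := fun s hs u hu => by
    have h1 := mem_centralizer_singleton_iff.1 (hs (Ka.norm h _ (inv_mem dN) u hu))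
    refine mem_centralizer_singleton_iff.2 ?_
    calc u * (d * s * d⁻¹) = d * (d⁻¹ * u * d⁻¹⁻¹ * s) * d⁻¹ := by group
      _ = d * s * d⁻¹ * u := by rw [h1]; group
  have Tb : T ≤ C1 b := hb ▸ step z hT
  have Te : T ≤ C1 e := he ▸ step b Tb
  have bb : b * b = 1 := by rw [hb, conj_mul, zz]; simp
  have ee : e * e = 1 := by rw [he, conj_mul, bb]; simp
  have zb : Commute z b := mem_centralizer_singleton_iff.1 (Tb hz)
  have ze : Commute z e := mem_centralizer_singleton_iff.1 (Te hz)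
  have be : Commute b e := mem_centralizer_singleton_iff.1 (Te bT)
  have n1 : z ≠ b := fun k => dz (mem_centralizer_singleton_iff.2 (by
    rw [hb, eq_mul_inv_iff_mul_eq] at k
    exact k.symm))
  have n2 : b ≠ e := fun k => n1 (by
    rw [he] at k
    nth_rewrite 1 [hb] at k
    simpa using k)
  have n3 : z ≠ e := fun k => n2 (by
    have : d * e * d⁻¹ = b := by rw [hb, k]
    rw [hz'] at this
    exact absurd this n1)
  have orb : ∀ g ∈ N1 y, ∀ s ∈ ({z, b, e} : Set G), g * s * g⁻¹ ∈ ({z, b, e} : Set G) := by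
    have h1 := Cfsg.Lib.Solv.ClassSize.ncard_orbit_eq_relIndex (N1 y) z
    have h2 : (C1 z).relIndex (N1 y) = 3 := by
      have h3 := ((C1 z).subgroupOf (N1 y)).card_mul_index
      rw [Cfsg.Lib.Solv.card_subgroupOf, inf_comm, hj, h.cN] at h3
      change 1280 * (C1 z).relIndex (N1 y) = _ at h3
      omega
    have h3 : ({z, b, e} : Set G) ⊆ {g | ∃ n ∈ N1 y, n * z * n⁻¹ = g} := by
      rintro s (rfl | rfl | rfl)
      · exact ⟨1, one_mem _, by simp⟩
      · exact ⟨d, dN, hb.symm⟩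
      · exact ⟨d * d, mul_mem dN dN, by rw [he, hb]; group⟩
    have h4 := Set.eq_of_subset_of_ncard_le h3 (by
      rw [h1, h2, Set.ncard_eq_three.2 ⟨z, b, e, n1, n3, n2, rfl⟩])
    intro g hg s hs
    rw [h4] at hs ⊢
    obtain ⟨n, hn, rfl⟩ := hs
    exact ⟨g * n, mul_mem hg hn, by group⟩
  have Nw : N1 y ≤ C1 (z * (b * e)) := fun g hg => by
    refine mem_centralizer_singleton_iff.2 (mul_inv_eq_iff_eq_mul.1 ?_)
    rw [← conj_mul, ← conj_mul]
    have i1 : g * z * g⁻¹ ≠ g * b * g⁻¹ := by simpa using n1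
    have i2 : g * b * g⁻¹ ≠ g * e * g⁻¹ := by simpa using n2
    have i3 : g * z * g⁻¹ ≠ g * e * g⁻¹ := by simpa using n3
    have a1 := orb g hg z (by simp)
    have a2 := orb g hg b (by simp)
    have a3 := orb g hg e (by simp)
    generalize g * z * g⁻¹ = z' at *
    generalize g * b * g⁻¹ = b' at *
    generalize g * e * g⁻¹ = e' at *
    rcases a1 with rfl | rfl | rfl <;> rcases a2 with rfl | rfl | rfl <;>
      rcases a3 with rfl | rfl | rfl <;>
      first
        | exact absurd rfl i1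
        | exact absurd rfl i2
        | exact absurd rfl i3
        | simp only [zb.symm.left_comm, ze.symm.left_comm, zb.symm.eq, ze.symm.eq, be.symm.eq]
  have vT : b * e ∈ T := mul_mem bT eT
  have vv : b * e * (b * e) = 1 := by
    rw [mul_assoc, be.symm.left_comm, ee, mul_one, bb]
  have ov : orderOf (b * e) = 2 := orderOf_eq_prime (by rw [sq, vv]) fun k => n2 (by
    rw [← mul_one b, ← ee, ← mul_assoc, k, one_mul])
  have wT : z * (b * e) ∈ T := mul_mem hz vT
  have ww : (z * (b * e)) ^ 2 = 1 := by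
    rw [(zb.mul_right ze).mul_pow, sq, sq, zz, vv, mul_one]
  have jv : Nat.card (N1 y ⊓ C1 (b * e) : Subgroup G) = 1280 := by
    suffices k : N1 y ⊓ C1 (b * e) = N1 y ⊓ C1 z by rw [k, hj]
    apply le_antisymm <;> refine fun g hg => ⟨hg.1, ?_⟩
    · have h1 : Commute g (z * (b * e)) := mem_centralizer_singleton_iff.1 (Nw hg.1)
      have h2 : Commute g (b * e) := mem_centralizer_singleton_iff.1 hg.2
      have h3 := h1.mul_right h2
      rw [mul_assoc, vv, mul_one] at h3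
      exact mem_centralizer_singleton_iff.2 h3
    · have h1 : Commute g (z * (b * e)) := mem_centralizer_singleton_iff.1 (Nw hg.1)
      have h2 : Commute g z := mem_centralizer_singleton_iff.1 hg.2
      have h3 := h2.mul_right h1
      rw [← mul_assoc, zz, one_mul] at h3
      exact mem_centralizer_singleton_iff.2 h3
  have sum : ∀ φ : IrrCharacter G, ∃ n : ℕ, (deg φ : ℂ) + 3 * iv φ z + 3 * iv φ (b * e) +
      (φ : G → ℂ) (z * (b * e)) = 8 * n := fun φ => by
    obtain ⟨n, hn⟩ := Kb.sum8 φ.2.isCharacter zz bb ee zb ze be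
    have cf := φ.2.isCharacter.isClassFunction
    have e1 : (φ : G → ℂ) b = (φ : G → ℂ) z := by rw [hb, cf]
    have e2 : (φ : G → ℂ) e = (φ : G → ℂ) z := by rw [he, cf, e1]
    have e3 : (φ : G → ℂ) (z * e) = (φ : G → ℂ) (b * e) := by
      rw [← cf (b * e) d, ← conj_mul, ← he, hz', ze.eq]
    have e4 : (φ : G → ℂ) (z * b) = (φ : G → ℂ) (b * e) := by
      rw [← cf (z * b) d, ← conj_mul, ← he, ← hb]
    refine ⟨n, ?_⟩
    rw [deg_cast, iv_two φ oz, iv_two φ ov, ← hn, e1, e2, e3, e4]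
    ring
  obtain ⟨n, hn⟩ := sum ξ
  obtain ⟨n', hn'⟩ := sum χ
  rw [hξ, v1] at hn
  rw [hχ, v2] at hn'
  by_cases hw : z * (b * e) = 1
  · have h1 : b * e = z := by
      rw [← one_mul (b * e), ← zz, mul_assoc, hw, mul_one]
    rw [hw, h1, v1, ← deg_cast, hξ] at hn
    have h2 : (-144 : ℤ) = 8 * n := by
      rw [← Int.cast_inj (α := ℂ)]
      push_cast at hn ⊢
      linear_combination hn
    omega
  have ow : orderOf (z * (b * e)) = 2 := orderOf_eq_prime ww hw
  have jw : N1 y ⊓ C1 (z * (b * e)) = N1 y := inf_eq_left.2 Nw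
  have t1 := ht _ ov (h.le vT) (by rw [jv])
  have t2 := ht _ ow (h.le wT) (by rw [jw, h.cN]; norm_num)
  have k1 := Six.card_eq_mul_sylow h.oy (Six.not25 h) (Ka.y_mem h vT)
  obtain ⟨k, hk, k5⟩ := sylow_cnt h.oy (Six.not25 h) (Ka.y_mem h vT)
  obtain ⟨k', hk', k5'⟩ := sylow_cnt h.oy (Six.not25 h) (Ka.y_mem h wT)
  change Nat.card (C1 _) = Nat.card (N1 y ⊓ C1 _ : Subgroup G) * _ at hk hk'
  rw [jv] at hk k1
  rw [jw, h.cN] at hk'
  rw [← iv_two ξ ow] at hn
  rw [← iv_two χ ow] at hn'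
  have s1 : 3 * iv ξ (b * e) + iv ξ (z * (b * e)) - 72 = 8 * n := by
    rw [← Int.cast_inj (α := ℂ)]
    push_cast at hn ⊢
    linear_combination hn
  have s2 : 5976 + 3 * iv χ (b * e) + iv χ (z * (b * e)) = 8 * n' := by
    rw [← Int.cast_inj (α := ℂ)]
    push_cast at hn' ⊢
    linear_combination hn'
  obtain ⟨r1, r2⟩ := Kb.tab _ t1 _ t2 (by dsimp only; omega) (by dsimp only; omega)
    (by dsimp only; omega) (by dsimp only; omega) (by dsimp only; omega) (by dsimp only; omega)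
  dsimp only at r1 r2
  rcases r2 with r2 | r2
  · have Tv : T ≤ C1 (b * e) := fun u hu => mem_centralizer_singleton_iff.2
      (Commute.mul_right (mem_centralizer_singleton_iff.1 (Tb hu))
        (mem_centralizer_singleton_iff.1 (Te hu)))
    obtain ⟨y', o', y1, y2⟩ := (h.six Tv (Ka.y_mem h vT) (by rw [r2, jv])).2
    have h1 : N1 y = C1 (z * (b * e)) := eq_of_le_of_card_ge Nw (by rw [r1, h.cN])
    have h2 : y' ∈ N1 y := h1.ge (mem_centralizer_singleton_iff.2
      (mem_centralizer_singleton_iff.1 (y2 wT)).symm)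
    have hP := Cfsg.Lib.Block.PS.card_sylow_eq (G := G) (p := 5) (by rw [h.card]; norm_num)
      (Six.not25 h)
    obtain ⟨P, hP'⟩ := Six.exists_sylow h.oy
    have h3 := Six.eq_zpowers hP h.oy hP'
    refine y1 (h3.le (Six.mem_of_smul o' (Sylow.smul_eq_iff_mem_normalizer.2 ?_)))
    change y' ∈ normalizer ((P : Subgroup G) : Set G)
    rw [h3]
    exact h2
  · exact Cfsg.Agent.S1010.result (G := C1 (b * e)) (by omega)

end Cfsg.Lib.Spor.O24F
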