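import Cfsg.Agent.Spor.O24Core
import Cfsg.Agent.Spor.O24Tab
import Cfsg.Agent.Spor.MoNse
import Cfsg.Agent.Solv.FrobCount

/-! Counting elements in the centralisers of elements of prime order. -/

namespace Cfsg.Lib.Spor.O24

open Subgroup Cfsg.Lib.Solv Cfsg.Lib.Known Cfsg.Lib.Spor.Mo Cfsg.Lib.PrimeOne Cfsg.Lib.Block.Princ
open Cfsg.Lib.Block hiding dg dg_cast

variable {G : Type*} [Group G] [Finite G] {p : ℕ} [hp : Fact p.Prime]

/-- The elements of order `k` that commute with `x`. -/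
def cel (x : G) (k : ℕ) : Set G := {g | orderOf g = k ∧ x * g = g * x}

theorem cnt_prime (h : p ∣ Nat.card G) : p ∣ {g : G | orderOf g = p}.ncard + 1 := by
  have h1 := Frob.dvd_card_pow_eq_one h
  have e : {x : G | x ^ p = 1} = insert 1 {g : G | orderOf g = p} := by
    ext x
    simp only [Set.mem_setOf_eq, Set.mem_insert_iff, ← orderOf_dvd_iff_pow_eq_one,
      Nat.dvd_prime hp.out, orderOf_eq_one_iff]
  rwa [← Set.ncard_insert_of_notMem (a := 1) (by simpa using hp.out.one_lt.ne), ← e, ← Nat.card_coe_set_eq]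

theorem cnt_mod {x : G} (hx : orderOf x = p) (k : ℕ) :
    {g : G | orderOf g = k}.ncard ≡ (cel x k).ncard [MOD p] :=
  ncard_mod (hx ▸ pow_orderOf_eq_one x) fun s hs => ((MulAut.conj x).orderOf_eq s).trans hs

omit hp in
theorem dvd_of_cel {x : G} {k : ℕ} (h : (cel x k).ncard ≠ 0) :
    k ∣ Nat.card (centralizer ({x} : Set G)) := by
  obtain ⟨g, h1, h2⟩ := Set.nonempty_of_ncard_ne_zero h
  exact h1 ▸ orderOf_dvd_natCard _ (mem_c1.2 h2.symm)

omit hp in
theorem cel_ne_zero {x : G} {q : ℕ} [Fact q.Prime] (h : q ∣ Nat.card (centralizer ({x} : Set G))) :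
    (cel x q).ncard ≠ 0 := by
  obtain ⟨g, hg⟩ := exists_prime_orderOf_dvd_card' q h
  exact Set.ncard_ne_zero_of_mem (a := g.1) ⟨(orderOf_coe g).trans hg, (mem_c1.1 g.2).symm⟩

theorem ncard_reg_le {x : G} (hx : orderOf x = p) {c : ℕ} (hc : ¬ p ∣ c)
    (h : Nat.card (centralizer ({x} : Set G)) = p * c) :
    {g | ¬ p ∣ orderOf g ∧ x * g = g * x}.ncard ≤ c := by
  let x' : centralizer ({x} : Set G) := ⟨x, mem_c1.2 rfl⟩
  have h1 : Nat.card (zpowers x') = p := (Nat.card_zpowers _).trans ((orderOf_mk x _).trans hx)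
  have h2 : (zpowers x').index = c := Nat.eq_of_mul_eq_mul_left hp.out.pos
    (by rw [← h, ← card_mul_index (zpowers x'), h1])
  let P := (IsPGroup.of_card (h1.trans (pow_one p).symm)).toSylow (h2 ▸ hc)
  have hP : normalizer P ≤ centralizer (P : Set (centralizer ({x} : Set G))) := fun g _ => by
    rintro _ ⟨n, rfl⟩
    exact (Commute.zpow_left (show Commute x' g from Subtype.ext (mem_c1.1 g.2).symm) n :)
  have h3 := (MonoidHom.ker_transferSylow_isComplement' P hP).index_eq_card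
  rw [← Nat.card_coe_set_eq, ← h2, show (zpowers x').index = _ from h3]
  refine Nat.card_le_card_of_injective (fun g => ⟨⟨g.1, mem_c1.2 g.2.2.symm⟩, ?_⟩) fun a b e =>
    Subtype.ext (congrArg (·.1.1) e)
  rw [MonoidHom.mem_ker, ← orderOf_eq_one_iff]
  refine ((Nat.dvd_prime hp.out).1 ((_root_.orderOf_dvd_natCard _).trans h1.dvd)).resolve_right
    fun h4 => g.2.1 (h4.symm.dvd.trans ((orderOf_map_dvd _ _).trans (orderOf_mk g.1 _).dvd))

theorem sum_cel_le {x : G} (hx : orderOf x = p) {c : ℕ} (hc : ¬ p ∣ c)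
    (h : Nat.card (centralizer ({x} : Set G)) = p * c) (K : Finset ℕ) (hK : ∀ k ∈ K, ¬ p ∣ k) :
    ∑ k ∈ K, (cel x k).ncard ≤ c := by
  classical
  refine le_trans ?_ (ncard_reg_le hx hc h)
  have : ∀ K : Finset ℕ, ∑ k ∈ K, (cel x k).ncard = {g | orderOf g ∈ K ∧ x * g = g * x}.ncard :=
    fun K => by
      induction K using Finset.induction_on with
      | empty => simp
      | insert k K hk ih =>
        have h3 : Disjoint (cel x k) {g | orderOf g ∈ K ∧ x * g = g * x} :=
          Set.disjoint_left.2 fun g h1 h2 => hk (h1.1 ▸ h2.1)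
        rw [Finset.sum_insert hk, ih, ← Set.ncard_union_eq h3]
        congr 1
        ext g
        simp [cel, or_and_right]
  exact this K ▸ Set.ncard_le_ncard fun g hg => ⟨hK _ hg.1, hg.2⟩

omit hp [Finite G] in
theorem cel_one (x : G) : (cel x 1).ncard = 1 := Set.ncard_eq_one.2 ⟨1, by ext; simp +contextual [cel]⟩

omit hp in
theorem rel_le {H : Subgroup G} {t : G} {X : Set G} (hX : ∀ h ∈ H, h * t * h⁻¹ ∈ X) :
    (centralizer {t}).relIndex H ≤ X.ncard := by
  rw [← Nat.card_coe_set_eq]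
  refine Nat.card_le_card_of_injective (fun q : H ⧸ (centralizer {t}).subgroupOf H =>
    (⟨q.out * t * (q.out : G)⁻¹, hX _ q.out.2⟩ : X)) fun a b e => ?_
  rw [← a.out_eq, ← b.out_eq]
  refine QuotientGroup.eq.2 (mem_c1.2 ?_)
  have : ((a.out : G)⁻¹ * b.out) * t = (a.out : G)⁻¹ * (b.out * t * (b.out : G)⁻¹) * b.out := by group
  change (a.out : G)⁻¹ * b.out * t = t * ((a.out : G)⁻¹ * b.out)
  rw [this, ← Subtype.mk.inj e]; group

omit hp in
theorem rel_le_cel {x t : G} (h : x ∈ centralizer {t}) :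
    (centralizer {t}).relIndex (centralizer {x}) ≤
      {g | IsConj t g ∧ x * g = g * x}.ncard :=
  rel_le fun g hg => ⟨isConj_iff.2 ⟨g, rfl⟩, (((Commute.mul_right (mem_c1.1 hg).symm
    (mem_c1.1 h)).mul_right (Commute.inv_right (mem_c1.1 hg).symm)) :)⟩

omit hp in
theorem cls_le_cel (x t : G) :
    {g | IsConj t g ∧ x * g = g * x}.ncard ≤ (cel x (orderOf t)).ncard :=
  Set.ncard_le_ncard fun g hg => ⟨by
    obtain ⟨c, rfl⟩ := isConj_iff.1 hg.1
    exact (MulAut.conj c).orderOf_eq t, hg.2⟩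

omit hp in
theorem ncard_cls (t : G) : {g | IsConj t g}.ncard = (centralizer {t}).index :=
  (Nat.card_coe_set_eq _).symm.trans (SC.card_isConj_eq_index_centralizer t)

theorem index_mod {x : G} (hx : orderOf x = p) (t : G) :
    (centralizer {t}).index ≡ {g | IsConj t g ∧ x * g = g * x}.ncard [MOD p] :=
  ncard_cls t ▸ ncard_mod (hx ▸ pow_orderOf_eq_one x) fun _ hs =>
    IsConj.trans hs (isConj_iff.2 ⟨x, rfl⟩)

theorem index_mod' {x t : G} (hx : orderOf x = p) (h : x ∈ centralizer {t}) {a : ℕ}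
    (h1 : (cel x (orderOf t)).ncard = a) (h2 : (centralizer {t}).relIndex (centralizer {x}) = a) :
    (centralizer {t}).index ≡ a [MOD p] :=
  le_antisymm ((cls_le_cel x t).trans h1.le) (h2.ge.trans (rel_le_cel h)) ▸ index_mod hx t

omit hp in
/-- The centraliser of an element of order five. -/
theorem cent_five {v : G} (hv : orderOf v = 5) (hc : Nat.card (centralizer ({v} : Set G)) = 60)
    (h2 : (cel v 2).ncard % 5 = 3) (h3 : (cel v 3).ncard % 5 = 3) :
    (∀ x : G, x * v = v * x → x ^ 4 = 1 → x * x = 1) ∧ ∀ t : G, orderOf t = 2 →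
      v ∈ centralizer {t} → Nat.card (centralizer {t} ⊓ centralizer {v} : Subgroup G) = 20 ∧
        (centralizer {t}).index % 5 = 3 := by
  have : Fact (Nat.Prime 5) := ⟨Nat.prime_five⟩
  have : Fact (Nat.Prime 3) := ⟨Nat.prime_three⟩
  have h1 := sum_cel_le hv (c := 12) (by norm_num) hc {1, 2, 3, 4, 6} (by decide)
  have h4 : 3 ∣ (cel v 3).ncard + 1 := by
    have := cnt_prime (G := centralizer ({v} : Set G)) (p := 3) (hc ▸ by norm_num)
    have e : Subtype.val '' {g : centralizer ({v} : Set G) | orderOf g = 3} = cel v 3 :=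
      Set.ext fun g => ⟨by
        rintro ⟨g, hg, rfl⟩; exact ⟨(orderOf_coe g).trans hg, (mem_c1.1 g.2).symm⟩,
        fun hg => ⟨⟨g, mem_c1.2 hg.2.symm⟩, (orderOf_mk g _).trans hg.1, rfl⟩⟩
    rwa [← Set.ncard_image_of_injective _ Subtype.val_injective, e] at this
  simp [cel_one] at h1
  have h5 : ∀ {k}, (cel v k).ncard = 0 → ∀ g, orderOf g = k → v * g ≠ g * v := fun h g h1 h2 =>
    Set.ncard_ne_zero_of_mem (s := cel v _) (a := g) ⟨h1, h2⟩ (Set.toFinite _) h
  refine ⟨fun x hx h6 => ?_, fun t ht h6 => ?_⟩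
  · rcases (by decide : ∀ d ∈ Nat.divisors 4, d ∣ 2 ∨ d = 4) _ (Nat.mem_divisors.2
      ⟨orderOf_dvd_of_pow_eq_one h6, by norm_num⟩) with h | h
    · exact pow_two x ▸ orderOf_dvd_iff_pow_eq_one.1 h
    · exact (h5 (by omega) x h hx.symm).elim
  have h7 := card_rel (centralizer {t}) (centralizer {v})
  have h8 := (rel_le_cel h6).trans (cls_le_cel v t)
  have h9 : ¬ 3 ∣ Nat.card (centralizer {t} ⊓ centralizer {v} : Subgroup G) := fun h => by
    obtain ⟨d, hd⟩ := exists_prime_orderOf_dvd_card' 3 h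
    rw [← orderOf_coe] at hd
    have h10 : Commute t d := (mem_c1.1 d.2.1).symm
    refine h5 (k := 6) (by omega) (t * d) ?_
      (Commute.mul_right (mem_c1.1 h6) (mem_c1.1 d.2.2).symm)
    rw [h10.orderOf_mul_eq_mul_orderOf_of_coprime (by rw [ht, hd]; norm_num), ht, hd]
  rw [ht] at h8
  rw [hc] at h7
  have h10 : (centralizer {t}).relIndex (centralizer {v}) = 3 := by
    have h11 : 3 ∣ (centralizer {t}).relIndex (centralizer {v}) :=
      ((Nat.Prime.dvd_mul Nat.prime_three).1 (by rw [h7]; norm_num)).resolve_right h9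
    have h12 : (centralizer {t}).relIndex (centralizer {v}) ≠ 0 := fun h => by simp [h] at h7
    omega
  refine ⟨by rw [h10] at h7; omega, index_mod' hv h6 (by rw [ht]; omega) h10⟩

omit hp in
/-- The centraliser of an element of order seven. -/
theorem cent_seven {v : G} (hv : orderOf v = 7) (hc : Nat.card (centralizer ({v} : Set G)) = 42)
    (h2 : (cel v 2).ncard % 7 = 3) (t : G) (ht : orderOf t = 2) (h6 : v ∈ centralizer {t}) :
    Nat.card (centralizer {t} ⊓ centralizer {v} : Subgroup G) = 14 ∧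
      (centralizer {t}).index % 7 = 3 := by
  have : Fact (Nat.Prime 7) := ⟨Nat.prime_seven⟩
  have : Fact (Nat.Prime 2) := ⟨Nat.prime_two⟩
  have h1 := sum_cel_le hv (c := 6) (by norm_num) hc {2} (by decide)
  rw [Finset.sum_singleton] at h1
  have h7 := card_rel (centralizer {t}) (centralizer {v})
  have h8 := (rel_le_cel h6).trans (cls_le_cel v t)
  have h9 : 14 ∣ Nat.card (centralizer {t} ⊓ centralizer {v} : Subgroup G) :=
    Nat.Coprime.mul_dvd_of_dvd_of_dvd (m := 2) (n := 7) (by norm_num)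
      (ht ▸ orderOf_dvd_natCard _ ⟨mem_c1.2 rfl, mem_c1.2 (mem_c1.1 h6).symm⟩)
      (hv ▸ orderOf_dvd_natCard _ ⟨h6, mem_c1.2 rfl⟩)
  rw [hc] at h7
  have h10 : (centralizer {t}).relIndex (centralizer {v}) ≠ 1 := fun h => by
    rw [relIndex_eq_one] at h
    have : cel v 2 ⊆ {t} := fun u hu => by
      obtain ⟨g, hg⟩ := exists_conj_mem (G := centralizer ({v} : Set G)) (p := 2)
        (x := ⟨t, mem_c1.2 (mem_c1.1 h6).symm⟩) (y := ⟨u, mem_c1.2 hu.2.symm⟩)
        ((orderOf_mk t _).trans ht) (by rw [hc]; norm_num) ((orderOf_mk u _).trans hu.1)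
      rcases mem_zp ((orderOf_mk t _).trans ht) hg with e | e
      · exact absurd (by simpa using e) (Local.ne_one_of_orderOf_two hu.1)
      · have h11 : (g : G) * u * (g : G)⁻¹ = t := congrArg Subtype.val e
        have h12 := mem_c1.1 (h g.2)
        rw [Set.mem_singleton_iff, show u = (g : G)⁻¹ * (g * u * (g : G)⁻¹ * g) by group, h11, ← h12,
          inv_mul_cancel_left]
    have := Set.ncard_le_ncard this
    rw [Set.ncard_singleton] at this; omega
  obtain ⟨k, hk⟩ := h9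
  have h11 : (centralizer {t}).relIndex (centralizer {v}) * k = 3 := by
    rw [hk, mul_left_comm] at h7; omega
  have h12 := ((Nat.dvd_prime Nat.prime_three).1 (Dvd.intro _ h11)).resolve_left h10
  refine ⟨by rw [h12] at h7; omega, index_mod' hv h6 (by rw [ht]; omega) h12⟩

theorem exists_common {M e c t : ℕ} {L : List (IrrCharacter G)} {Y : Finset (IrrCharacter G)}
    {θ : IrrCharacter G} {δ : IrrCharacter G → ℤ} {ε : ℤ} (h : Blk p M e c t L Y θ δ ε)
    {q M' e' c' t' : ℕ} [hq : Fact q.Prime] {L' : List (IrrCharacter G)}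
    {Y' : Finset (IrrCharacter G)} {θ' : IrrCharacter G} {δ' : IrrCharacter G → ℤ} {ε' : ℤ}
    (k : Blk q M' e' c' t' L' Y' θ' δ' ε') (hc : ¬ q ∣ p * c) :
    ∃ χ ∈ θ :: L, χ ∈ L' ∨ χ ∈ Y' := by
  classical
  have := Fintype.ofFinite G
  by_contra! h1
  obtain ⟨I, h0⟩ := h.b0
  obtain ⟨J, k0⟩ := k.b0
  obtain ⟨P, hP, h2, -⟩ := h.syl
  have h3 := h0.brauer_tuan hq.out k0.hM isPBlock_principalBlock'
    (fun g hg => not_dvd_orderOf_of_not_dvd hP (h2 ▸ hc) hg) h.mem
  have h4 : ∀ χ ∈ θ :: L, χ ∉ principalBlock J G := fun χ hχ h4 => by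
    simpa [h1 χ hχ, h.ne_triv hχ] using (k0.union χ).1 h4
  rw [if_neg (h4 θ List.mem_cons_self), show ((triv G :: L).toFinset.filter
    (· ∈ principalBlock J G)) = {triv G} from Finset.ext fun χ => ⟨fun h5 => by
      obtain ⟨h6, h7⟩ := Finset.mem_filter.1 h5
      exact Finset.mem_singleton.2 ((List.mem_cons.1 (List.mem_toFinset.1 h6)).resolve_right
        fun h8 => h4 χ (List.mem_cons_of_mem _ h8) h7), fun h5 => by
      rw [Finset.mem_singleton.1 h5]
      exact Finset.mem_filter.2 ⟨h0.triv_mem, triv_mem_principalBlock k0.hM⟩⟩,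
    Finset.sum_singleton, h0.δ_triv, deg_triv] at h3
  have h5 := (dvd_pow_self (q : ℤ) (hq.out.factorization_pos_of_dvd Nat.card_pos.ne'
    k0.dvd_card).ne').trans h3
  simp only [Nat.cast_one, mul_one, add_zero] at h5
  exact hq.out.one_lt.ne' (Nat.dvd_one.1 (by exact_mod_cast h5))

end Cfsg.Lib.Spor.O24
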