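import Cfsg.Agent.Spor.O24FDefs
import Cfsg.Agent.Trans.SylowIn

/-! Two counting lemmas. -/

set_option autoImplicit false

namespace Cfsg.Lib.Spor.O24F

open Subgroup Cfsg.Lib.Spor.Mo Cfsg.Lib.PrimeOne Cfsg.Lib.Block.Princ Cfsg.Lib.Trans
open Cfsg.Lib.Spor.O7920 (instFact11 instFact5)
open Cfsg.Lib.Spor.O10200960 (instFact23)

variable {G : Type*} [Group G] [Finite G]

variable {p : ℕ} [Fact p.Prime]

theorem lemC {a : G} (ha : orderOf a = p) {X : Subgroup G}
    (hn : ∀ x ∈ X, a * x * a⁻¹ ∈ X) (hX : ¬ p ∣ Nat.card X) {r : ℕ} (hr : r.Prime)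
    (h1 : r ^ (Nat.card X).factorization r % p ≠ 1) :
    ∃ u ∈ X, orderOf u = r ∧ u * a = a * u := by
  have hp : p.Prime := Fact.out
  have := Fact.mk hr
  have pa : IsPGroup p (zpowers a) := .of_card (n := 1) (by rw [Nat.card_zpowers, ha, pow_one])
  have := pa.isNilpotent
  obtain ⟨R, R1, R2, R3, R4⟩ := Solv.Coprime.exists_invariant_sylow' (A := zpowers a) (K := X)
    (zpowers_le.2 (mem_normalizer_of_cj_le (cj_le_iff.2 hn)))
    (by rw [Nat.card_zpowers, ha]; exact hp.coprime_iff_not_dvd.2 hX) (.inl inferInstance) r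
  have ne : R ⊓ centralizer (zpowers a : Set G) ≠ ⊥ := fun e => by
    have := Solv.card_modEq_one_of_inf_centralizer_eq_bot pa R4 e
    rw [IsSylowIn.card_eq ⟨R1, R2, R3⟩, Nat.ModEq, Nat.mod_eq_of_lt hp.one_lt] at this
    exact h1 this
  obtain ⟨u, hu⟩ := exists_prime_orderOf_dvd_card' (G := ↥(R ⊓ centralizer (zpowers a : Set G))) r
    (((R2.to_le inf_le_left).card_eq_or_dvd).resolve_left fun e => ne (card_eq_one.1 e))
  exact ⟨u, R1 u.2.1, by rw [orderOf_coe, hu], (u.2.2 a (mem_zpowers a)).symm⟩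

namespace Lc

theorem exists_cj (h2 : ¬ p ^ 2 ∣ Nat.card G) {x y : G} (hy : orderOf y = p) (hx : orderOf x = p) :
    ∃ c : G, ∀ u, c * u * c⁻¹ ∈ C1 x ↔ u ∈ C1 y := by
  have syl : ∀ z : G, orderOf z = p → IsSylowIn p (zpowers z) ⊤ := fun z hz => by
    refine ⟨le_top, .of_card (n := 1) (by rw [Nat.card_zpowers, hz, pow_one]), fun k => h2 ?_⟩
    rw [← card_mul_index (zpowers z), Nat.card_zpowers, hz, pow_two]
    rw [relIndex_top_right] at k
    exact Nat.mul_dvd_mul_left p k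
  have C1_eq : ∀ y : G, C1 y = centralizer (zpowers y : Set G) := fun y => by
    refine le_antisymm (fun g hg x hx => ?_) (centralizer_le (by simp))
    obtain ⟨m, rfl⟩ := mem_zpowers_iff.1 hx
    exact ((show Commute g y from mem_centralizer_singleton_iff.1 hg).zpow_right m).symm.eq
  obtain ⟨c, -, e⟩ := (syl x hx).exists_cj_eq (syl y hy)
  exact ⟨c, fun u => by rw [C1_eq, C1_eq, ← e, ← cj_centralizer, conj_mem_cj]⟩

omit [Finite G] in
theorem ord {x v : G} (hx : orderOf x = p) (hv : ¬ p ∣ orderOf v) (e : v ∈ C1 x) :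
    orderOf (x * v) = p * orderOf v := by
  have c : Commute x v := (mem_centralizer_singleton_iff.1 e).symm
  rw [c.orderOf_mul_eq_mul_orderOf_of_coprime (by
    rw [hx]; exact (Fact.out : p.Prime).coprime_iff_not_dvd.2 hv), hx]

end Lc

theorem fiber (h2 : ¬ p ^ 2 ∣ Nat.card G) {y : G} (hy : orderOf y = p) (P : ℕ → Prop)
    (hP : ∀ n, ¬ p ∣ n → (P (p * n) ↔ P n)) :
    {g : G | p ∣ orderOf g ∧ P (orderOf g)}.ncard = {x : G | orderOf x = p}.ncard *
      {u : G | u ∈ C1 y ∧ ¬ p ∣ orderOf u ∧ P (orderOf u)}.ncard := by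
  have hp : p.Prime := Fact.out
  have ex : ∀ x : G, ∃ c : G, orderOf x = p → ∀ u, c * u * c⁻¹ ∈ C1 x ↔ u ∈ C1 y := fun x => by
    by_cases hx : orderOf x = p
    · exact (Lc.exists_cj h2 hy hx).imp fun _ h _ => h
    · exact ⟨1, fun h => absurd h hx⟩
  choose c hc using ex
  have oc : ∀ a u : G, orderOf (a * u * a⁻¹) = orderOf u := fun a u =>
    orderOf_injective (MulAut.conj a).toMonoidHom (MulAut.conj a).injective u
  rw [← Set.ncard_prod]
  symm
  refine Set.ncard_congr (fun q _ => q.1 * (c q.1 * q.2 * (c q.1)⁻¹)) ?_ ?_ ?_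
  · rintro ⟨x, u⟩ ⟨hx, h1, h3, h4⟩
    have o := Lc.ord hx (by rwa [oc]) ((hc x hx u).2 h1)
    rw [oc] at o
    exact ⟨o ▸ dvd_mul_right _ _, o ▸ (hP _ h3).2 h4⟩
  · rintro ⟨x, u⟩ ⟨x', u'⟩ ⟨hx, h1, h3, -⟩ ⟨hx', h1', h3', -⟩ e
    have hx : orderOf x = p := hx
    have hx' : orderOf x' = p := hx'
    have m := (hc x hx u).2 h1
    have m' := (hc x' hx' u').2 h1'
    have o := Lc.ord hx (by rwa [oc]) m
    have o' := Lc.ord hx' (by rwa [oc]) m'
    dsimp only at e h3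
    have on := Nat.eq_of_mul_eq_mul_left hp.pos (o.symm.trans (e ▸ o'))
    have pw : ∀ {x v : G}, v ∈ C1 x → (x * v) ^ orderOf v = x ^ orderOf v := fun {x v} m => by
      rw [(show Commute x v from (mem_centralizer_singleton_iff.1 m).symm).mul_pow,
        pow_orderOf_eq_one, mul_one]
    have e1 := pw m
    rw [e, on, pw m', ← on, oc] at e1
    obtain ⟨k, hk⟩ := Nat.exists_mul_mod_eq_one_of_coprime
      (hp.coprime_iff_not_dvd.2 h3).symm hp.one_lt
    have rc : ∀ z : G, orderOf z = p → (z ^ orderOf u) ^ k = z := fun z hz => by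
      rw [← pow_mul, ← pow_mod_orderOf, hz, hk.2, pow_one]
    have e2 : x = x' := by rw [← rc x hx, ← e1, rc x' hx']
    subst e2
    exact Prod.ext rfl (mul_left_cancel (mul_right_cancel (mul_left_cancel e)))
  · rintro g ⟨⟨n, hn⟩, h1⟩
    have pn : ¬ p ∣ n := fun d => h2 ((pow_two p ▸ Nat.mul_dvd_mul_left p d).trans
      (hn ▸ _root_.orderOf_dvd_natCard g))
    obtain ⟨k, hk⟩ := Nat.exists_mul_mod_eq_one_of_coprime
      (hp.coprime_iff_not_dvd.2 pn).symm hp.one_lt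
    have on : orderOf (g ^ n) = p := by
      have n0 : n ≠ 0 := fun e => pn (e ▸ dvd_zero p)
      rw [orderOf_pow_of_dvd n0 (hn ▸ dvd_mul_left n p), hn,
        Nat.mul_div_cancel _ (Nat.pos_of_ne_zero n0)]
    have e1 : ((g ^ n) ^ k) ^ n = g ^ n := by
      rw [← pow_mul, mul_comm k, ← pow_mod_orderOf, on, hk.2, pow_one]
    have ox : orderOf ((g ^ n) ^ k) = p := orderOf_eq_prime
      (by rw [← pow_mul, mul_comm, pow_mul, ← on, pow_orderOf_eq_one, one_pow]) fun e => by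
        rw [e, one_pow] at e1
        rw [← e1, orderOf_one] at on
        exact hp.one_lt.ne on
    have cm : Commute ((g ^ n) ^ k) g := ((Commute.refl g).pow_left n).pow_left k
    generalize (g ^ n) ^ k = x at *
    have vC : x⁻¹ * g ∈ C1 x := mem_centralizer_singleton_iff.2 (by
      rw [mul_assoc, ← cm.eq, inv_mul_cancel_left, mul_inv_cancel_left])
    have vn : ¬ p ∣ orderOf (x⁻¹ * g) := fun d => pn (d.trans (orderOf_dvd_of_pow_eq_one (by
      rw [cm.inv_left.mul_pow, inv_pow, e1, inv_mul_cancel])))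
    have o := Lc.ord ox vn vC
    rw [mul_inv_cancel_left] at o
    have eu : c x * ((c x)⁻¹ * (x⁻¹ * g) * (c x)⁻¹⁻¹) * (c x)⁻¹ = x⁻¹ * g := by group
    refine ⟨(x, (c x)⁻¹ * (x⁻¹ * g) * (c x)⁻¹⁻¹), ⟨ox, (hc x ox _).1 (eu.symm ▸ vC), ?_, ?_⟩, ?_⟩
    · rwa [oc]
    · rw [oc]; exact (hP _ vn).1 (o ▸ h1)
    · dsimp only
      rw [eu, mul_inv_cancel_left]

end Cfsg.Lib.Spor.O24F
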