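import Cfsg.Agent.Spor.O24FGen
import Cfsg.Agent.Spor.O24FLc
import Cfsg.Agent.Spor.O24Cnt

/-!
A simple group of order 244823040: the centralizer of an element of order 5 is 2-closed.
-/

set_option autoImplicit false

namespace Cfsg.Lib.Spor.O24F

open Subgroup Cfsg.Lib.Spor.Mo Cfsg.Lib.PrimeOne Cfsg.Lib.Block.Princ Cfsg.Lib.Trans
open Cfsg.Lib.Spor.O7920 (instFact11 instFact5)
open Cfsg.Lib.Spor.O10200960 (instFact23)

variable {G : Type*} [Group G] [Finite G]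
variable {c : ℕ} {α β χ ψ ξ : IrrCharacter G} {d y : G} {T : Subgroup G}

theorem Jt.cnt15 (h : Jt c α β χ ψ ξ d y) : {g : G | 5 ∣ orderOf g ∧ 3 ∣ orderOf g}.ncard =
    2 * {g : G | 5 ∣ orderOf g ∧ ¬ 3 ∣ orderOf g}.ncard := by
  classical
  have := Fintype.ofFinite G
  obtain ⟨M, δ, k, -⟩ := h.blk
  obtain ⟨a1, a2, a3, a4⟩ := h.toB5.degs
  have ne : ∀ {φ : IrrCharacter G}, deg φ ≠ 252 → ξ ≠ φ := fun e e' => e (e' ▸ h.dξ)
  have h1 := orth k (φ := ξ) (ne (by rw [deg_triv]; omega))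
    (by simp [ne (φ := α) (by omega), ne (φ := β) (by omega), ne (φ := χ) (by omega)])
    (by simp [ne (φ := ψ) (by omega)])
  have h2 : ∀ g : G, (if 5 ∣ orderOf g then (ξ : G → ℂ) g else 0) =
      2 * (if 5 ∣ orderOf g ∧ ¬ 3 ∣ orderOf g then 1 else 0) -
        (if 5 ∣ orderOf g ∧ 3 ∣ orderOf g then 1 else 0) := fun g => by
    by_cases a : 5 ∣ orderOf g
    · obtain ⟨-, -, b1, b2⟩ := h.toB5.sing5 a
      by_cases b : 3 ∣ orderOf g
      · simp [a, b, (h.sing g b).1, b1]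
      · have := h.reg g b
        simp only [a, b, if_true, not_false_eq_true, and_self, and_false, if_false]
        linear_combination b2 - b1 - this
    · simp [a]
  simp only [h2, Finset.sum_sub_distrib, ← Finset.mul_sum, Finset.sum_boole] at h1
  rw [Set.ncard_eq_toFinset_card', Set.ncard_eq_toFinset_card', Set.toFinset_setOf,
    Set.toFinset_setOf]
  exact_mod_cast (sub_eq_zero.1 h1).symm

theorem Jt.exists_L5 (h : Jt c α β χ ψ ξ d y) : ∃ T, L5 c y T := by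
  have h25 : ¬ 5 ^ 2 ∣ Nat.card G := by rw [h.card]; norm_num
  have f1 := fiber h25 h.oy (fun n => ¬ 3 ∣ n) fun n _ => by omega
  have f2 := fiber h25 h.oy (fun n => 3 ∣ n) fun n _ => by omega
  have n5 : 0 < {x : G | orderOf x = 5}.ncard := (Set.ncard_pos).2 ⟨y, h.oy⟩
  rw [h.cnt15, f1, mul_left_comm] at f2
  have e := Nat.eq_of_mul_eq_mul_left n5 f2
  have cC := h.toB5.cC h.oy
  have le := O24.ncard_reg_le h.oy (c := c) (by rcases h.hc with rfl | rfl <;> omega) cC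
  have le2 := (Set.ncard_le_ncard (s := {u : G | u ∈ C1 y ∧ ¬ 5 ∣ orderOf u ∧ ¬ 3 ∣ orderOf u} ∪
    {u : G | u ∈ C1 y ∧ ¬ 5 ∣ orderOf u ∧ 3 ∣ orderOf u}) (by
      rintro u (a | a) <;> exact ⟨a.2.1, (mem_centralizer_singleton_iff.1 a.1).symm⟩)).trans le
  rw [Set.ncard_union_eq (Set.disjoint_left.2 fun u a b => a.2.2 b.2.2)] at le2
  obtain ⟨T, hT⟩ := exists_isSylowIn (p := 2) (C1 y)
  have cT : 3 * Nat.card T = c := by
    rw [hT.card_eq, cC]
    rcases h.hc with rfl | rfl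
    · rw [show Nat.factorization (5 * 12) 2 = 2 by
        rw [Nat.factorization_def _ Nat.prime_two]; decide +kernel]
      rfl
    · rw [show Nat.factorization (5 * 192) 2 = 6 by
        rw [Nat.factorization_def _ Nat.prime_two]; decide +kernel]
      rfl
  have key : ∀ u ∈ C1 y, ∀ k : ℕ, u ^ 2 ^ k = 1 →
      u ∈ {u : G | u ∈ C1 y ∧ ¬ 5 ∣ orderOf u ∧ ¬ 3 ∣ orderOf u} := fun u hu k e => by
    have := orderOf_dvd_of_pow_eq_one e
    exact ⟨hu, fun a => absurd (Nat.Prime.dvd_of_dvd_pow Nat.prime_five (a.trans this)) (by omega),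
      fun a => absurd (Nat.Prime.dvd_of_dvd_pow Nat.prime_three (a.trans this)) (by omega)⟩
  have eq : (T : Set G) = {u : G | u ∈ C1 y ∧ ¬ 5 ∣ orderOf u ∧ ¬ 3 ∣ orderOf u} :=
    Set.eq_of_subset_of_ncard_le (fun u hu => by
      obtain ⟨k, hk⟩ := hT.isPGroup ⟨u, hu⟩
      exact key u (hT.le hu) k (congrArg Subtype.val hk)) (by
      have : (T : Set G).ncard = Nat.card T := rfl
      omega)
  exact ⟨T, h.card, h.oy, h.hc, cC, h.toB5.cN h.oy, hT.le, cT,
    fun u hu k e => show u ∈ (T : Set G) from eq ▸ key u hu k e⟩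

end Cfsg.Lib.Spor.O24F
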