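import Cfsg.Agent.Spor.O24FS70
import Cfsg.Agent.Solv.CoprimeGen

/-! The order of the normalizer of a Sylow 7-subgroup: two possibilities. -/

set_option autoImplicit false

namespace Cfsg.Lib.Spor.O24F

open Subgroup Cfsg.Lib.Spor.Mo Cfsg.Lib.Spor.O24 Cfsg.Lib.Known Cfsg.Lib.Solv S70

variable {G : Type*} [Group G] [Finite G] {d : G}

theorem S70.big_core (S : Sylow 2 G) (h : Nat.card (Sylow 2 G) ∣ 3) :
    Nat.card (S : Subgroup G) ≤ 2 * Nat.card (pCore 2 G) := by
  classical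
  have : Fact (Nat.Prime 2) := ⟨Nat.prime_two⟩
  let φ := MulAction.toPermHom G (Sylow 2 G)
  have hp : IsPGroup 2 (φ.ker ⊓ S : Subgroup G) := S.isPGroup'.to_inf_right
  have hn : (φ.ker ⊓ S : Subgroup G).Normal := ⟨fun x hx c => by
    have h1 := φ.normal_ker.conj_mem x hx.1 c
    refine ⟨h1, ?_⟩
    have h2 : IsPGroup 2 (zpowers (c * x * c⁻¹)) := by
      obtain ⟨j, hj⟩ := IsPGroup.iff_orderOf.1 S.isPGroup' ⟨x, hx.2⟩
      exact IsPGroup.iff_card.2 ⟨j, (Nat.card_zpowers _).trans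
        (((MulAut.conj c).orderOf_eq x).trans ((orderOf_mk x hx.2).symm.trans hj))⟩
    exact ((h2.inf_normalizer_sylow S).le ⟨mem_zpowers _, Sylow.smul_eq_iff_mem_normalizer.1
      (congrArg (fun f : Equiv.Perm (Sylow 2 G) => f S) (MonoidHom.mem_ker.1 h1))⟩).2⟩
  have h1 : φ.ker.relIndex S ∣ 6 := by
    refine (relIndex_dvd_index_of_normal _ _).trans ?_
    rw [index_ker]
    refine (card_subgroup_dvd_card _).trans ?_
    let _ := Fintype.ofFinite (Sylow 2 G)
    rw [Nat.card_eq_fintype_card, Fintype.card_perm, ← Nat.card_eq_fintype_card]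
    rcases (Nat.dvd_prime Nat.prime_three).1 h with e | e <;> rw [e] <;> decide
  have h2 := card_rel φ.ker S
  obtain ⟨j, hj⟩ := IsPGroup.iff_card.1 S.isPGroup'
  obtain ⟨i, -, hi⟩ := (Nat.dvd_prime_pow Nat.prime_two).1 (hj ▸ Dvd.intro _ h2)
  have h3 : φ.ker.relIndex S ≤ 2 := by
    rw [hi] at h1 ⊢
    have := Nat.le_of_dvd (by omega) h1
    have : i < 3 := (Nat.pow_lt_pow_iff_right one_lt_two).1 (by omega)
    interval_cases i <;> omega
  rw [← h2]
  exact Nat.mul_le_mul h3 (card_le_of_le (Block.le_pCore_of_normal hn hp))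

theorem E12.exists_U {z v g d' : G} {n : ℕ} (h : E12 z d) (k : S7 d v g d' n) :
    n = 18 ∨ (n = 144 ∧ Nat.card (C1 v) = 7 * 24) := by
  have : Fact (Nat.Prime 7) := ⟨Nat.prime_seven⟩
  have : Fact (Nat.Prime 3) := ⟨Nat.prime_three⟩
  have : Fact (Nat.Prime 2) := ⟨Nat.prime_two⟩
  have d3 : d' ^ 3 = 1 := k.od' ▸ pow_orderOf_eq_one d'
  have g3 : g ^ 3 = 1 := k.og ▸ pow_orderOf_eq_one g
  obtain ⟨e, e1, e2, e3⟩ := nc k.ov
  have e4 : e = 3 ∨ e = 6 := by
    have h1 := e3 g k.gN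
    have := Nat.le_of_dvd (by omega) e1
    have h2 : g ^ 2 ∉ C1 v := fun c => k.gC (by
      simpa [← pow_mul, pow_succ g 3, g3] using pow_mem c 2)
    interval_cases e
    all_goals first | omega | exact absurd h1 h2 | exact absurd (by simpa using h1) k.gC
  obtain ⟨S⟩ : Nonempty (Sylow 2 (C1 v)) := inferInstance
  let v' : C1 v := ⟨v, mem_c1.2 rfl⟩
  have h7 : 7 ∣ Nat.card (normalizer (S : Set (C1 v))) := by
    refine ((orderOf_mk v v'.2).trans k.ov) ▸ orderOf_dvd_natCard _ (x := v') ?_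
    exact centralizer_le_normalizer _ fun s _ => Subtype.ext (mem_c1.1 s.2)
  obtain ⟨j, hj⟩ := IsPGroup.iff_card.1 S.isPGroup'
  have hS : 2 ^ j ∣ Nat.card (normalizer (S : Set (C1 v))) := hj ▸ card_dvd_of_le le_normalizer
  have hi := S.not_dvd_index
  have hm := card_mul_index (S : Subgroup (C1 v))
  have i21 : (S : Subgroup (C1 v)).index ∣ 21 := by
    have : Nat.card (C1 v) ∣ 2 ^ 10 * 21 := by
      have := k.cN
      rcases e4 with rfl | rfl <;> rcases k.hn with rfl | rfl | rfl | rfl <;>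
        exact ⟨2 ^ 10 * 21 / Nat.card (C1 v), by
          rw [show Nat.card (C1 v) = Nat.card (N1 v) / _ from
            (Nat.div_eq_of_eq_mul_right (by omega) e2.symm).symm, this]
          norm_num⟩
    exact (Nat.Coprime.pow_right 10 ((Nat.Prime.coprime_iff_not_dvd Nat.prime_two).2
      hi).symm).dvd_of_dvd_mul_left ((index_dvd_card _).trans this)
  have n3 : Nat.card (Sylow 2 (C1 v)) ∣ 3 := by
    obtain ⟨a, ha⟩ := Nat.Coprime.mul_dvd_of_dvd_of_dvd
      (Nat.Coprime.pow_left j (by norm_num : Nat.Coprime 2 7)) hS h7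
    obtain ⟨b, hb⟩ := i21
    have h1 := card_mul_index (normalizer (S : Set (C1 v)))
    rw [← S.card_eq_index_normalizer, ha, ← hm, hj] at h1
    have h2 : 7 * a * Nat.card (Sylow 2 (C1 v)) = (S : Subgroup (C1 v)).index :=
      Nat.eq_of_mul_eq_mul_left (Nat.two_pow_pos j) (by rw [← h1]; ring)
    rw [← h2] at hb
    exact ⟨a * b, by linarith⟩
  have hb := big_core S n3
  have := pCore_characteristic 2 (C1 v)
  obtain ⟨U, hU⟩ : ∃ U, U = (pCore 2 (C1 v)).map (C1 v).subtype := ⟨_, rfl⟩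
  have UC : U ≤ C1 v := hU ▸ map_subtype_le _
  have U2 : IsPGroup 2 U := hU ▸ (pCore_isPGroup 2 (C1 v)).map _
  have UN : N1 v ≤ normalizer (U : Set G) := fun x hx => hU ▸
    normalizer_le_normalizer_map_subtype_of_char _
      (mem_normalizer_fintype fun u hu => n_conj hx hu)
  rw [← card_subtype (C1 v) (pCore 2 _), ← hU] at hb
  have triv : ∀ q, IsConj d' q → ∀ u ∈ U, u * q = q * u → u = 1 := fun q hq u hu hc => by
    by_contra u1
    obtain ⟨a, ha⟩ := IsPGroup.iff_orderOf.1 U2 ⟨u, hu⟩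
    rw [orderOf_mk] at ha
    have h2 : 2 ∣ orderOf u := ha ▸ dvd_pow_self 2 (by
      rintro rfl
      exact u1 (orderOf_eq_one_iff.1 ha))
    exact h.fpf k (orderOf_pow_orderOf_div (orderOf_pos u).ne' h2) (pow_mem (UC hu) _) hq
      ((Commute.pow_left hc _).symm :)
  obtain ⟨A, A9, hA⟩ := exists_nine k.od' k.og k.comm.symm fun c => k.gC (zpowers_le.2 k.dC c)
  have : IsMulCommutative A := IsPGroup.isMulCommutative_of_card_eq_prime_sq (p := 3) A9
  have cm : Commute d' g := k.comm.symm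
  obtain ⟨a, ha⟩ := IsPGroup.iff_card.1 U2
  have Ug : U ≤ C1 g := by
    refine Coprime.le_of_forall_centralizer_singleton (A := A) (fun c => ?_) (fun x hx => ?_)
      (by rw [A9, ha]; exact Nat.Coprime.pow_right a (by norm_num)) fun x hx x1 u hu => ?_
    · obtain ⟨⟨x, hx⟩, h1⟩ := IsCyclic.exists_ofOrder_eq_natCard (α := A)
      obtain ⟨i, -, j, -, rfl⟩ := (hA x).1 hx
      have := orderOf_dvd_of_pow_eq_one (x := d' ^ i * g ^ j) (n := 3) (by
        rw [(cm.pow_pow i j).mul_pow, ← pow_mul, ← pow_mul, mul_comm i, mul_comm j, pow_mul,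
          pow_mul, d3, g3, one_pow, one_pow, one_mul])
      rw [orderOf_mk, A9] at h1
      exact absurd (h1 ▸ this) (by norm_num)
    · obtain ⟨i, -, j, -, rfl⟩ := (hA x).1 hx
      exact UN (mul_mem (pow_mem (c_le_n v k.dC) i) (pow_mem k.gN j))
    · obtain ⟨i, hi, j, hj, rfl⟩ := (hA x).1 hx
      have c1 : Commute u (d' ^ i * g ^ j) := mem_c1.1 hu.2
      have c2 := c1.pow_right 2
      rw [(cm.pow_pow i j).mul_pow, ← pow_mul, ← pow_mul] at c2
      interval_cases i
      · interval_cases j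
        · simp at x1
        · exact mem_c1.2 (by simpa using c1.eq)
        · exact mem_c1.2 (by simpa [pow_succ g 3, g3] using c2.eq)
      · exact triv _ (k.other j) u hu.1 (by simpa using c1.eq) ▸ one_mem _
      · exact triv _ (k.other (j * 2)) u hu.1 (by simpa [pow_succ d' 3, d3] using c2.eq) ▸ one_mem _
  have h8 := card_dvd_of_le Ug
  have h9 := ncard_mod d3 (S := U) fun s hs =>
    (mem_normalizer_iff.1 (UN (c_le_n v k.dC)) s).1 hs
  rw [show {s ∈ (U : Set G) | d' * s = s * d'} = {1} from Set.eq_singleton_iff_unique_mem.2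
    ⟨⟨one_mem U, by simp⟩, fun s hs => triv _ (IsConj.refl _) s hs.1 hs.2.symm⟩,
    Set.ncard_singleton, ← Nat.card_coe_set_eq] at h9
  change Nat.card U ≡ 1 [MOD 3] at h9
  rw [h.c1080 k.conj, ha] at h8
  have a4 : a < 4 := by
    by_contra c
    exact absurd ((pow_dvd_pow 2 (not_lt.1 c)).trans h8) (by norm_num)
  have U4 : Nat.card U ≤ 4 := by
    rw [ha] at h9 ⊢
    unfold Nat.ModEq at h9
    interval_cases a <;> omega
  have f1 := Nat.mul_le_mul (hb.trans (Nat.mul_le_mul_left 2 U4)) (Nat.le_of_dvd (by omega) i21)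
  have f2 := k.cN
  have f3 := k.hn
  have f4 := k.even
  rw [hm] at f1
  generalize Nat.card (C1 v) = c at f1 e2 f4 ⊢
  rw [f2] at e2
  rcases e4 with rfl | rfl <;> omega

end Cfsg.Lib.Spor.O24F
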