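import Cfsg.Agent.Spor.O24FS70

/-! The centralizer of an element of order 7 does not have order 168. -/

set_option autoImplicit false

namespace Cfsg.Lib.Spor.O24F

open Subgroup Cfsg.Lib.Spor.Mo Cfsg.Lib.Spor.O24 Cfsg.Lib.Known Cfsg.Lib.Solv S70

variable {G : Type*} [Group G] [Finite G] {d : G}

theorem E12.not24 {z v g d' : G} {n : ℕ} (h : E12 z d) (k : S7 d v g d' n) :
    Nat.card (C1 v) ≠ 7 * 24 := fun hc => by
  have : Fact (Nat.Prime 7) := ⟨Nat.prime_seven⟩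
  have : Fact (Nat.Prime 3) := ⟨Nat.prime_three⟩
  have : Fact (Nat.Prime 2) := ⟨Nat.prime_two⟩
  have d3 : d' ^ 3 = 1 := k.od' ▸ pow_orderOf_eq_one d'
  have fp : ∀ t, orderOf t = 2 → t ∈ C1 v → d' * t ≠ t * d' := fun t h1 h2 =>
    h.fpf k h1 h2 (IsConj.refl _)
  have inv : ∀ c ∈ C1 v, ∀ s ∈ cel v 2, c * s * c⁻¹ ∈ cel v 2 := fun c h1 s hs =>
    ⟨((MulAut.conj c).orderOf_eq s).trans hs.1,
      (mem_c1.1 (mul_mem (mul_mem h1 (mem_c1.2 hs.2.symm)) (inv_mem h1))).symm⟩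
  have i3 : (cel v 2).ncard = 3 := by
    have h1 := cnt_mod k.ov 2
    have h2 := ncard_mod d3 (inv d' k.dC)
    have h3 := sum_cel_le k.ov (by norm_num) hc {1, 2} (by simp)
    rw [show {s ∈ cel v 2 | d' * s = s * d'} = ∅ from Set.eq_empty_of_forall_notMem
      fun s hs => fp s hs.1.1 (mem_c1.2 hs.1.2.symm) hs.2, Set.ncard_empty] at h2
    rw [h.m2] at h1
    rw [Finset.sum_pair (by omega), cel_one] at h3
    unfold Nat.ModEq at h1 h2
    omega
  obtain ⟨m, h1, h2⟩ := syl_cnt k.od' (H := C1 v) (by rw [hc]; norm_num) k.dC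
  have h3 : 7 ∣ Nat.card (N1 d' ⊓ C1 v : Subgroup G) := k.ov ▸ orderOf_dvd_natCard _
    ⟨c_le_n d' (mem_c1.2 (mem_c1.1 k.dC).symm), mem_c1.2 rfl⟩
  have h4 : 3 ∣ Nat.card (N1 d' ⊓ C1 v : Subgroup G) := k.od' ▸ orderOf_dvd_natCard _
    ⟨c_le_n d' (mem_c1.2 rfl), k.dC⟩
  have h5 : 2 ∣ Nat.card (N1 d' ⊓ C1 v : Subgroup G) := by
    obtain ⟨a, ha⟩ := Nat.Coprime.mul_dvd_of_dvd_of_dvd (by norm_num) h3 h4
    rw [hc, ha] at h1
    have h6 : a * m = 8 := by linarith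
    have : m ≤ 8 := Nat.le_of_dvd (by omega) (Dvd.intro_left a h6)
    interval_cases m <;> omega
  obtain ⟨⟨t, tt⟩, ht⟩ := exists_prime_orderOf_dvd_card' 2 h5
  rw [orderOf_mk] at ht
  obtain ⟨tN, tC⟩ := mem_inf.1 tt
  have d1 : d' ≠ 1 := fun e => by simpa [e] using k.od'
  have pw : ∀ x ∈ N1 d', x * d' * x⁻¹ = d' ∨ x * d' * x⁻¹ = d'⁻¹ := fun x hx => by
    obtain ⟨i, hi⟩ := mem_powers_iff_mem_zpowers.2 (conj_mem hx)
    simp only at hi
    rw [← pow_mod_orderOf, k.od'] at hi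
    have : i % 3 < 3 := Nat.mod_lt _ (by omega)
    interval_cases i % 3
    · exact absurd (by simpa using hi.symm) d1
    · exact .inl (by simpa using hi.symm)
    · exact .inr (by rw [← hi, eq_inv_iff_mul_eq_one, ← pow_succ, d3])
  have td : t * d' * t⁻¹ = d'⁻¹ := (pw t tN).resolve_left fun e =>
    fp t ht tC (mul_inv_eq_iff_eq_mul.1 e).symm
  have di : d'⁻¹ = d' * d' := by rw [inv_eq_iff_mul_eq_one, ← mul_assoc, ← pow_three', d3]
  have tI : t ∈ cel v 2 := ⟨ht, (mem_c1.1 tC).symm⟩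
  have t1 : d'⁻¹ * t ∈ cel v 2 := by
    have := inv d' k.dC t tI
    rwa [show d' * t * d'⁻¹ = d' * (t * d' * t⁻¹)⁻¹ * t by group, td, inv_inv, ← di] at this
  have t2 : d' * t ∈ cel v 2 := by
    have := inv d'⁻¹ (inv_mem k.dC) t tI
    rwa [show d'⁻¹ * t * d'⁻¹⁻¹ = d'⁻¹ * (t * d' * t⁻¹) * t by group, td, ← mul_inv_rev, ← di,
      inv_inv] at this
  have dd : d'⁻¹ ≠ d' := fun e => d1 (by rwa [di, mul_eq_left] at e)
  have eI : ({t, d' * t, d'⁻¹ * t} : Set G) = cel v 2 :=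
    Set.eq_of_subset_of_ncard_le (by simp [Set.insert_subset_iff, tI, t1, t2]) (by
      rw [i3, Set.ncard_eq_three.2 ⟨_, _, _, by simpa using d1, by simpa using d1,
        by simpa using dd.symm, rfl⟩])
  have mem : ∀ s ∈ cel v 2, s * t⁻¹ ∈ zpowers d' := fun s hs => by
    rw [← eI] at hs
    rcases hs with rfl | rfl | rfl <;> simp
  have le : C1 v ≤ N1 d' := fun c h6 => by
    refine mem_normalizer_fintype ?_
    rintro _ ⟨i, rfl⟩
    have := mul_mem (mem _ (inv c h6 _ t2)) (inv_mem (mem _ (inv c h6 _ tI)))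
    rw [show c * (d' * t) * c⁻¹ * t⁻¹ * (c * t * c⁻¹ * t⁻¹)⁻¹ = c * d' * c⁻¹ by group] at this
    simp only [← conj_zpow]
    exact zpow_mem this i
  have h7 := (rel_le (H := C1 v) (t := d') (X := {d', d'⁻¹}) fun c h6 => pw c (le h6)).trans
    ((Set.ncard_insert_le _ _).trans (by rw [Set.ncard_singleton]))
  have h8 := card_rel (C1 d') (C1 v)
  have h9 : 2 ∣ Nat.card (C1 d' ⊓ C1 v : Subgroup G) := by
    rw [hc] at h8
    generalize (C1 d').relIndex (C1 v) = r at h7 h8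
    interval_cases r <;> omega
  obtain ⟨⟨s, s1⟩, hs⟩ := exists_prime_orderOf_dvd_card' 2 h9
  exact fp s ((orderOf_mk s _).symm.trans hs) s1.2 (mem_c1.1 s1.1).symm

end Cfsg.Lib.Spor.O24F
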