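import Cfsg.Agent.Spor.O24FGen
import Cfsg.Agent.Spor.O24FCong0

/-!
The possible values on an involution of the characters of degrees 252 and 5544.
-/

set_option autoImplicit false

namespace Cfsg.Lib.Spor.O24F

open Subgroup Cfsg.Lib.Spor.Mo Cfsg.Lib.PrimeOne Cfsg.Lib.Block.Princ
open Cfsg.Lib.Spor.O7920 (instFact11 instFact5)
open Cfsg.Lib.Spor.O10200960 (instFact23)
open Cfsg.Lib.Spor.O24 (R D ord)

variable {G : Type*} [Group G] [Finite G]
variable {c : ℕ} {α β χ ψ ξ : IrrCharacter G} {d y : G}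

namespace Tab

def xiB (C : ℕ) (p a b x : ℤ) : Bool :=
  C < 1 + (p - x).natAbs ^ 2 + p.natAbs ^ 2 + a.natAbs ^ 2 + b.natAbs ^ 2 + x.natAbs ^ 2 ||
    (C % 3 == 0 && (x - (p - x)) % 3 != 0) ||
    (C % 9 == 0 && ((252 - (p - x)) % 18 != 0 || (5544 - x) % 18 != 0)) ||
    (C % 27 == 0 && ((252 - (p - x)) % 54 != 0 || (5544 - x) % 54 != 0))

def xiBad (C : ℕ) (A : List ℤ) : Bool := xiB C (A.getD 0 0) (A.getD 1 0) (A.getD 2 0) (A.getD 3 0)

theorem num192 : colAllF 244823040 5 63756 4 D [1771, -2024, -5544]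
    (fun C => C % 11 != 0 && C % 23 != 0 && [256, 768].any fun j => C % (5 * j) == 0 &&
      C / (5 * j) % 5 == 1)
    (fun C A => xiBad C A || T192.contains (C, A.getD 0 0 - A.getD 3 0, A.getD 3 0)) = true := by
  decide +kernel

theorem num12 : colAllF 244823040 5 1020096 4 D [1771, -2024, -5544]
    (fun C => C % 11 != 0 && C % 23 != 0)
    (fun C A => xiBad C A || momBad 244823040 12 1 (244823040 / C) 1 (zp [1771, -2024, -5544] A) ||
      (List.range 5).all fun m => (((244823040 / C) ^ 2 * 1 : ℕ) : ℤ) * (244823040 +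
        quaS 244823040 (rows 1 [1771, -2024, -5544]) A) !=
          (244823040 * 1020096 * (5 - 1) * 5 ^ 2 * m ^ 2 : ℕ) ||
        T12.contains (C, A.getD 0 0 - A.getD 3 0, 5 * m)) = true := by
  decide +kernel

theorem not_xiBad (h : Jt c α β χ ψ ξ d y) {s : G} (hs : orderOf s = 2)
    (hc : (9 ∣ Nat.card (C1 s) → 18 ∣ 252 - iv ξ s ∧ 18 ∣ 5544 - iv χ s) ∧
      (27 ∣ Nat.card (C1 s) → 54 ∣ 252 - iv ξ s ∧ 54 ∣ 5544 - iv χ s)) :
    ¬ xiBad (Nat.card (C1 s)) ([ψ, α, β, χ].map (iv · s)) = true := by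
  classical
  obtain ⟨dα, dβ, dχ, dψ⟩ := h.degs
  obtain ⟨h1, h2, -⟩ := h.cong0 hs
  have h3 := sum_iv_le [triv G, ξ, ψ, α, β, χ].toFinset hs
  rw [List.sum_toFinset _ (nodup_of_deg (by simp [dα, dβ, dχ, dψ, h.dξ, deg_triv]))] at h3
  simp only [List.map_cons, List.sum_cons, List.map_nil, List.sum_nil,
    iv_eq (χ := triv G) (g := s) (a := 1) (by simp), Int.natAbs_one, one_pow] at h3
  change ¬ xiB _ (iv ψ s) (iv α s) (iv β s) (iv χ s) = true
  simp only [xiB, ← h1, Bool.or_eq_true, Bool.and_eq_true, decide_eq_true_eq, beq_iff_eq,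
    bne_iff_ne, ← Nat.dvd_iff_mod_eq_zero, ne_eq, ← Int.dvd_iff_emod_eq_zero]
  rintro (((h4 | h4) | h4) | h4)
  · exact absurd h3 (by simp only [C1] at h4; omega)
  · exact h4.2 (h2 h4.1)
  · exact h4.2.elim (· (hc.1 h4.1).1) (· (hc.1 h4.1).2)
  · exact h4.2.elim (· (hc.2 h4.1).1) (· (hc.2 h4.1).2)

theorem cent (h : B5 c α β χ ψ) {s : G} (hs : orderOf s = 2) :
    (Nat.card (C1 s) % 11 != 0 && Nat.card (C1 s) % 23 != 0) = true := by
  have := h.cent (g := s) (by rintro rfl; simp at hs) (by omega) (by omega)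
  simpa [Nat.dvd_iff_mod_eq_zero] using this

end Tab

open Tab

theorem Jt.tab12 [IsSimpleGroup G] (h : Jt 12 α β χ ψ ξ d y)
    (hc : ∀ s : G, orderOf s = 2 → (9 ∣ Nat.card (C1 s) → 18 ∣ 252 - iv ξ s ∧ 18 ∣ 5544 - iv χ s) ∧
      (27 ∣ Nat.card (C1 s) → 54 ∣ 252 - iv ξ s ∧ 54 ∣ 5544 - iv χ s))
    (hi : {a : G | a * a = 1 ∧ a * y * a⁻¹ = y⁻¹}.ncard ≤ 20) : Tab12 ξ y := fun s hs => by
  have hn : ¬ IsMulCommutative G := not_comm_of_not_prime (by rw [h.card]; norm_num)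
  obtain ⟨M, δ, k, hl⟩ := h.blk
  obtain rfl : M = 1020096 := by have := k.card_group; have := h.card; omega
  have h1 := k.colAllF hn (by norm_num) h.card ord hs (Tab.cent h.toB5 hs) (hl ▸ num12)
  obtain ⟨m, -, h2, h3⟩ := qua_inv k (by norm_num) hs h.oy
  have h4 : (Inv s y).ncard ≤ 20 := (Set.ncard_le_ncard fun a ha => And.intro (by
    obtain ⟨g, rfl⟩ := isConj_iff.1 ha.1
    rw [conj_mul, ← sq, ← hs, pow_orderOf_eq_one, mul_one, mul_inv_cancel]) ha.2).trans hi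
  have h5 := k.not_momBad_inv (by norm_num) hs h.card
  have h6 : 244823040 / Nat.card (C1 s) = (C1 s).index := by
    rw [← h.card, ← card_mul_index (C1 s), Nat.mul_div_cancel_left _ Nat.card_pos]
  rw [Bool.or_eq_true, Bool.or_eq_true, List.all_eq_true] at h1
  have h7 := (h1.resolve_left fun h1 => h1.elim (not_xiBad h hs (hc s hs)) h5) m
    (List.mem_range.2 (by omega))
  rw [h6, Bool.or_eq_true, bne_iff_ne, List.contains_iff_mem] at h7
  rw [h.card] at h3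
  rw [h2, (h.cong0 hs).1]
  exact h7.resolve_left (· h3)

theorem Jt.tab192 [IsSimpleGroup G] (h : Jt 192 α β χ ψ ξ d y)
    (hc : ∀ s : G, orderOf s = 2 → (9 ∣ Nat.card (C1 s) → 18 ∣ 252 - iv ξ s ∧ 18 ∣ 5544 - iv χ s) ∧
      (27 ∣ Nat.card (C1 s) → 54 ∣ 252 - iv ξ s ∧ 54 ∣ 5544 - iv χ s)) : Tab192 ξ χ y :=
  fun s hs h1 h2 => by
  have hn : ¬ IsMulCommutative G := not_comm_of_not_prime (by rw [h.card]; norm_num)
  obtain ⟨M, δ, k, hl⟩ := h.blk
  obtain rfl : M = 63756 := by have := k.card_group; have := h.card; omega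
  obtain ⟨j, i, h3, h4, h5, h6, -⟩ := syl k h.oy (by rintro rfl; simp at hs)
    (by rw [hs]; norm_num) h1
  have h7 : j ∈ [256, 768] := by
    have := Nat.le_of_dvd (by norm_num) h4
    obtain ⟨u, rfl⟩ : 256 ∣ j := by omega
    have : u ≤ 3 := by omega
    interval_cases u <;> simp at h4 ⊢
  have h8 := k.colAllF hn (by norm_num) h.card ord hs (by
    rw [Tab.cent h.toB5 hs, Bool.true_and, List.any_eq_true]
    refine ⟨j, h7, ?_⟩
    have : 0 < 5 * j := by simp at h7; omega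
    rw [show Nat.card (centralizer {s} : Subgroup G) = _ from h5, Nat.mul_mod_right,
      Nat.mul_div_cancel_left _ this, h6]
    rfl) (hl ▸ num192)
  rw [Bool.or_eq_true, List.contains_iff_mem] at h8
  rw [(h.cong0 hs).1]
  exact h8.resolve_left (not_xiBad h hs (hc s hs))

end Cfsg.Lib.Spor.O24F
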