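import Cfsg.Agent.Spor.O24FDefs
import Cfsg.Agent.Spor.O24Cnt

/-!
A simple group of order 244823040: the two classes of involutions.
-/

set_option autoImplicit false

namespace Cfsg.Lib.Spor.O24F

open Subgroup Cfsg.Lib.Spor.Mo Cfsg.Lib.PrimeOne Cfsg.Lib.Block.Princ Cfsg.Lib.Trans
open Cfsg.Lib.Spor.O7920 (instFact11 instFact5)
open Cfsg.Lib.Spor.O10200960 (instFact23)

variable {G : Type*} [Group G] [Finite G]
variable {c : ℕ} {α β χ ψ ξ : IrrCharacter G} {d y : G} {T : Subgroup G}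

omit [Finite G] in
theorem card_C1_conj {a b : G} (h : IsConj a b) : Nat.card (C1 a) = Nat.card (C1 b) := by
  obtain ⟨g, rfl⟩ := isConj_iff.1 h
  rw [← card_cj g, cj_centralizer_set, Set.image_singleton]

theorem L5.exists_two (h : L5 12 y T) (ht : Tab12 ξ y)
    (hi : {a : G | a * a = 1 ∧ a * y * a⁻¹ = y⁻¹}.ncard ≤ 20) : ∃ s z, Two ξ s z := by
  have cT := h.cT
  obtain ⟨⟨s, hs⟩, os⟩ := exists_prime_orderOf_dvd_card' (G := T) 2 (by omega)
  rw [orderOf_mk] at os
  have h5 : 5 ∣ Nat.card (C1 s) := h.oy ▸ orderOf_dvd_natCard _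
    (mem_centralizer_singleton_iff.2 (mem_centralizer_singleton_iff.1 (h.le hs)).symm)
  obtain ⟨z, oz, hz⟩ := exists_central_inv (G := G) (by rw [h.card]; norm_num)
  have idx : ∀ a : G, Nat.card (C1 a) * (C1 a).index = 244823040 := fun a =>
    h.card ▸ card_mul_index _
  have sub : ∀ a : G, orderOf a = 2 → Inv a y ⊆ {a : G | a * a = 1 ∧ a * y * a⁻¹ = y⁻¹} := by
    rintro a oa b ⟨h1, h2⟩
    obtain ⟨g, rfl⟩ := isConj_iff.1 h1
    exact ⟨by rw [← pow_two, conj_pow, ← oa, pow_orderOf_eq_one]; group, h2⟩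
  have dj : ∀ a b : G, ¬ IsConj a b → Disjoint (Inv a y) (Inv b y) := fun a b e =>
    Set.disjoint_left.2 fun u h1 h2 => e (h1.1.trans h2.1.symm)
  have ts := ht s os
  have tz := ht z oz
  have iz := idx z
  simp only [T12, List.mem_cons, Prod.mk.injEq, List.not_mem_nil, or_false] at ts tz
  have cs : Nat.card (C1 s) = 7680 ∧ (Inv s y).ncard = 15 := by omega
  have cz : Nat.card (C1 z) = 7168 ∨ Nat.card (C1 z) = 21504 := by
    change ¬ 2 ∣ (C1 z).index at hz
    rcases tz with a | a | a | a | a | a <;> rw [a.1] at iz <;> omega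
  have sz : ¬ IsConj s z := fun e => by have := card_C1_conj e; omega
  have u2 := (Set.ncard_le_ncard (Set.union_subset (sub s os) (sub z oz))).trans hi
  rw [Set.ncard_union_eq (dj s z sz)] at u2
  have cz' : Nat.card (C1 z) = 21504 ∧ iv ξ z = 28 ∧ (Inv z y).ncard = 5 := by omega
  have two : ∀ i, orderOf i = 2 → IsConj s i ∨ IsConj z i := fun i oi => by
    by_contra hn
    rw [not_or] at hn
    have ti := ht i oi
    simp only [T12, List.mem_cons, Prod.mk.injEq, List.not_mem_nil, or_false] at ti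
    have u3 := (Set.ncard_le_ncard
      (Set.union_subset (Set.union_subset (sub s os) (sub z oz)) (sub i oi))).trans hi
    rw [Set.ncard_union_eq (Set.disjoint_union_left.2 ⟨dj s i hn.1, dj z i hn.2⟩),
      Set.ncard_union_eq (dj s z sz)] at u3
    omega
  refine ⟨s, z, os, oz, cs.1, cz'.1, two, cz'.2.1, ?_⟩
  have oc : ∀ {a b : G}, IsConj a b → orderOf a = 2 → orderOf b = 2 := fun e o => by
    obtain ⟨g, rfl⟩ := isConj_iff.1 e
    exact ((MulAut.conj g).orderOf_eq _).trans o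
  have e : {g : G | orderOf g = 2} = {g | IsConj s g} ∪ {g | IsConj z g} :=
    Set.ext fun g => ⟨two g, fun a => a.elim (oc · os) (oc · oz)⟩
  have dj2 : Disjoint {g | IsConj s g} {g | IsConj z g} :=
    Set.disjoint_left.2 fun u h1 h2 => sz (IsConj.trans h1 (IsConj.symm h2))
  rw [e, Set.ncard_union_eq dj2, O24.ncard_cls, O24.ncard_cls]
  have i1 := idx s
  rw [cs.1] at i1
  rw [cz'.1] at iz
  change (C1 s).index + (C1 z).index = _
  omega

end Cfsg.Lib.Spor.O24F
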