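import Cfsg.Agent.Spor.O24FS7a
import Cfsg.Agent.Spor.O24FS7b
import Cfsg.Agent.Spor.O24FS7c
import Cfsg.Agent.Spor.O24FL5
import Cfsg.Agent.Spor.O24FInv
import Cfsg.Agent.Spor.O24FE2
import Cfsg.Agent.Spor.O24FHd
import Cfsg.Agent.Spor.O24FCong
import Cfsg.Agent.Spor.O24FCong0
import Cfsg.Agent.Spor.O24FKa
import Cfsg.Agent.Spor.O24FKb
import Cfsg.Agent.Spor.O24FTwo
import Cfsg.Agent.Spor.O24FA4
import Cfsg.Agent.Spor.O24FTab
import Cfsg.Agent.Spor.O24FD3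

/-! A simple group of order 244823040 with the 3-block of degrees 252, 5544, 5796. -/

set_option autoImplicit false

namespace Cfsg.Lib.Spor.O24F

open Subgroup Cfsg.Lib.Spor.Mo Cfsg.Lib.Spor.O24 Cfsg.Lib.PrimeOne Cfsg.Lib.Known Cfsg.Lib.Solv S70
open Cfsg.Lib.Spor.O7920 (instFact11 instFact5)
open Cfsg.Lib.Spor.O10200960 (instFact23)

variable {G : Type*} [Group G] [Finite G]
variable {c : ℕ} {α β χ ψ ξ : IrrCharacter G} {d y : G}

theorem E12.n7 {z : G} (h : E12 z d) : Nat.card (Sylow 7 G) = 1943040 := by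
  have : Fact (Nat.Prime 7) := ⟨Nat.prime_seven⟩
  obtain ⟨v, g, d', n, k⟩ := h.exists_S7
  obtain rfl := (h.exists_U k).resolve_right fun c => h.not24 k c.2
  obtain ⟨M, e, c, t, L, Y, θ, δ, ε, b⟩ := exists_blk (G := G) (p := 7) (by rw [h.card]; norm_num)
    (by rw [h.card]; norm_num)
  have h1 := (b.card_norm k.ov).symm.trans k.cN
  have h2 := b.card_group
  rw [h.card, show 7 * M * e * c = M * (7 * e * c) by ring, h1] at h2
  rw [b.num]
  omega

theorem Jt.equiv [IsSimpleGroup G] (h : Jt c α β χ ψ ξ d y) : Nonempty (G ≃* M24) := by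
  obtain ⟨T, hT⟩ := h.exists_L5
  have he := hT.e_two h.od h.comm h.real
  obtain ⟨θ, η, η', h1, h2, h3, h4⟩ := h.exists_HD he
  have hc := fun s (hs : orderOf s = 2) => h.cong h1 h2 h3 hs
  rcases h.hc with rfl | rfl
  swap
  · have ht := h.tab192 hc
    obtain ⟨z, k1, k2, k3, k4, k5, k6⟩ := hT.exists_z ht
    exact (hT.not192 ht h.dξ h.degs.2.2.1 k1 k2 k3 k4 k5 k6).elim
  have hi : {a : G | a * a = 1 ∧ a * y * a⁻¹ = y⁻¹}.ncard ≤ 20 := by
    have := hT.inv_le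
    omega
  obtain ⟨s, z, k⟩ := hT.exists_two (h.tab12 hc hi) hi
  obtain ⟨m3, h5⟩ := hT.a4 k
  have h9 : (χ : G → ℂ) d = 9 := by
    have h6 := h1.val ⟨d, mem_c1.2 rfl⟩ (mem_zpowers d)
    rw [h1.ker 1 ⟨d, mem_c1.2 rfl⟩ (by simp), ← deg_cast, h2.dθ] at h6
    simpa using h6
  have cd : Nat.card (C1 d) = 1080 := by
    obtain ⟨r, hr, r1⟩ := sylow_cnt h.oy (by rw [h.card]; norm_num) (H := C1 d)
      (mem_c1.2 h.comm.symm)
    rw [he, h5 d h.od h.comm] at hr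
    have h6 := h.not17280 h9
    have h7 : r ∣ 576 := Nat.dvd_of_mul_dvd_mul_left (by norm_num : 0 < 2 * 15) (hr ▸ h3)
    have h8 := (by decide +kernel : ∀ r ∈ Nat.divisors 576, r % 5 = 1 → 27 ∣ 2 * 15 * r →
      r = 36 ∨ r = 576) r (Nat.mem_divisors.2 ⟨h7, by norm_num⟩) r1 (hr ▸ h4)
    omega
  have hE : E12 z d := ⟨h.card, k.oz, h.od, k.cz, cd, fun t ht h7 => (k.two t ht).resolve_left
    fun c => by rw [← SC.card_centralizer_eq_of_isConj c, k.cs] at h7; omega,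
    fun g hg c => by_contra fun n => by have := (h.cong0 k.oz).2.2.1 g hg c n; rw [k.vz] at this; omega,
    (h.cong0 k.oz).2.2.2, fun g hg => h.cent (by rintro rfl; simp at hg) (by omega) (by omega),
    fun v hv h5 => by
      obtain ⟨⟨u, uv⟩, hu⟩ := exists_prime_orderOf_dvd_card' 5 h5
      have := dvd_c hv (mem_c1.1 uv).symm
      rw [h.cC ((orderOf_mk u uv).symm.trans hu)] at this
      omega, k.m2⟩
  obtain ⟨M, δ, b, -⟩ := h.blk
  have h6 := b.card_group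
  exact equiv_of_counts h.card h.s23 h.s11 (by rw [b.num]; rw [h.card] at h6; omega) hE.n7 k.m2 m3

end Cfsg.Lib.Spor.O24F
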