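import Cfsg.Agent.Spor.O24FPre

/-!
The principal 5-block with degrees 1, 1771, 2024, 5544, 5796 and an element of order 165.
-/

set_option autoImplicit false

namespace Cfsg.Lib.Spor.O24F

open Subgroup Cfsg.Lib.Spor.Mo Cfsg.Lib.PrimeOne Cfsg.Lib.Spor.O24 Cfsg.Lib.Known
open Cfsg.Lib.Spor.CKit Cfsg.Lib.Block.Princ
open Cfsg.Lib.Spor.O7920 (instFact11 instFact5)

/-- The possible values on an element of order 3. -/
def cd3 (C d : ℕ) : List ℤ :=
  optsAux (fun a => (a - d) % 15 == 0 && (244823040 / C : ℕ) * a % d == 0) 11 150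

theorem dcol : (D.all fun C => C % 23 == 0 ||
    ([15, 30].all fun j => C % (11 * j) != 0 || C / (11 * j) % 11 != 1) ||
    (C ≤ 2700000 && (cd3 C 1771).all fun a => (cd3 C 2024).all fun b => (cd3 C 5544).all fun x =>
      (244823040 / C : ℕ) * (b + x - a - 1) % 5796 != 0 ||
        C < a ^ 2 + b ^ 2 + x ^ 2 + (b + x - a - 1) ^ 2)) = true := by
  decide +kernel

variable {G : Type*} [Group G] [Finite G] {M e c t : ℕ} {L : List (IrrCharacter G)}
  {Y : Finset (IrrCharacter G)} {θ : IrrCharacter G} {δ : IrrCharacter G → ℤ} {ε : ℤ}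

theorem exists_B0 (h : Blk 5 M 4 c t L Y θ δ ε) (hl : sd δ L = [1771, -2024, -5544]) :
    t = 1 ∧ Y = {θ} ∧ ε = -1 ∧ ∃ α β χ, L = [α, β, χ] := by
  have h1 : t = 1 := by have := h.card_eq; omega
  refine ⟨h1, ?_, ?_, ?_⟩
  · obtain ⟨a, ha⟩ := Finset.card_eq_one.1 (h.card_Y.trans h1)
    have h2 := h.mem
    rw [ha, Finset.mem_singleton] at h2
    rw [ha, h2]
  · have h2 := h.deg_rel
    rw [hl] at h2
    rcases h.sign with rfl | rfl
    · simp at h2
    · rfl
  · exact List.length_eq_three.1 (by simpa [sd] using congrArg List.length hl)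

theorem val_three {α β χ ψ : IrrCharacter G} (h : Blk 5 M 4 c 1 [α, β, χ] {ψ} ψ δ (-1))
    (dψ : deg ψ = 5796) (dα : deg α = 1771) (dβ : deg β = 2024) (dχ : deg χ = 5544)
    (hG : Nat.card G = 244823040) {d y w : G} (od : orderOf d = 3) (oy : orderOf y = 5)
    (ow : orderOf w = 11) (h1 : d * y = y * d) (h2 : d * w = w * d)
    (h7 : Nat.card (C1 d) ≤ 2700000) {φ : IrrCharacter G} (hφ : φ ∈ [α, β, χ])
    (h11 : 11 ∣ deg φ) : ∃ a : ℤ, (φ : G → ℂ) d = a ∧ a ∈ cd3 (Nat.card (C1 d)) (deg φ) := by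
  have hK : 244823040 / Nat.card (C1 d) = (C1 d).index := by
    rw [← hG, ← card_mul_index (C1 d), Nat.mul_div_cancel_left _ Nat.card_pos]
  obtain ⟨v1, v2, -, v3⟩ := h.val hφ
  have h9 : cj φ = φ := by
    have h9 : deg (cj φ) = deg φ := dg_cj φ
    have h10 := h.mem_of_val (χ := cj φ) (σ := δ φ) (fun e => by
      rw [e, deg_triv] at h9; omega) (by omega) fun g hg => v3 _ (by rwa [orderOf_inv])
    simp only [List.mem_cons, List.not_mem_nil, or_false, Finset.mem_singleton] at h10 hφ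
    rcases h10 with (e | e | e) | e <;> rcases hφ with rfl | rfl | rfl <;>
      first | exact e | (rw [e] at h9; omega)
  obtain ⟨a, ha, h10⟩ := exists_val_three od φ (by rw [← cj_apply, h9])
  have h12 := dvd_val_sub oy (by rw [od]; norm_num) h1 φ ha v3
  have h13 := (h.modEq hφ).dvd
  obtain ⟨m, hm⟩ := deg_dvd_card φ
  obtain ⟨i, hi⟩ := cong_mul ow h2 φ ha (b := 0) fun u hu hu1 => by
    rw [Int.cast_zero]
    refine apply_eq_zero φ (p := 11) (by norm_num) rfl hm (fun h14 => ?_) ?_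
    · have h15 := Nat.mul_dvd_mul h11 h14
      rw [← hm, hG] at h15
      omega
    · have h14 := Cfsg.Lib.Block.PS.orderOf_eq_of_card (p := 11) (by rw [Nat.card_zpowers, ow]) hu hu1
      obtain ⟨k, rfl⟩ := hu
      rw [((show Commute d w from h2).zpow_right k).orderOf_mul_eq_mul_orderOf_of_coprime
        (by simp only at h14; rw [od, h14]; norm_num), h14]
      exact dvd_mul_left _ _
  have h14 := sum_normSq_le {φ} d
  rw [Finset.sum_singleton, ha, Complex.norm_intCast, sq_abs] at h14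
  norm_cast at h14
  refine ⟨a, ha, mem_optsAux (j := i.natAbs) ?_ (by omega) ?_⟩
  · have h15 := Int.emod_eq_zero_of_dvd (dg_dvd_index_mul φ ha)
    simp only [hK, Bool.and_eq_true, beq_iff_eq]
    exact ⟨by omega, h15⟩
  · have h15 : a ^ 2 < 1650 ^ 2 := (h14.trans (Int.ofNat_le.2 h7)).trans_lt (by norm_num)
    have h16 := abs_lt_of_sq_lt_sq' h15 (by norm_num)
    omega

theorem four_dvd {α β χ ψ : IrrCharacter G} (h : Blk 5 M 4 c 1 [α, β, χ] {ψ} ψ δ (-1))
    (hl : sd δ [α, β, χ] = [1771, -2024, -5544]) (hG : Nat.card G = 244823040) {d y w : G}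
    (od : orderOf d = 3) (oy : orderOf y = 5) (ow : orderOf w = 11) (h1 : d * y = y * d)
    (h2 : d * w = w * d) (h3 : ¬ 23 ∣ Nat.card (C1 d)) {j k : ℕ}
    (h4 : Nat.card (C1 d) = 11 * j * k) (h5 : k % 11 = 1) : ¬ (j = 15 ∨ j = 30) := fun h6 => by
  classical
  have d0 := h.map_natAbs
  rw [hl] at d0
  obtain ⟨dψ, dα, dβ, dχ⟩ : deg ψ = 5796 ∧ deg α = 1771 ∧ deg β = 2024 ∧ deg χ = 5544 := by
    simp at d0; omega
  obtain ⟨s1, s2, s3⟩ : δ α = 1 ∧ δ β = -1 ∧ δ χ = -1 := by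
    simp only [sd, List.map_cons, List.map_nil, dα, dβ, dχ, List.cons.injEq] at hl
    omega
  have hK : 244823040 / Nat.card (C1 d) = (C1 d).index := by
    rw [← hG, ← card_mul_index (C1 d), Nat.mul_div_cancel_left _ Nat.card_pos]
  have h7 := List.all_eq_true.1 dcol _ (ord.dvd _ (hG ▸ card_subgroup_dvd_card (C1 d)))
  simp only [Bool.or_eq_true, beq_iff_eq, List.all_eq_true, bne_iff_ne, Bool.and_eq_true,
    decide_eq_true_eq, hK] at h7
  obtain ⟨h7, h8⟩ := h7.resolve_left (not_or.2 ⟨mt Nat.dvd_of_mod_eq_zero h3, fun h7 => by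
    have h8 := h7 j (by simpa using h6)
    rw [h4, Nat.mul_mod_right, Nat.mul_div_cancel_left _ (by omega)] at h8
    omega⟩)
  have nrm : ∀ {φ : IrrCharacter G} {a : ℤ}, (φ : G → ℂ) d = a → ‖(φ : G → ℂ) d‖ ^ 2 = (a ^ 2 : ℤ) :=
    fun ha => by rw [ha, Complex.norm_intCast, sq_abs, Int.cast_pow]
  have key := fun φ => val_three h dψ dα dβ dχ hG od oy ow h1 h2 h7 (φ := φ)
  obtain ⟨a, ha, a1⟩ := key α (by simp) (by omega)
  obtain ⟨b, hb, b1⟩ := key β (by simp) (by omega)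
  obtain ⟨x, hx, x1⟩ := key χ (by simp) (by omega)
  have hp : (ψ : G → ℂ) d = (b + x - a - 1 : ℤ) := by
    have h9 := h.rel (g := d) (by rw [od]; norm_num)
    simp only [List.map_cons, List.map_nil, List.sum_cons, List.sum_nil, s1, s2, s3, ha, hb,
      hx] at h9
    push_cast at h9 ⊢
    linear_combination -h9
  have ne : ∀ {φ φ' : IrrCharacter G}, deg φ ≠ deg φ' → φ ≠ φ' := fun h e => h (e ▸ rfl)
  have h9 := sum_normSq_le {α, β, χ, ψ} d
  rw [Finset.sum_insert (by simp [ne, dψ, dα, dβ, dχ]),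
    Finset.sum_insert (by simp [ne, dψ, dβ, dχ]),
    Finset.sum_pair (ne (by omega)), nrm ha, nrm hb, nrm hx, nrm hp] at h9
  norm_cast at h9
  rcases h8 a (dα ▸ a1) b (dβ ▸ b1) x (dχ ▸ x1) with h10 | h10
  · have h11 := dg_dvd_index_mul ψ hp
    rw [show dg ψ = 5796 from dψ] at h11
    exact h10 (Int.emod_eq_zero_of_dvd h11)
  · exact h10.not_ge (by linarith)

end Cfsg.Lib.Spor.O24F
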