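import Cfsg.Agent.Spor.O24FN11

/-!
No involution commutes with an element of order 11.
-/

set_option autoImplicit false

namespace Cfsg.Lib.Spor.O24F

theorem s11_0 : ((T11.drop 0).take 4).all n11 = true := by
  decide +kernel

theorem s11_4 : ((T11.drop 4).take 4).all n11 = true := by
  decide +kernel

theorem s11_8 : ((T11.drop 8).take 16).all n11 = true := by
  decide +kernel

theorem s11_24 : ((T11.drop 24).take 14).all n11 = true := by
  decide +kernel

theorem s11_38 : ((T11.drop 38).take 13).all n11 = true := by
  decide +kernel

theorem s11_51 : ((T11.drop 51).take 10).all n11 = true := by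
  decide +kernel

theorem s11_61 : ((T11.drop 61).take 9).all n11 = true := by
  decide +kernel

theorem s11_70 : ((T11.drop 70).take 70).all n11 = true := by
  decide +kernel

theorem s11 : (T11.drop 0).all n11 = true :=
  all_step s11_0 <| all_step s11_4 <| all_step s11_8 <| all_step s11_24 <| all_step s11_38 <|
  all_step s11_51 <| all_step s11_61 <| all_step s11_70 <| rfl

end Cfsg.Lib.Spor.O24F
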