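import Cfsg.Agent.Spor.O24FN11

/-!
Involutions that commute with a subgroup of order 55.
-/

set_option autoImplicit false

namespace Cfsg.Lib.Spor.O24F

theorem s55_0 : ((T5.drop 0).take 40).all n55 = true := by
  decide +kernel

theorem s55_40 : ((T5.drop 40).take 20).all n55 = true := by
  decide +kernel

theorem s55_60 : ((T5.drop 60).take 36).all n55 = true := by
  decide +kernel

theorem s55_96 : ((T5.drop 96).take 52).all n55 = true := by
  decide +kernel

theorem s55 : (T5.drop 0).all n55 = true :=
  all_step s55_0 <| all_step s55_40 <| all_step s55_60 <| all_step s55_96 <| rfl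

end Cfsg.Lib.Spor.O24F
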