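import Cfsg.Agent.Spor.O24FSc23
import Cfsg.Agent.Spor.O24FB0
import Cfsg.Agent.Spor.O24FS11
import Cfsg.Agent.Spor.O24FS55

/-!
A Sylow 11-subgroup of a simple group of order 244823040 is self-centralizing, and the degrees in
the principal 5-block.
-/

set_option autoImplicit false

namespace Cfsg.Lib.Spor.O24F

open Subgroup Cfsg.Lib.Spor.Mo Cfsg.Lib.PrimeOne Cfsg.Lib.Spor.O24 Cfsg.Lib.Known
open Cfsg.Lib.Spor.O7920 (instFact11 instFact5)
open Cfsg.Lib.Spor.O10200960 (instFact23)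

theorem opt11 : ∀ r ∈ T11, (r.1, 244823040 / (11 * r.1 * 5)) ∈
    [(15456, 288), (185472, 24), (2225664, 2)] := by
  decide +kernel

theorem no30 : sylB 11 10 12 380160 30 D = false ∧ sylB 11 10 12 760320 30 D = false := by
  decide +kernel

variable {G : Type*} [Group G] [Finite G]

theorem dvd3 {H : Subgroup G} {x y z : G} {a b c : ℕ} (hx : orderOf x = a) (hy : orderOf y = b)
    (hz : orderOf z = c) (h1 : x ∈ H) (h2 : y ∈ H) (h3 : z ∈ H) (h4 : a.Coprime (b * c))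
    (h5 : b.Coprime c) : a * (b * c) ∣ Nat.card H :=
  h4.mul_dvd_of_dvd_of_dvd (ord_dvd hx h1) (h5.mul_dvd_of_dvd_of_dvd (ord_dvd hy h2) (ord_dvd hz h3))

variable [IsSimpleGroup G] (hG : Nat.card G = 244823040) (hS : SelfC G 23 11)
  {M e c t : ℕ} {L : List (IrrCharacter G)} {Y : Finset (IrrCharacter G)} {θ : IrrCharacter G}
  {δ : IrrCharacter G → ℤ} {ε : ℤ} {L' : List (IrrCharacter G)} {Y' : Finset (IrrCharacter G)}
  {θ' : IrrCharacter G} {δ' : IrrCharacter G → ℤ} {ε' : ℤ}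
include hG hS

theorem inv55 (j : Blk 5 M e c t L Y θ δ ε) (hj : (M, e, sd δ L) ∈ T5) (h11 : ¬ 11 ∣ c) {t' : ℕ}
    (k : Blk 11 185472 10 12 t' L' Y' θ' δ' ε') {w y s : G} (ow : orderOf w = 11)
    (oy : orderOf y = 5) (os : orderOf s = 2) (hy : y ∈ N1 w) (h1 : s ∈ C1 w)
    (h2 : s * y = y * s) : (e = 4 ∧ sd δ L = [1771, -2024, -5544]) ∧
      (Nat.card (C1 s) = 380160 ∨ Nat.card (C1 s) = 760320) := by
  have s1 : s ≠ 1 := fun e => by simp [e] at os
  have h3 : 11 * (5 * 2) ∣ Nat.card (N1 w ⊓ C1 s : Subgroup G) :=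
    dvd3 ow oy os ⟨le_normalizer (mem_zpowers w), mem_symm h1⟩ ⟨hy, comm_mem h2.symm⟩
      ⟨C1_le w h1, comm_mem rfl⟩ (by norm_num) (by norm_num)
  have h4 := sylB_of k ow s1 (by rw [os]; norm_num) h1 h3 fun _ => mem_D k hG
  have h5 := List.all_eq_true.1 cen55 _ (ord.dvd _ (hG ▸ card_subgroup_dvd_card (C1 s)))
  have h6 : ¬ Nat.card (C1 s) % 23 = 0 := fun h => by
    have := hS.cent s s1 (Nat.dvd_of_mod_eq_zero h); omega
  simp only [Nat.mod_eq_zero_of_dvd (h3.trans (card_dvd_of_le inf_le_right)), h4, h6,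
    bne_self_eq_false, not_small hG s1, Bool.false_or, Bool.or_eq_true, List.contains_iff_mem,
    Bool.not_true, beq_iff_eq, false_or, Bool.false_eq_true, or_false] at h5
  have h7 := List.all_eq_true.1 s55 _ hj
  simp only [n55, ← (M_mem j hG).2.2.1, show 4 / e = t from j.t_eq, Bool.or_eq_true] at h7
  rcases h7 with ((h7 | h7) | h7) | h7
  · exact absurd h7 (not_scB j hS (by norm_num))
  · exact absurd h7 (not_ratB j (by norm_num))
  · obtain ⟨χ, h8, h9⟩ := exists_common j k (by omega)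
    obtain ⟨a, h10, h11⟩ := List.mem_map.1 (j.map_natAbs ▸ List.mem_map_of_mem (f := deg) h8)
    have h12 := List.all_eq_true.1 h7 a h10
    simp only [h11, Bool.and_eq_true, bne_iff_ne] at h12
    rcases h9 with h9 | h9
    · have := (k.modEq h9).dvd
      have := (k.val h9).1
      omega
    · have := k.modEq_Y.dvd
      have := k.sign
      have := (k.val_Y h9).1
      omega
  have h8 := j.colAllQ (nc hG) (by norm_num) hG os h5 (syl5_of j hG os oy (comm_mem h2.symm)) h7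
  simpa using (Bool.or_eq_true_iff.1 h8).resolve_left (not_momN j hG (by norm_num) os)

theorem not12 (j : Blk 5 M e c t L Y θ δ ε) (hj : (M, e, sd δ L) ∈ T5) (h11 : ¬ 11 ∣ c) {t' : ℕ}
    (k : Blk 11 185472 10 12 t' L' Y' θ' δ' ε') : False := by
  obtain ⟨w, ow⟩ := exists_x k
  obtain ⟨y, hy, oy⟩ := exists_a k (q := 5) (by norm_num) ow
  have cw := k.card_centralizer ow
  obtain ⟨s, hs, os, h1⟩ := lemC' oy (fun g => conj_mem hy) (by rw [cw]; norm_num) (r := 2) (k := 2)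
    (by norm_num) (by rw [cw]; norm_num) (by rw [cw]; norm_num) (by decide)
  obtain ⟨⟨rfl, hl⟩, -⟩ := inv55 hG hS j hj h11 k ow oy os hy hs h1
  obtain ⟨rfl, rfl, rfl, α, β, χ, rfl⟩ := exists_B0 j hl
  obtain ⟨d, hd, od, h2⟩ := lemC' oy (fun g => conj_mem hy) (by rw [cw]; norm_num) (r := 3) (k := 1)
    (by norm_num) (by rw [cw]; norm_num) (by rw [cw]; norm_num) (by decide)
  have d1 : d ≠ 1 := fun e => by simp [e] at od
  obtain ⟨i, m, h3, h4, h5, h6, -⟩ := syl k ow d1 (by rw [od]; norm_num) hd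
  have h7 : 11 * (5 * 3) ∣ 11 * i := h3 ▸
    dvd3 ow oy od ⟨le_normalizer (mem_zpowers w), mem_symm hd⟩ ⟨hy, comm_mem h2.symm⟩
      ⟨C1_le w hd, comm_mem rfl⟩ (by norm_num) (by norm_num)
  have h8 := four_dvd j hl hG od oy ow h2 (of_mem hd) (fun h => by
    have := hS.cent d d1 h; omega) h5 h6
  have h9 : 4 ∣ i := by
    have := Nat.le_of_dvd (by norm_num) h4
    obtain ⟨a, rfl⟩ : 15 ∣ i := by omega
    have : a ≤ 8 := by omega
    interval_cases a <;> omega
  have h10 : 2 ∣ Nat.card (C1 w ⊓ C1 d : Subgroup G) := by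
    have : ((C1 w).subgroupOf (N1 w)).Normal := (normal_subgroupOf_iff (C1_le w)).2
      fun g a hg ha => conj_mem ha hg
    have h10 := relIndex_dvd_index_of_normal ((C1 w).subgroupOf (N1 w))
      ((N1 w ⊓ C1 d).subgroupOf (N1 w))
    have h11 := card_mul_index ((C1 w).subgroupOf (N1 w))
    have h12 := card_mul_index ((C1 w).subgroupOf (N1 w ⊓ C1 d))
    rw [Cfsg.Lib.Solv.card_subgroupOf, inf_eq_left.2 (C1_le w), cw, k.card_norm ow] at h11
    rw [Cfsg.Lib.Solv.card_subgroupOf, ← inf_assoc, inf_eq_left.2 (C1_le w), h3] at h12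
    rw [relIndex_subgroupOf inf_le_left, show ((C1 w).subgroupOf (N1 w)).index = 10 by omega,
      relIndex] at h10
    have := Nat.le_of_dvd (by norm_num) h10
    generalize ((C1 w).subgroupOf (N1 w ⊓ C1 d)).index = a at *
    interval_cases a <;> omega
  have h12 : Nat.card (C1 w ⊓ C1 d : Subgroup G) ∣ 11 * 12 := cw ▸ card_dvd_of_le inf_le_left
  obtain ⟨u, ⟨hu, hu'⟩, ou, h13⟩ := lemC' oy (X := C1 w ⊓ C1 d)
    (fun g hg => ⟨conj_mem hy hg.1, conj_mem (C1_le d (comm_mem h2.symm)) hg.2⟩)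
    (fun h => absurd (h.trans h12) (by norm_num)) (r := 2) (k := 2) (by norm_num) h10
    (fun h => absurd (h.trans h12) (by norm_num)) (by decide)
  have h14 := sylB_of k ow (s := u) (fun e => by simp [e] at ou) (by rw [ou]; norm_num) hu (m := 30)
    (Nat.Coprime.mul_dvd_of_dvd_of_dvd (by norm_num)
      (ord_dvd ow ⟨le_normalizer (mem_zpowers w), mem_symm hu⟩)
      (dvd3 oy od ou ⟨hy, comm_mem h13.symm⟩ ⟨C1_le w hd, mem_symm hu'⟩ ⟨C1_le w hu, comm_mem rfl⟩
        (by norm_num) (by norm_num))) fun _ => mem_D k hG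
  rcases (inv55 hG hS j hj h11 k ow oy ou hy hu h13).2 with h | h <;>
    simp [h, no30.1, no30.2] at h14

theorem sc11 : (∃ L Y θ δ ε, Blk (G := G) 11 2225664 10 1 1 L Y θ δ ε) ∧
    ∃ M e c t L Y θ δ ε, Blk (G := G) 5 M e c t L Y θ δ ε ∧ (M, e, sd δ L) ∈ T5 := by
  obtain ⟨M', e', c', t', L', Y', θ', δ', ε', k, hm, he⟩ := exists11 hG
  obtain ⟨M, e, c, t, L, Y, θ, δ, ε, j, hj⟩ := exists5 hG
  obtain ⟨w, ow⟩ := exists_x k
  obtain ⟨y, hy, oy⟩ := exists_a k (q := 5) (by omega) ow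
  have cw := k.card_centralizer ow
  have n2 := k.card_group
  rw [hG] at n2
  have h1 : ¬ 5 ∣ c' := fun ⟨a, ha⟩ => by
    have : 25 ∣ 11 * M' * e' * c' := by
      rcases he with rfl | rfl
      exacts [⟨11 * M' * a, by rw [ha]; ring⟩, ⟨22 * M' * a, by rw [ha]; ring⟩]
    omega
  have h2 : ¬ 11 ∣ c := fun h => h1 (dvd_c_symm j k (by norm_num) h)
  replace hj := hj h2 fun h => by
    have := hS.cent y (fun e => by simp [e] at oy) (j.card_centralizer oy ▸ h.mul_left _)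
    omega
  refine ⟨?_, _, _, _, _, _, _, _, _, _, j, hj⟩
  have h3 : ¬ 7 ∣ c := fun h => by
    have h3 := List.all_eq_true.1 seven5 _ hj
    simp only [← (M_mem j hG).2.2.1, show 4 / e = t from j.t_eq, Bool.or_eq_true, bne_iff_ne] at h3
    exact h3.elim (fun h3 => h3.elim (not_scB j hS (by norm_num)) (not_ratB j (by norm_num)))
      fun h3 => h3 (Nat.mod_eq_zero_of_dvd h)
  have h4 : ¬ 7 ∣ c' := fun h => by
    obtain ⟨u, -, h4, h5⟩ := lemC' oy (fun g => conj_mem hy) (by rw [cw]; omega) (r := 7) (k := 1)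
      (by norm_num) (cw ▸ h.mul_left _)
      (fun h4 => absurd (hG ▸ h4.trans (card_subgroup_dvd_card _)) (by norm_num)) (by decide)
    exact h3 (dvd_c j (by norm_num) oy h4 h5)
  have h5 : ¬ 23 ∣ c' := fun h => by
    have := hS.cent w (fun e => by simp [e] at ow) (cw ▸ h.mul_left _)
    omega
  have h6 : c'.gcd 805 = 1 := Nat.Coprime.symm (Nat.Coprime.mul_left (m := 35) (n := 23)
    (Nat.Coprime.mul_left (m := 5) (n := 7) ((Nat.Prime.coprime_iff_not_dvd (by norm_num)).2 h1)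
      ((Nat.Prime.coprime_iff_not_dvd (by norm_num)).2 h4))
    ((Nat.Prime.coprime_iff_not_dvd (by norm_num)).2 h5))
  have h7 := k.enumF (nc hG) hG ord hm (fun χ _ => hS.mod χ) e11
  have m3 := (M_mem k hG).2.2.1
  have m4 := k.card_eq
  simp only [← m3, h6, bne_self_eq_false, Bool.or_false, Bool.or_eq_true, beq_iff_eq,
    Bool.and_eq_true, List.contains_iff_mem] at h7
  obtain (h7 | ⟨rfl, rfl | rfl⟩) | ⟨L', k, h7 | ⟨rfl, h7⟩⟩ := h7
  · omega
  · obtain rfl : c' = 12 := m3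
    exact (not12 hG hS j hj h2 k).elim
  · obtain rfl : c' = 1 := m3
    obtain rfl : t' = 1 := by omega
    exact ⟨_, _, _, _, _, k⟩
  · exact (k.not_tauBad hS (by norm_num) h7).elim
  have h8 := opt11 _ h7
  rw [← m3] at h8
  obtain ⟨s, hs, os⟩ := exists_ord (p := 2) (t := w) (by rw [cw]; simp at h8; omega)
  have s1 : s ≠ 1 := fun e => by simp [e] at os
  have h9 : 11 * 2 ∣ Nat.card (N1 w ⊓ C1 s : Subgroup G) :=
    Nat.Coprime.mul_dvd_of_dvd_of_dvd (by norm_num)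
      (ord_dvd ow ⟨le_normalizer (mem_zpowers w), mem_symm hs⟩)
      (ord_dvd os ⟨C1_le w hs, comm_mem rfl⟩)
  have h10 := sylB_of k ow s1 (by rw [os]; norm_num) hs h9 fun _ => mem_D k hG
  have h11 := List.all_eq_true.1 (List.all_eq_true.1 cen11 _ h8) _
    (ord.dvd _ (hG ▸ card_subgroup_dvd_card (C1 s)))
  have h12 : ¬ Nat.card (C1 s) % 23 = 0 := fun h => by
    have := hS.cent s s1 (Nat.dvd_of_mod_eq_zero h); omega
  simp only [Nat.mod_eq_zero_of_dvd (h9.trans (card_dvd_of_le inf_le_right)), h10, h12,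
    bne_self_eq_false, not_small hG s1, Bool.false_or, Bool.or_eq_true, List.contains_iff_mem,
    Bool.not_true, beq_iff_eq, false_or, Bool.false_eq_true, or_false] at h11
  exact (not_noInv k hG (by norm_num) os h11 rfl (List.all_eq_true.1 s11 _ h7)).elim

omit hS in
theorem exists_B5 : ∃ (c : ℕ) (α β χ ψ : IrrCharacter G), B5 c α β χ ψ := by
  obtain ⟨L₁, Y₁, θ₁, δ₁, ε₁, k₁⟩ := sc23 hG
  have hS := k₁.selfC rfl (by norm_num)
  obtain ⟨⟨L₂, Y₂, θ₂, δ₂, ε₂, k₂⟩, M, e, c, t, L, Y, θ, δ, ε, j, hj⟩ := sc11 hG hS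
  have hS' := k₂.selfC rfl (by norm_num)
  have h1 := List.all_eq_true.1 last5 _ hj
  have m3 := (M_mem j hG).2.2.1
  simp only [← m3, show 4 / e = t from j.t_eq, Bool.or_eq_true, beq_iff_eq, Prod.mk.injEq] at h1
  have fin : ∀ {c : ℕ}, c = 12 ∨ c = 192 → Blk 5 M 4 c t L Y θ δ ε →
      sd δ L = [1771, -2024, -5544] → ∃ (c : ℕ) (α β χ ψ : IrrCharacter G), B5 c α β χ ψ :=
    fun {c} hc j hl => by
      obtain ⟨rfl, rfl, rfl, α, β, χ, rfl⟩ := exists_B0 j hl
      exact ⟨c, α, β, χ, θ, hG, ⟨_, _, _, _, _, k₁⟩, ⟨_, _, _, _, _, k₂⟩, hc, M, δ, j, hl⟩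
  obtain ((((h1 | h1) | h1) | ⟨rfl, rfl, h1⟩) | ⟨rfl, rfl, h1⟩) | ⟨rfl, rfl, h1⟩ := h1
  · exact absurd h1 (not_scB j hS (by norm_num))
  · exact absurd h1 (not_scB j hS' (by norm_num))
  · exact absurd h1 (not_ratB j (by norm_num))
  · obtain ⟨P⟩ : Nonempty (Sylow 2 G) := inferInstance
    have h2 : Nat.card P = 1024 := by
      rw [P.card_eq_multiplicity, hG, ord.fac (2, 10) (by decide)]; rfl
    have : Nontrivial P := Finite.one_lt_card_iff_nontrivial.1 (by omega)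
    have := P.2.center_nontrivial
    obtain ⟨z, hz⟩ := exists_prime_orderOf_dvd_card' (G := center P) 2
      ((P.2.to_subgroup _).card_eq_or_dvd.resolve_left Finite.one_lt_card.ne')
    have oz : orderOf ((z : P) : G) = 2 := by rw [orderOf_coe, orderOf_coe, hz]
    have h3 : 1024 ∣ Nat.card (C1 ((z : P) : G)) := h2 ▸ card_dvd_of_le fun g hg =>
      comm_mem (congrArg Subtype.val (mem_center_iff.1 z.2 ⟨g, hg⟩))
    have z1 : ((z : P) : G) ≠ 1 := fun e => by simp [e] at oz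
    exact (not_noInv j hG (by norm_num) oz (cen2 _ (ord.dvd _ (hG ▸ card_subgroup_dvd_card _))
      (Nat.mod_eq_zero_of_dvd h3)
      (fun h => by have := hS'.cent _ z1 (Nat.dvd_of_mod_eq_zero h); omega)
      fun h => by have := hS.cent _ z1 (Nat.dvd_of_mod_eq_zero h); omega) rfl (h1 ▸ no736)).elim
  · exact fin (Or.inl m3) j h1
  · exact fin (Or.inr m3) j h1

end Cfsg.Lib.Spor.O24F
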