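import Cfsg.Agent.Spor.O24FDefs
import Cfsg.Agent.Block.SmallDeg

/-! A divisibility for the values on rational elements of prime order. -/

set_option autoImplicit false

namespace Cfsg.Lib.Spor.O24F

open Subgroup Cfsg.Lib.Spor.Mo Cfsg.Lib.PrimeOne Cfsg.Lib.Block Cfsg.Lib.Block.CD
open scoped Cfsg.Lib.Block.CD

variable {G : Type*} [Group G] [Finite G] {p : ℕ} [hp : Fact p.Prime]

theorem val_dvd (h2 : ¬ p ^ 2 ∣ Nat.card G) {y : G} (hy : orderOf y = p)
    (hc : ∀ x : G, orderOf x = p → IsConj y x) {φ : IrrCharacter G} (hφ : ¬ p ∣ deg φ) {a : ℤ}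
    (ha : (φ : G → ℂ) y = a) : a ∣ ((p - 1) * Nat.card (C1 y) : ℕ) := by
  classical
  have := Fintype.ofFinite G
  obtain ⟨M, hM⟩ := Princ.exists_isPModular hp.out
  have hP : Nat.card (zpowers y) = p := (Nat.card_zpowers y).trans hy
  obtain ⟨P, hyP⟩ := (IsPGroup.of_card (n := 1) (hP.trans (pow_one p).symm)).exists_le_sylow
  have hD := SD.isDefectGroup_of_not_dvd hM P hφ
  rw [← eq_of_le_of_card_ge hyP (by
    rw [hP, PS.card_sylow_eq (hy ▸ orderOf_dvd_natCard y) h2 P])] at hD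
  obtain ⟨c, hc'⟩ := exists_root hM (isPBlock_blockOf' φ) hD
  have hs := setup_of_card hM hD hP hc'
  obtain ⟨θ₁, h1, k1⟩ := hs.exists_canon
  obtain ⟨X, Y, μ, ε, s, hS, -⟩ := hs.exists_struct h1
    (fun n hn => (hs.smul_eq_iff_of_canon h1 k1 n).2 hn) φ
  have y1 : y ≠ 1 := fun e => hp.out.ne_one (by rw [← hy, e, orderOf_one])
  have he : (Cz (zpowers y)).relIndex (Nz (zpowers y)) ∣ p - 1 :=
    (Mod.exists_gen_mod_centralizer hP le_rfl).choose_spec.2.2.2
  rw [C1, ← PS.centralizer_zpowers y]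
  rcases (hS.union φ).1 (mem_blockOf_self' hM φ) with hX | hY
  · have e := hS.value_X_canon k1 hX (mem_zpowers y) y1
    rw [ha] at e
    have e' : a = -s φ * ((Cz (zpowers y)).relIndex (Nz (zpowers y)) / inert M c * deg θ₁ : ℕ) :=
      Int.cast_injective (α := ℂ) (by rw [e, Int.cast_mul, Int.cast_neg, Int.cast_natCast])
    have d := Int.natCast_dvd_natCast.2 (Nat.mul_dvd_mul
      ((Nat.div_dvd_of_dvd (inert_dvd_relIndex hM hs.hc)).trans he) (deg_dvd_card θ₁))
    rcases hS.sign_X φ hX with k | k <;> rw [e', k]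
    · rwa [neg_one_mul, neg_dvd]
    · rwa [neg_neg, one_mul]
  obtain ⟨θ, hθ, hθ₁, rfl⟩ := hS.mu_surj _ hY
  have hle := hs.le_Cz
  let f : zpowers y → ℂ := fun u =>
    ∑ n : Nz (zpowers y), (θ : Cz (zpowers y) → ℂ) (cjC n (inclusion hle u))
  have f0 : ∑ u, f u = 0 := by
    rw [Finset.sum_comm]
    refine Finset.sum_eq_zero fun n _ => ?_
    have := sum_hom_units_eq_zero (cen (inclusion_mem_center hle) (n • θ)) fun e =>
      hθ₁ (hs.eq_of_canon hθ h1 (by simpa using ((canon_iff hle).2 e).smul n⁻¹) k1)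
    simp only [cen_apply, ← Finset.sum_div, div_eq_zero_iff, (n • θ).2.apply_one_ne_zero,
      or_false] at this
    exact this
  have f1 : f 1 = Nat.card (Nz (zpowers y)) * deg θ := by
    simp only [f, map_one, Finset.sum_const, Finset.card_univ, nsmul_eq_mul, deg_cast,
      Nat.card_eq_fintype_card]
  have f2 : ∀ u : zpowers y, u ≠ 1 → ε * f u = Nat.card (Cz (zpowers y)) * a := fun u hu => by
    have u1 : (u : G) ≠ 1 := fun e => hu (Subtype.ext e)
    have hz := PS.zpowers_eq_of_card hP u.2 u1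
    obtain ⟨g, hg⟩ := isConj_iff.1 (hc u (by rw [← Nat.card_zpowers, hz, hP]))
    rw [← hS.value_Y hθ hθ₁ (inclusion hle u) hz.ge, ← ha, coe_inclusion, ← hg,
      (μ θ).2.isClassFunction.apply_conj]
  have f3 := Finset.add_sum_erase _ (fun u => ε * f u) (Finset.mem_univ (1 : zpowers y))
  rw [← Finset.mul_sum Finset.univ, f0, Finset.sum_congr rfl fun u hu => f2 u (Finset.ne_of_mem_erase hu),
    Finset.sum_const, Finset.card_erase_of_mem (Finset.mem_univ _), Finset.card_univ,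
    ← Nat.card_eq_fintype_card, hP, f1, nsmul_eq_mul,
    ← card_mul_index ((Cz (zpowers y)).subgroupOf (Nz (zpowers y))),
    Nat.card_congr (subgroupOfEquivOfLe (Cz_le_Nz _)).toEquiv] at f3
  have f4 : ((p - 1 : ℕ) : ℂ) * a =
      -ε * ((Cz (zpowers y)).relIndex (Nz (zpowers y)) * deg θ : ℕ) :=
    mul_left_cancel₀ (Char.card_ne_zero (Cz (zpowers y))) (by
      rw [relIndex]; push_cast at f3 ⊢; linear_combination f3)
  have f5 : ((p - 1 : ℕ) : ℤ) * a =
      -ε * ((Cz (zpowers y)).relIndex (Nz (zpowers y)) * deg θ : ℕ) :=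
    Int.cast_injective (α := ℂ) (by
      rw [Int.cast_mul, Int.cast_mul, Int.cast_neg, Int.cast_natCast, Int.cast_natCast, f4])
  refine Dvd.dvd.trans ?_ (Int.natCast_dvd_natCast.2 (Nat.mul_dvd_mul he (deg_dvd_card θ)))
  exact ⟨-ε * (p - 1 : ℕ), by linear_combination ε * f5 - _ * hS.sign_mul_self⟩

end Cfsg.Lib.Spor.O24F
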