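import Cfsg.Agent.Spor.O24FGen
import Cfsg.Agent.Spor.O24FVd

/-! The degrees in a 3-block of defect 1 and inertial index 2 containing `χ` or `ψ`. -/

set_option autoImplicit false

namespace Cfsg.Lib.Spor.O24F

open Subgroup Cfsg.Lib.Spor.Mo Cfsg.Lib.PrimeOne Cfsg.Lib.Block.Princ
open Cfsg.Lib.Spor.O7920 (instFact11 instFact5)
open Cfsg.Lib.Spor.O10200960 (instFact23)

variable {G : Type*} [Group G] [Finite G]
variable {c : ℕ} {α β χ ψ : IrrCharacter G}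

namespace OutA

theorem deg_mem (h : B5 c α β χ ψ) {φ : IrrCharacter G} (h9 : 9 ∣ deg φ ∧ ¬ 27 ∣ deg φ) {g : G}
    (hg : 5 ∣ orderOf g) (h0 : (φ : G → ℂ) g ≠ 0) :
    deg φ ∈ [252, 2277, 2772, 3312, 4554, 5544, 5796, 6336, 9108, 12672] := by
  have h5 : ¬ 5 ∣ deg φ := fun ⟨k, hk⟩ => by
    obtain ⟨t, ht⟩ := deg_dvd_card φ
    refine h0 (CKit.apply_eq_zero φ (p := 5) (by norm_num) rfl ht (fun ⟨l, hl⟩ => ?_) hg)
    rw [h.card, hk, hl] at ht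
    have : 244823040 = 25 * (k * l) := by rw [ht]; ring
    omega
  have h1 : deg φ ^ 2 ≤ 244823040 := by
    rw [← h.card, ← sum_deg_sq]
    exact Finset.single_le_sum (f := fun χ : IrrCharacter G => deg χ ^ 2)
      (fun _ _ => Nat.zero_le _) (Finset.mem_univ φ)
  exact (by decide +kernel : ∀ d ∈ O24.D, 9 ∣ d → ¬ 27 ∣ d → ¬ 5 ∣ d → d ^ 2 ≤ 244823040 →
    modOk 23 11 d = true → modOk 11 10 d = true →
    d ∈ [252, 2277, 2772, 3312, 4554, 5544, 5796, 6336, 9108, 12672]) _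
    (O24.ord.dvd _ (h.card ▸ deg_dvd_card φ)) h9.1 h9.2 h5 h1 (h.s23.mod φ) (h.s11.mod φ)

theorem degs (h : B5 c α β χ ψ) {d g₀ : G} {φ φ' φ'' : IrrCharacter G} {a' a'' : ℤ}
    (k : Tri d φ φ' φ'') (kA : TriA d φ φ' φ'' a' a'') (h15 : 15 ∣ orderOf g₀)
    (h0 : (φ : G → ℂ) g₀ ≠ 0) :
    deg φ' ∈ [252, 2277, 2772, 3312, 4554, 5544, 5796, 6336, 9108, 12672] ∧
    deg φ'' ∈ [252, 2277, 2772, 3312, 4554, 5544, 5796, 6336, 9108, 12672] ∧
    deg φ + a' * deg φ' + a'' * deg φ'' = 0 := by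
  have h5 : 5 ∣ orderOf g₀ := Dvd.dvd.trans (by norm_num) h15
  obtain ⟨e1, e2⟩ := kA.sing g₀ (Dvd.dvd.trans (by norm_num) h15)
  refine ⟨deg_mem h k.d1 h5 fun e => h0 (by rw [← e1, e, mul_zero]),
    deg_mem h k.d2 h5 fun e => h0 (by rw [← e2, e, mul_zero]), ?_⟩
  have := kA.reg 1 (by simp)
  simp only [← deg_cast] at this
  exact_mod_cast this

theorem not2772 (h : B5 c α β χ ψ) {φ' φ'' : IrrCharacter G} (d1 : deg φ' = 2772)
    (d2 : deg φ'' = 2772) {y : G} (hy : orderOf y = 5) :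
    (χ : G → ℂ) y - (φ' : G → ℂ) y - (φ'' : G → ℂ) y ≠ 0 := fun e => by
  obtain ⟨L, Y, θ, δ, ε, k⟩ := h.b23
  have h23 : ¬ 23 ∣ orderOf y := by rw [hy]; norm_num
  have e1 := (k.val_Y (k.mem_Y rfl (χ := φ') (by omega) (by omega) (by omega))).2.2 y h23
  have e2 := (k.val_Y (k.mem_Y rfl (χ := φ'') (by omega) (by omega) (by omega))).2.2 y h23
  rw [e1, e2, (h.int5 hy θ).1, (h.sing5 (by rw [hy])).2.2.1] at e
  have : -1 - iv θ y - iv θ y = 0 := by exact_mod_cast e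
  omega

theorem not3312 (h : B5 c α β χ ψ) {φ' φ'' : IrrCharacter G} (d1 : deg φ' = 3312)
    (d2 : deg φ'' = 9108) {g₀ : G} (h15 : 15 ∣ orderOf g₀)
    (hr : ∀ g, ¬ 3 ∣ orderOf g → (ψ : G → ℂ) g + (φ' : G → ℂ) g - (φ'' : G → ℂ) g = 0)
    (hs : ∀ g, 3 ∣ orderOf g → (φ' : G → ℂ) g = (ψ : G → ℂ) g) : False := by
  have : Fact (Nat.Prime 3) := ⟨Nat.prime_three⟩
  have h0 := (orderOf_pos g₀).ne'
  have hy := orderOf_pow_orderOf_div h0 (show 5 ∣ orderOf g₀ from Dvd.dvd.trans (by norm_num) h15)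
  have hx := orderOf_pow_orderOf_div h0 (show 3 ∣ orderOf g₀ from Dvd.dvd.trans (by norm_num) h15)
  have hc : Commute (g₀ ^ (orderOf g₀ / 5)) (g₀ ^ (orderOf g₀ / 3)) := Commute.pow_pow_self _ _ _
  generalize g₀ ^ (orderOf g₀ / 5) = y at hy hc
  generalize g₀ ^ (orderOf g₀ / 3) = x at hx hc
  obtain ⟨a1, a2⟩ := h.int5 hy φ'
  have h3 := cong_mul (p := 3) hx hc φ' a1 (b := 1) fun u hu hu1 => by
    have ou : orderOf u = 3 := by
      have := orderOf_dvd_of_mem_zpowers hu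
      rw [hx, Nat.dvd_prime Nat.prime_three, orderOf_eq_one_iff] at this
      exact this.resolve_left hu1
    obtain ⟨i, rfl⟩ := hu
    have o15 := (hc.zpow_right i).orderOf_mul_eq_mul_orderOf_of_coprime (by
      simp only at ou; rw [hy, ou]; norm_num)
    simp only at ou ⊢
    rw [hy, ou] at o15
    rw [hs _ (by rw [o15]; norm_num), (h.sing5 (by rw [o15]; norm_num)).2.2.2, Int.cast_one]
  have h4 : (φ'' : G → ℂ) y = (iv φ' y + 1 : ℤ) := by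
    have := hr y (by rw [hy]; norm_num)
    rw [a1, (h.sing5 (by rw [hy])).2.2.2] at this
    push_cast
    linear_combination -this
  have h25 : ¬ 5 ^ 2 ∣ Nat.card G := by rw [h.card]; norm_num
  have v1 := val_dvd h25 hy (fun x hx => h.conj5 hy hx) (φ := φ') (by omega) a1
  have v2 := val_dvd h25 hy (fun x hx => h.conj5 hy hx) (φ := φ'') (by omega) h4
  have v3 : (((5 - 1) * Nat.card (C1 y) : ℕ) : ℤ) ∣ 3840 := by
    rw [h.cC hy]
    rcases h.hc with rfl | rfl <;> norm_num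
  rw [d1, Int.ModEq] at a2
  generalize iv φ' y = a at *
  replace v1 := v1.trans v3
  have key : ∀ n ∈ Nat.divisors 3840, ((n : ℤ) % 15 = 7 → ¬ (n + 1 : ℤ) ∣ 3840) ∧
      (-(n : ℤ) % 15 = 7 → ¬ (-n + 1 : ℤ) ∣ 3840) := by decide +kernel
  have := key a.natAbs (Nat.mem_divisors.2 ⟨Int.natAbs_dvd_natAbs.2 v1, by norm_num⟩)
  rcases Int.natAbs_eq a with e | e
  · exact this.1 (by omega) (e ▸ v2.trans v3)
  · exact this.2 (by omega) (e ▸ v2.trans v3)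

end OutA

open OutA

theorem B5.outA_chi (h : B5 c α β χ ψ) {d g₀ : G} {φ' φ'' : IrrCharacter G} {a' a'' : ℤ}
    (k : Tri d χ φ' φ'') (kA : TriA d χ φ' φ'' a' a'') (h15 : 15 ∣ orderOf g₀)
    (h1 : φ' ≠ ψ) (h2 : φ'' ≠ ψ) :
    ∃ ξ ψ' : IrrCharacter G, (ξ = φ' ∨ ξ = φ'') ∧ deg ξ = 252 ∧ deg ψ' = 5796 ∧ ψ' ≠ ψ := by
  have h5 : 5 ∣ orderOf g₀ := Dvd.dvd.trans (by norm_num) h15
  obtain ⟨m1, m2, e⟩ := OutA.degs h k kA h15 (by rw [(h.sing5 h5).2.2.1]; norm_num)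
  rw [h.degs.2.2.1] at e
  simp only [List.mem_cons, List.not_mem_nil, or_false] at m1 m2
  have key : (deg φ' = 252 ∧ deg φ'' = 5796) ∨ (deg φ' = 5796 ∧ deg φ'' = 252) ∨
      (deg φ' = 2772 ∧ deg φ'' = 2772 ∧ a' = -1 ∧ a'' = -1) := by
    rcases kA.s1 with rfl | rfl <;> rcases kA.s2 with rfl | rfl <;> omega
  rcases key with ⟨d1, d2⟩ | ⟨d1, d2⟩ | ⟨d1, d2, rfl, rfl⟩
  · exact ⟨φ', φ'', .inl rfl, d1, d2, h2⟩
  · exact ⟨φ'', φ', .inr rfl, d2, d1, h1⟩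
  · have hy := orderOf_pow_orderOf_div (orderOf_pos g₀).ne' h5
    refine (not2772 h d1 d2 hy ?_).elim
    have := kA.reg _ (by rw [hy]; norm_num)
    push_cast at this
    linear_combination this

theorem B5.outA_psi (h : B5 c α β χ ψ) {d g₀ : G} {φ' φ'' : IrrCharacter G} {a' a'' : ℤ}
    (k : Tri d ψ φ' φ'') (kA : TriA d ψ φ' φ'' a' a'') (h15 : 15 ∣ orderOf g₀) :
    ∃ ξ χ' : IrrCharacter G, (ξ = φ' ∨ ξ = φ'') ∧ (χ' = φ' ∨ χ' = φ'') ∧ deg ξ = 252 ∧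
      deg χ' = 5544 := by
  have h5 : 5 ∣ orderOf g₀ := Dvd.dvd.trans (by norm_num) h15
  obtain ⟨m1, m2, e⟩ := OutA.degs h k kA h15 (by rw [(h.sing5 h5).2.2.2]; norm_num)
  rw [h.degs.2.2.2] at e
  simp only [List.mem_cons, List.not_mem_nil, or_false] at m1 m2
  have key : (deg φ' = 252 ∧ deg φ'' = 5544) ∨ (deg φ' = 5544 ∧ deg φ'' = 252) ∨
      (deg φ' = 3312 ∧ deg φ'' = 9108 ∧ a' = 1 ∧ a'' = -1) ∨
      (deg φ'' = 3312 ∧ deg φ' = 9108 ∧ a' = -1 ∧ a'' = 1) := by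
    rcases kA.s1 with rfl | rfl <;> rcases kA.s2 with rfl | rfl <;> omega
  rcases key with ⟨d1, d2⟩ | ⟨d1, d2⟩ | ⟨d1, d2, rfl, rfl⟩ | ⟨d1, d2, rfl, rfl⟩
  · exact ⟨φ', φ'', .inl rfl, .inr rfl, d1, d2⟩
  · exact ⟨φ'', φ', .inr rfl, .inl rfl, d2, d1⟩
  · refine (not3312 h d1 d2 h15 (fun g hg => ?_) fun g hg => by simpa using (kA.sing g hg).1).elim
    have := kA.reg g hg
    push_cast at this
    linear_combination this
  · refine (not3312 h d1 d2 h15 (fun g hg => ?_) fun g hg => by simpa using (kA.sing g hg).2).elim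
    have := kA.reg g hg
    push_cast at this
    linear_combination this

end Cfsg.Lib.Spor.O24F
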