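import Cfsg.Agent.Spor.O24FDefs
import Cfsg.Agent.Block.SmallDeg
import Cfsg.Agent.S4499

/-! The three members of a 3-block of defect one. -/

set_option autoImplicit false

namespace Cfsg.Lib.Spor.O24F

open Subgroup Cfsg.Lib.Spor.Mo Cfsg.Lib.PrimeOne Cfsg.Lib.Block Cfsg.Lib.Block.CD Cfsg.Lib.Block.Pair
open scoped Pointwise Cfsg.Lib.Block.CD

variable {G : Type*} [Group G] [Finite G]

namespace TriL

omit [Finite G] in
theorem th {d : G} {φ : IrrCharacter G} {σ : ℤ} (hσ : σ = 1 ∨ σ = -1) {H : Subgroup G}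
    (e : H = C1 d) (θ : IrrCharacter H)
    (k : ∀ x y : H, (y : G) = d * x → (θ : H → ℂ) y = (θ : H → ℂ) x)
    (v : ∀ x : H, d ∈ zpowers (x : G) → (φ : G → ℂ) x = σ * (θ : H → ℂ) x) : ∃ θ', Th d φ σ θ' := by
  subst e
  exact ⟨θ, hσ, k, v⟩

theorem defect {M : Ideal AlgInt} (hM : IsPModular 3 M) (h3 : (Nat.card G).factorization 3 = 3)
    {φ : IrrCharacter G} (h9 : 9 ∣ deg φ) (h27 : ¬ 27 ∣ deg φ) :
    blockDefect 3 (blockOf M (φ : G → ℂ)) = 1 := by
  have hφ := mem_blockOf_self' hM φ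
  have h1 : (deg φ).factorization 3 ≤ 2 := by
    by_contra h
    exact h27 ((Nat.prime_three.pow_dvd_iff_le_factorization (k := 3) (deg_pos φ).ne').2 (by omega))
  unfold blockDefect
  set S := (fun χ : IrrCharacter G => (charDegree (χ : G → ℂ)).factorization 3) '' blockOf M (φ : G → ℂ)
  have h2 : sInf S ≤ (deg φ).factorization 3 := Nat.sInf_le ⟨φ, hφ, rfl⟩
  obtain ⟨ψ, hψ, e⟩ : sInf S ∈ S := Nat.sInf_mem ⟨_, φ, hφ, rfl⟩
  have h4 := Cfsg.Agent.S4499.result 3 M hM (Nat.dvd_of_factorization_pos (by omega)) _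
    (isPBlock_blockOf' φ) φ hφ (by rw [h3]; exact h9) ψ hψ
  rw [h3, Nat.prime_three.pow_dvd_iff_le_factorization (deg_pos ψ).ne'] at h4
  simp only at e
  change 3 - 1 ≤ (charDegree (ψ : G → ℂ)).factorization 3 at h4
  omega

theorem van {M : Ideal AlgInt} (hM : IsPModular 3 M) {B : Set (IrrCharacter G)} (hB : IsPBlock M B)
    {d : G} (hd : orderOf d = 3) (hD : IsDefectGroup 3 M B (zpowers d)) {φ : IrrCharacter G}
    (hφ : φ ∈ B) (g : G) (hg : 3 ∣ orderOf g) (h0 : (φ : G → ℂ) g ≠ 0) :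
    ¬ 9 ∣ orderOf g ∧ ∃ h : G, d ∈ zpowers (h * g * h⁻¹) := by
  obtain ⟨z, hz⟩ := exists_isPPart Nat.prime_three g
  obtain ⟨E, hE, hzE⟩ := exists_defect_mem_of_apply_ne_zero hM hB hφ hz h0
  obtain ⟨y, -, hy⟩ := ((isDefectGroup_iff_isDefect hM hB).1 hD).exists_conj
    ((isDefectGroup_iff_isDefect hM hB).1 hE)
  have h1 : y * z * y⁻¹ ∈ zpowers d := hy ▸ conj_mem_map_conj y hzE
  have h2 := PS.zpowers_eq_of_card ((Nat.card_zpowers d).trans hd) h1 fun e =>
    (IsPPart_eq_one_iff Nat.prime_three hz).1 (conj_eq_one_iff.1 e) hg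
  refine ⟨fun h9 => ?_, y, zpowers_le_of_mem (IsPPart_mem_zpowers Nat.prime_three
    (IsPPart_conj Nat.prime_three hz y)) (h2.symm ▸ mem_zpowers d)⟩
  have h3 : orderOf z = 3 := by
    rw [← (MulAut.conj y).orderOf_eq, MulAut.conj_apply, ← Nat.card_zpowers, h2, Nat.card_zpowers, hd]
  obtain ⟨w, rfl, hc, -, hw⟩ := hz
  have h4 := h9.trans hc.orderOf_mul_dvd_mul_orderOf
  rw [h3] at h4
  exact hw (Nat.dvd_of_mul_dvd_mul_left (k := 3) (by norm_num) h4)

omit [Finite G] in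
theorem real {d n : G} (hd : orderOf d = 3) (h1 : n ∈ Nz (zpowers d)) (h2 : n ∉ Cz (zpowers d)) :
    IsConj d d⁻¹ := by
  refine isConj_iff.2 ⟨n, ?_⟩
  obtain ⟨j, hj⟩ := SD.exists_xp hd ((mem_normalizer_iff.1 h1 d).1 (mem_zpowers d))
  have h3 : d ^ 3 = 1 := hd ▸ pow_orderOf_eq_one d
  rw [Cz, PS.centralizer_zpowers, mem_centralizer_singleton_iff] at h2
  rw [← hj]
  have : j = 0 ∨ j = 1 ∨ j = -1 := by clear hj; revert j; decide
  rcases this with rfl | rfl | rfl
  · rw [SD.xp_zero, eq_comm, conj_eq_one_iff] at hj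
    rw [hj, orderOf_one] at hd
    omega
  · rw [SD.xp_one hd, eq_mul_inv_iff_mul_eq] at hj
    exact absurd hj.symm h2
  · rw [SD.xp_neg hd, SD.xp_one hd]

end TriL

theorem exists_tri (h3 : (Nat.card G).factorization 3 = 3) {φ : IrrCharacter G}
    (h9 : 9 ∣ deg φ) (h27 : ¬ 27 ∣ deg φ) :
    ∃ d φ' φ'', Tri d φ φ' φ'' ∧ (TriB φ φ' φ'' ∨ ∃ a' a'', TriA d φ φ' φ'' a' a'') := by
  classical
  have := Fintype.ofFinite G
  obtain ⟨M, hM⟩ := Princ.exists_isPModular Nat.prime_three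
  have hdef := TriL.defect hM h3 h9 h27
  have hφ := mem_blockOf_self' hM φ
  have hB : IsPBlock M (blockOf M (φ : G → ℂ)) := isPBlock_blockOf' φ
  generalize blockOf M (φ : G → ℂ) = B at hdef hφ hB
  obtain ⟨D, hD⟩ := exists_isDefectGroup hM hB
  have hP : Nat.card D = 3 := by rw [card_defect hM hB hD, hdef, pow_one]
  obtain ⟨⟨d, hdD⟩, hd⟩ := exists_prime_orderOf_dvd_card' (G := D) 3 hP.symm.dvd
  rw [orderOf_mk] at hd
  have d1 : d ≠ 1 := fun e => by rw [e, orderOf_one] at hd; omega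
  obtain rfl := PS.zpowers_eq_of_card hP hdD d1
  obtain ⟨c, hc⟩ := exists_root hM hB hD
  have hs := setup_of_card hM hD hP hc
  obtain ⟨θ, h1, k1⟩ := hs.exists_canon
  obtain ⟨X, Y, μ, ε, a, hS, -⟩ := hs.exists_struct h1
    (fun n hn => (hs.smul_eq_iff_of_canon h1 k1 n).2 hn) φ
  have cY := hS.card_Y
  have cX := hS.card_X
  have hi : (inert M c = 1 ∧ Y.card = 2) ∨ (inert M c = 2 ∧ Y.card = 1) := by
    rw [hP] at cY
    rcases (Nat.dvd_prime Nat.prime_two).1 hs.inert_dvd with e | e <;> rw [e] at cY <;> omega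
  have cB : ((irrFin B).erase φ).card = 2 := by
    rw [Finset.card_erase_of_mem (mem_irrFin.2 hφ), card_irrFin, hS.card_B]; omega
  obtain ⟨φ', φ'', n3, e⟩ := Finset.card_eq_two.1 cB
  have m1 := Finset.mem_erase.1 (e ▸ Finset.mem_insert_self φ' {φ''})
  have m2 := Finset.mem_erase.1 (e ▸ Finset.mem_insert_of_mem (Finset.mem_singleton_self φ'') :
    φ'' ∈ (irrFin B).erase φ)
  rw [mem_irrFin] at m1 m2
  have sm : ∀ f : IrrCharacter G → ℂ, f φ + f φ' + f φ'' = ∑ χ ∈ X, f χ + ∑ χ ∈ Y, f χ := fun f => by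
    rw [← hS.sum_B, ← Finset.add_sum_erase _ _ (mem_irrFin.2 hφ), e, Finset.sum_pair n3, add_assoc]
  have dg : ∀ χ ∈ B, 9 ∣ deg χ ∧ ¬ 27 ∣ deg χ := fun χ hχ => by
    have := factorization_degree_of_height_zero hM hB hχ (hS.height_zero hχ)
    exact ⟨(Nat.prime_three.pow_dvd_iff_le_factorization (k := 2) (deg_pos χ).ne').2 (by
      rw [deg]; omega), fun h => by
      have := (Nat.prime_three.pow_dvd_iff_le_factorization (k := 3) (deg_pos χ).ne').1 h
      rw [deg] at this; omega⟩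
  refine ⟨d, φ', φ'', ⟨hd, m1.1.symm, m2.1.symm, n3, dg _ m1.2, dg _ m2.2,
    TriL.van hM hB hd hD hφ⟩, ?_⟩
  have ee : (ε : ℂ) * ε = 1 := by exact_mod_cast hS.sign_mul_self
  rcases hi with ⟨i1, i2⟩ | ⟨i1, i2⟩
  · left
    obtain ⟨χ, rfl⟩ := Finset.card_eq_one.1 (cX.trans i1)
    have hχ := Finset.mem_singleton_self χ
    obtain ⟨ψ, hψ⟩ := hS.Y_nonempty
    have s : (a χ : ℂ) = -ε := by
      have k := hS.degree_rel hψ
      rw [Finset.sum_singleton] at k
      have p1 := deg_pos ψ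
      have p2 := deg_pos χ
      rw [deg] at p1 p2
      rcases hS.sign with e1 | e1 <;> rcases hS.sign_X χ hχ with e2 | e2 <;> rw [e1, e2] at k ⊢ <;>
        first | omega | simp
    have r : ∀ g, ¬ 3 ∣ orderOf g → ∀ ω ∈ B, (ω : G → ℂ) g = (χ : G → ℂ) g := fun g hg ω hω => by
      rcases (hS.union ω).1 hω with k | k
      · rw [Finset.mem_singleton.1 k]
      · have := hS.sign_rel k hg
        rw [Finset.sum_singleton, s] at this
        linear_combination ε * this - ((ω : G → ℂ) g - (χ : G → ℂ) g) * ee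
    refine ⟨fun g hg => ⟨(r g hg _ m1.2).trans (r g hg _ hφ).symm,
      (r g hg _ m2.2).trans (r g hg _ hφ).symm⟩, fun g hg => ?_⟩
    have := hS.sum_Y_apply_eq hχ hg
    rw [sm fun ω => (ω : G → ℂ) g, Finset.sum_singleton]
    rw [s] at this
    linear_combination ε * this - (∑ ψ ∈ Y, (ψ : G → ℂ) g + (χ : G → ℂ) g) * ee
  right
  obtain ⟨ψ, rfl⟩ := Finset.card_eq_one.1 i2
  have hψ := Finset.mem_singleton_self ψ
  have nX : ψ ∉ X := Finset.disjoint_right.1 hS.disj hψ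
  obtain ⟨χ, hχ⟩ := hS.X_nonempty
  let s : IrrCharacter G → ℤ := fun ω => if ω ∈ X then a ω else ε
  have s1 : ∀ ω, s ω = 1 ∨ s ω = -1 := fun ω => by
    by_cases k : ω ∈ X
    · simpa [s, k] using hS.sign_X ω k
    · simpa [s, k] using hS.sign
  have s2 : (s φ : ℂ) * s φ = 1 := by rcases s1 φ with k | k <;> simp [k]
  have s3 : ∀ ω, s φ * s ω = 1 ∨ s φ * s ω = -1 := fun ω => by
    rcases s1 φ with k | k <;> rcases s1 ω with k' | k' <;> simp [k, k']
  have sg : ∀ g, 3 ∣ orderOf g → ∀ ω ∈ B, s ω * (ω : G → ℂ) g = a χ * (χ : G → ℂ) g :=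
    fun g hg ω hω => by
      rcases (hS.union ω).1 hω with k | k
      · simpa [s, k] using hS.X_apply_eq k hχ hg
      · rw [Finset.mem_singleton.1 k]
        simpa [s, nX] using hS.sum_Y_apply_eq hχ hg
  have cN : Nat.card (Nz (zpowers d)) = inert M c * Nat.card (Cz (zpowers d)) := by
    have k := Nat.le_of_dvd (by norm_num) (Mod.exists_gen_mod_centralizer hP le_rfl).choose_spec.2.2.2
    have k' := Nat.le_of_dvd (Nat.pos_of_ne_zero index_ne_zero_of_finite) (inert_dvd_relIndex hM hs.hc)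
    rw [← card_mul_index ((Cz (zpowers d)).subgroupOf (Nz (zpowers d))),
      Nat.card_congr (subgroupOfEquivOfLe (Cz_le_Nz _)).toEquiv, mul_comm]
    congr 1
    exact le_antisymm (i1 ▸ k) k'
  have fx : ∀ n : Nz (zpowers d), n • θ = θ := fun n => hS.fix n (by
    have := eq_top_of_card_eq _ (hs.card_stabilizer.trans cN.symm)
    exact (this ▸ mem_top n : n ∈ MulAction.stabilizer (Nz (zpowers d)) c))
  refine ⟨s φ * s φ', s φ * s φ'', s3 _, s3 _, fun g hg => ?_, fun g hg => ?_, ?_, -s φ, ?_⟩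
  · have k := sm fun ω => s ω * (ω : G → ℂ) g
    have k' := hS.sign_rel hψ hg
    rw [Finset.sum_singleton, Finset.sum_congr rfl (g := fun ω => a ω * (ω : G → ℂ) g)
      fun ω hω => by simp [s, hω]] at k
    have : s ψ = ε := if_neg nX
    rw [this] at k
    push_cast
    linear_combination s φ * k + s φ * k' - (φ : G → ℂ) g * s2
  · have k := sg g hg _ hφ
    have k1 := sg g hg _ m1.2
    have k2 := sg g hg _ m2.2
    push_cast
    exact ⟨by linear_combination s φ * (k1 - k) + (φ : G → ℂ) g * s2,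
      by linear_combination s φ * (k2 - k) + (φ : G → ℂ) g * s2⟩
  · by_contra hn
    have : Nz (zpowers d) ≤ Cz (zpowers d) := fun n h1 => by_contra fun h2 => hn (TriL.real hd h1 h2)
    have k := card_le_of_le this
    have := Nat.card_pos (α := Cz (zpowers d))
    rw [cN, i1] at k
    omega
  · refine TriL.th (by rcases s1 φ with k | k <;> simp [k]) (PS.centralizer_zpowers d) θ
      (fun x y e => ?_) fun x hx => ?_
    · have hle := hs.le_Cz
      rw [show y = inclusion hle ⟨d, hdD⟩ * x from Subtype.ext e,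
        Char.irr_mul_center θ.2 (inclusion_mem_center hle _), k1 _ hdD,
        div_self θ.2.apply_one_ne_zero, one_mul]
    · have hx' := zpowers_le_of_mem hx
      have k := hS.value_X hχ x hx'
      rw [Finset.sum_congr rfl (g := fun _ => (θ : _ → ℂ) x) fun n _ => by
        rw [← smul_irr_apply, fx], Finset.sum_const, Finset.card_univ, ← Nat.card_eq_fintype_card,
        cN, nsmul_eq_mul, mul_left_comm,
        mul_right_inj' (Nat.cast_ne_zero.2 (cN ▸ Nat.card_pos.ne'))] at k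
      have k' := sg x (hs.dvd_orderOf hx') _ hφ
      have aa : (a χ : ℂ) * a χ = 1 := by exact_mod_cast hS.sign_X_mul_self hχ
      push_cast
      linear_combination s φ * k' + s φ * a χ * k - (φ : G → ℂ) x * s2 - s φ * (θ : _ → ℂ) x * aa

end Cfsg.Lib.Spor.O24F
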