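import Cfsg.Agent.Spor.O24FJt
import Cfsg.Agent.Spor.O24FOutA
import Cfsg.Agent.Spor.O24FTri

/-! The 3-blocks of the characters of degrees 5544 and 5796: three cases. -/

set_option autoImplicit false

namespace Cfsg.Lib.Spor.O24F

open Subgroup Cfsg.Lib.Spor.Mo Cfsg.Lib.PrimeOne Cfsg.Lib.Block.Princ

variable {G : Type*} [Group G] [Finite G] {c : ℕ} {α β χ ψ : IrrCharacter G}

omit [Finite G] in
theorem TriA.pm {d : G} {φ φ' φ'' ξ : IrrCharacter G} {a' a'' : ℤ} (k : TriA d φ φ' φ'' a' a'')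
    (h : ξ = φ' ∨ ξ = φ'') :
    ∃ a : ℂ, a * a = 1 ∧ ∀ g, 3 ∣ orderOf g → a * (ξ : G → ℂ) g = (φ : G → ℂ) g := by
  rcases h with rfl | rfl
  · exact ⟨a', by rcases k.s1 with rfl | rfl <;> simp, fun g hg => (k.sing g hg).1⟩
  · exact ⟨a'', by rcases k.s2 with rfl | rfl <;> simp, fun g hg => (k.sing g hg).2⟩

theorem B5.split (h : B5 c α β χ ψ) : (∃ ξ d y, Jt c α β χ ψ ξ d y) ∨
    (∃ χ' χ'' ψ' ψ'' : IrrCharacter G, [χ, χ', χ''].Nodup ∧ [ψ, ψ', ψ''].Nodup ∧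
      deg χ' = 5544 ∧ deg χ'' = 5544 ∧ deg ψ' = 5796 ∧ deg ψ'' = 5796) ∨
    ∃ χ' ψ' ξ ξ' : IrrCharacter G, χ' ≠ χ ∧ ψ' ≠ ψ ∧ ξ ≠ ξ' ∧ deg χ' = 5544 ∧ deg ψ' = 5796 ∧
      deg ξ = 252 ∧ deg ξ' = 252 := by
  have := Fintype.ofFinite G
  obtain ⟨-, -, d1, d2⟩ := h.degs
  have h3 : (Nat.card G).factorization 3 = 3 := by
    rw [h.card, show 244823040 = 3 ^ 3 * 9067520 by norm_num,
      Nat.factorization_mul (by norm_num) (by norm_num), Nat.prime_three.factorization_pow,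
      Finsupp.add_apply, Nat.factorization_eq_zero_of_not_dvd (by norm_num)]
    simp
  obtain ⟨d, φ', φ'', k, k'⟩ := exists_tri h3 (φ := χ) (by omega) (by omega)
  obtain ⟨e, ω', ω'', l, l'⟩ := exists_tri h3 (φ := ψ) (by omega) (by omega)
  by_cases h1 : φ' = ψ ∨ φ'' = ψ
  · obtain ⟨ξ, y, h2⟩ := h.joint k k' h1
    exact Or.inl ⟨ξ, d, y, h2⟩
  rw [not_or] at h1
  have np : ∀ a : ℂ, a * a = 1 →
      ¬ ∀ g, 3 ∣ orderOf g → a * (χ : G → ℂ) g = (ψ : G → ℂ) g := fun a ha c => by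
    obtain ⟨⟨g, g3, g0⟩, h2⟩ := k.sing_orth (ω := ψ) k'
    have h4 := congrArg (star a * ·) (h2 (by rintro rfl; omega) (Ne.symm h1.1) (Ne.symm h1.2))
    have h5 : ∑ g : G, (if 3 ∣ orderOf g then Complex.normSq ((χ : G → ℂ) g) else 0) = 0 := by
      apply Complex.ofReal_injective
      simp only [Finset.mul_sum, mul_zero] at h4
      rw [Complex.ofReal_sum]
      refine (Finset.sum_congr rfl fun g _ => ?_).trans h4
      split_ifs with hg
      · have h5 := congrArg star ha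
        rw [star_mul, star_one] at h5
        rw [← c g hg, ← Complex.mul_conj, star_mul, ← Complex.star_def]
        linear_combination (-(χ : G → ℂ) g * star ((χ : G → ℂ) g)) * h5
      · simp
    have h6 := (Finset.sum_eq_zero_iff_of_nonneg fun g _ => by
      split_ifs
      exacts [Complex.normSq_nonneg _, le_rfl]).1 h5 g (Finset.mem_univ g)
    simp [g3, g0] at h6
  have h2 : ∀ ω, ω = ω' ∨ ω = ω'' → ω ≠ χ := by
    rintro ω hω rfl
    rcases l' with lB | ⟨a', a'', lA⟩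
    · have := lB.degs
      rcases hω with rfl | rfl <;> omega
    · obtain ⟨a, ha, h4⟩ := lA.pm hω
      exact np a ha h4
  have o1 := h.out_cnt (Or.inl rfl) k ⟨k.ne1.symm, h1.1⟩ ⟨k.ne2.symm, h1.2⟩
  have o2 := h.out_cnt (Or.inr rfl) l ⟨h2 _ (Or.inl rfl), l.ne1.symm⟩
    ⟨h2 _ (Or.inr rfl), l.ne2.symm⟩
  have n1 := h.n1_pos
  rcases k' with kB | ⟨a', a'', kA⟩ <;> rcases l' with lB | ⟨b', b'', lA⟩
  · exact Or.inr (Or.inl ⟨φ', φ'', ω', ω'', by simp [k.ne1, k.ne2, k.ne3],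
      by simp [l.ne1, l.ne2, l.ne3], kB.degs.1.trans d1, kB.degs.2.trans d1, lB.degs.1.trans d2,
      lB.degs.2.trans d2⟩)
  · have := o1.1 kB
    have := o2.2 _ _ lA
    omega
  · have := o1.2 _ _ kA
    have := o2.1 lB
    omega
  · obtain ⟨g, g5, g3⟩ : {g : G | 5 ∣ orderOf g ∧ 3 ∣ orderOf g}.Nonempty :=
      Set.nonempty_of_ncard_ne_zero (by have := o1.2 _ _ kA; omega)
    obtain ⟨ξ, ψ', x1, x2, x3, x4⟩ := h.outA_chi k kA (g₀ := g) (by omega) h1.1 h1.2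
    obtain ⟨ξ', χ', y1, y2, y3, y4⟩ := h.outA_psi l lA (g₀ := g) (by omega)
    refine Or.inr (Or.inr ⟨χ', ψ', ξ, ξ', h2 _ y2, x4, ?_, y4, x3, x2, y3⟩)
    rintro rfl
    obtain ⟨a, ha, h4⟩ := kA.pm x1
    obtain ⟨b, hb, h5⟩ := lA.pm y1
    exact np (a * b) (by linear_combination b * b * ha + hb) fun g hg => by
      linear_combination h5 g hg - a * b * h4 g hg + b * (ξ : G → ℂ) g * ha

end Cfsg.Lib.Spor.O24F
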