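import Cfsg.Agent.S0997
import Cfsg.Agent.Class.Ev.Core
import Cfsg.Agent.Class.PGL2Sub
import Cfsg.Agent.Class.PSLSimple
import Cfsg.Agent.CITCor.ClsH2
import Cfsg.Agent.Known.G168
import Cfsg.Agent.Known.L32Mult
import Cfsg.Agent.Known.SylowCount
import Cfsg.Agent.Block.GalPow
import Cfsg.Agent.Solv.Cores

/-! Groups of order `p * 2 ^ a * 3` in which an element of order `p` centralises no element of
order three. -/

namespace Cfsg.Lib.Spor.O24

open Subgroup Cfsg.Lib.Solv Cfsg.Lib.Known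

section
variable {G : Type*} [Group G] [Finite G] {p : ℕ} [hp : Fact p.Prime]

theorem ncard_mod {x : G} (hx : x ^ p = 1) {S : Set G} (hS : ∀ s ∈ S, x * s * x⁻¹ ∈ S) :
    S.ncard ≡ {s ∈ S | x * s = s * x}.ncard [MOD p] := by
  have h := Block.card_modEq_card_fixed (S := S) (f := fun s => x * s * x⁻¹) hS (p := p) (n := 1)
    fun s _ => by
      have : ∀ k, (fun s => x * s * x⁻¹)^[k] s = x ^ k * s * (x ^ k)⁻¹ := fun k => by
        induction k with
        | zero => simp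
        | succ k ih => rw [Function.iterate_succ_apply', ih, pow_succ']; group
      rw [this, pow_one, hx]; simp
  have e : Nat.card {s // s ∈ S ∧ x * s * x⁻¹ = s} = Nat.card {s ∈ S | x * s = s * x} :=
    Nat.card_congr (Equiv.subtypeEquivRight fun s => by simp [mul_inv_eq_iff_eq_mul])
  rwa [e, Nat.card_coe_set_eq, Nat.card_coe_set_eq] at h

theorem card_mod {x : G} (hx : x ^ p = 1) {A : Subgroup G} (hA : ∀ s ∈ A, x * s * x⁻¹ ∈ A) :
    Nat.card A ≡ Nat.card (A ⊓ centralizer {x} : Subgroup G) [MOD p] := by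
  have h := ncard_mod hx (S := A) hA
  have e : {s ∈ (A : Set G) | x * s = s * x} = (A ⊓ centralizer {x} : Subgroup G) := by
    ext s; simp [mem_centralizer_singleton_iff, eq_comm]
  rwa [e, ← Nat.card_coe_set_eq, ← Nat.card_coe_set_eq] at h

/-- The standing hypothesis. -/
structure Tp (p : ℕ) {K : Type*} [Group K] (x : K) : Prop where
  ord : orderOf x = p
  five : 5 ≤ p
  card : ∃ a, Nat.card K ∣ p * 2 ^ a * 3
  three : ¬ 3 ∣ Nat.card (centralizer ({x} : Set K))

variable {x : G}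

theorem Tp.not_sq (h : Tp p x) : ¬ p ^ 2 ∣ Nat.card G := fun h1 => by
  obtain ⟨a, ha⟩ := h.card
  have h5 := h.five
  have := h1.trans ha
  rw [pow_two, mul_assoc] at this
  rcases (Nat.Prime.dvd_mul hp.out).1 (Nat.dvd_of_mul_dvd_mul_left hp.out.pos this) with h2 | h2
  · have := Nat.le_of_dvd two_pos (hp.out.dvd_of_dvd_pow h2); omega
  · have := Nat.le_of_dvd (by norm_num) h2; omega

/-- An element of order `p` is conjugate into `⟨x⟩`. -/
theorem exists_conj_mem (hx : orderOf x = p) (h2 : ¬ p ^ 2 ∣ Nat.card G) {y : G}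
    (hy : orderOf y = p) : ∃ g, g * y * g⁻¹ ∈ zpowers x := by
  have key : ∀ {u : G}, orderOf u = p → ∃ P : Sylow p G, (P : Subgroup G) = zpowers u := fun hu => by
    have hc := (Nat.card_zpowers _).trans hu
    refine ⟨(IsPGroup.of_card (hc.trans (pow_one p).symm)).toSylow fun h3 => h2 ?_, rfl⟩
    rw [← card_mul_index (zpowers _), hc, pow_two]
    exact Nat.mul_dvd_mul_left p h3
  obtain ⟨P, hP⟩ := key hx
  obtain ⟨Q, hQ⟩ := key hy
  obtain ⟨g, rfl⟩ := MulAction.exists_smul_eq G Q P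
  exact ⟨g, hP ▸ smul_mem_pointwise_smul y (MulAut.conj g) _ (hQ ▸ mem_zpowers y)⟩

theorem mem_of_dvd (hx : orderOf x = p) (h2 : ¬ p ^ 2 ∣ Nat.card G) {M : Subgroup G} [hM : M.Normal]
    (h : p ∣ Nat.card M) : x ∈ M := by
  obtain ⟨y, hy⟩ := exists_prime_orderOf_dvd_card' p h
  obtain ⟨g, hg⟩ := exists_conj_mem ((orderOf_coe y).trans hy) h2 hx
  simpa [mul_assoc] using hM.conj_mem _ (zpowers_le.2 y.2 hg) g⁻¹

theorem Tp.le_pCore (h : Tp p x) {M : Subgroup G} [hM : M.Normal] (hx : x ∉ M) :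
    M ≤ pCore 2 G := by
  have hp' : ¬ p ∣ Nat.card M := fun h1 => hx (mem_of_dvd h.ord h.not_sq h1)
  obtain ⟨a, ha⟩ := h.card
  have h1 : Nat.card M ∣ 2 ^ a * 3 := by
    refine Nat.Coprime.dvd_of_dvd_mul_left ((Nat.Prime.coprime_iff_not_dvd hp.out).2 hp').symm ?_
    rw [← mul_assoc]; exact (card_subgroup_dvd_card M).trans ha
  by_cases h3 : 3 ∣ Nat.card M
  · exfalso
    have : Fact (Nat.Prime 3) := ⟨Nat.prime_three⟩
    obtain ⟨m, hm⟩ := h3
    have h4 : m ∣ 2 ^ a := Nat.dvd_of_mul_dvd_mul_left three_pos (by rwa [← hm, mul_comm])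
    have h5 : ¬ 3 ∣ m := fun h => absurd (Nat.prime_three.dvd_of_dvd_pow (h.trans h4)) (by norm_num)
    obtain ⟨P⟩ : Nonempty (Sylow 3 M) := inferInstance
    have h6 := SC.card_orderOf_eq_prime P (SC.sylow_card_eq_pow (k := 1) P hm h5)
    have h7 := ncard_mod (x := x) (h.ord ▸ pow_orderOf_eq_one x) (S := {g ∈ M | orderOf g = 3})
      fun s hs => ⟨hM.conj_mem _ hs.1 _, by
        rw [← hs.2]; exact (MulAut.conj x).orderOf_eq s⟩
    have h8 : {s ∈ {g ∈ M | orderOf g = 3} | x * s = s * x} = ∅ :=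
      Set.eq_empty_of_forall_notMem fun s hs => h.three (hs.1.2 ▸
        orderOf_dvd_natCard _ (mem_centralizer_singleton_iff.2 hs.2.symm))
    have h9 : {g ∈ M | orderOf g = 3}.ncard = Nat.card (Sylow 3 M) * 2 := by
      rw [← Nat.card_coe_set_eq, ← h6]
      exact Nat.card_congr ⟨fun g => ⟨⟨g.1, g.2.1⟩, (orderOf_mk _ _).trans g.2.2⟩,
        fun g => ⟨g.1, g.1.2, (orderOf_coe _).trans g.2⟩, fun _ => rfl, fun _ => rfl⟩
    rw [h8, h9, Set.ncard_empty, Nat.modEq_zero_iff_dvd] at h7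
    have h10 := h7.trans (Nat.mul_dvd_mul_right ((SC.card_sylow_dvd (k := 1) hm h5).trans h4) 2)
    have := Nat.le_of_dvd two_pos (hp.out.dvd_of_dvd_pow (n := a + 1) h10)
    have := h.five
    omega
  · obtain ⟨k, -, hk⟩ := (Nat.dvd_prime_pow Nat.prime_two).1 (Nat.Coprime.dvd_of_dvd_mul_right
      ((Nat.Prime.coprime_iff_not_dvd Nat.prime_three).2 h3).symm h1)
    exact Solv.le_pCore hM (IsPGroup.of_card hk)

theorem Tp.coprime (h : Tp p x) {R : Subgroup G} (hR : IsPGroup 2 R) :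
    (orderOf x).Coprime (Nat.card R) := by
  obtain ⟨k, hk⟩ := hR.exists_card_eq
  rw [hk, h.ord]
  exact Nat.Coprime.pow_right k ((Nat.coprime_primes hp.out Nat.prime_two).2
    (by have := h.five; omega))

/-- The centraliser of the image of `x` modulo a normal `2`-subgroup. -/
theorem Tp.card_cent (h : Tp p x) (R : Subgroup G) [R.Normal] (hR : IsPGroup 2 R) :
    Nat.card (centralizer ({(x : G ⧸ R)} : Set (G ⧸ R))) *
      Nat.card (R ⊓ centralizer {x} : Subgroup G) = Nat.card (centralizer ({x} : Set G)) := by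
  rw [← CITCor.Cls.map_cent_of_coprime R (h.coprime hR), ← relIndex_ker, QuotientGroup.ker_mk',
    ← inf_relIndex_right, ← card_subgroupOf_of_le inf_le_right, relIndex, index_mul_card]

theorem Tp.quot (h : Tp p x) (R : Subgroup G) [R.Normal] (hR : IsPGroup 2 R) :
    Tp p (x : G ⧸ R) := by
  refine ⟨?_, h.five, h.card.imp fun a ha => (card_quotient_dvd_card R).trans ha,
    fun h3 => h.three (h.card_cent R hR ▸ h3.mul_right _)⟩
  refine orderOf_eq_prime ?_ fun h1 => ?_
  · rw [← QuotientGroup.mk_pow, ← h.ord, pow_orderOf_eq_one, QuotientGroup.mk_one]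
  · have h2 := (h.coprime hR).eq_one_of_dvd (orderOf_dvd_natCard R ((QuotientGroup.eq_one_iff x).1 h1))
    have := h.five
    rw [h.ord] at h2; omega

theorem Tp.sub (h : Tp p x) {N : Subgroup G} (hx : x ∈ N) : Tp p (⟨x, hx⟩ : N) :=
  ⟨(orderOf_mk _ _).trans h.ord, h.five, h.card.imp fun _ ha => (card_subgroup_dvd_card N).trans ha,
    fun h3 => h.three (h3.trans ((card_map_of_injective N.subtype_injective).symm ▸
      card_dvd_of_le (by
        rintro _ ⟨y, hy, rfl⟩
        exact mem_centralizer_singleton_iff.2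
          (congrArg Subtype.val (mem_centralizer_singleton_iff.1 hy)))))⟩

theorem Tp.mem_of_ne (h : Tp p x) (h0 : pCore 2 G = ⊥) {M : Subgroup G} [M.Normal] (hM : M ≠ ⊥) :
    x ∈ M := by
  by_contra h1
  exact hM (le_bot_iff.1 (h0 ▸ h.le_pCore h1))

theorem Tp.ne_one (h : Tp p x) : x ≠ 1 := fun h1 => by
  have := h.five
  have h2 := h.ord
  rw [h1, orderOf_one] at h2; omega

theorem Tp.simple (h : Tp p x) (h0 : pCore 2 G = ⊥) : IsSimpleGroup (normalClosure {x}) := by
  have hx : x ∈ normalClosure {x} := subset_normalClosure rfl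
  have k := h.sub hx
  have h1 : pCore 2 (normalClosure ({x} : Set G)) = ⊥ :=
    pCore_eq_bot_of_isSubnormal (Normal.isSubnormal inferInstance) h0
  have : Nontrivial (normalClosure ({x} : Set G)) := ⟨⟨_, 1, k.ne_one⟩⟩
  refine ⟨fun M hM => (eq_or_ne M ⊥).imp_right fun hb => ?_⟩
  have h2 : Group.conjugatesOfSet {x} ⊆ M.map (Subgroup.subtype _) := fun y hy => by
    have h3 : y ∈ normalClosure {x} := conjugatesOfSet_subset_normalClosure hy
    obtain ⟨_, rfl, hc⟩ := Group.mem_conjugatesOfSet_iff.1 hy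
    refine ⟨⟨y, h3⟩, mem_of_dvd ((orderOf_mk _ _).trans ?_) k.not_sq
      (k.ord ▸ orderOf_dvd_natCard M (k.mem_of_ne h1 hb)), rfl⟩
    obtain ⟨c, rfl⟩ := isConj_iff.1 hc
    exact ((MulAut.conj c).orderOf_eq _).trans h.ord
  refine eq_top_iff.2 fun y _ => ?_
  obtain ⟨w, hw, e⟩ := (closure_le _).2 h2 y.2
  exact Subtype.ext e ▸ hw

/-- Every element of order `p` lies in the normal closure of `x`. -/
theorem Tp.card_ord (h : Tp p x) : Nat.card {g : G // orderOf g = p} =
    Nat.card {g : normalClosure ({x} : Set G) // orderOf g = p} :=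
  Nat.card_congr ⟨fun g => ⟨⟨g.1, mem_of_dvd g.2 h.not_sq (h.ord ▸ orderOf_dvd_natCard _
    (subset_normalClosure rfl))⟩, (orderOf_mk _ _).trans g.2⟩,
    fun g => ⟨g.1, (orderOf_coe _).trans g.2⟩, fun _ => rfl, fun _ => rfl⟩

theorem Tp.index_le (h : Tp p x) :
    (centralizer ({x} : Set G)).index ≤ Nat.card {g : G // orderOf g = p} := by
  rw [← SC.card_isConj_eq_index_centralizer]
  refine Nat.card_le_card_of_injective (fun g => ⟨g.1, ?_⟩) fun a b e => ?_
  · obtain ⟨c, hc⟩ := isConj_iff.1 g.2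
    exact hc ▸ ((MulAut.conj c).orderOf_eq _).trans h.ord
  · exact Subtype.ext (Subtype.mk.inj e)

/-- The normal closure of `x` is `⟨x⟩` or of the order of `L₂(p)`, `L₂(p - 1)`. -/
theorem Tp.cases (h : Tp p x) (h0 : pCore 2 G = ⊥) (h7 : p = 5 ∨ p = 7) :
    (centralizer ({x} : Set G)).index ∣ p - 1 ∨ (¬ IsCyclic (normalClosure ({x} : Set G)) ∧
      2 * Nat.card (normalClosure ({x} : Set G)) = p * (p - 1) * (p + 1)) := by
  have hs := h.simple h0
  have hx : x ∈ normalClosure {x} := subset_normalClosure rfl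
  have k := h.sub hx
  refine (em (IsCyclic (normalClosure ({x} : Set G)))).imp (fun hc => ?_) fun hc => ⟨hc, ?_⟩
  · have h1 : zpowers x = normalClosure {x} := by
      have h2 := (IsSimpleGroup.eq_bot_or_eq_top_of_normal (zpowers (⟨x, hx⟩ : normalClosure {x}))
        (by have := hc.isMulCommutative; infer_instance)).resolve_left
          (by simpa using h.ne_one)
      refine le_antisymm (zpowers_le.2 hx) fun y hy => ?_
      obtain ⟨n, hn⟩ := (h2 ▸ mem_top (⟨y, hy⟩ : normalClosure {x}) :)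
      exact ⟨n, congrArg Subtype.val hn⟩
    have h2 := SC.relIndex_centralizer_dvd_sub_one hp.out (zpowers x)
      ((Nat.card_zpowers x).trans h.ord)
    have : (zpowers x).Normal := h1 ▸ inferInstance
    rwa [normalizer_eq_top, relIndex_top_right, SC.centralizer_zpowers] at h2
  · obtain ⟨a, ha⟩ := k.card
    obtain ⟨m, hm⟩ := k.ord ▸ _root_.orderOf_dvd_natCard (⟨x, hx⟩ : normalClosure {x})
    rw [hm, mul_assoc] at ha
    obtain ⟨u, v, hu, hv, rfl⟩ := Nat.dvd_mul.1 (Nat.dvd_of_mul_dvd_mul_left hp.out.pos ha)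
    obtain ⟨b, -, rfl⟩ := (Nat.dvd_prime_pow Nat.prime_two).1 hu
    have h5 := h.five
    have h3 := Nat.le_of_dvd three_pos hv
    rcases Agent.S0997.result hc p 2 b v hp.out Nat.prime_two (by omega) (hm.trans (mul_assoc ..).symm)
      (by omega) with ⟨m, F, _, _, h1, -, ⟨e⟩⟩ | ⟨m, F, _, _, h1, h2, -, ⟨e⟩⟩
    · have := Class.gcd_mul_card_PSL2 (F := F)
      rw [Nat.card_eq_fintype_card (α := F), h1, ← Nat.card_congr e.toEquiv] at this
      rcases h7 with rfl | rfl <;> exact this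
    · have := Class.gcd_mul_card_PSL2 (F := F)
      rw [Nat.card_eq_fintype_card (α := F), h1, ← Nat.card_congr e.toEquiv] at this
      rcases h7 with rfl | rfl
      · rw [show 2 ^ m = 4 by omega] at this
        norm_num at this ⊢; omega
      · have h4 : 2 ^ m = 2 * 3 := by omega
        exact absurd (Nat.prime_three.dvd_of_dvd_pow (h4 ▸ dvd_mul_left 3 2)) (by norm_num)

theorem card_sylow_eq [IsSimpleGroup G] {m n : ℕ} (hG : Nat.card G = p * m) (hm : ¬ p ∣ m)
    (h1 : m ≠ 1) (h : ∀ d ∈ m.divisors, d % p = 1 → d = 1 ∨ d = n) :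
    Nat.card (Sylow p G) = n ∧ Nat.card {g : G // orderOf g = p} = n * (p - 1) := by
  obtain ⟨P⟩ : Nonempty (Sylow p G) := inferInstance
  rw [← pow_one p] at hG
  have hP := (SC.sylow_card_eq_pow P hG hm).trans (pow_one p)
  have h2 : Nat.card (Sylow p G) = n := by
    refine (h _ (Nat.mem_divisors.2 ⟨SC.card_sylow_dvd hG hm, fun h0 => hm (h0 ▸ dvd_zero p)⟩)
      (Eq.trans (card_sylow_modEq_one p G) (Nat.mod_eq_of_lt hp.out.one_lt))).resolve_left
      (SC.card_sylow_ne_one P (fun h0 => ?_) fun h0 => h1 ?_)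
    · rw [h0, card_bot] at hP; exact hp.out.one_lt.ne hP
    · rw [← SC.sylow_index_eq P hG hm, h0, index_top]
  exact ⟨h2, h2 ▸ SC.card_orderOf_eq_prime P hP⟩

end

variable {K : Type*} [Group K] [Finite K]

theorem exists_L {w : K} (hw : orderOf w = 5) (hK : Nat.card K = 7680)
    (hc : Nat.card (centralizer ({w} : Set K)) = 20) :
    Nat.card (pCore 2 K) = 64 ∧ Nonempty (K ⧸ pCore 2 K ≃* Equiv.Perm (Fin 5)) := by
  have : Fact (Nat.Prime 5) := ⟨Nat.prime_five⟩
  have h : Tp 5 w := ⟨hw, le_rfl, ⟨9, hK ▸ by norm_num⟩, hc ▸ by norm_num⟩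
  have hP := pCore_isPGroup 2 K
  have k := h.quot _ hP
  have h0 := pCore_quotient_pCore 2 K
  obtain ⟨j, hj⟩ := hP.exists_card_eq
  have h1 := card_eq_card_quotient_mul_card_subgroup (pCore 2 K)
  have h2 := h.card_cent _ hP
  have h3 := index_mul_card (centralizer ({(w : K ⧸ pCore 2 K)} : Set (K ⧸ pCore 2 K)))
  have h4 := card_mod (hw ▸ pow_orderOf_eq_one w) (A := pCore 2 K) fun s hs =>
    (inferInstance : (pCore 2 K).Normal).conj_mem s hs w
  rw [hK, hj] at h1
  rw [hc] at h2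
  rcases k.cases h0 (Or.inl rfl) with h5 | ⟨h5, h6⟩
  · have h7 : Nat.card (K ⧸ pCore 2 K) ∣ 4 * 20 := h3 ▸ Nat.mul_dvd_mul h5 (Dvd.intro _ h2)
    have h8 : 3 ∣ Nat.card (K ⧸ pCore 2 K) :=
      (Nat.Coprime.pow_right j (by norm_num : Nat.Coprime 3 2)).dvd_of_dvd_mul_right
        (by rw [← h1]; norm_num)
    exact absurd (h8.trans h7) (by norm_num)
  have := k.simple h0
  obtain ⟨m, hm⟩ := card_subgroup_dvd_card (normalClosure ({(w : K ⧸ pCore 2 K)} : Set _))
  rw [show Nat.card (normalClosure ({(w : K ⧸ pCore 2 K)} : Set _)) = 60 by omega] at hm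
  have h7 : m * 2 ^ j = 128 := by rw [hm, mul_assoc] at h1; omega
  have h8 : 120 ∣ Nat.card (K ⧸ pCore 2 K) := by
    obtain ⟨i, hi, rfl⟩ := (Nat.dvd_prime_pow Nat.prime_two (m := 7)).1 (Dvd.intro _ h7)
    rcases i with _ | i
    · have h9 := Nat.mem_divisors.2 ⟨Dvd.intro_left _ h2, by norm_num⟩
      have h10 : Nat.card (pCore 2 K ⊓ centralizer {w} : Subgroup K) ∣ 2 ^ j :=
        hj ▸ card_dvd_of_le inf_le_left
      rw [hj, show 2 ^ j = 128 by omega] at h4
      rw [show 2 ^ j = 128 by omega] at h10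
      exact ((by decide : ∀ d ∈ Nat.divisors 20, 128 ≡ d [MOD 5] → ¬ d ∣ 128) _ h9 h4 h10).elim
    · rw [hm, pow_succ]; exact ⟨2 ^ i, by ring⟩
  obtain ⟨Q⟩ : Nonempty (Sylow 5 (K ⧸ pCore 2 K)) := inferInstance
  obtain ⟨n, hn⟩ := k.ord ▸ _root_.orderOf_dvd_natCard (w : K ⧸ pCore 2 K)
  have hQ : ∀ Q : Sylow 5 (K ⧸ pCore 2 K), Nat.card Q = 5 := fun Q =>
    SC.sylow_card_eq_pow (k := 1) Q hn fun h => k.not_sq (hn ▸ Nat.mul_dvd_mul_left 5 h)
  have h9 : Nat.card (Sylow 5 (K ⧸ pCore 2 K)) = 6 := by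
    have := SC.card_orderOf_eq_prime Q (hQ Q)
    rw [k.card_ord, (card_sylow_eq (p := 5) (m := 12) (n := 6) (by omega) (by norm_num)
      (by norm_num) (by decide)).2] at this
    omega
  have h10 : (MulAction.toPermHom (K ⧸ pCore 2 K) (Sylow 5 (K ⧸ pCore 2 K))).ker = ⊥ := by
    by_contra h10
    have h11 := k.mem_of_ne h0 h10
    have h12 : ∀ Q : Sylow 5 (K ⧸ pCore 2 K), zpowers (w : K ⧸ pCore 2 K) = Q := fun Q => by
      refine SC.zpowers_eq_of_card_prime Nat.prime_five (hQ Q) ?_ k.ne_one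
      have h13 := (IsPGroup.of_card (n := 1) ((Nat.card_zpowers _).trans k.ord)).inf_normalizer_sylow Q
      exact (h13.le ⟨mem_zpowers _, Sylow.smul_eq_iff_mem_normalizer.1 (DFunLike.congr_fun h11 Q)⟩).2
    have : Subsingleton (Sylow 5 (K ⧸ pCore 2 K)) :=
      ⟨fun a b => Sylow.ext ((h12 a).symm.trans (h12 b))⟩
    have := Finite.card_le_one_iff_subsingleton.2 this
    omega
  obtain ⟨e⟩ := Finite.card_eq.1 (h9.trans (Nat.card_fin 6).symm)
  let f := (Equiv.permCongrHom e).toMonoidHom.comp (MulAction.toPermHom (K ⧸ pCore 2 K) _)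
  have hf : Function.Injective f := (Equiv.permCongrHom e).injective.comp
    ((MonoidHom.ker_eq_bot_iff _).1 h10)
  have e1 := MonoidHom.ofInjective hf
  have h11 := Nat.card_congr e1.toEquiv
  have h12 : ¬ 9 ∣ Nat.card f.range := fun h => by
    have := (h11 ▸ h).trans (Dvd.intro _ h1.symm); omega
  rcases Class.Ev.six_cases (h11 ▸ h8) with h | h | ⟨⟨e2⟩⟩
  · exact (h12 (by rw [h, card_top, Nat.card_perm, Nat.card_fin]; decide)).elim
  · refine (h12 ?_).elim
    have := index_mul_card (alternatingGroup (Fin 6))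
    rw [alternatingGroup.index_eq_two, Nat.card_perm, Nat.card_fin, show Nat.factorial 6 = 720 from rfl] at this
    rw [h]; omega
  refine ⟨?_, ⟨e1.trans e2⟩⟩
  rw [h11, Nat.card_congr e2.toEquiv, Nat.card_perm, Nat.card_fin,
    show Nat.factorial 5 = 120 from rfl] at h1
  omega

theorem simple_SL : IsSimpleGroup (Matrix.SpecialLinearGroup (Fin 3) (ZMod 2)) := by
  have h := Class.PSL_isSimpleGroup (ι := Fin 3) (F := ZMod 2) (by simp)
  have h1 : center (Matrix.SpecialLinearGroup (Fin 3) (ZMod 2)) = ⊥ := by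
    refine eq_bot_iff.2 fun A hA => ?_
    obtain ⟨r, h2, h3⟩ := Matrix.SpecialLinearGroup.mem_center_iff.1 hA
    obtain rfl : r = 1 := (by decide : ∀ r : ZMod 2, r ^ 3 = 1 → r = 1) r (by simpa using h2)
    exact Subtype.ext (by simpa using h3.symm)
  exact ((QuotientGroup.quotientMulEquivOfEq h1).trans QuotientGroup.quotientBot).symm.isSimpleGroup

theorem exists_H {y z : K} (hy : orderOf y = 7) (hK : Nat.card K = 21504)
    (hc : Nat.card (centralizer ({y} : Set K)) = 14) (hz : orderOf z = 2) (hZ : z ∈ center K) :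
    Nat.card (pCore 2 K) = 1024 ∨ (Nat.card (pCore 2 K) = 128 ∧
      Nonempty (K ⧸ pCore 2 K ≃* Matrix.SpecialLinearGroup (Fin 3) (ZMod 2))) := by
  have : Fact (Nat.Prime 7) := ⟨Nat.prime_seven⟩
  have h : Tp 7 y := ⟨hy, by norm_num, ⟨10, hK ▸ by norm_num⟩, hc ▸ by norm_num⟩
  have hP := pCore_isPGroup 2 K
  have k := h.quot _ hP
  have h0 := pCore_quotient_pCore 2 K
  obtain ⟨j, hj⟩ := hP.exists_card_eq
  have h1 := card_eq_card_quotient_mul_card_subgroup (pCore 2 K)
  have h2 := h.card_cent _ hP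
  have h3 := index_mul_card (centralizer ({(y : K ⧸ pCore 2 K)} : Set (K ⧸ pCore 2 K)))
  have h4 := card_mod (hy ▸ pow_orderOf_eq_one y) (A := pCore 2 K) fun s hs =>
    (inferInstance : (pCore 2 K).Normal).conj_mem s hs y
  have h7 : Nat.card (pCore 2 K ⊓ centralizer {y} : Subgroup K) = 2 := by
    have h8 := orderOf_dvd_natCard (pCore 2 K ⊓ centralizer {y})
      ⟨Solv.le_pCore (normal_of_le_center (zpowers_le.2 hZ)) (IsPGroup.of_card (n := 1)
        ((Nat.card_zpowers z).trans hz)) (mem_zpowers z), center_le_centralizer _ hZ⟩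
    rw [hz] at h8
    have h9 := Nat.mem_divisors.2 ⟨Dvd.intro_left _ (h2.trans hc), by norm_num⟩
    obtain ⟨i, -, hi⟩ := (Nat.dvd_prime_pow Nat.prime_two).1
      (hj ▸ card_dvd_of_le inf_le_left : Nat.card (pCore 2 K ⊓ centralizer {y} : Subgroup K) ∣ 2 ^ j)
    have h10 : ¬ 7 ∣ 2 ^ i := fun h => absurd (Nat.prime_seven.dvd_of_dvd_pow h) (by norm_num)
    rw [← hi] at h10
    exact (by decide : ∀ d ∈ Nat.divisors 14, 2 ∣ d → ¬ 7 ∣ d → d = 2) _ h9 h8 h10
  rw [hK] at h1
  rw [h7, hc] at h2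
  rw [h7] at h4
  rw [show Nat.card (centralizer ({(y : K ⧸ pCore 2 K)} : Set (K ⧸ pCore 2 K))) = 7 by omega] at h3
  have h8 : j ≤ 10 := (Nat.pow_dvd_pow_iff_le_right one_lt_two).1
    ((Nat.Coprime.pow_left j (by norm_num : Nat.Coprime 2 21)).dvd_of_dvd_mul_left
      (hj ▸ Dvd.intro_left _ h1.symm))
  rcases k.cases h0 (Or.inr rfl) with h5 | ⟨h5, h6⟩
  · have := Nat.le_of_dvd (by norm_num) h5
    rw [hj] at h1 h4 ⊢
    interval_cases j <;> simp [Nat.ModEq] at h4 <;> omega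
  have := k.simple h0
  have h9 := k.index_le
  rw [k.card_ord, (card_sylow_eq (p := 7) (m := 24) (n := 8) (by omega) (by norm_num)
    (by norm_num) (by decide)).2] at h9
  have h10 := card_le_card_group (normalClosure ({(y : K ⧸ pCore 2 K)} : Set _))
  have h11 : Nat.card (pCore 2 K) = 128 := by
    rw [hj] at h1 h4 ⊢
    interval_cases j <;> simp [Nat.ModEq] at h4 <;> omega
  have h12 : Nat.card (K ⧸ pCore 2 K) = 168 := by rw [h11] at h1; omega
  have h13 : normalClosure ({(y : K ⧸ pCore 2 K)} : Set _) = ⊤ :=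
    eq_top_of_card_eq _ (by omega)
  have := ((MulEquiv.subgroupCongr h13).trans topEquiv).symm.isSimpleGroup
  have := simple_SL
  obtain ⟨e1⟩ := G168.nonempty_equiv h12
  obtain ⟨e2⟩ := G168.nonempty_equiv l32_card
  exact Or.inr ⟨h11, ⟨e1.symm.trans e2⟩⟩

end Cfsg.Lib.Spor.O24
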