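import Cfsg.Agent.Spor.M24Classes

/-!
Named representatives of the classes of `M24`, elements of small order, and generators and chains of
some centralisers.
-/

set_option autoImplicit false
set_option maxRecDepth 100000

namespace Cfsg.Lib.Spor.MP

open Cfsg Cfsg.Lib.Spor Subgroup
open scoped Pointwise

/-- Representative of the class 2A of `M24`. -/
def r2A : ℕ := 981818691054096003685363657089320992
/-- Representative of the class 2B of `M24`. -/
def r2B : ℕ := 423560160008076824839527313137868400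
/-- Representative of the class 3A of `M24`. -/
def r3A : ℕ := 961409415667826064667231448532617248
/-- Representative of the class 3B of `M24`. -/
def r3B : ℕ := 731031589912739761456261964938713156
/-- Representative of the class 4A of `M24`. -/
def r4A : ℕ := 440594079498300131573546678918650402
/-- Representative of the class 4B of `M24`. -/
def r4B : ℕ := 982815477430510018164584634543179808
/-- Representative of the class 4C of `M24`. -/
def r4C : ℕ := 374788682139599451065193338005728358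
/-- Representative of the class 5A of `M24`. -/
def r5A : ℕ := 980474875703647333030717197542492192
/-- Representative of the class 6A of `M24`. -/
def r6A : ℕ := 980420626619371521843173669715228032
/-- Representative of the class 6B of `M24`. -/
def r6B : ℕ := 833953359980981344503672785613115083
/-- Representative of the class 7A of `M24`. -/
def r7A : ℕ := 962363159447813494826216926850177056
/-- Representative of the class 7B of `M24`. -/
def r7B : ℕ := 971300733623121490983633672782330912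
/-- Representative of the class 8A of `M24`. -/
def r8A : ℕ := 963740734657802498612021910558059840
/-- Representative of the class 10A of `M24`. -/
def r10A : ℕ := 146197049952515158623958297742657830
/-- Representative of the class 11A of `M24`. -/
def r11A : ℕ := 983435072843990828779021698901151808
/-- Representative of the class 12A of `M24`. -/
def r12A : ℕ := 460024329992666690093694435189071538
/-- Representative of the class 12B of `M24`. -/
def r12B : ℕ := 212206440191691310420729340590358963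
/-- Representative of the class 14A of `M24`. -/
def r14A : ℕ := 959742772572894207861320119953268013
/-- Representative of the class 14B of `M24`. -/
def r14B : ℕ := 962180441155639789660424700438069364
/-- Representative of the class 15A of `M24`. -/
def r15A : ℕ := 973767728387667785341612043999248811
/-- Representative of the class 15B of `M24`. -/
def r15B : ℕ := 977703982123320617462384284846603490
/-- Representative of the class 21A of `M24`. -/
def r21A : ℕ := 71843571241390614712401584211532052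
/-- Representative of the class 21B of `M24`. -/
def r21B : ℕ := 628966723844324815699491111605715397
/-- Representative of the class 23A of `M24`. -/
def r23A : ℕ := 983478296959358443554250846857397270
/-- Representative of the class 23B of `M24`. -/
def r23B : ℕ := 956302485175575353788796878166559809

theorem reps24_eq : reps24 = [(pid, 1, 244823040), (r2A, 2, 21504), (r2B, 2, 7680), (r3A, 3, 1080), (r3B, 3, 504), (r4A, 4, 384), (r4B, 4, 128), (r4C, 4, 96), (r5A, 5, 60), (r6A, 6, 24), (r6B, 6, 24), (r7A, 7, 42), (r7B, 7, 42), (r8A, 8, 16), (r10A, 10, 20), (r11A, 11, 11), (r12A, 12, 12), (r12B, 12, 12), (r14A, 14, 14), (r14B, 14, 14), (r15A, 15, 15), (r15B, 15, 15), (r21A, 21, 21), (r21B, 21, 21), (r23A, 23, 23), (r23B, 23, 23)] := rfl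


/-- Test that two packed permutations commute. -/
def comm (p q : ℕ) : Bool := Nat.beq (pmul p q) (pmul q p)

theorem Rep.comm_iff {g h : Equiv.Perm GolayPt} {p q : ℕ} (hg : Rep g p) (hh : Rep h q) :
    comm p q = true ↔ g * h = h * g := by
  rw [comm, Nat.beq_eq, ← hg.pack_mul hh, ← hh.pack_mul hg, pack_injective.eq_iff]

theorem IsClassList.cent_chain {H : Subgroup (Equiv.Perm GolayPt)} {reps : List (ℕ × ℕ × ℕ)}
    (h : IsClassList H reps) {r : ℕ × ℕ × ℕ} (hr : r ∈ reps) {gens : List ℕ}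
    (hg : ∀ t ∈ gens, InSub H t) (hc : gens.all (comm r.1) = true) {cert : List PK.Cert}
    (hl : PK.chkLowF 9 24 cert (gens.map toPK) = true) (hN : r.2.2 ≤ PK.certOrder cert) :
    pclosure gens = H ⊓ centralizer {toPerm r.1} ∧
      PK.Chain 9 24 idxPt (H ⊓ centralizer {toPerm r.1}) (PK.lvls 9 24 cert (gens.map toPK)) :=
  pk_chain_low (H := H ⊓ centralizer {toPerm r.1})
    (fun t ht => ⟨(hg t ht).1, (hg t ht).2, mem_centralizer_singleton_iff.2
    (((h.mem r hr).rep.comm_iff (hg t ht).rep).1 (List.all_eq_true.1 hc t ht)).symm⟩) hl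
    ((h.cent r hr).le.trans hN)

theorem M24_cent_chain {r : ℕ × ℕ × ℕ} (hr : r ∈ reps24) {gens : List ℕ}
    (hg : (gens.all isM24 && gens.all (comm r.1)) = true) {cert : List PK.Cert}
    (hl : PK.chkLowF 9 24 cert (gens.map toPK) = true) (hN : Nat.ble r.2.2 (PK.certOrder cert) = true) :
    pclosure gens = M24 ⊓ centralizer {toPerm r.1} ∧
      PK.Chain 9 24 idxPt (M24 ⊓ centralizer {toPerm r.1}) (PK.lvls 9 24 cert (gens.map toPK)) := by
  rw [Bool.and_eq_true] at hg
  exact isClassList_M24.cent_chain hr (fun t ht => inSub_M24 (List.all_eq_true.1 hg.1 t ht)) hg.2 hl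
    (Nat.le_of_ble_eq_true hN)

theorem conj_fpf_iff (k x : Equiv.Perm GolayPt) :
    (∀ p, (k * x * k⁻¹) p ≠ p) ↔ ∀ p, x p ≠ p :=
  ⟨fun h p e => h (k p) ((conj_apply_eq_iff k x rfl).2 e),
    fun h p e => h (k⁻¹ p) ((conj_apply_eq_iff k x (by simp)).1 e)⟩

theorem Rep.fpf {g : Equiv.Perm GolayPt} {p : ℕ} (h : Rep g p) (h0 : fixM p = 0) (x : GolayPt) :
    g x ≠ x := fun e => by
  have : x ∈ Finset.univ.filter fun x => g x = x := by simpa using e
  rw [h.filter_fixed, h0, mem_maskSet] at this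
  simp at this

theorem inSub_rep24 {r : ℕ × ℕ × ℕ} (hr : r ∈ reps24) : InSub M24 r.1 := isClassList_M24.mem r hr

theorem inSub_r2A : InSub M24 r2A := inSub_rep24 (r := (r2A, 2, 21504)) (by simp [reps24_eq])
theorem inSub_r2B : InSub M24 r2B := inSub_rep24 (r := (r2B, 2, 7680)) (by simp [reps24_eq])
theorem inSub_r3A : InSub M24 r3A := inSub_rep24 (r := (r3A, 3, 1080)) (by simp [reps24_eq])
theorem inSub_r3B : InSub M24 r3B := inSub_rep24 (r := (r3B, 3, 504)) (by simp [reps24_eq])
theorem inSub_r5A : InSub M24 r5A := inSub_rep24 (r := (r5A, 5, 60)) (by simp [reps24_eq])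
theorem inSub_r7A : InSub M24 r7A := inSub_rep24 (r := (r7A, 7, 42)) (by simp [reps24_eq])
theorem inSub_r7B : InSub M24 r7B := inSub_rep24 (r := (r7B, 7, 42)) (by simp [reps24_eq])

theorem orderOf_r2A : orderOf (toPerm r2A) = 2 := inSub_r2A.rep.orderOf_eq (by decide +kernel)
theorem orderOf_r2B : orderOf (toPerm r2B) = 2 := inSub_r2B.rep.orderOf_eq (by decide +kernel)
theorem orderOf_r3A : orderOf (toPerm r3A) = 3 := inSub_r3A.rep.orderOf_eq (by decide +kernel)
theorem orderOf_r3B : orderOf (toPerm r3B) = 3 := inSub_r3B.rep.orderOf_eq (by decide +kernel)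
theorem orderOf_r5A : orderOf (toPerm r5A) = 5 := inSub_r5A.rep.orderOf_eq (by decide +kernel)
theorem orderOf_r7A : orderOf (toPerm r7A) = 7 := inSub_r7A.rep.orderOf_eq (by decide +kernel)

theorem fixed_r2A : (Finset.univ.filter fun p => toPerm r2A p = p) = maskSet 8536111 := by
  rw [inSub_r2A.rep.filter_fixed]; congr 1

theorem fpf_r2B (p : GolayPt) : toPerm r2B p ≠ p := inSub_r2B.rep.fpf (by decide +kernel) p
theorem fpf_r3B (p : GolayPt) : toPerm r3B p ≠ p := inSub_r3B.rep.fpf (by decide +kernel) p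
theorem r2A_none : toPerm r2A none = none := inSub_r2A.rep.apply_idxPt (i := 23) (by norm_num)
theorem r3A_none : toPerm r3A none = none := inSub_r3A.rep.apply_idxPt (i := 23) (by norm_num)

theorem card_fixed_r2A : (Finset.univ.filter fun p => toPerm r2A p = p).card = 8 :=
  inSub_r2A.rep.card_fixed.trans (by decide +kernel)
theorem card_fixed_r2B : (Finset.univ.filter fun p => toPerm r2B p = p).card = 0 :=
  inSub_r2B.rep.card_fixed.trans (by decide +kernel)
theorem card_fixed_r3A : (Finset.univ.filter fun p => toPerm r3A p = p).card = 6 :=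
  inSub_r3A.rep.card_fixed.trans (by decide +kernel)
theorem card_fixed_r3B : (Finset.univ.filter fun p => toPerm r3B p = p).card = 0 :=
  inSub_r3B.rep.card_fixed.trans (by decide +kernel)

/-- An element of order `k` of `M24` is conjugate to one of two representatives. -/
theorem M24_order_cases {g : Equiv.Perm GolayPt} (hg : g ∈ M24) {k : ℕ} (h : orderOf g = k)
    {a b : ℕ} (hab : (reps24.filter fun r => Nat.beq r.2.1 k).map Prod.fst = [a, b]) :
    ∃ k ∈ M24, k * toPerm a * k⁻¹ = g ∨ k * toPerm b * k⁻¹ = g := by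
  obtain ⟨r, hr, c, hc, e⟩ := isClassList_M24.exists_of_order hg h
  have : r.1 ∈ [a, b] := hab ▸ List.mem_map_of_mem hr
  simp only [List.mem_cons, List.not_mem_nil, or_false] at this
  rcases this with h | h
  · exact ⟨c, hc, Or.inl (h ▸ e)⟩
  · exact ⟨c, hc, Or.inr (h ▸ e)⟩

/-- An element of order `k` of `M24` is conjugate to the unique representative of that order. -/
theorem M24_order_unique {g : Equiv.Perm GolayPt} (hg : g ∈ M24) {k : ℕ} (h : orderOf g = k)
    {a : ℕ} (hab : (reps24.filter fun r => Nat.beq r.2.1 k).map Prod.fst = [a]) :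
    ∃ k ∈ M24, k * toPerm a * k⁻¹ = g := by
  obtain ⟨r, hr, c, hc, e⟩ := isClassList_M24.exists_of_order hg h
  have : r.1 ∈ [a] := hab ▸ List.mem_map_of_mem hr
  exact ⟨c, hc, List.mem_singleton.1 this ▸ e⟩

theorem M24_order_two {g : Equiv.Perm GolayPt} (hg : g ∈ M24) (h : orderOf g = 2) :
    ∃ k ∈ M24, k * toPerm r2A * k⁻¹ = g ∨ k * toPerm r2B * k⁻¹ = g := M24_order_cases hg h rfl

theorem M24_order_three {g : Equiv.Perm GolayPt} (hg : g ∈ M24) (h : orderOf g = 3) :
    ∃ k ∈ M24, k * toPerm r3A * k⁻¹ = g ∨ k * toPerm r3B * k⁻¹ = g := M24_order_cases hg h rfl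

theorem M24_order_five {g : Equiv.Perm GolayPt} (hg : g ∈ M24) (h : orderOf g = 5) :
    ∃ k ∈ M24, k * toPerm r5A * k⁻¹ = g := M24_order_unique hg h rfl

theorem M24_order_six {g : Equiv.Perm GolayPt} (hg : g ∈ M24) (h : orderOf g = 6) :
    ∃ k ∈ M24, k * toPerm r6A * k⁻¹ = g ∨ k * toPerm r6B * k⁻¹ = g := M24_order_cases hg h rfl

theorem M24_order_seven {g : Equiv.Perm GolayPt} (hg : g ∈ M24) (h : orderOf g = 7) :
    ∃ k ∈ M24, k * toPerm r7A * k⁻¹ = g ∨ k * toPerm r7B * k⁻¹ = g := M24_order_cases hg h rfl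

theorem M24_order_eleven {g : Equiv.Perm GolayPt} (hg : g ∈ M24) (h : orderOf g = 11) :
    ∃ k ∈ M24, k * toPerm r11A * k⁻¹ = g := M24_order_unique hg h rfl

theorem M24_order_twentythree {g : Equiv.Perm GolayPt} (hg : g ∈ M24) (h : orderOf g = 23) :
    ∃ k ∈ M24, k * toPerm r23A * k⁻¹ = g ∨ k * toPerm r23B * k⁻¹ = g := M24_order_cases hg h rfl

theorem M24_conj_2A {g : Equiv.Perm GolayPt} (hg : g ∈ M24) (h : orderOf g = 2) {p : GolayPt}
    (hp : g p = p) : ∃ k ∈ M24, k * toPerm r2A * k⁻¹ = g := by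
  obtain ⟨k, hk, e | e⟩ := M24_order_two hg h
  · exact ⟨k, hk, e⟩
  · exact absurd hp (e ▸ (conj_fpf_iff k _).2 fpf_r2B p)

theorem M24_conj_2B {g : Equiv.Perm GolayPt} (hg : g ∈ M24) (h : orderOf g = 2)
    (hp : ∀ p, g p ≠ p) : ∃ k ∈ M24, k * toPerm r2B * k⁻¹ = g := by
  obtain ⟨k, hk, e | e⟩ := M24_order_two hg h
  · exact absurd r2A_none ((conj_fpf_iff k _).1 (e ▸ hp) none)
  · exact ⟨k, hk, e⟩

theorem M24_conj_3A {g : Equiv.Perm GolayPt} (hg : g ∈ M24) (h : orderOf g = 3) {p : GolayPt}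
    (hp : g p = p) : ∃ k ∈ M24, k * toPerm r3A * k⁻¹ = g := by
  obtain ⟨k, hk, e | e⟩ := M24_order_three hg h
  · exact ⟨k, hk, e⟩
  · exact absurd hp (e ▸ (conj_fpf_iff k _).2 fpf_r3B p)

theorem M24_conj_3B {g : Equiv.Perm GolayPt} (hg : g ∈ M24) (h : orderOf g = 3)
    (hp : ∀ p, g p ≠ p) : ∃ k ∈ M24, k * toPerm r3B * k⁻¹ = g := by
  obtain ⟨k, hk, e | e⟩ := M24_order_three hg h
  · exact absurd r3A_none ((conj_fpf_iff k _).1 (e ▸ hp) none)
  · exact ⟨k, hk, e⟩

theorem card_cent_r2A : Nat.card ↥(M24 ⊓ centralizer {toPerm r2A}) = 21504 :=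
  isClassList_M24.cent (r2A, 2, 21504) (by simp [reps24_eq])
theorem card_cent_r2B : Nat.card ↥(M24 ⊓ centralizer {toPerm r2B}) = 7680 :=
  isClassList_M24.cent (r2B, 2, 7680) (by simp [reps24_eq])
theorem card_cent_r3A : Nat.card ↥(M24 ⊓ centralizer {toPerm r3A}) = 1080 :=
  isClassList_M24.cent (r3A, 3, 1080) (by simp [reps24_eq])
theorem card_cent_r3B : Nat.card ↥(M24 ⊓ centralizer {toPerm r3B}) = 504 :=
  isClassList_M24.cent (r3B, 3, 504) (by simp [reps24_eq])
theorem card_cent_r5A : Nat.card ↥(M24 ⊓ centralizer {toPerm r5A}) = 60 :=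
  isClassList_M24.cent (r5A, 5, 60) (by simp [reps24_eq])
theorem card_cent_r7A : Nat.card ↥(M24 ⊓ centralizer {toPerm r7A}) = 42 :=
  isClassList_M24.cent (r7A, 7, 42) (by simp [reps24_eq])

/-- Generators of the centraliser of `r2A` in `M24`. -/
def cg2A : List ℕ :=
  [92417651125109602786044914712481216, 587276398265495163356264333696535713]

/-- Chain certificate for the centraliser of `r2A`. -/
def cc2A : List Cfsg.Lib.Spor.PK.Cert :=
  [⟨1, [1088, 1, 192, 897, 128, 1473, 321], [[0, 0, 0, 0, 0, 1], [0, 1, 0, 0, 1, 1]]⟩,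
   ⟨0, [896, 1089, 192, 1473, 128, 321], [[0, 1, 1, 1, 0], [0, 1, 0, 0, 1]]⟩,
   ⟨2, [896, 320, 1089, 1473, 192], [[0, 0, 1, 1, 0], [1, 0, 0], [0, 1, 1, 1], [0, 1, 0, 1]]⟩,
   ⟨4, [1216, 1281, 450, 963, 1344, 642, 386, 1025, 706, 768, 1409, 514, 834, 1155, 577], [[2, 1, 2, 0], [3, 1,
    1]]⟩,
   ⟨3, [1472, 897, 321], []⟩]

theorem cent2A : pclosure cg2A = M24 ⊓ centralizer {toPerm r2A} ∧
    PK.Chain 9 24 idxPt (M24 ⊓ centralizer {toPerm r2A}) (PK.lvls 9 24 cc2A (cg2A.map toPK)) :=
  M24_cent_chain (r := (r2A, 2, 21504)) (by simp [reps24_eq]) (by decide +kernel) (by decide +kernel)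
    (by decide +kernel)

/-- Generators of the centraliser of `r2B` in `M24`. -/
def cg2B : List ℕ :=
  [760689445683738533191532368022408589, 357463133186524745955767263951405255]

/-- Chain certificate for the centraliser of `r2B`. -/
def cc2B : List Cfsg.Lib.Spor.PK.Cert :=
  [⟨0, [1344, 449, 1088, 769, 704, 896, 833, 64, 1024, 961, 1280, 641, 385, 576, 129, 512, 257, 1408, 321, 1152,
    1473, 192, 1217], [[1, 0, 1, 0, 0, 0, 0, 0, 0, 1], [1, 0, 1, 0, 1, 0, 0, 0, 1]]⟩,
   ⟨1, [448, 1217, 1344, 961, 128, 704, 1153, 256, 897, 576, 1089, 320, 1409, 193, 832, 1281, 513, 769, 385],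
    [[1, 0, 1, 1, 1, 0, 1, 0, 0, 0], [0, 1, 1, 1, 0, 1, 0, 0, 0, 1]]⟩,
   ⟨2, [384, 1409, 960, 257, 1088, 193, 832, 705, 1152, 1281, 897, 448, 513, 1344, 577], []⟩]

theorem cent2B : pclosure cg2B = M24 ⊓ centralizer {toPerm r2B} ∧
    PK.Chain 9 24 idxPt (M24 ⊓ centralizer {toPerm r2B}) (PK.lvls 9 24 cc2B (cg2B.map toPK)) :=
  M24_cent_chain (r := (r2B, 2, 7680)) (by simp [reps24_eq]) (by decide +kernel) (by decide +kernel)
    (by decide +kernel)

/-- Generators of the centraliser of `r3A` in `M24`. -/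
def cg3A : List ℕ :=
  [975688747032167214350873097281765795, 29340105355795378440883415340398306]

/-- Chain certificate for the centraliser of `r3A`. -/
def cc3A : List Cfsg.Lib.Spor.PK.Cert :=
  [⟨0, [128, 1473, 832, 65, 192], [[0, 1], [1, 1, 0, 1, 0]]⟩,
   ⟨1, [192, 833, 1472, 129], [[0, 0, 1], [0, 1, 0]]⟩,
   ⟨2, [192, 1473, 832], [[0, 1, 0, 0], [1, 0, 1, 0]]⟩,
   ⟨3, [832, 1472], [[1]]⟩,
   ⟨4, [1024, 1408], []⟩]

theorem cent3A : pclosure cg3A = M24 ⊓ centralizer {toPerm r3A} ∧
    PK.Chain 9 24 idxPt (M24 ⊓ centralizer {toPerm r3A}) (PK.lvls 9 24 cc3A (cg3A.map toPK)) :=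
  M24_cent_chain (r := (r3A, 3, 1080)) (by simp [reps24_eq]) (by decide +kernel) (by decide +kernel)
    (by decide +kernel)

/-- Generators of the centraliser of `r3B` in `M24`. -/
def cg3B : List ℕ :=
  [645333758475882427202174002882943043, 382499681871872257900716290854767158]

/-- Chain certificate for the centraliser of `r3B`. -/
def cc3B : List Cfsg.Lib.Spor.PK.Cert :=
  [⟨0, [512, 1025, 192, 832, 641, 961, 320, 705, 1152, 577, 1472, 769, 256, 1281, 1216, 129, 896, 448, 385, 1089,
    1344, 64, 1409], [[1, 1, 0, 0, 1, 1, 0], [1, 1, 1, 0, 1, 0, 1, 1, 0]]⟩,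
   ⟨1, [768, 1089, 320, 960, 1216, 192], [[0, 1]]⟩,
   ⟨3, [1088, 1216], []⟩]

theorem cent3B : pclosure cg3B = M24 ⊓ centralizer {toPerm r3B} ∧
    PK.Chain 9 24 idxPt (M24 ⊓ centralizer {toPerm r3B}) (PK.lvls 9 24 cc3B (cg3B.map toPK)) :=
  M24_cent_chain (r := (r3B, 3, 504)) (by simp [reps24_eq]) (by decide +kernel) (by decide +kernel)
    (by decide +kernel)

/-- Generators of the centraliser of `r5A` in `M24`. -/
def cg5A : List ℕ :=
  [106580940976848093941153364487505632, 978369101582787165095917336751506434]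

/-- Chain certificate for the centraliser of `r5A`. -/
def cc5A : List Cfsg.Lib.Spor.PK.Cert :=
  [⟨1, [128, 1472, 1], [[0, 0, 1, 0]]⟩,
   ⟨0, [128, 1472], [[0, 0, 0]]⟩,
   ⟨3, [1024, 1344, 640, 704], []⟩]

theorem cent5A : pclosure cg5A = M24 ⊓ centralizer {toPerm r5A} ∧
    PK.Chain 9 24 idxPt (M24 ⊓ centralizer {toPerm r5A}) (PK.lvls 9 24 cc5A (cg5A.map toPK)) :=
  M24_cent_chain (r := (r5A, 5, 60)) (by simp [reps24_eq]) (by decide +kernel) (by decide +kernel)
    (by decide +kernel)

/-- Generators of the centraliser of `r7A` in `M24`. -/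
def cg7A : List ℕ :=
  [17623527737917500349162246863561783, 975720310903642165457008918268058625]

/-- Chain certificate for the centraliser of `r7A`. -/
def cc7A : List Cfsg.Lib.Spor.PK.Cert :=
  [⟨0, [1472, 65], [[0, 1, 0]]⟩,
   ⟨2, [1344, 832, 192, 896, 256, 1408, 768, 1280, 1216, 576, 384, 320, 640], []⟩]

theorem cent7A : pclosure cg7A = M24 ⊓ centralizer {toPerm r7A} ∧
    PK.Chain 9 24 idxPt (M24 ⊓ centralizer {toPerm r7A}) (PK.lvls 9 24 cc7A (cg7A.map toPK)) :=
  M24_cent_chain (r := (r7A, 7, 42)) (by simp [reps24_eq]) (by decide +kernel) (by decide +kernel)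
    (by decide +kernel)


end Cfsg.Lib.Spor.MP
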