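/-
3-transposition groups with a disconnected commuting graph: the outer automorphisms of order three.
-/
import Cfsg.Agent.Spor.ThmA
import Cfsg.Agent.Base.RedMult
import Cfsg.Agent.Trans.BpBalance
import Cfsg.Agent.Known.ReflKit
import Cfsg.Agent.Class.OrthExt
import Cfsg.Agent.Class.SmallFields
import Cfsg.Agent.S0247
import Cfsg.Agent.S0254
import Cfsg.Agent.S0269
import Cfsg.Agent.S0283
import Cfsg.Agent.S0301
import Cfsg.Agent.S0302
import Cfsg.Agent.S0303
import Cfsg.Agent.S0822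
import Cfsg.Agent.S2119
import Cfsg.Agent.S2601
import Cfsg.Agent.S2602
import Cfsg.Agent.S2603
import Cfsg.Agent.S2604
import Cfsg.Agent.S2605
import Cfsg.Agent.S2606
import Cfsg.Agent.S2607
import Cfsg.Agent.S2608
import Cfsg.Agent.S5375

set_option autoImplicit false

namespace Cfsg.Lib.Spor

open TQ Subgroup Cfsg.Agent Cfsg.Lib.Class

theorem card_out_congr {K K' : Type*} [Group K] [Group K'] (e : K ≃* K') :
    Nat.card (Out K) = Nat.card (Out K') := Nat.card_congr (Trans.outCongr e).toEquiv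

theorem card_eq_of_hom {O A : Type*} [Group O] [Group A] {φ : O →* A} (h : Function.Surjective φ) :
    Nat.card O = Nat.card A * Nat.card φ.ker := by
  rw [← φ.ker.index_mul_card, index_ker, MonoidHom.range_eq_top.2 h, card_top]

theorem out_alt {n : ℕ} (hn : 5 ≤ n) : ¬ 3 ∣ Nat.card (Out (alternatingGroup (Fin n))) := by
  by_cases h6 : n = 6
  · subst h6
    obtain ⟨e⟩ := S0254.result card_GF9
    obtain ⟨φ, h1, -, h2⟩ := S2602.result (F := GF9) (p := 3) (f := 2) (by omega) card_GF9 (by omega)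
    rw [← card_out_congr e, card_eq_of_hom h1, h2]
    simp
  have h1 : Function.Surjective ((QuotientGroup.mk' (Cfsg.Inn (alternatingGroup (Fin n)))).comp
      (MulAut.conjNormal : Equiv.Perm (Fin n) →* _)) :=
    (QuotientGroup.mk'_surjective _).comp (S2119.result n (by omega) h6).2
  have : Nontrivial (Fin n) := Fin.nontrivial_iff_two_le.2 (by omega)
  have h2 := index_dvd_of_le (H := alternatingGroup (Fin n)) (K := ((QuotientGroup.mk'
    (Cfsg.Inn (alternatingGroup (Fin n)))).comp (MulAut.conjNormal : Equiv.Perm (Fin n) →* _)).ker)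
    fun g hg => (QuotientGroup.eq_one_iff _).2 ⟨⟨g, hg⟩, by ext; rfl⟩
  rw [index_ker, MonoidHom.range_eq_top.2 h1, card_top, alternatingGroup.index_eq_two] at h2
  exact fun h => absurd (h.trans h2) (by norm_num)

theorem out_psu42 : ¬ 3 ∣ Nat.card (Out (PSU 4 Class.GF4 2)) := by
  obtain ⟨φ, h1, -, h2⟩ := S2603.result (K := Class.GF4) (p := 2) (f := 1) (q := 2) (n := 4) le_rfl rfl
    card_GF4 (by omega) (by omega)
  rw [card_eq_of_hom h1, h2]
  simp

theorem out_plus2 {m : ℕ} (hm : 3 ≤ m) (h : 3 ∣ Nat.card (Out (POmega (ZMod 2) (quadFormPlus m (ZMod 2))))) :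
    m = 4 ∧ Nat.card (Out (POmega (ZMod 2) (quadFormPlus m (ZMod 2)))) ∣ 24 := by
  rcases hm.eq_or_lt with rfl | hm
  · obtain ⟨e⟩ := S0302.result (F := ZMod 2)
    obtain ⟨φ, h1, -, h2⟩ := S2601.result (F := ZMod 2) (p := 2) (f := 1) (n := 4) le_rfl rfl (by omega)
    rw [card_out_congr e, card_eq_of_hom h1, h2] at h
    simp at h
  have := S2607.result (F := ZMod 2) (f := 1) (m := m) le_rfl rfl hm
  split_ifs at this with h4 <;> obtain ⟨e⟩ := this <;> rw [Nat.card_congr e.toEquiv] at h ⊢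
  · exact ⟨h4, by simp [Fintype.card_perm, Nat.factorial]⟩
  · simp at h

theorem out_minus2 {m : ℕ} (hm : 2 ≤ m) :
    ¬ 3 ∣ Nat.card (Out (POmega (ZMod 2) (quadFormMinus m (ZMod 2) 1 1))) := by
  rcases hm.eq_or_lt with rfl | hm
  · obtain ⟨e⟩ := S0303.result (F := ZMod 2) (K := Class.GF4) (q := 2) rfl card_GF4 1 1 (by decide)
    rw [card_out_congr e]
    exact out_psu42
  rw [show m = m + 1 - 1 from rfl, (S2605.result (F := ZMod 2) (f := 1) (m := m + 1) le_rfl rfl (by omega)
    1 1 (by decide)).2]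
  omega

theorem out_plus3 {m : ℕ} (hm : 3 ≤ m) (h : 3 ∣ Nat.card (Out (POmega (ZMod 3) (quadFormPlus m (ZMod 3))))) :
    m = 4 ∧ Nat.card (Out (POmega (ZMod 3) (quadFormPlus m (ZMod 3)))) ∣ 24 := by
  rcases hm.eq_or_lt with rfl | hm
  · obtain ⟨e⟩ := S0302.result (F := ZMod 3)
    obtain ⟨φ, h1, -, h2⟩ := S2601.result (F := ZMod 3) (p := 3) (f := 1) (n := 4) le_rfl rfl (by omega)
    rw [card_out_congr e, card_eq_of_hom h1, h2] at h
    simp at h
  have := S2608.result (F := ZMod 3) (p := 3) (f := 1) (m := m) le_rfl rfl (by omega) hm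
  split_ifs at this with h4 <;> obtain ⟨e⟩ := this <;> rw [Nat.card_congr e.toEquiv] at h ⊢
  · exact ⟨h4, by simp [Fintype.card_perm, Nat.factorial]⟩
  · simp at h
  · simp [DihedralGroup.card] at h

theorem out_minus3 {m : ℕ} (hm : 2 ≤ m) :
    ¬ 3 ∣ Nat.card (Out (POmega (ZMod 3) (quadFormMinus m (ZMod 3) 0 1))) := by
  rcases hm.eq_or_lt with rfl | hm
  · obtain ⟨e⟩ := S0303.result (F := ZMod 3) (K := GF9) (q := 3) rfl card_GF9 0 1 (by decide)
    obtain ⟨φ, h1, -, h2⟩ := S2603.result (K := GF9) (p := 3) (f := 1) (q := 3) (n := 4) le_rfl rfl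
      card_GF9 (by omega) (by omega)
    rw [card_out_congr e, card_eq_of_hom h1, h2]
    simp
  have := S2606.result (F := ZMod 3) (p := 3) (f := 1) (m := m + 1) le_rfl rfl (by omega) (by omega) 0 1
    (by decide)
  split_ifs at this <;> obtain ⟨e⟩ := this <;> rw [show m = m + 1 - 1 from rfl, Nat.card_congr e.toEquiv]
  · simp [DihedralGroup.card]
  · simp

theorem out_odd3 {m : ℕ} (hm : 2 ≤ m) : ¬ 3 ∣ Nat.card (Out (POmega (ZMod 3) (quadFormOdd m (ZMod 3)))) := by
  rcases hm.eq_or_lt with rfl | hm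
  · obtain ⟨e⟩ := S0301.result (F := ZMod 3) (by decide)
    obtain ⟨e'⟩ := S0822.result (F := Class.GF4) (K := ZMod 3) card_GF4 rfl
    rw [card_out_congr (e.trans e'.symm)]
    exact out_psu42
  obtain ⟨e⟩ := S2604.result (F := ZMod 3) (p := 3) (f := 1) (m := m) le_rfl rfl (by omega) hm
  rw [Nat.card_congr e.toEquiv]
  simp

theorem nonempty_pomega_congr {F : Type} [Field F] {ι κ : Type} [Fintype ι] [DecidableEq ι] [Fintype κ]
    [DecidableEq κ] {Q : QuadraticForm F (ι → F)} {Q' : QuadraticForm F (κ → F)} (g : (κ → F) ≃ₗ[F] (ι → F))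
    {c : F} (hc : c ≠ 0) (hg : ∀ x, Q (g x) = c * Q' x) : Nonempty (POmega F Q ≃* POmega F Q') :=
  ⟨(Orth.pomegaEquiv Q).trans ((Orth.centerQuotCongr (Orth.commutatorCongr (Orth.OCongr g hc hg))).symm.trans
    (Orth.pomegaEquiv _).symm)⟩

theorem out_three {n : ℕ} (hn : 5 ≤ n) {Q : QuadraticForm (ZMod 3) (Fin n → ZMod 3)}
    (hQ : (QuadraticMap.polarBilin Q).Nondegenerate) (h : 3 ∣ Nat.card (Out (POmega (ZMod 3) Q))) :
    Nonempty (POmega (ZMod 3) Q ≃* POmega (ZMod 3) (quadFormPlus 4 (ZMod 3))) ∧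
      Nat.card (Out (POmega (ZMod 3) Q)) ∣ 24 := by
  obtain ⟨m, rfl | rfl⟩ := Nat.even_or_odd' n
  · by_cases hp : Known.IsPlus Q
    · obtain ⟨g, hg⟩ := Known.exists_equiv_plus hQ (m := m) (by simp) hp
      obtain ⟨e⟩ := nonempty_pomega_congr (Q' := quadPlus m _) g one_ne_zero fun x => by
        rw [hg, one_mul, quadPlus_apply]
      rw [coe_quadPlus] at e
      rw [card_out_congr e] at h ⊢
      obtain ⟨rfl, h⟩ := out_plus3 (by omega) h
      exact ⟨⟨e⟩, h⟩
    · obtain ⟨g, hg⟩ := Known.exists_equiv_minus hQ (m := m - 1) (by simp; omega) hp (a := 0) (b := 1)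
        (by decide)
      obtain ⟨e⟩ := nonempty_pomega_congr (Q' := quadMinus (m - 1) _ 0 1) g one_ne_zero fun x => by
        rw [hg, one_mul, quadMinus_apply]
      rw [coe_quadMinus] at e
      exact absurd (card_out_congr e ▸ h) (out_minus3 (by omega))
  · obtain ⟨c, g, hc, hg⟩ := Known.exists_equiv_odd_sim hQ (m := m) (by simp)
    obtain ⟨e⟩ := nonempty_pomega_congr (Q' := quadOdd m _) g hc fun x => by rw [hg, quadOdd_apply]
    rw [coe_quadOdd] at e
    exact absurd (card_out_congr e ▸ h) (out_odd3 (by omega))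

theorem TQ.Prim.out_three {H : Type*} [Group H] [Finite H] {E : Set H} [IsTT E] (hgen : closure E = ⊤)
    (hP : Prim E) (hw : Wide E) (hZ : center H = ⊥) (hne : commutator H ≠ ⊤)
    (hs : IsSimpleGroup (commutator H)) (h3 : 3 ∣ Nat.card (Out (commutator H)))
    (hsq : E.ncard ^ 2 ∣ Nat.card H) :
    (Nonempty (commutator H ≃* Omega (ZMod 2) (quadFormPlus 4 (ZMod 2))) ∨
      Nonempty (commutator H ≃* POmega (ZMod 3) (quadFormPlus 4 (ZMod 3)))) ∧
      Nat.card (Out (commutator H)) ∣ 24 := by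
  have := hP.nontrivial
  have hns := not_isSolvable_of_triv hgen hP.conn hP.vTriv (hP.wTriv hw)
  have hG : IsThreeTranspositionGroup E := ⟨IsTT.set, IsTT.conj_of_gen hgen, hgen⟩
  have np : ∀ {K : Type} [Group K], H ≃* K → commutator K ≠ ⊤ := fun e k =>
    hne ((eq_top_iff' _).2 fun g => (Orth.mem_commutator_congr e g).2 (k ▸ mem_top _))
  have ns : ∀ {K : Type} [Group K], H ≃* K → ¬ IsSimpleGroup K := fun e k => by
    have := e.isSimpleGroup
    refine hns (Group.isSolvable_of_comm fun x y => ?_)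
    have := (Normal.eq_bot_or_eq_top (H := commutator H) inferInstance).resolve_right hne
    exact commutatorElement_eq_one_iff_mul_comm.1 ((eq_bot_iff_forall _).1 this _
      (commutator_mem_commutator (mem_top x) (mem_top y)))
  have sym : ∀ n, H ≃* Equiv.Perm (Fin n) → False := fun n e => by
    have h5 : 5 ≤ n := by
      by_contra k
      have := Base.isSolvable_perm_of_card_le (X := Fin n) (by simp; omega)
      exact hns (Group.isSolvable_of_isSolvable_injective (f := e.toMonoidHom) e.injective)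
    rw [card_out_congr ((Orth.commutatorCongr e).trans (MulEquiv.subgroupCongr
      (alternatingGroup.commutator_perm_eq (by simpa))))] at h3
    exact out_alt h5 h3
  have zq : ∀ {K : Type} [Group K], commutator H ≃* K → Nonempty (commutator H ≃* K ⧸ center K) :=
    fun {K} _ e => by
      have := e.symm.isSimpleGroup
      have := (Normal.eq_bot_or_eq_top (H := center K) inferInstance).resolve_right fun k => by
        have : Group.IsSolvable K := Group.isSolvable_of_comm fun x y => mem_center_iff.1 (k ▸ mem_top y) x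
        have := Group.isSolvable_of_isSolvable_injective (f := e.toMonoidHom) e.injective
        exact hns ((Group.isSolvable_iff_subgroup_quotient (commutator H)).2 ⟨this,
          Group.isSolvable_of_comm (mul_comm (G := Abelianization H))⟩)
      exact ⟨e.trans ((QuotientGroup.quotientMulEquivOfEq this).trans QuotientGroup.quotientBot).symm⟩
  rcases hP.classify hw with
    ⟨-, ⟨-, n, h⟩ | ⟨-, n, hn, h⟩⟩ | ⟨-, ⟨n, -, h⟩ | ⟨n, hn, h⟩ | ⟨n, hn, h⟩ | h | h | h⟩
  · have h4 := h.four_le hw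
    obtain ⟨m, hm, e, -⟩ := h.exists_equiv hgen hZ
    by_cases h2 : m = 2
    · subst h2
      obtain ⟨e'⟩ := S0247.result (F := ZMod 2) rfl
      exact (sym _ (e.trans e')).elim
    · exact absurd (S0269.result m (Or.inl (by omega))) (np e)
  · obtain ⟨e, -⟩ := h.exists_equiv hgen hZ hn
    exact absurd (S0283.result hK4 n (by omega) (by omega)) (ns e)
  · obtain ⟨e, -⟩ := h.exists_equiv hgen hZ h.three_le
    exact (sym _ e).elim
  · obtain ⟨m, hm, e, -⟩ | ⟨m, hm, e, -⟩ := h.exists_equiv hgen hZ (by omega)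
    · obtain ⟨e'⟩ := zq (Orth.commutatorCongr e)
      rw [card_out_congr e'] at h3 ⊢
      obtain ⟨rfl, h⟩ := out_plus2 (by omega) h3
      exact ⟨Or.inl ⟨Orth.commutatorCongr e⟩, h⟩
    · obtain ⟨e'⟩ := zq (Orth.commutatorCongr e)
      exact absurd (card_out_congr e' ▸ h3) (out_minus2 (by omega))
  · obtain ⟨Q, hQ, e, -⟩ := h.exists_equiv hgen hZ
    obtain ⟨e1⟩ := Known.refl_pomega hQ (by decide) (by simpa) one_ne_zero
    have e2 := (Orth.commutatorCongr e).trans e1
    rw [card_out_congr e2] at h3 ⊢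
    obtain ⟨⟨e3⟩, h⟩ := Spor.out_three hn hQ h3
    exact ⟨Or.inr ⟨e2.trans e3⟩, h⟩
  · obtain ⟨e, -⟩ := h.equiv hG hZ
    exact absurd S1696.result.1 (ns e.symm)
  · obtain ⟨e, -⟩ := h.equiv hG hZ
    exact absurd Fi23P.simple (ns e.symm)
  · obtain ⟨e, rfl⟩ := h.equiv hG hZ
    obtain ⟨-, h1, h2, -⟩ := S5375.result hG ((prim_iff hgen).1 hP) (typeM24_congr e Known.f24_type)
    rw [h1, h2] at hsq
    exact absurd hsq (by norm_num)

end Cfsg.Lib.Spor
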