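import Cfsg.Agent.Spor.RuMinA
import Cfsg.Agent.Spor.RuMinB
import Cfsg.Agent.Spor.RuMinC

/-!
# The minimal vectors of the Conway–Wales lattice
-/

set_option autoImplicit false
set_option maxRecDepth 100000

namespace Cfsg.Lib.Spor.Ru

open Cfsg.Spor Finset Cfsg.Lib.Known Cfsg.Lib.Known.PC
open Cfsg.Lib.Spor.MG hiding frc frc_eq

attribute [local irreducible] sp cd

theorem total : enum (fun z => leaf (Nat.shiftRight z 64)) dw 0 = 0x3f70090003cf0008000200010001000100010001000100010001000100010001000100010001000100010001000100010001000100010001 := by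
  have e : ∀ (g : ℕ → ℕ) (a b c : ℕ) (l : List ℕ), enum g (a :: b :: c :: l) 0 =
      ∑ m ∈ range 8, frc (sel ((a :: b :: c :: l).take 3) m) (enum g ((a :: b :: c :: l).drop 3)) := by
    intro g a b c l
    have k : ∀ m, sel ((a :: b :: c :: l).take 3) m = (if m % 2 = 0 then 0 else a) ^^^
        (if m / 2 % 2 = 0 then 0 else b) ^^^ (if m / 2 / 2 % 2 = 0 then 0 else c) := fun m => by
      simp only [sel, List.take_succ_cons, List.take_zero, brec_eq, Nat.beq_eq, Nat.xor_eq,
        show ∀ x, Nat.div x 2 = x / 2 from fun _ => rfl, show ∀ x, Nat.mod x 2 = x % 2 from fun _ => rfl]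
      split_ifs <;> simp [Nat.xor_assoc]
    simp only [k]
    simp [enum_cons, frc_eq, sum_range_succ]
    omega
  refine (e _ _ _ _ _).trans ?_
  show ∑ m ∈ range 8, part m = _
  simp only [sum_range_succ, sum_range_zero, part0, part1, part2, part3, part4, part5, part6, part7]

theorem ds_eq : ds = List.map (nth (0, 0) bs) [0, 1, 2, 3, 4, 5, 6, 7, 8, 9, 10, 11, 12, 13, 14, 15, 16, 17, 19] := by decide +kernel

theorem ds_spec {t : ℕ × ℕ} (ht : t ∈ ds) : okT t = true ∧ vv t ∈ ruLattice := by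
  obtain ⟨i, hi, rfl⟩ := List.mem_map.1 (ds_eq ▸ ht)
  exact ⟨okT_nth bs_ok i, bv_mem i (by revert i; decide)⟩

theorem inv_uu : ∀ k < 56, Inv ds (uu k) fun i => decide (i = k) := fun k hk => inv_one hk
  (nall_iff.1 (by decide +kernel : nall (fun k => band
    (Nat.beq (uu k % 2 ^ 19) (syn (fun t => (co (vv t) k).natAbs) ds))
    (Nat.beq (uu k >>> 19) (2 ^ (8 * k)))) 56 = true) k hk)

/-- The positions of the coordinates congruent to two or three modulo four. -/
noncomputable def hi (x : RuVec) (k : ℕ) : Bool := decide (2 ≤ co x k % 4)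

theorem tau_xor {x : RuVec} (hx : x ∈ ruLattice) {y : ℕ} (h : Inv ds y (hi x)) :
    (tau (sp (od x)) ^^^ y) % 2 ^ 19 = 0 ∧ (tau (sp (od x)) ^^^ y) >>> 19 = sp (hi x) := by
  have h0 : tau (sp (od x)) < 2 ^ 19 := syn_lt _ ds
  constructor
  · rw [Nat.xor_mod_two_pow, h.1, Nat.mod_eq_of_lt h0, tau, syn_xor (χ := fun _ => 0) fun t ht => ?_]
    · exact syn_zero fun _ _ => rfl
    obtain ⟨h1, h2⟩ := ds_spec ht
    have h3 := four_dvd hx h2
    have h4 := tst_eq h1 (g := fun k => (od x k).toNat) fun k _ => by cases od x k <;> decide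
    have h5 : 4 ∣ ip x (vv t) - (∑ k ∈ range 56, (od x k).toNat * co (vv t) k + 2 * ipw (hi x) t) := by
      simp only [ip, ipw, mul_sum, ← sum_add_distrib, ← sum_sub_distrib]
      refine dvd_sum fun k _ => ?_
      rw [← mul_assoc, ← add_mul, ← sub_mul]
      refine Dvd.dvd.mul_right ?_ _
      simp only [od, hi]
      by_cases a : co x k % 2 = 1 <;> by_cases b : 2 ≤ co x k % 4 <;> simp [a, b] <;> omega
    rw [← sp] at h4
    show ((tst t (sp (od x)) + 1) / 2 + _) % 2 = 0
    omega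
  · rw [Nat.shiftRight_xor_distrib, h.2, Nat.shiftRight_eq_zero _ _ h0, Nat.zero_xor]

theorem split_hi (x : RuVec) : ∃ y z, Sp (itm uu (sp (od x)) 56) y ∧
    SpN (itm uu (sp fun k => !od x k) 56) (wt fun k => hi x k && !od x k) z ∧
      Inv ds (z ^^^ y) (hi x) := by
  obtain ⟨y, h1, h2⟩ := exists_itm inv_uu (f := fun k => hi x k && od x k) (c := od x)
    (fun k h => (Bool.and_eq_true_iff.1 h).2) 56 le_rfl
  obtain ⟨z, h3, h4⟩ := exists_itm inv_uu (f := fun k => hi x k && !od x k) (c := fun k => !od x k)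
    (fun k h => (Bool.and_eq_true_iff.1 h).2) 56 le_rfl
  refine ⟨y, z, h1.sp, h3, (h4.add h2).congr fun k hk => ?_⟩
  cases hi x k <;> cases od x k <;> simp [hk]

theorem le_sq (x : RuVec) (k : ℕ) :
    ((od x k).toNat + 4 * (hi x k && !od x k).toNat : ℤ) ≤ co x k * co x k := by
  simp only [od, hi]
  by_cases a : co x k % 2 = 1 <;> by_cases b : 2 ≤ co x k % 4 <;> simp [a, b]
  · have : co x k ≤ -1 ∨ 1 ≤ co x k := by omega
    rcases this with h | h <;> nlinarith
  · have : co x k ≤ -1 ∨ 1 ≤ co x k := by omega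
    rcases this with h | h <;> nlinarith
  · have : co x k ≤ -2 ∨ 2 ≤ co x k := by omega
    rcases this with h | h <;> nlinarith
  · exact mul_self_nonneg _

theorem wt_le (x : RuVec) : (wt (od x) + 4 * wt fun k => hi x k && !od x k : ℤ) ≤ ip x x := by
  simp only [wt, ip, Nat.cast_sum, mul_sum, ← sum_add_distrib]
  exact sum_le_sum fun k _ => le_sq x k

theorem rr_sp : rr = sp fun _ => true := by rw [sp]; exact rr_eq

theorem not_w8 {x : RuVec} (hx : x ∈ ruLattice) (hn : ip x x ≤ 16) : sp (od x) ∉ w8 := fun h => by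
  obtain ⟨y, z, h1, h2, h3⟩ := split_hi x
  have h4 := lall_iff.1 few8 _ h
  have h5 := lall_iff.1 (by decide +kernel : lall (fun c => Nat.beq (c % 255) 8) w8 = true) _ h
  have h6 := wt_le x
  rw [Nat.beq_eq, sp_mod] at h5
  rw [Nat.xor_eq, rr_sp, sp_xor] at h4
  have h7 := few_spec (h2.mono (s := 2) (by omega)) _ (by simpa only [Bool.true_xor] using h4)
  rw [Nat.beq_eq] at h7
  obtain ⟨l, k1, k2⟩ := cov_solve _ _ _ _ (h7.trans_lt (by decide +kernel))
  have := k2 _ ⟨y, h1, by rw [Nat.xor_assoc]; exact (tau_xor hx h3).1, rfl⟩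
  rw [h7] at k1
  cases l with
  | nil => cases this
  | cons a l => simp at k1

theorem four_dvd_co {x : RuVec} (hx : x ∈ ruLattice) (hn : ip x x ≤ 16) (h : sp (od x) = 0) :
    ∀ k < 56, 4 ∣ co x k := by
  have z0 : (sp fun _ => false) = 0 := by simp [sp, pack]
  have h0 : ∀ k < 56, od x k = false := fun k hk => sp_inj (h.trans z0.symm) hk
  obtain ⟨z, h1, h2⟩ := exists_itm inv_uu (f := hi x) (c := fun _ => true) (fun _ _ => rfl) 56 le_rfl
  have h3 := wt_le x
  have h4 : (wt fun k => hi x k && !od x k) = ∑ k ∈ range 56, (hi x k).toNat :=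
    sum_congr rfl fun k hk => by simp [h0 k (mem_range.1 hk)]
  have h5 := few_spec (h1.mono (s := 4) (by omega)) _ (rr_sp ▸ few0)
  have h6 := tau_xor hx (h2.congr (g := hi x) fun k hk => by simp [hk])
  rw [h, show tau 0 = 0 by decide +kernel] at h6
  simp only [brec_eq, Nat.beq_eq, show Nat.mod (0 ^^^ z) 524288 = 0 from h6.1] at h5
  split_ifs at h5 with e
  · intro k hk
    have a := sp_inj (h6.2.symm.trans (by rw [e, z0]; rfl) : sp (hi x) = sp fun _ => false) hk
    have b := h0 k hk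
    simp only [od, hi, decide_eq_false_iff_not] at a b
    omega
  · cases h5

theorem frame_cd {x : RuVec} (h : ∀ k < 56, 4 ∣ co x k) (hn : ip x x ≤ 16) (h0 : x ≠ 0) :
    ip x x = 16 ∧ ∃ k < 56, cd x = 4 * rr + 4 * 2 ^ (8 * k) ∨ cd x = 4 * rr - 4 * 2 ^ (8 * k) := by
  obtain ⟨k, hk, h1⟩ : ∃ k < 56, co x k ≠ 0 := by
    by_contra! e; exact h0 (co_ext fun k hk => by rw [e k hk, co_zero])
  have h2 := bd_of_ip hn k hk
  have h3 : co x k = 4 ∨ co x k = -4 := by have := h k hk; omega
  have h4 : co x k * co x k = 16 := by rcases h3 with e | e <;> rw [e] <;> rfl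
  have h5 := sq_le_ip x hk
  refine ⟨by omega, k, hk, ?_⟩
  have h6 : ∀ j < 56, j ≠ k → co x j = 0 := fun j hj e => by
    have := sum_le_sum_of_subset_of_nonneg (s := {j, k}) (t := range 56)
      (f := fun k => co x k * co x k) (by simp [insert_subset_iff, hj, hk]) fun _ _ _ => mul_self_nonneg _
    rw [sum_pair e, ← ip] at this
    nlinarith
  have h7 : 2 ^ (8 * k) = pack 8 (fun j => if j = k then 1 else 0) 56 := by
    simp only [pack, ite_mul, one_mul, zero_mul, sum_ite_eq', mem_range, hk, if_true]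
  rw [cd, h7, rr_eq, pack_mul, pack_mul, pack_add, pack_sub fun j _ => by split_ifs <;> omega]
  refine h3.imp (fun e => pack_congr fun j hj => ?_) fun e => pack_congr fun j hj => ?_ <;>
    split_ifs with e'
  exacts [by rw [e', e]; rfl, by rw [h6 j hj e']; rfl, by rw [e', e]; rfl, by rw [h6 j hj e']; rfl]

theorem sign_cd {x : RuVec} (hn : ip x x ≤ 16) (h : wt (od x) = 16) :
    ip x x = 16 ∧ cd x = 4 * rr + sp (od x) - 2 * sp (hi x) := by
  have h1 := wt_le x
  refine ⟨by omega, ?_⟩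
  have h2 := (sum_eq_sum_iff_of_le (s := range 56) (f := fun k => ((od x k).toNat : ℤ))
    (g := fun k => co x k * co x k) fun k _ => le_trans (by omega) (le_sq x k)).1
    (by rw [← ip, ← Nat.cast_sum, ← wt]; omega)
  have h3 : ∀ k < 56, co x k = 0 ∨ co x k = 1 ∨ co x k = -1 := fun k hk => by
    have := h2 k (mem_range.2 hk)
    have := Bool.toNat_le (od x k)
    have a : co x k ≤ 1 := by nlinarith
    have b : -1 ≤ co x k := by nlinarith
    omega
  rw [cd, rr_eq, sp, sp, pack_mul, pack_mul, pack_add,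
    pack_sub fun j _ => by have := Bool.toNat_le (hi x j); omega]
  refine pack_congr fun j hj => ?_
  rcases h3 j hj with e | e | e <;> simp [od, hi, e]

/-- The nonzero lattice vectors of norm at most 16. -/
def Short (x : RuVec) : Prop := x ∈ ruLattice ∧ ip x x ≤ 16 ∧ x ≠ 0

theorem cov_leaf {c : ℕ} (hc : leaf c < err) :
    Cov ctr (leaf c) (fun z => ∃ x, Short x ∧ sp (od x) = c ∧ z = cd x) ∧
      ∀ x, Short x → sp (od x) = c → ip x x = 16 := by
  rw [leaf, frc_eq, frc_eq] at hc ⊢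
  simp only [brec_eq, Nat.beq_eq, Nat.ble_eq, show Nat.mod c 255 = c % 255 from rfl] at hc ⊢
  split_ifs at hc ⊢ with h1 h2 h3 h4
  · have : ∀ x, Short x → sp (od x) = c → False := by
      rintro x ⟨-, h, -⟩ rfl
      have := wt_le x
      rw [sp_mod] at h1; omega
    exact ⟨(Cov.nil _).mono fun _ ⟨x, a, b, _⟩ => this x a b, fun x a b => (this x a b).elim⟩
  · refine ⟨?_, by rintro x h rfl; exact (sign_cd h.2.1 (sp_mod _ ▸ h2)).1⟩
    refine ((cov_solve _ _ _ _ hc).bind fun s _ => Cov.one ctr (4 * rr + c - 2 * s)).mono ?_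
    rintro _ ⟨x, h, rfl, rfl⟩
    obtain ⟨y, z, k1, k2, k3⟩ := split_hi x
    have := wt_le x
    have := h.2.1
    rw [sp_mod] at h2
    rw [k2.eq_zero (by omega), Nat.zero_xor] at k3
    exact ⟨_, ⟨y, k1, (tau_xor h.1 k3).1, (tau_xor h.1 k3).2.symm⟩, (sign_cd h.2.1 h2).2⟩
  · refine ⟨(Cov.sumR (fun k => (Cov.one ctr _).add (Cov.one ctr _)) 56).mono ?_, fun x h e =>
      (frame_cd (four_dvd_co h.1 h.2.1 (e.trans h3)) h.2.1 h.2.2).1⟩
    rintro _ ⟨x, h, e, rfl⟩
    exact (frame_cd (four_dvd_co h.1 h.2.1 (e.trans h3)) h.2.1 h.2.2).2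
  · have : ∀ x, Short x → sp (od x) = c → False := fun x h e =>
      not_w8 h.1 h.2.1 (e ▸ lmem_spec h4)
    exact ⟨(Cov.nil _).mono fun _ ⟨x, a, b, _⟩ => this x a b, fun x a b => (this x a b).elim⟩
  · exact absurd hc (lt_irrefl _)

theorem cov_total : Cov ctr 0x3f70090003cf0008000200010001000100010001000100010001000100010001000100010001000100010001000100010001000100010001 (fun z => ∃ x, Short x ∧ z = cd x) ∧ ∀ x, Short x → ip x x = 16 := by
  have h := total ▸ cov_enum (fun z => leaf (Nat.shiftRight z 64)) dw 0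
  have e : ∀ {a}, a ≤ 0x3f70090003cf0008000200010001000100010001000100010001000100010001000100010001000100010001000100010001000100010001 → a < err := fun h => h.trans_lt (by decide +kernel)
  refine ⟨(h.bind fun z hz => (cov_leaf (e hz)).1).mono ?_, fun x hx => ?_⟩
  · rintro _ ⟨x, hx, rfl⟩
    obtain ⟨z, h1, h2⟩ := od_mem hx.1
    exact ⟨z, ⟨z, h1, (Nat.zero_xor z).symm⟩, x, hx, h2.symm, rfl⟩
  · obtain ⟨z, h1, h2⟩ := od_mem hx.1
    obtain ⟨l, k1, k2⟩ := h
    exact (cov_leaf (e (k1 ▸ List.le_sum_of_mem (List.mem_map_of_mem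
      (k2 z ⟨z, h1, (Nat.zero_xor z).symm⟩))))).2 x hx h2.symm

theorem min_norm {x : RuVec} (hx : x ∈ ruLattice) (h0 : x ≠ 0) : 16 ≤ ip x x := by
  by_contra! h
  have := cov_total.2 x ⟨hx, h.le, h0⟩
  omega

theorem ctrL_eq (X : ℕ) (L : List (List ℕ)) :
    ctrL X L = pack 16 (fun k => (mt X (L.getD k []) ts).toNat) L.length := by
  induction L with
  | nil => rfl
  | cons v L ih =>
    rw [List.length_cons, pack_succ']
    simp only [List.getD_cons_succ, List.getD_cons_zero, ← ih]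
    show 65536 * _ + Bool.rec (motive := fun _ => ℕ) 0 1 (mt X v ts) = _
    cases mt X v ts <;> rfl

theorem ctr_eq (X : ℕ) : ctr X = pack 16 (fun k => (mt X (lvs.getD k []) ts).toNat) 28 := by
  have : Nat.shiftRight (Nat.add (Nat.shiftLeft X 64) (Nat.mod X 2305843009213693951)) 64 = X := by
    show (X <<< 64 + X % 2305843009213693951) >>> 64 = X
    rw [Nat.shiftLeft_eq, Nat.shiftRight_eq_div_pow]; omega
  rw [ctr, frc_eq, this, ctrL_eq]; rfl

/-- The numbers of minimal vectors with given inner products. -/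
def cnts : List ℕ := [1, 1, 1, 1, 1, 1, 1, 1, 1, 1, 1, 1, 1, 1, 1, 1, 1, 1, 1, 1, 1, 1, 1, 2, 8, 975, 2304, 16240]

theorem exists_list : ∃ l : List ℕ, (∀ x, Short x → cd x ∈ l) ∧
    ∀ k < 28, l.countP (fun X => mt X (lvs.getD k []) ts) = cnts.getD k 0 := by
  obtain ⟨l, h1, h2⟩ := cov_total.1
  refine ⟨l, fun x hx => h2 _ ⟨x, hx, rfl⟩, fun k hk => ?_⟩
  have e : ∀ l : List ℕ, (l.map ctr).sum =
      pack 16 (fun k => l.countP fun X => mt X (lvs.getD k []) ts) 28 := fun l => by
    induction l with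
    | nil => simp [pack]
    | cons a l ih =>
      rw [List.map_cons, List.sum_cons, ih, ctr_eq, pack_add]
      exact pack_congr fun k _ => by rw [List.countP_cons]; cases mt a _ ts <;> simp [add_comm]
  rw [e] at h1
  have h3 : l.length < 2 ^ 16 := by
    have := single_le_sum (f := fun k => (l.countP fun X => mt X (lvs.getD k []) ts) * 2 ^ (16 * k))
      (fun _ _ => Nat.zero_le _) (mem_range.2 (by decide : 27 < 28))
    rw [← pack, h1, (List.countP_eq_length (p := fun X => mt X (lvs.getD 27 []) ts)).2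
      fun _ _ => rfl] at this
    by_contra! h
    exact absurd ((Nat.mul_le_mul_right _ h).trans this) (by decide +kernel)
  exact KM.pack_inj (w := 16) (N := 28) (fun k _ => List.countP_le_length.trans_lt h3)
    (g := fun k => cnts.getD k 0) (by decide +kernel)
    (h1.trans ((by decide +kernel : _ = KM.packK 16 _ 28).trans (KM.packK_eq _ _ _))) hk

end Cfsg.Lib.Spor.Ru
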