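import Cfsg.Agent.Spor.XtM23
import Cfsg.Agent.S0362

/-! The Golay code is self-dual; the cocode module of `M23` and the tails of its extensions. -/

set_option autoImplicit false
set_option maxRecDepth 100000

namespace Cfsg.Lib.Spor.XT

open Cfsg Cfsg.Lib.Spor Cfsg.Lib.Spor.MP

theorem dot_mask (a b : ℕ) : maskWord a ⬝ᵥ maskWord b = (popc (a &&& b) : ZMod 2) := by
  rw [← card_maskSet, maskSet, Finset.card_filter, Nat.cast_sum]
  refine Finset.sum_congr rfl fun p _ => ?_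
  rw [maskWord, maskWord, Nat.testBit_and]
  cases a.testBit (ptIdx p) <;> cases b.testBit (ptIdx p) <;> simp

theorem dot_code {v w : Wd} (hv : v ∈ golayCode) (hw : w ∈ golayCode) : v ⬝ᵥ w = 0 := Agent.S0362.result v w hv hw

theorem mask_mem {c : ℕ} (h : isGolay c = true) : maskWord c ∈ golayCode := mem_golayCode_iff.2 ⟨c, h, rfl⟩

theorem mem_of_dual {u : Wd} (h : ∀ g ∈ golayGens, maskWord g ⬝ᵥ u = 0) : u ∈ golayCode := by
  obtain ⟨m, hm, rfl⟩ : ∃ m < 2 ^ 24, maskWord m = u := ⟨_, setMask_lt _, maskWord_setMask_support u⟩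
  have h0 : m &&& 4095 < 4096 := Nat.and_lt_two_pow m (n := 12) (by norm_num)
  have h1 : m ^^^ enc (m &&& 4095) < 2 ^ 24 := Nat.xor_lt_two_pow hm (enc_lt h0)
  have h2 : (m ^^^ enc (m &&& 4095)) % 2 ^ 12 = 0 := by
    rw [← Nat.and_two_pow_sub_one_eq_mod, Nat.and_xor_distrib_right]
    exact (congrArg _ (enc_and h0)).trans (Nat.xor_self _)
  have h3 : ∀ g ∈ golayGens, maskWord g ⬝ᵥ maskWord (m ^^^ enc (m &&& 4095)) = 0 := fun g hg => by
    rw [maskWord_xor, dotProduct_add, h g hg, dot_code (mask_mem (isGolay_of_mem_golayGens g hg).1)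
      (maskWord_enc_mem _), add_zero]
  have h4 : allLT 4096 (fun k => Nat.beq k 0 || golayGens.any fun g => Nat.beq (popc (g &&& (4096 * k)) % 2) 1) =
    true := by decide +kernel
  have h5 := allLT_iff.1 h4 ((m ^^^ enc (m &&& 4095)) / 4096) (by omega)
  rw [show 4096 * ((m ^^^ enc (m &&& 4095)) / 4096) = m ^^^ enc (m &&& 4095) by omega] at h5
  simp only [Bool.or_eq_true, Nat.beq_eq, List.any_eq_true] at h5
  rcases h5 with h5 | ⟨g, hg, h5⟩
  · rw [Nat.xor_eq_zero_iff.1 (show m ^^^ enc (m &&& 4095) = 0 by omega)]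
    exact maskWord_enc_mem _
  · have := h3 g hg
    rw [dot_mask, ZMod.natCast_eq_zero_iff] at this
    omega

theorem dot_zero_of {w a : Wd} (h : w ∈ golayCode ∨ w + Pi.single none 1 ∈ golayCode) (ha : a ∈ golayCode)
    (h0 : a none = 0) : a ⬝ᵥ w = 0 := by
  rcases h with h | h
  · exact dot_code ha h
  · simpa [h0] using dot_code ha h

theorem cs_spec : ∀ c ∈ datB.cs, isGolay c = true ∧ maskWord c none = 0 := by decide +kernel

theorem cocode_iff {w : Wd} : (w ∈ golayCode ∨ w + Pi.single none 1 ∈ golayCode) ↔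
    ∀ c ∈ datB.cs, maskWord c ⬝ᵥ w = 0 := by
  refine ⟨fun h c hc => dot_zero_of h (mask_mem (cs_spec c hc).1) (cs_spec c hc).2, fun h => ?_⟩
  have k : ∀ u : Wd, (∀ c ∈ datB.cs, maskWord c ⬝ᵥ u = 0) → maskWord 16777215 ⬝ᵥ u = 0 → u ∈ golayCode :=
    fun u h1 h2 => mem_of_dual fun g hg => by
      rcases (by decide +kernel : ∀ g ∈ golayGens, g ∈ datB.cs ∨ ∃ c ∈ datB.cs, g = c ^^^ 16777215) g hg with
        e | ⟨c, hc, rfl⟩
      · exact h1 g e
      · rw [maskWord_xor, add_dotProduct, h1 c hc, h2, add_zero]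
  rcases (by decide : ∀ c : ZMod 2, c = 0 ∨ c = 1) (maskWord 16777215 ⬝ᵥ w) with e | e
  · exact Or.inl (k w h e)
  · refine Or.inr (k _ (fun c hc => ?_) ?_)
    · simp [h c hc, (cs_spec c hc).2]
    · rw [dotProduct_add, e, dotProduct_single, ← one_eq_maskWord]; rfl

theorem chkB : datB.chk asB bsB ts = true := by decide +kernel

/-- tails of an extension by the cocode module -/
theorem tailsB {E : Type*} [Group E] {π : E →* Spor.M23} (hs : Function.Surjective π) {θ : Wd → E}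
    (h : Md datB (Spor.M23.subtype.comp π) θ ⊤) : ∃ y : ℕ → E, (∀ l, Rep (π (y l)) (gp.getD l pid)) ∧
      ((∀ t ∈ tg, ev y t.2.1 = ev y t.2.2) ∨ ∀ t ∈ tg, ev y t.2.1 = θ (maskWord 131072) ^ t.1 * ev y t.2.2) := by
  obtain ⟨y, f, h1, h2⟩ := tails hs h rfl rfl (fun _ _ _ _ => trivial) chkB
  obtain ⟨c, hc⟩ : ∃ c : ZMod 2, ((datB.ext.getD 7 []).map fun a => f a.1 • maskWord a.2).sum = c • maskWord 131072 :=
    ⟨_, add_zero _⟩
  rw [hc] at h2
  rcases (by decide : ∀ c : ZMod 2, c = 0 ∨ c = 1) c with rfl | rfl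
  · exact ⟨y, h1, Or.inl fun t ht => by rw [h2 t ht, zero_smul, h.zero, one_pow, one_mul]⟩
  · exact ⟨y, h1, Or.inr fun t ht => by rw [h2 t ht, one_smul]⟩

end Cfsg.Lib.Spor.XT
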