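/-
Sections over the four dimensional unitary space and over the symmetric quandles.
-/
import Cfsg.Agent.Spor.HC11
import Cfsg.Agent.Spor.HC12

set_option autoImplicit false
set_option linter.unusedSectionVars false

namespace Cfsg.Lib.Spor

open TQ

variable {X Y : Type*} [TQ X] [TQ Y] {p : X → Y}

namespace U4

/-- the points -/
def vec (i : Fin 45) (k : Fin 4) : GF4 :=
  GF4.ofN (Nat.shiftRight 0xfdbd7dedad6ddd9d5d0df9b979e9a969d9995909f5b575e5a565d5955505312111c18141342414c48444d09050 (2 * (4 * i + k)))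

/-- the multiplication table -/
def T (i j : Fin 45) : Fin 45 := Fin.ofNat 45 (Nat.land (Nat.shiftRight
  0x2caab9a80690a48d88447d028734f52215621931225e68e6d32dd4557065e00e59c0aabb009679a80630d78097923c735362110c2197512dc39a55029f51b1855a20a4a6bb2aa429009678e215644b74d3c75435e064c20a7d06ce714792253686844628066980aa99e8b250a318c3d57847162916096df1531d93a040d84b697212894743901aec9429e8a41ae48cf18c0d47496d841a5cb55e10e1d989236058a7084611537ea98006b928a67980aa330f19f1535cb69229c58351d64e1e144d89b60921081e1150ac969ac0b019e69258e24ca20e3d26c45c664d54985c15075e58c2e051f1d845a0c2a2a0a8aa9ac09259a326154f20e0d169634666050b49b11f7583132a27875c541cb019ec0670a8aa59a48d42e038f21c1506193462a24c345a79f5cc85525d1d66c44a9ac0b2baa9a279a59234124566174d550f79d7db69c8608991881c314434c38a24b0810180ea18f32625442282171e05f09a66c5c5564288363a0e4672d39521e9584adb740b1714c18f4e52d28218806dd71e05912b5895268c8367390a64295447a2a60309a7c4ad63cc18a5644618a07c26806dd6580ea94b4cd8c8a4e4a85262501e716c5de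05cb094550e720f39670081f75e89b0991cc8e95054aa2a590d5cb42b998193128681850acba5414e20f6226c275e7c185a6631cc1284c946c926356a8a4a55c69d50e0700292a84a133ce21706169e7dd7008193231d50e7acb42694d611b09916185a540a26c73cda495d20e44df84088175c69b6589ca18e8e6445ad4a8c2d6a08b154049427a03473d6a0b99115509e81f84069b719257a6318e12542a4ec32729822b52448388174f3472989c495052205d09e81b71a6682d63a31920e4b15acc5e9248a9316645f8405135514125d660f8a181f79d71b69992696ab2b9e9a231c62040c530e3492ca081022ac3a5a2863597ac1201e331c2689185974940550903ce95d2e76c87e6161a914c0161a89a1c64635d8ab0cc1e39db2e659760045349404f3a47da2a921e96c12009056c1206cb9cd6467c586a8cc1caa5a9576165424004533ce99ea1c2487648ab0d405220c65fa039a029b88996911d1a33aa4805954d461108f68dacb921b077057a74015d920c15e9c99626a484b7e80ce1a3b184424d45415d03dc36a80a9ab1dba4475648031922911d84b91c2a68057a78ce1ab05741455348058f6cdb25889a8769fa0309846c74a1ce65c9438488cd7c9ae611a9d55c06014d24113e880c2ea7a2a4615b90251626b7d91ce15b9203488ea78b7250e90945955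c041148f9e231d2ac8681a611a6014de2ea3991e611a8a33482ac7456e4a180530945914903e984cadf2609c67250d55c069c6e08a175f799a27a65926aeab2361759551349140f20718510338d30b28908102caea41245e75f1a28609269544d51d85d669c6e89e920e30d00204f6631440ca24b6da729a275985c845049f79daacac696499551382284730d3810028cf64510324b2935548608a69641e7a685d661c6da21d7deaeab1245018d38c0810198cf1440cb289b107a959b9938438a451fa917275c461aa1582549dac500108b24a20718f66330d39dad26a862095515386641eb166e90e75dc9148aa45f10200124a2c81c68cf64e30d45fa9772752290495582b49da186856e95a19937ac40304200a2c92071998cf34e315513a689df79d3524509a591c6da3185d6b2baa286038f8d92ca2481870020440c571b6924509a590c8a18185d6b2ba8e7de755513a689cd64f8cb2891872010020c512caea8a18185d63a9a277de75551336696471b69245032364f2ca2472060810051035eb854a1e4656ca5aa8139dd42468962c895a5f4a670b38d30f8d90010850c41872205aa7539da42426262c7d5a5c4a62e15eb794a1b46528e34c64f8c20010c4148187b226297d599c48bae15e879495b44aaa05a775391a40938d32364f0420041431c81a5ae892a9e6b298db85e6a075c89f6515d44164d26153ca24b30e3440c51881c20019e4aa99aca25ae375a81f72279b8594d05954985115cf24b28d30e0c51071880010aca66ae896a9e48e27dc85e6e075a6585525d44564d03cb28938d305103207181080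
  (6 * (45 * i + j))) 63)

/-- the defining words -/
def W (i : Fin 45) : List (Fin 45) := List.getD
  [[0], [6, 15, 25, 0, 6], [6, 25, 0, 6, 15], [0, 6], [15, 25, 0, 6], [25, 0, 6, 15], [6], [15, 25, 6], [25, 6,
    15], [0, 6, 15], [25, 0, 6], [0, 6, 25, 15], [6, 15], [25, 6], [6, 25, 15], [15], [16], [25, 16, 6, 25, 15],
    [25, 16, 15, 25, 6], [25, 16, 0, 6, 25, 15], [6, 15, 25, 16, 6, 25, 0, 6, 15], [16, 6, 25, 0, 6, 15], [25, 16,
    15, 25, 0, 6], [16, 6, 15, 25, 0, 6], [6, 25, 16, 6, 15, 25, 0, 6], [25], [6, 25, 16, 0, 6, 25, 15], [15, 25,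
    16, 6, 25, 0, 6, 15], [16, 25, 0, 6, 15], [15, 25, 16, 6, 15, 25, 0, 6], [15, 6, 25, 16, 15, 25, 0, 6], [16,
    25, 0, 6], [16, 25, 6, 15], [16, 25, 6], [16, 25, 15], [25, 15], [6, 25, 16, 15, 25, 0, 6], [16, 15, 25, 0,
    6], [25, 16, 6, 15, 25, 0, 6], [16, 15, 25, 6], [16, 25], [16, 6, 25, 15], [25, 16, 6, 25, 0, 6, 15], [16, 0,
    6, 25, 15], [15, 6, 25, 16, 0, 6, 25, 15]] i []

/-- the value of a word -/
def ev {α : Type*} (op : α → α → α) (γ : Fin 45 → α) : List (Fin 45) → α
  | [] => γ 0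
  | [g] => γ g
  | g :: l => op (γ g) (ev op γ l)

/-- the known products -/
def has (S : ℕ) (a b : Fin 45) : Bool := T a b == b || S.testBit (45 * a + b)

/-- recording one product -/
def add1 (S : ℕ) (a b : Fin 45) : ℕ := S ||| 2 ^ (45 * a + b : ℕ)

/-- recording one line -/
def add (S : ℕ) (a b : Fin 45) : ℕ :=
  add1 (add1 (add1 (add1 (add1 (add1 S a b) b a) a (T a b)) (T a b) a) b (T b a)) (T b a) b

/-- the checker -/
def chk : List ℕ → ℕ → Bool
  | [], S => (List.finRange 45).all fun i => (List.finRange 45).all fun j => has S i j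
  | c :: L, S =>
    let e := Fin.ofNat 45 (c / 4 % 64)
    let x := Fin.ofNat 45 (c / 256 % 64)
    let y := Fin.ofNat 45 (c / 16384)
    if c % 4 = 0 then W e == [e] && W x != [] && W (T e x) == e :: W x && chk L (add S e x)
    else if c % 4 = 1 then has S e x && has S e y && has S e (T x y) && has S (T e x) (T e y) && chk L (add S x y)
    else has S e x && has S e y && has S x y && has S (T e x) (T e y) && chk L (add S e (T x y))

theorem cert : chk
    [3864, 3940, 1536, 1636, 6464, 3072, 3172, 8984, 9024, 868, 3388, 3392, 2404, 2112, 3584, 3648, 2620, 2624,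
    1856, 1304, 1344, 2880, 10596, 1048, 1088, 10084, 576, 11108, 320, 9572, 5476, 4888, 5988, 5656, 10812, 6716,
    9788, 9752, 9276, 6936, 148225, 180993, 410370, 411906, 248322, 264706, 264962, 69634, 86018, 612610, 678146,
    55809, 58369, 246790, 378373, 412166, 379909, 413702, 55045, 410890, 345609, 248074, 346377, 413706, 54537,
    114702, 524302, 166157, 280845, 297229, 264718, 346637, 363021, 428557, 526861, 264974, 527373, 544525,
    168717, 139021, 106765, 107021, 81938, 82193, 592402, 511761, 23569, 89617, 138769, 655894, 461077, 462101,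
    16409, 65562, 344089, 458778, 492057, 394265, 378649, 395033, 395801, 216089, 314393, 330777, 363545, 396313,
    281881, 298265, 380185, 396569, 429337, 32806, 98598, 262438, 180773, 590373, 263206, 181541, 361765, 378149,
    198437, 231205, 296741, 215077, 231461, 296997, 264742, 314149, 363301, 379685, 543525, 347173, 543781,
    560165, 298533, 462629, 528165, 560933, 545317, 86821, 39461, 42277, 16426, 131114, 360490, 622633, 180521,
    295209, 311593, 426281, 590121, 394025, 181289, 295977, 312361, 361513, 427049, 427817, 313385, 494377,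
    363817, 347689, 495145, 511529, 463657, 513577, 415785, 497705, 295214, 328237, 295982, 329005, 443693,
    444205, 329773, 330029, 395565, 314925, 331309, 431149, 447789, 39725, 442417, 475441, 639281, 328497, 476209,
    525361, 362289, 460593, 280625, 346161, 477233, 477745, 445745, 282161, 478769, 414769, 481073, 279093,
    279861, 280373, 281397, 528693, 459074, 540994, 426818, 656450, 332097, 446785, 512321, 348737, 463425,
    479809, 332609, 480065, 545601, 496705, 562241, 513345, 529729, 382529, 448065, 529985, 464705, 546625,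
    432193, 563265, 449089, 481857, 498497, 515137, 499009, 548929, 615489, 648257, 664897, 681537, 665409,
    715329] 0 = true := by decide +kernel

theorem ev_cons {α : Type*} (op : α → α → α) (γ : Fin 45 → α) (g : Fin 45) {l : List (Fin 45)} (h : l ≠ []) :
    ev op γ (g :: l) = op (γ g) (ev op γ l) := by
  cases l with
  | nil => exact (h rfl).elim
  | cons _ _ => rfl

theorem ev_map {α β : Type*} {op : α → α → α} {op' : β → β → β} {γ : Fin 45 → α} {γ' : Fin 45 → β} {f : α → β}
    (h : ∀ a b, f (op a b) = op' (f a) (f b)) (h' : ∀ i, f (γ i) = γ' i) (l : List (Fin 45)) :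
    f (ev op γ l) = ev op' γ' l := by
  induction l with
  | nil => exact h' 0
  | cons g l ih =>
    by_cases e : l = []
    · subst e; exact h' g
    · rw [ev_cons _ _ _ e, ev_cons _ _ _ e, h, h', ih]

theorem sec (hp : Cov p) (φ : Fin 45 ≃ Y) (hφ : ∀ i j, φ (T i j) = φ i ▹ φ j) : ∃ s, Sec p Set.univ s := by
  let γ := fun i => Function.surjInv hp.surj (φ i)
  let s := fun y => ev (· ▹ ·) γ (W (φ.symm y))
  have l : ∀ y, p (s y) = y := fun y => by
    rw [ev_map hp.act (fun i => Function.surjInv_eq hp.surj (φ i)), ← ev_map hφ (γ := id) (γ' := φ) (fun _ => rfl),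
      (by decide +kernel : ∀ i, ev T id (W i) = i), φ.apply_symm_apply]
  let I := fun S => ∀ a b, has S a b = true → Fl s (φ a) (φ b)
  have a1 : ∀ S a b, I S → Fl s (φ a) (φ b) → I (add1 S a b) := fun S a b h k a' b' e => by
    simp only [has, add1, Nat.testBit_or, Nat.testBit_two_pow, Bool.or_eq_true, decide_eq_true_eq, ← or_assoc] at e
    rcases e with e | e
    · exact h _ _ (by simpa only [has, Bool.or_eq_true] using e)
    · obtain ⟨rfl, rfl⟩ : a = a' ∧ b = b' := by omega
      exact k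
  have sy : ∀ {x y}, Fl s x y → Fl s y x := hp.fl_symm (l _) (l _)
  have a6 : ∀ S a b, I S → Fl s (φ a) (φ b) → I (add S a b) := fun S a b h k =>
    a1 _ _ _ (a1 _ _ _ (a1 _ _ _ (a1 _ _ _ (a1 _ _ _ (a1 _ _ _ h k) (sy k)) (hφ .. ▸ k.inv)) (hφ .. ▸ sy k.inv))
      (hφ .. ▸ (sy k).inv)) (hφ .. ▸ sy (sy k).inv)
  have key : ∀ L S, I S → chk L S = true → ∀ a b, Fl s (φ a) (φ b) := fun L => by
    induction L with
    | nil => exact fun S h k a b => h a b (by simpa using (by simpa [chk] using k : ∀ a b, has S a b = true) a b)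
    | cons c L ih =>
      intro S h k
      rw [chk] at k
      generalize Fin.ofNat 45 (c / 4 % 64) = e, Fin.ofNat 45 (c / 256 % 64) = x, Fin.ofNat 45 (c / 16384) = y at k
      split_ifs at k <;> simp only [Bool.and_eq_true, beq_iff_eq, bne_iff_ne] at k
      · refine ih _ (a6 _ _ _ h ?_) k.2
        simp only [Fl, ← hφ, s, φ.symm_apply_apply, k.1.2, k.1.1.1, ev_cons _ _ _ k.1.1.2]; rfl
      · refine ih _ (a6 _ _ _ h ((h _ _ k.1.1.1.1).dist (h _ _ k.1.1.1.2) (hφ .. ▸ h _ _ k.1.1.2) ?_)) k.2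
        rw [← hφ, ← hφ]; exact h _ _ k.1.2
      · refine ih _ (a6 _ _ _ h ?_) k.2
        have k1 := h _ _ k.1.2
        rw [hφ, hφ, Fl, h _ _ k.1.1.1.1, h _ _ k.1.1.1.2, ← act_distrib, ← act_distrib, ← h _ _ k.1.1.2] at k1
        rwa [hφ]
  refine ⟨s, fun y _ => l y, fun x _ y _ => ?_⟩
  simpa using key _ 0 (fun a b e => hp.fl_com (l _) (l _) (by
    rw [Com, ← hφ, show T a b = b by simpa [has] using e])) cert (φ.symm x) (φ.symm y)

end U4

theorem UT.sec4 (h : UT Y 4) (hp : Cov p) : ∃ s, Sec p Set.univ s := by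
  obtain ⟨B, v, hL, hs⟩ := h
  have hH : Class.Form.Herm B := Class.Form.herm_of_isSymm (fun e => by
    have := DFunLike.congr_fun e GF4.w
    revert this; decide) hL.σσ ⟨hL.symm⟩ hL.nondeg'
  obtain ⟨g, hg⟩ := hH.exists_isometry_std hK4 (n := 4) (by simp)
  have hL' : LinRep (Class.hermSesq hK4 4) (g ∘ v) := hL.congr g hg
  have k : ∀ i, ∃ x, OnPt GF4 (g ∘ v) x (U4.vec i) := fun i => by
    obtain ⟨x, c, h1, h2⟩ := hs (g.symm (U4.vec i)) (by rw [g.symm.map_ne_zero_iff]; revert i; decide +kernel) (by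
      rw [← hg, g.apply_symm_apply]; revert i; decide +kernel)
    exact ⟨x, c, h1, by rw [Function.comp_apply, ← map_smul, ← h2, g.apply_symm_apply]⟩
  choose φ hφ using k
  refine U4.sec hp (.ofBijective φ ⟨fun i j e => ?_, fun y => ?_⟩) fun i j => ?_
  · obtain ⟨c, -, h⟩ := (hφ i).exists_smul (e ▸ hφ j)
    exact (by decide +kernel : ∀ i j, ∀ c : GF4, U4.vec j = c • U4.vec i → i = j) i j c h
  · obtain ⟨i, c, h1, h2⟩ := (by decide +kernel : ∀ w : Fin 4 → GF4, w ≠ 0 → Phan.H 2 w w = 0 →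
      ∃ i, ∃ c : GF4, c ≠ 0 ∧ w = c • U4.vec i) _ (hL'.ne y) (hL'.on_norm4 (OnPt.self _ y))
    exact ⟨i, hL'.on_eq ((hφ i).smul h1) (h2 ▸ OnPt.self _ y)⟩
  · obtain ⟨c, h1, h2⟩ := (by decide +kernel : ∀ i j, ∃ c : GF4, c ≠ 0 ∧
      U4.vec j + Phan.H 2 (U4.vec j) (U4.vec i) • U4.vec i = c • U4.vec (U4.T i j)) i j
    exact hL'.on_eq ((hφ _).smul h1) (h2 ▸ hL'.on_tvm (hφ i) (hφ j))

theorem IsSymT.sec {n : ℕ} (h : IsSymT Y n) [Nonempty Y] (hp : Cov p) : ∃ s, Sec p Set.univ s := by
  obtain ⟨e, h, k⟩ := h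
  choose f g h1 h2 using k
  let o := f (Classical.arbitrary Y)
  choose γ hγ using fun j => hp.surj (e o j)
  let ε : Fin n → Fin n → X := fun i j => if i = o then γ j else if j = o then γ i else γ i ▹ γ j
  have nc : ∀ i j, i ≠ o → j ≠ o → i ≠ j → ¬ γ i ⫫ γ j := fun i j h1 h2 h3 => hp.com.not.1 (by
    rw [hγ, hγ, h.symm]; exact h.ncom _ _ _ h1 h2.symm h3)
  have l : ∀ i j, i ≠ j → p (ε i j) = e i j := fun i j h3 => by
    simp only [ε]
    split_ifs with h1 h2
    · rw [hγ, h1]
    · rw [hγ, h2, h.symm]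
    · rw [hp.act, hγ, hγ, h.symm, h.act _ _ _ h1 (Ne.symm h2) h3]
  have hε : SFrame ε := by
    refine ⟨fun i j => ?_, fun i j k h1 h2 h3 => ?_, fun i j k h1 h2 h3 => hp.com.not.1 ?_,
      fun i j k m h1 h2 h3 h4 h5 h6 => hp.com.1 ?_, fun i j k m h1 h2 h3 h4 h5 h6 e' => ?_⟩
    · by_cases h1 : i = o <;> by_cases h2 : j = o <;> simp only [ε, h1, h2, if_true, if_false]
      by_cases h3 : i = j
      · rw [h3]
      · exact act_comm (nc i j h1 h2 h3)
    · by_cases k1 : i = o
      · simp [ε, k1, (k1 ▸ h1 : o ≠ j).symm, (k1 ▸ h3 : o ≠ k).symm, act_act]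
      by_cases k2 : j = o
      · simp [ε, k1, k2, (k2 ▸ h2 : o ≠ k).symm]
      by_cases k3 : k = o
      · simp [ε, k1, k2, k3, act_act_left' (nc i j k1 k2 h1)]
      have c : γ j ⫫ γ i ▹ γ k := hp.com.1 (by
        rw [hp.act, hγ, hγ, hγ, h.symm o i, h.act _ _ _ k1 (Ne.symm k3) h3]
        exact h.com _ _ _ _ (Ne.symm k2) (Ne.symm k1) (Ne.symm k3) h1.symm h2 h3)
      simp only [ε, k1, k2, k3, if_false]
      rw [act_comm (nc i j k1 k2 h1), ← act_distrib, c.eq]
    · rw [l _ _ h1, l _ _ h2]; exact h.ncom _ _ _ h1 h2 h3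
    · rw [l _ _ h1, l _ _ h6]; exact h.com _ _ _ _ h1 h2 h3 h4 h5 h6
    · exact h.ne _ _ _ _ h1 h2 h3 h4 h5 h6 (by rw [← l _ _ h1, e', l _ _ h6])
  have w : ∀ i j, i ≠ j → ε (f (e i j)) (g (e i j)) = ε i j := fun i j h3 => by
    rcases (h.eq_iff h3 (h1 _)).1 (h2 _) with ⟨e1, e2⟩ | ⟨e1, e2⟩
    · rw [← e1, ← e2]
    · rw [← e1, ← e2, hε.symm]
  refine ⟨fun y => ε (f y) (g y), fun y _ => (l _ _ (h1 y)).trans (h2 y).symm, fun x _ y _ => ?_⟩
  rw [Fl, hε.act_swap (h1 x) (h1 y), ← w _ _ ((Equiv.swap _ _).injective.ne (h1 y)), ← h.act_swap (h1 x) (h1 y),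
    ← h2, ← h2]

end Cfsg.Lib.Spor
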