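import Cfsg.Agent.Spor.BmQD

/-! Checks of the double coset enumeration of the Baby Monster (part Q, 4). -/

set_option autoImplicit false
set_option maxRecDepth 100000

namespace Cfsg.Lib.Spor.Bm.Q

open Cfsg.Lib.Spor.Bulk

noncomputable def j2051 : List Ju := [⟨0,32,0,0,0,0,[nat_lit 0xa69,nat_lit 0xa61,nat_lit 0xa6d,nat_lit 0xa59,nat_lit 0xe921b3eedd50f6800ade],[]⟩,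
 ⟨0,32,0,0,0,0,[nat_lit 0xa59,nat_lit 0xa70,nat_lit 0xa6d,nat_lit 0xa5c,nat_lit 0x19fd0c5896835f7dc00ad2],[]⟩,
 ⟨0,32,0,0,0,0,[nat_lit 0xa74,nat_lit 0xa71,nat_lit 0xa65,nat_lit 0x141c909d1f74ce2bb00c42],[]⟩,
 ⟨0,32,0,0,0,0,[nat_lit 0xa58,nat_lit 0xa75,nat_lit 0xa59,nat_lit 0xa60,nat_lit 0x3f2f90abeaed8df77a01232],[]⟩,
 ⟨0,32,0,0,0,0,[nat_lit 0xa68,nat_lit 0xa61,nat_lit 0xa5d,nat_lit 0xa74,nat_lit 0x10c27cae50f8cd7bb00b06],[]⟩,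
 ⟨0,32,0,0,0,0,[nat_lit 0xa75,nat_lit 0xa75,nat_lit 0xa61,nat_lit 0xa58,nat_lit 0xe8a69c72dd3170a00b06],[]⟩,
 ⟨0,32,0,0,0,0,[nat_lit 0xa59,nat_lit 0xa5c,nat_lit 0xa75,nat_lit 0x313a8a8ab6c461eec700b06],[]⟩,
 ⟨0,32,0,0,0,0,[nat_lit 0xa70,nat_lit 0xa5c,nat_lit 0xa6d,nat_lit 0xa61,nat_lit 0x2da3717a99b737301396],[]⟩,
 ⟨0,32,0,0,0,0,[nat_lit 0xa59,nat_lit 0xa75,nat_lit 0xa71,nat_lit 0xa5c,nat_lit 0xa59,nat_lit 0x25ba6228de7a3d58a200aa6],[]⟩,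
 ⟨0,32,0,0,0,0,[nat_lit 0xa65,nat_lit 0xa70,nat_lit 0xa74,nat_lit 0x2f6998d266c9e2300aa6],[]⟩,
 ⟨0,32,0,0,0,0,[nat_lit 0xa71,nat_lit 0xa5c,nat_lit 0xa5c,nat_lit 0xa60,nat_lit 0x3e6c7a628dd33eefe300aa2],[]⟩,
 ⟨0,32,0,0,0,0,[nat_lit 0xa70,nat_lit 0xa74,nat_lit 0xa58,nat_lit 0xa5d,nat_lit 0xa59,nat_lit 0xa6a132e159f2fe500aa2],[]⟩,
 ⟨0,32,0,0,0,0,[nat_lit 0xa5c,nat_lit 0xa68,nat_lit 0xa64,nat_lit 0xa6d,nat_lit 0xa59,nat_lit 0x6f63999c6759563a00aa2],[]⟩,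
 ⟨0,32,0,0,0,0,[nat_lit 0xa64,nat_lit 0xa74,nat_lit 0xa64,nat_lit 0xa58,nat_lit 0xcaee2dfa1ea800fda],[]⟩,
 ⟨0,32,0,0,0,0,[nat_lit 0xa68,nat_lit 0xa60,nat_lit 0xa65,nat_lit 0xa6c,nat_lit 0x3c05fe7b7910c9100aea],[]⟩,
 ⟨0,32,0,0,0,0,[nat_lit 0xa59,nat_lit 0xa68,nat_lit 0xa64,nat_lit 0xa69,nat_lit 0xe1fb4993d99a2b700aee],[]⟩,
 ⟨0,32,0,0,0,0,[nat_lit 0xa60,nat_lit 0xa75,nat_lit 0xa61,nat_lit 0x1047a2ac7eff9929f00c52],[]⟩,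
 ⟨0,32,0,0,0,0,[nat_lit 0xa74,nat_lit 0xa74,nat_lit 0xa71,nat_lit 0xa59,nat_lit 0xde2f2870579e35800c52],[]⟩,
 ⟨0,32,0,0,0,0,[nat_lit 0xa68,nat_lit 0xa58,nat_lit 0x4ac8a2b5f473db01106],[]⟩,
 ⟨0,32,0,0,0,0,[nat_lit 0xa71,nat_lit 0xa6d,nat_lit 0xa5c,nat_lit 0x59b62a2ae6d849f7001346],[]⟩,
 ⟨0,32,0,0,0,0,[nat_lit 0xa75,nat_lit 0xa69,nat_lit 0xa5c,nat_lit 0x2520bbd4c9e8fa700a9a],[]⟩,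
 ⟨0,32,0,0,0,0,[nat_lit 0xa6d,nat_lit 0xa58,nat_lit 0xa75,nat_lit 0x7b5593ae585dcdba701346],[]⟩,
 ⟨0,32,0,0,0,0,[nat_lit 0xa58,nat_lit 0xa60,nat_lit 0xc50fc143daf17b600a96],[]⟩,
 ⟨0,32,0,0,0,0,[nat_lit 0xa58,nat_lit 0x1544168baaf885d1000a92],[]⟩,
 ⟨0,32,0,0,0,0,[nat_lit 0xa5d,nat_lit 0xa61,nat_lit 0xa5d3098f0629aafc00a96],[]⟩,
 ⟨0,32,0,0,0,0,[nat_lit 0xa59,nat_lit 0xa65,nat_lit 0x9e2968d930b47df01262],[]⟩,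
 ⟨0,32,0,0,0,0,[nat_lit 0xa6c,nat_lit 0xa61,nat_lit 0xcd71d2711dd66690102e],[]⟩,
 ⟨0,32,0,0,0,0,[nat_lit 0xa65,nat_lit 0xa5c,nat_lit 0xf5d4fe69e671401262],[]⟩,
 ⟨0,0,0,0,0,16,[],[nat_lit 0xbb0]⟩,
 ⟨0,0,0,0,0,16,[],[nat_lit 0xbb4]⟩,
 ⟨0,32,0,0,0,0,[nat_lit 0xb0b],[]⟩,
 ⟨0,32,0,0,0,0,[nat_lit 0xbb0,nat_lit 0xbac,nat_lit 0x1e9da54f1573b7b8700b82],[]⟩,
 ⟨0,32,0,0,0,0,[nat_lit 0xbad,nat_lit 0x1bbfb9aa64d4d646200b82],[]⟩,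
 ⟨0,32,0,0,0,0,[nat_lit 0xbb4,nat_lit 0xbbc,nat_lit 0xbc8,nat_lit 0xbad,nat_lit 0x2d115e7f13f2b2300c1e],[]⟩,
 ⟨0,32,0,0,0,0,[nat_lit 0xbad,nat_lit 0xbbc,nat_lit 0xbb5,nat_lit 0xbad,nat_lit 0xcd548962b41e6f000cc7],[]⟩,
 ⟨0,32,0,0,0,0,[nat_lit 0xbb5,nat_lit 0xbb8,nat_lit 0xbb4,nat_lit 0x2e8e3556f43c4ab000c9f],[]⟩,
 ⟨0,32,0,0,0,0,[nat_lit 0xbac,nat_lit 0xbac,nat_lit 0xbbd,nat_lit 0xbad,nat_lit 0x63d6f1acf28ff8f700e92],[]⟩,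
 ⟨0,32,0,0,0,0,[nat_lit 0xbc0,nat_lit 0xbb8,nat_lit 0xbc9,nat_lit 0xbb9,nat_lit 0x14ca6dc85eb425e1700c66],[]⟩,
 ⟨0,32,0,0,0,0,[nat_lit 0xbb1,nat_lit 0xbc5,nat_lit 0xbad,nat_lit 0x3df8e6c4e1edd93000c66],[]⟩,
 ⟨0,32,0,0,0,0,[nat_lit 0xbad,nat_lit 0xbad,nat_lit 0xbb1,nat_lit 0xbb9,nat_lit 0x8a7d27a2ffb36beb00cbe],[]⟩]

noncomputable def j2091 : List Ju := [⟨0,32,0,0,0,0,[nat_lit 0xbb4,nat_lit 0xbad,nat_lit 0xbad,nat_lit 0xbb0,nat_lit 0x12e5ba997e3ab76d900c22],[]⟩,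
 ⟨0,32,0,0,0,0,[nat_lit 0xbb4,nat_lit 0xbad,nat_lit 0xbbd,nat_lit 0x13a6a5b9e0d42437100c22],[]⟩,
 ⟨0,32,0,0,0,0,[nat_lit 0xbc0,nat_lit 0xbb8,nat_lit 0xbc4,nat_lit 0x25f67d2b2aa8f700122a],[]⟩,
 ⟨0,32,0,0,0,0,[nat_lit 0xbbd,nat_lit 0xbc4,nat_lit 0xbb9,nat_lit 0x764cf589de18dd97200c62],[]⟩,
 ⟨0,32,0,0,0,0,[nat_lit 0xbac,nat_lit 0xbc8,nat_lit 0xbad,nat_lit 0xbad,nat_lit 0x157d5b4385e1c59b4b00cea],[]⟩,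
 ⟨0,32,0,0,0,0,[nat_lit 0xbb8,nat_lit 0xbb8,nat_lit 0xbb8,nat_lit 0x29b57d553e1f96600cb7],[]⟩,
 ⟨0,32,0,0,0,0,[nat_lit 0xbac,nat_lit 0xbc0,nat_lit 0xbbc,nat_lit 0x15fa49b4725cf291401362],[]⟩,
 ⟨0,32,0,0,0,0,[nat_lit 0xbc8,nat_lit 0xbbc,nat_lit 0xbb1,nat_lit 0xbad,nat_lit 0x30be6211477cb00cfa],[]⟩,
 ⟨0,32,0,0,0,0,[nat_lit 0xbb4,nat_lit 0xbb8,nat_lit 0xbad,nat_lit 0xbb0,nat_lit 0x1eaf759b2e5bf1ffa00ea6],[]⟩,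
 ⟨0,32,0,0,0,0,[nat_lit 0xbc4,nat_lit 0xbc0,nat_lit 0xbc4,nat_lit 0xbad,nat_lit 0x168d050c727bbaea200c8e],[]⟩,
 ⟨0,32,0,0,0,0,[nat_lit 0xbc0,nat_lit 0xbb4,nat_lit 0xbc5,nat_lit 0x5e0726f55a7b2600c86],[]⟩,
 ⟨0,32,0,0,0,0,[nat_lit 0xbc1,nat_lit 0xbb5,nat_lit 0xbbc,nat_lit 0xbad,nat_lit 0xba71d47a1f568d4013a2],[]⟩,
 ⟨0,32,0,0,0,0,[nat_lit 0xbc0,nat_lit 0xbb9,nat_lit 0xbc0,nat_lit 0xbad,nat_lit 0x9cab753efd397f6a00c02],[]⟩,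
 ⟨0,32,0,0,0,0,[nat_lit 0xbc9,nat_lit 0xbb5,nat_lit 0xbac,nat_lit 0xbac,nat_lit 0x17a2312227d7e7aeb00bfa],[]⟩,
 ⟨0,32,0,0,0,0,[nat_lit 0xbac,nat_lit 0xbc0,nat_lit 0xbad,nat_lit 0xbad,nat_lit 0x16d37c5e5dba3f500ce2],[]⟩,
 ⟨0,32,0,0,0,0,[nat_lit 0xbc0,nat_lit 0xbb4,nat_lit 0xbc8,nat_lit 0xbc5,nat_lit 0x16cee79fdbc3ce23d00cf2],[]⟩,
 ⟨0,32,0,0,0,0,[nat_lit 0xbb9,nat_lit 0xbb5,nat_lit 0xbb5,nat_lit 0xbb1,nat_lit 0xac103c5f9ba751700cf2],[]⟩,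
 ⟨0,32,0,0,0,0,[nat_lit 0xbb1,nat_lit 0xfdf0f03d1956453c9011fa],[]⟩,
 ⟨0,32,0,0,0,0,[nat_lit 0xbb5,nat_lit 0xbc4,nat_lit 0xbb1,nat_lit 0x17eea5b8c8e6cfe7c00b8e],[]⟩,
 ⟨0,32,0,0,0,0,[nat_lit 0xbb5,nat_lit 0x47e91f4ce3273f000da6],[]⟩,
 ⟨0,32,0,0,0,0,[nat_lit 0xbb0,nat_lit 0xbad,nat_lit 0xbad,nat_lit 0x3da3c2f8157145526a00b86],[]⟩,
 ⟨0,32,0,0,0,0,[nat_lit 0xbc0,nat_lit 0xbb9,nat_lit 0xbad,nat_lit 0x3ca465759690500e5a],[]⟩,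
 ⟨0,32,0,0,0,0,[nat_lit 0xbb4,nat_lit 0xbc1,nat_lit 0xbb0,nat_lit 0xfcf9e54a7fa2cd900e5a],[]⟩,
 ⟨0,32,0,0,0,0,[nat_lit 0xbc8,nat_lit 0xbc0,nat_lit 0xbb9,nat_lit 0xbad,nat_lit 0x3c715fec928248d500ea2],[]⟩,
 ⟨0,32,0,0,0,0,[nat_lit 0xbc1,nat_lit 0xbac,nat_lit 0xbbd,nat_lit 0x3ade9dd261c85e7800c92],[]⟩,
 ⟨0,32,0,0,0,0,[nat_lit 0xbc0,nat_lit 0xbc8,nat_lit 0xbc0,nat_lit 0xbb9,nat_lit 0x1c3d53485e938107b00c92],[]⟩,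
 ⟨0,32,0,0,0,0,[nat_lit 0xbc0,nat_lit 0xbb0,nat_lit 0xbb9,nat_lit 0xbb0,nat_lit 0x4c8f17ee51a9ad3f00b7e],[]⟩,
 ⟨0,32,0,0,0,0,[nat_lit 0xbc4,nat_lit 0xbc0,nat_lit 0xbc5,nat_lit 0x292212df37016aa800b92],[]⟩,
 ⟨0,32,0,0,0,0,[nat_lit 0xbbc,nat_lit 0xbad,nat_lit 0xbc0,nat_lit 0xbac,nat_lit 0x2f856cb6f96ffc72f200e72],[]⟩,
 ⟨0,32,0,0,0,0,[nat_lit 0xbb0,nat_lit 0xbb5,nat_lit 0xbad,nat_lit 0x10b7a3bb66c295b0601102],[]⟩,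
 ⟨0,32,0,0,0,0,[nat_lit 0xbb1,nat_lit 0xbc5,nat_lit 0x2da2f73b29b77a424b00c53],[]⟩,
 ⟨0,32,0,0,0,0,[nat_lit 0xbad,nat_lit 0xbb8,nat_lit 0xbb1,nat_lit 0x18988f1ac3543574900d06],[]⟩,
 ⟨0,32,0,0,0,0,[nat_lit 0xbac,nat_lit 0xbbc,nat_lit 0xbb8,nat_lit 0xb6568c209e5ab0400fb2],[]⟩,
 ⟨0,32,0,0,0,0,[nat_lit 0xbb4,nat_lit 0xbb1,nat_lit 0xbc0,nat_lit 0xbad,nat_lit 0x916a9c36384f5e5a00cba],[]⟩,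
 ⟨0,32,0,0,0,0,[nat_lit 0xbb0,nat_lit 0xbb9,nat_lit 0xbb4,nat_lit 0xbad,nat_lit 0xfd54ba449a5d53600ca7],[]⟩,
 ⟨0,32,0,0,0,0,[nat_lit 0xbb8,nat_lit 0xbad,nat_lit 0xbb4,nat_lit 0x81cdea9556ff6c700caf],[]⟩,
 ⟨0,32,0,0,0,0,[nat_lit 0xbb9,nat_lit 0xbbd,nat_lit 0xbad,nat_lit 0x5e78b3e55b5d7e70139a],[]⟩,
 ⟨0,32,0,0,0,0,[nat_lit 0xbc8,nat_lit 0xbc5,nat_lit 0xbac,nat_lit 0xd92121173336cf30139a],[]⟩,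
 ⟨0,32,0,0,0,0,[nat_lit 0xbc4,nat_lit 0xbb8,nat_lit 0xbc9,nat_lit 0x84cb174f373d6d2200c1a],[]⟩,
 ⟨0,32,0,0,0,0,[nat_lit 0xbc4,nat_lit 0xbc8,nat_lit 0xbc4,nat_lit 0xfdb0bcf67fc770600cca],[]⟩]

noncomputable def j2131 : List Ju := [⟨0,32,0,0,0,0,[nat_lit 0xbbc,nat_lit 0xbb5,nat_lit 0xbc8,nat_lit 0x117a471b9c088b92b900c6a],[]⟩,
 ⟨0,32,0,0,0,0,[nat_lit 0xbc4,nat_lit 0xbad,nat_lit 0xbb1,nat_lit 0x9c4f7a4316a5bf700bfe],[]⟩,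
 ⟨0,32,0,0,0,0,[nat_lit 0xbbd,nat_lit 0xbad,nat_lit 0xbbc,nat_lit 0xbb0,nat_lit 0x150ff99d385fe1900c06],[]⟩,
 ⟨0,32,0,0,0,0,[nat_lit 0xbc5,nat_lit 0xbc8,nat_lit 0xbb1,nat_lit 0xbad,nat_lit 0xff20ed495f342fb0b00c06],[]⟩,
 ⟨0,32,0,0,0,0,[nat_lit 0xbb5,nat_lit 0xbad,nat_lit 0xbb8,nat_lit 0xb81ca3b54b22ce97c00c9b],[]⟩,
 ⟨0,32,0,0,0,0,[nat_lit 0xbb4,nat_lit 0xbb8,nat_lit 0xbc9,nat_lit 0x581e82a7709da4fa00cce],[]⟩,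
 ⟨0,32,0,0,0,0,[nat_lit 0xbc0,nat_lit 0xbb1,nat_lit 0xbb4,nat_lit 0x7ca9eb3d5f05d8a5800ba3],[]⟩,
 ⟨0,32,0,0,0,0,[nat_lit 0xbbd,nat_lit 0xbc4,nat_lit 0xe589af690b958b300c43],[]⟩,
 ⟨0,32,0,0,0,0,[nat_lit 0xbc0,nat_lit 0xbb4,nat_lit 0xbad,nat_lit 0x3ea62adffa142b801222],[]⟩,
 ⟨0,32,0,0,0,0,[nat_lit 0xbc5,nat_lit 0xbc1,nat_lit 0x5542cc4f619e2900c72],[]⟩,
 ⟨0,32,0,0,0,0,[nat_lit 0xbbc,nat_lit 0xbc1,nat_lit 0xbc9,nat_lit 0x4e064557c9b1074012d6],[]⟩,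
 ⟨0,32,0,0,0,0,[nat_lit 0xbc5,nat_lit 0xbb8,nat_lit 0xbbd,nat_lit 0xbac,nat_lit 0x1ac662346ab73cf9800c16],[]⟩,
 ⟨0,32,0,0,0,0,[nat_lit 0xbb4,nat_lit 0xbc9,nat_lit 0xbb8,nat_lit 0xbac,nat_lit 0x8785e8ce1745e0a00c96],[]⟩,
 ⟨0,32,0,0,0,0,[nat_lit 0xbc9,nat_lit 0xbb4,nat_lit 0xbb4,nat_lit 0x1d8ebd04a27ab438b00c26],[]⟩,
 ⟨0,32,0,0,0,0,[nat_lit 0xbc9,nat_lit 0xbac,nat_lit 0xbc5,nat_lit 0x1bbcd75b50d45629500f96],[]⟩,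
 ⟨0,32,0,0,0,0,[nat_lit 0xbb5,nat_lit 0xbc1,nat_lit 0xbac,nat_lit 0xf1d5b434ab4be2f4a00c7a],[]⟩,
 ⟨0,32,0,0,0,0,[nat_lit 0xbc9,nat_lit 0xbc9,nat_lit 0xbad,nat_lit 0x331a9eb0b2a22d6cc700bea],[]⟩,
 ⟨0,32,0,0,0,0,[nat_lit 0xbac,nat_lit 0xbc5,nat_lit 0xbc5,nat_lit 0x23f2905cbf7e48250500bf6],[]⟩,
 ⟨0,32,0,0,0,0,[nat_lit 0xbc0,nat_lit 0xbbc,nat_lit 0xacbea44f548fbb700bf2],[]⟩,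
 ⟨0,32,0,0,0,0,[nat_lit 0xbb4,nat_lit 0xbc5,nat_lit 0xbb0,nat_lit 0xbad,nat_lit 0xb8fc83e9e7ed8bba00c5b],[]⟩,
 ⟨0,32,0,0,0,0,[nat_lit 0xbc5,nat_lit 0xbc9,nat_lit 0x3edba8326122439200c7e],[]⟩,
 ⟨0,32,0,0,0,0,[nat_lit 0xbac,nat_lit 0xbb4,nat_lit 0x14957319fbb82fcd300fbe],[]⟩,
 ⟨0,32,0,0,0,0,[nat_lit 0xbb4,nat_lit 0xbc9,nat_lit 0xbb1,nat_lit 0x997324cdf7f82bfd01226],[]⟩,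
 ⟨0,32,0,0,0,0,[nat_lit 0xbc0,nat_lit 0xbc4,nat_lit 0xbc9,nat_lit 0x2ef88bcd63b40c400cd2],[]⟩,
 ⟨0,32,0,0,0,0,[nat_lit 0xbc9,nat_lit 0xbb4,nat_lit 0xbbd,nat_lit 0x23f2ea27b4d123c4e600c8a],[]⟩,
 ⟨0,32,0,0,0,0,[nat_lit 0xbc8,nat_lit 0xbb1,nat_lit 0xbc1,nat_lit 0x3c532faf3fe6f300139e],[]⟩,
 ⟨0,32,0,0,0,0,[nat_lit 0xbc1,nat_lit 0xbc1,nat_lit 0xbc8,nat_lit 0x9474285467aded00139e],[]⟩,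
 ⟨0,32,0,0,0,0,[nat_lit 0xbc8,nat_lit 0xbc1,nat_lit 0x1c9f705910d4b967500cf6],[]⟩,
 ⟨0,32,0,0,0,0,[nat_lit 0xbb8,nat_lit 0xbb8,nat_lit 0xbbc,nat_lit 0x45250970c9e689c00f56],[]⟩,
 ⟨0,32,0,0,0,0,[nat_lit 0xbc5,nat_lit 0xbc8,nat_lit 0xbb5,nat_lit 0x58f0fa33cdccb90141e],[]⟩,
 ⟨0,32,0,0,0,0,[nat_lit 0xbad,nat_lit 0xbbc,nat_lit 0xbad,nat_lit 0x1d993f15d3b78eadc00ce6],[]⟩,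
 ⟨0,32,0,0,0,0,[nat_lit 0xbc1,nat_lit 0xbc9,nat_lit 0xbac,nat_lit 0x18d517eff759b449900c76],[]⟩,
 ⟨0,32,0,0,0,0,[nat_lit 0xbc5,nat_lit 0xbb0,nat_lit 0xbb5,nat_lit 0xd9e633e96a1f9e64600f2a],[]⟩,
 ⟨0,32,0,0,0,0,[nat_lit 0xbbc,nat_lit 0xbb9,nat_lit 0x23be235284b9f17f4b00c4b],[]⟩,
 ⟨0,32,0,0,0,0,[nat_lit 0xbb1,nat_lit 0xbbd,nat_lit 0x298b881e3587bab00d96],[]⟩,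
 ⟨0,32,0,0,0,0,[nat_lit 0xbc0,nat_lit 0xbb1,nat_lit 0xbad,nat_lit 0x5a6d59a8f28767500b7a],[]⟩,
 ⟨0,32,0,0,0,0,[nat_lit 0xbc9,nat_lit 0xbb1,nat_lit 0x178ac17c8691f1c68500b7a],[]⟩,
 ⟨0,32,0,0,0,0,[nat_lit 0xbc5,nat_lit 0xbb8,nat_lit 0xbad,nat_lit 0xd6fde519eeea1489c0141a],[]⟩,
 ⟨0,32,0,0,0,0,[nat_lit 0xbbc,nat_lit 0xbb1,nat_lit 0xbad,nat_lit 0x208c539f9530887d4500cde],[]⟩,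
 ⟨0,32,0,0,0,0,[nat_lit 0xbc5,nat_lit 0xbb8,nat_lit 0x10bfb37d9754ccec500fba],[]⟩]

noncomputable def j2171 : List Ju := [⟨0,32,0,0,0,0,[nat_lit 0xbac,nat_lit 0xbac,nat_lit 0xbb5,nat_lit 0x562a95c9c193d700c82],[]⟩,
 ⟨0,32,0,0,0,0,[nat_lit 0xbb5,nat_lit 0xbb9,nat_lit 0xbb4,nat_lit 0x962b232ff5a6b7f00fb6],[]⟩,
 ⟨0,32,0,0,0,0,[nat_lit 0xbb1,nat_lit 0xbc1,nat_lit 0xbac,nat_lit 0x5b62a4b945516a00c6e],[]⟩,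
 ⟨0,32,0,0,0,0,[nat_lit 0xbc8,nat_lit 0x195d4be3c6f3efd4600b3e],[]⟩,
 ⟨0,32,0,0,0,0,[nat_lit 0xbc8,nat_lit 0x336a6058affa7f77f900b42],[]⟩,
 ⟨0,32,0,0,0,0,[nat_lit 0xbc8,nat_lit 0xbad,nat_lit 0x53deb198fb9fe6b1200b46],[]⟩,
 ⟨0,32,0,0,0,0,[nat_lit 0xbb9,nat_lit 0xbac,nat_lit 0xbb0,nat_lit 0x13eab5892eeb9435b00bee],[]⟩,
 ⟨0,32,0,0,0,0,[nat_lit 0xbbc,nat_lit 0xbc4,nat_lit 0xbad,nat_lit 0xa2fb3fd7fcb1650400be6],[]⟩,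
 ⟨0,32,0,0,0,0,[nat_lit 0xbad,nat_lit 0xbc0,nat_lit 0xbda74232ff3b4fea00bee],[]⟩,
 ⟨0,0,0,0,0,17,[],[nat_lit 0xd54]⟩,
 ⟨0,0,0,0,0,17,[],[nat_lit 0xd5c]⟩,
 ⟨0,32,0,0,0,0,[nat_lit 0xd0f],[]⟩,
 ⟨0,32,0,0,0,0,[nat_lit 0xf36],[]⟩,
 ⟨0,32,0,0,0,0,[nat_lit 0xd6c,nat_lit 0xd54,nat_lit 0x42795d6569ca0a00f36],[]⟩,
 ⟨0,32,0,0,0,0,[nat_lit 0xd54,nat_lit 0xd61,nat_lit 0xd71,nat_lit 0xd64,nat_lit 0xd59,nat_lit 0x495fbfd2eb85e3fa00daf],[]⟩,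
 ⟨0,32,0,0,0,0,[nat_lit 0xd69,nat_lit 0xd65,nat_lit 0xd6c,nat_lit 0xd55,nat_lit 0xaf3315649cf13a300db2],[]⟩,
 ⟨0,32,0,0,0,0,[nat_lit 0xd64,nat_lit 0xd68,nat_lit 0xd55,nat_lit 0xd58,nat_lit 0xd55,nat_lit 0x17acb24a78bfd2efe00daf],[]⟩,
 ⟨0,32,0,0,0,0,[nat_lit 0xd6d,nat_lit 0xd65,nat_lit 0xd61,nat_lit 0x1c58fe49f308afd77010de],[]⟩,
 ⟨0,32,0,0,0,0,[nat_lit 0xd70,nat_lit 0xd5c,nat_lit 0xd71,nat_lit 0xd55,nat_lit 0x1be6131dae42c0b8600d7e],[]⟩,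
 ⟨0,32,0,0,0,0,[nat_lit 0xd58,nat_lit 0xd60,nat_lit 0xd5c,nat_lit 0xcfb5fd43e4b472b00d7e],[]⟩,
 ⟨0,32,0,0,0,0,[nat_lit 0xd65,nat_lit 0xd68,nat_lit 0xd60,nat_lit 0xd5d,nat_lit 0x166491e8a4f30600d86],[]⟩,
 ⟨0,32,0,0,0,0,[nat_lit 0xd65,nat_lit 0xd68,nat_lit 0xd5d,nat_lit 0xd55,nat_lit 0x165e497d4337812e200d8a],[]⟩,
 ⟨0,32,0,0,0,0,[nat_lit 0xd55,nat_lit 0xd61,nat_lit 0xd64,nat_lit 0x11adffa89f611a76b000f66],[]⟩,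
 ⟨0,32,0,0,0,0,[nat_lit 0xd68,nat_lit 0xd5d,nat_lit 0xd68,nat_lit 0xd55,nat_lit 0x10ad2d5ed27a2ca8700d4b],[]⟩,
 ⟨0,32,0,0,0,0,[nat_lit 0xd65,nat_lit 0xd70,nat_lit 0xd68,nat_lit 0xd59,nat_lit 0x13a6fd7b1f9f5ffc900db7],[]⟩,
 ⟨0,32,0,0,0,0,[nat_lit 0xd5c,nat_lit 0xd59,nat_lit 0xd65,nat_lit 0xd54,nat_lit 0xe233bc0f525cef600db7],[]⟩,
 ⟨0,32,0,0,0,0,[nat_lit 0xd6d,nat_lit 0xd69,nat_lit 0xd5d,nat_lit 0xd61,nat_lit 0x1fc766adf858fc33500d8e],[]⟩,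
 ⟨0,32,0,0,0,0,[nat_lit 0xd59,nat_lit 0xd54,nat_lit 0xd65,nat_lit 0xd59,nat_lit 0x394ae45ee951a37f3700d7a],[]⟩,
 ⟨0,32,0,0,0,0,[nat_lit 0xd64,nat_lit 0xd55,nat_lit 0xd61,nat_lit 0xd61,nat_lit 0xd5c,nat_lit 0x13faea2d29771492600d7a],[]⟩,
 ⟨0,32,0,0,0,0,[nat_lit 0xd64,nat_lit 0xd60,nat_lit 0xd6c,nat_lit 0xd59,nat_lit 0xc4abd17542bda0500d92],[]⟩,
 ⟨0,32,0,0,0,0,[nat_lit 0xd61,nat_lit 0xd58,nat_lit 0xd65,nat_lit 0xd58,nat_lit 0xd55,nat_lit 0x68ab7fd08ead6d6a00d92],[]⟩,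
 ⟨0,32,0,0,0,0,[nat_lit 0xd70,nat_lit 0xd68,nat_lit 0xd71,nat_lit 0xd71,nat_lit 0xf60fed77c5f0f46011f2],[]⟩,
 ⟨0,32,0,0,0,0,[nat_lit 0xd5c,nat_lit 0xd59,nat_lit 0xd55,nat_lit 0x4aa3035c2e2e189e01183],[]⟩,
 ⟨0,32,0,0,0,0,[nat_lit 0xd6d,nat_lit 0xd69,nat_lit 0xd58,nat_lit 0xc327c511eb34976fa00d82],[]⟩,
 ⟨0,32,0,0,0,0,[nat_lit 0xd64,nat_lit 0xd60,nat_lit 0xd55,nat_lit 0x9b8a9abc7db36fe600d82],[]⟩,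
 ⟨0,0,0,0,0,18,[],[nat_lit 0xdd4]⟩,
 ⟨0,0,0,0,0,18,[],[nat_lit 0xddc]⟩,
 ⟨0,32,0,0,0,0,[nat_lit 0xdbb],[]⟩,
 ⟨0,32,0,0,0,0,[nat_lit 0xf3a],[]⟩,
 ⟨0,32,0,0,0,0,[nat_lit 0xec2],[]⟩]

noncomputable def j2211 : List Ju := [⟨0,32,0,0,0,0,[nat_lit 0xde8,nat_lit 0xdd9,nat_lit 0x99f6e1b16bf2c22fd00e4a],[]⟩,
 ⟨0,32,0,0,0,0,[nat_lit 0xdf0,nat_lit 0xdd4,nat_lit 0xdd4,nat_lit 0x169425d15fd93133500f22],[]⟩,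
 ⟨0,32,0,0,0,0,[nat_lit 0xde9,nat_lit 0xde1,nat_lit 0xdd8,nat_lit 0x5c6ec5f2b513961300f26],[]⟩,
 ⟨0,32,0,0,0,0,[nat_lit 0xde1,nat_lit 0xdd4,nat_lit 0xdd4,nat_lit 0x698efa3942f1d6d2700e7e],[]⟩,
 ⟨0,32,0,0,0,0,[nat_lit 0xde1,nat_lit 0xdd4,nat_lit 0xdd4,nat_lit 0xb7169a1f25f972200f06],[]⟩,
 ⟨0,32,0,0,0,0,[nat_lit 0xde1,nat_lit 0xde9,nat_lit 0xddc,nat_lit 0xdd5,nat_lit 0x74dd074b2a75e5b3100f02],[]⟩,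
 ⟨0,32,0,0,0,0,[nat_lit 0xdd4,nat_lit 0xded,nat_lit 0xdd9,nat_lit 0xdd9,nat_lit 0x2c52b31297451a8900fa2],[]⟩,
 ⟨0,32,0,0,0,0,[nat_lit 0xdd4,nat_lit 0xded,nat_lit 0xdd9,nat_lit 0xdd9,nat_lit 0x729ac9aa3df27100fae],[]⟩,
 ⟨0,32,0,0,0,0,[nat_lit 0xdd4,nat_lit 0xded,nat_lit 0xdd9,nat_lit 0xdd9,nat_lit 0x12ec69dd1bf5a7d6600faa],[]⟩,
 ⟨0,32,0,0,0,0,[nat_lit 0xdec,nat_lit 0xdd8,nat_lit 0x11a44e21d49bcf4da00df7],[]⟩,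
 ⟨0,32,0,0,0,0,[nat_lit 0xdd5,nat_lit 0xded,nat_lit 0xdd5,nat_lit 0x2b2be15aa8f9d1409d00f4e],[]⟩,
 ⟨0,32,0,0,0,0,[nat_lit 0xdf0,nat_lit 0x34f33918fc9611800ec6],[]⟩,
 ⟨0,32,0,0,0,0,[nat_lit 0xde4,nat_lit 0xdf1,nat_lit 0xded,nat_lit 0xdd5,nat_lit 0xdd5,nat_lit 0x16592fcdf303cf77500ee6],[]⟩,
 ⟨0,32,0,0,0,0,[nat_lit 0xdd5,nat_lit 0xddc,nat_lit 0xdd8,nat_lit 0x145a292de85af513300ece],[]⟩,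
 ⟨0,32,0,0,0,0,[nat_lit 0xdd4,nat_lit 0xddd,nat_lit 0xdd4,nat_lit 0xdd4,nat_lit 0x3e5dd6d02d13adc8b800fe2],[]⟩,
 ⟨0,32,0,0,0,0,[nat_lit 0xde4,nat_lit 0xdf1,nat_lit 0xddd,nat_lit 0xdec,nat_lit 0x5c929b9eb3c40a9300ed6],[]⟩,
 ⟨0,32,0,0,0,0,[nat_lit 0xdf1,nat_lit 0xddd,nat_lit 0xdd8,nat_lit 0xddd,nat_lit 0xd7d67b96fee5fcb00eda],[]⟩,
 ⟨0,32,0,0,0,0,[nat_lit 0xde4,nat_lit 0xdd4,nat_lit 0xdf0,nat_lit 0xde5,nat_lit 0x18bed4bf76301cc7100ed6],[]⟩,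
 ⟨0,32,0,0,0,0,[nat_lit 0xde9,nat_lit 0xdf0,nat_lit 0xdd4,nat_lit 0x1a96ab0446538d47500f82],[]⟩,
 ⟨0,32,0,0,0,0,[nat_lit 0xde8,nat_lit 0xddd,nat_lit 0xdd9,nat_lit 0xdd5,nat_lit 0xe1ee6ede3efc6f100f5a],[]⟩,
 ⟨0,32,0,0,0,0,[nat_lit 0xde1,nat_lit 0xdf0,nat_lit 0xde5,nat_lit 0x108ec9934ff95f7df01406],[]⟩,
 ⟨0,32,0,0,0,0,[nat_lit 0xded,nat_lit 0xdf1,nat_lit 0xdd9,nat_lit 0xde4,nat_lit 0xa9fe928f87e5e49900ede],[]⟩,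
 ⟨0,32,0,0,0,0,[nat_lit 0xde4,nat_lit 0xdd4,nat_lit 0xde4,nat_lit 0xdd9,nat_lit 0x134122811cdd150c300ede],[]⟩,
 ⟨0,32,0,0,0,0,[nat_lit 0xddc,nat_lit 0xdf0,nat_lit 0xde5,nat_lit 0xdd8,nat_lit 0x92308ad8e9c932600ee2],[]⟩,
 ⟨0,32,0,0,0,0,[nat_lit 0xdd5,nat_lit 0xde4,nat_lit 0xdec,nat_lit 0xdd5,nat_lit 0xb76ddba2b7c571600eea],[]⟩,
 ⟨0,32,0,0,0,0,[nat_lit 0xdd8,nat_lit 0xdd5,nat_lit 0xdf0,nat_lit 0xdd9,nat_lit 0x6d22654766734fb300ed2],[]⟩,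
 ⟨0,32,0,0,0,0,[nat_lit 0xdd9,nat_lit 0xdd9,nat_lit 0xddc,nat_lit 0xdd5,nat_lit 0x23ae5366fccb0b167f00f9a],[]⟩,
 ⟨0,32,0,0,0,0,[nat_lit 0xdf0,nat_lit 0xde0,nat_lit 0xdd5,nat_lit 0xdd5,nat_lit 0x153cbbc3c53e5d32300f86],[]⟩,
 ⟨0,32,0,0,0,0,[nat_lit 0xddd,nat_lit 0xddd,nat_lit 0xdd5,nat_lit 0xdd5,nat_lit 0x1ebaf8b2477dbaaca00f72],[]⟩,
 ⟨0,32,0,0,0,0,[nat_lit 0xdd5,nat_lit 0xde9,nat_lit 0xddc,nat_lit 0xdd4,nat_lit 0x2c5cbbf569fee33c00f8e],[]⟩,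
 ⟨0,32,0,0,0,0,[nat_lit 0xdec,nat_lit 0xdd5,nat_lit 0xdd5,nat_lit 0x2b4ad493bcc94200dfb],[]⟩,
 ⟨0,32,0,0,0,0,[nat_lit 0xdec,nat_lit 0xde4,nat_lit 0xdd5,nat_lit 0x2f8dbe6cbccaaa200f6e],[]⟩,
 ⟨0,32,0,0,0,0,[nat_lit 0xdd8,nat_lit 0xded,nat_lit 0xddc,nat_lit 0x45cefbc7c911751800f7e],[]⟩,
 ⟨0,32,0,0,0,0,[nat_lit 0xde5,nat_lit 0xdec,nat_lit 0xde8,nat_lit 0x1717d199521c4e76b00f2b],[]⟩,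
 ⟨0,32,0,0,0,0,[nat_lit 0xdd9,nat_lit 0xde8,nat_lit 0xdd4,nat_lit 0x145f6f1d728946ef000f6b],[]⟩,
 ⟨0,32,0,0,0,0,[nat_lit 0xdf0,nat_lit 0xde8,nat_lit 0xde0,nat_lit 0x18b57675e6863d15900f7a],[]⟩,
 ⟨0,32,0,0,0,0,[nat_lit 0xdf0,nat_lit 0xdd4,nat_lit 0xde5,nat_lit 0x1049787bab511f97900e46],[]⟩,
 ⟨0,32,0,0,0,0,[nat_lit 0xdf1,nat_lit 0xdd9,nat_lit 0xde1,nat_lit 0x1c808f0b72b3d4a8900e22],[]⟩,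
 ⟨0,32,0,0,0,0,[nat_lit 0xdf1,nat_lit 0xdd9,nat_lit 0xde1,nat_lit 0x1cb7e93b605db251d00e46],[]⟩,
 ⟨0,32,0,0,0,0,[nat_lit 0xdd9,nat_lit 0x18d2735dd6d3ace9800e76],[]⟩]

noncomputable def j2251 : List Ju := [⟨0,32,0,0,0,0,[nat_lit 0xdf1,nat_lit 0xde4,nat_lit 0xdd5,nat_lit 0x147beabcf14cab4f3000fce],[]⟩,
 ⟨0,32,0,0,0,0,[nat_lit 0xde1,nat_lit 0xdd8,nat_lit 0xdd5,nat_lit 0x65f706ca218a2f2a01402],[]⟩,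
 ⟨0,32,0,0,0,0,[nat_lit 0xded,nat_lit 0xde0,nat_lit 0xdd5,nat_lit 0x10217b88da3c5e8db00f42],[]⟩,
 ⟨0,32,0,0,0,0,[nat_lit 0xded,nat_lit 0xdf0,nat_lit 0xdd4,nat_lit 0xf5e49b4327d6ef300f53],[]⟩,
 ⟨0,32,0,0,0,0,[nat_lit 0xddc,nat_lit 0xde1,nat_lit 0x57fe7f88f3faf73e300f63],[]⟩,
 ⟨0,32,0,0,0,0,[nat_lit 0xdd5,nat_lit 0xde4,nat_lit 0xdec,nat_lit 0xdd5,nat_lit 0xa8bd9c2a7441f6500eee],[]⟩,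
 ⟨0,32,0,0,0,0,[nat_lit 0xdf1,nat_lit 0xdd5,nat_lit 0xde1,nat_lit 0xdd5,nat_lit 0x1d970f8463734d23000f8a],[]⟩,
 ⟨0,32,0,0,0,0,[nat_lit 0xdd8,nat_lit 0xdd5,nat_lit 0xdf0,nat_lit 0xdd9,nat_lit 0x1cc149db47fc86be900eca],[]⟩,
 ⟨0,32,0,0,0,0,[nat_lit 0xdd5,nat_lit 0xdd9,nat_lit 0xdd5,nat_lit 0x1f8ecde9dce397513011ca],[]⟩,
 ⟨0,32,0,0,0,0,[nat_lit 0xde0,nat_lit 0xdd5,nat_lit 0x83edc75df2d98fef400f0a],[]⟩,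
 ⟨0,32,0,0,0,0,[nat_lit 0xddd,nat_lit 0xdd4,nat_lit 0x245eb84ca7b8233300e86],[]⟩,
 ⟨0,32,0,0,0,0,[nat_lit 0xded,nat_lit 0xdd9,nat_lit 0xdf1,nat_lit 0x8946fabf492d224700fde],[]⟩,
 ⟨0,32,0,0,0,0,[nat_lit 0xdec,nat_lit 0xdd5,nat_lit 0xdec,nat_lit 0xcfc51c4531ffa6b00ef2],[]⟩,
 ⟨0,32,0,0,0,0,[nat_lit 0xde1,nat_lit 0xdd8,nat_lit 0x22a2f1b4b1ef1100fd2],[]⟩,
 ⟨0,32,0,0,0,0,[nat_lit 0xddc,nat_lit 0xde4,nat_lit 0xddd,nat_lit 0x21a1c443d66d0dceea00e32],[]⟩,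
 ⟨0,32,0,0,0,0,[nat_lit 0xded,nat_lit 0xdd5,nat_lit 0xde1,nat_lit 0xdd5,nat_lit 0x1ca7b24ec79280f0700e42],[]⟩,
 ⟨0,32,0,0,0,0,[nat_lit 0xdd8,nat_lit 0xddd,nat_lit 0xde1,nat_lit 0xdd5,nat_lit 0x7e2b71b685c8547d00efe],[]⟩,
 ⟨0,32,0,0,0,0,[nat_lit 0xde5,nat_lit 0xdf0,nat_lit 0xdf0,nat_lit 0x16cd0dcb9e55248c700fe6],[]⟩,
 ⟨0,32,0,0,0,0,[nat_lit 0xde4,nat_lit 0xdd9,nat_lit 0xde1,nat_lit 0xdd5,nat_lit 0x5d774e1febf639800fe6],[]⟩,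
 ⟨0,32,0,0,0,0,[nat_lit 0xdf1,nat_lit 0xdd9,nat_lit 0xdd9,nat_lit 0x59a972a9e7a5d97c00ef6],[]⟩,
 ⟨0,32,0,0,0,0,[nat_lit 0xdf1,nat_lit 0xded,nat_lit 0xdd4,nat_lit 0x12f42691da138587a00e26],[]⟩,
 ⟨0,32,0,0,0,0,[nat_lit 0xdf1,nat_lit 0xdec,nat_lit 0x18a9b1aa47fdf4ffb00e12],[]⟩,
 ⟨0,32,0,0,0,0,[nat_lit 0xdf1,nat_lit 0xded,nat_lit 0xdd4,nat_lit 0x12e4d332ce158231400e16],[]⟩,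
 ⟨0,32,0,0,0,0,[nat_lit 0xdf0,nat_lit 0xde0,nat_lit 0xdd8,nat_lit 0x5ac4ad3faed2dd8e500e36],[]⟩,
 ⟨0,32,0,0,0,0,[nat_lit 0xde5,nat_lit 0xdd5,nat_lit 0xdd5,nat_lit 0x42bebb73d9eabf000e1e],[]⟩,
 ⟨0,32,0,0,0,0,[nat_lit 0xde5,nat_lit 0xdd5,nat_lit 0xdd5,nat_lit 0xa6fb9414dd1f54700e3a],[]⟩,
 ⟨0,32,0,0,0,0,[nat_lit 0xddc,nat_lit 0xdf0,nat_lit 0xde8,nat_lit 0xdd5,nat_lit 0xe445d99bb41c8e500f1e],[]⟩,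
 ⟨0,32,0,0,0,0,[nat_lit 0xdec,nat_lit 0xde8,nat_lit 0xde0,nat_lit 0x8cf33112898762300e2e],[]⟩,
 ⟨0,32,0,0,0,0,[nat_lit 0xde5,nat_lit 0xdec,nat_lit 0xdd5,nat_lit 0x5c22464ccd84523800e3e],[]⟩,
 ⟨0,32,0,0,0,0,[nat_lit 0xde0,nat_lit 0xdd4,nat_lit 0xdf1,nat_lit 0x21e357d61c275fe77300f57],[]⟩,
 ⟨0,32,0,0,0,0,[nat_lit 0xde5,nat_lit 0xdec,nat_lit 0xdd4,nat_lit 0x2ae747e54f3aa3e500f92],[]⟩,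
 ⟨0,32,0,0,0,0,[nat_lit 0xdec,nat_lit 0xde0,nat_lit 0xdd4,nat_lit 0x13c9674e9a9f563bc0137f],[]⟩,
 ⟨0,32,0,0,0,0,[nat_lit 0xde1,nat_lit 0x7b48d749717d4900e2a],[]⟩,
 ⟨0,32,0,0,0,0,[nat_lit 0xde1,nat_lit 0x722e8a4c2e54c7b4b00e1a],[]⟩,
 ⟨0,32,0,0,0,0,[nat_lit 0xded,nat_lit 0xdd5,nat_lit 0xdd5,nat_lit 0x1c17a47aa6165416700e1a],[]⟩,
 ⟨0,32,0,0,0,0,[nat_lit 0xdf1,nat_lit 0x1553f3dbeb9fe0900efa],[]⟩,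
 ⟨0,32,0,0,0,0,[nat_lit 0xdec,nat_lit 0xdd5,nat_lit 0xf464a95be2cd655010e2],[]⟩,
 ⟨0,32,0,0,0,0,[nat_lit 0xdf1,nat_lit 0x10bf3d2ba39380c9e00e82],[]⟩,
 ⟨0,0,0,0,0,19,[],[nat_lit 0x1034]⟩,
 ⟨0,0,0,0,0,19,[],[nat_lit 0x1038]⟩]

noncomputable def j2291 : List Ju := [⟨0,32,0,0,0,0,[nat_lit 0xfeb],[]⟩,
 ⟨0,32,0,0,0,0,[nat_lit 0x104c,nat_lit 0x1049,nat_lit 0x1038,nat_lit 0x1035,nat_lit 0x25ff93f2f482bc201056],[]⟩,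
 ⟨0,32,0,0,0,0,[nat_lit 0x1034,nat_lit 0x1034,nat_lit 0x1051,nat_lit 0x825b3fbab451eaf101056],[]⟩,
 ⟨0,32,0,0,0,0,[nat_lit 0x104c,nat_lit 0x1040,nat_lit 0x1048,nat_lit 0x104d,nat_lit 0x104d,nat_lit 0x18fa61accab0ac8990105f],[]⟩,
 ⟨0,32,0,0,0,0,[nat_lit 0x1039,nat_lit 0x103d,nat_lit 0x103d,nat_lit 0x1035,nat_lit 0x1035,nat_lit 0xf74fcdd076adfa20105f],[]⟩,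
 ⟨0,32,0,0,0,0,[nat_lit 0x1041,nat_lit 0x1045,nat_lit 0x104d,nat_lit 0x1039,nat_lit 0x13d47ed4c7329b538a0105f],[]⟩,
 ⟨0,32,0,0,0,0,[nat_lit 0x103d,nat_lit 0x1048,nat_lit 0x103c,nat_lit 0x1040,nat_lit 0xe4acae90b3597c30105b],[]⟩,
 ⟨0,32,0,0,0,0,[nat_lit 0x1045,nat_lit 0x1041,nat_lit 0x1045,nat_lit 0x1045,nat_lit 0x6bb03ef19ecb030105b],[]⟩,
 ⟨0,32,0,0,0,0,[nat_lit 0x1049,nat_lit 0x103c,nat_lit 0x1039,nat_lit 0x1049,nat_lit 0x103c,nat_lit 0x13d6c62d9effd49360105b],[]⟩,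
 ⟨0,32,0,0,0,0,[nat_lit 0x1040,nat_lit 0x1051,nat_lit 0x1034,nat_lit 0x1034,nat_lit 0x17e858fc62a12830102a],[]⟩,
 ⟨0,32,0,0,0,0,[nat_lit 0x1048,nat_lit 0x1041,nat_lit 0x1048,nat_lit 0x103d,nat_lit 0x44f17aaad4da39101303],[]⟩,
 ⟨0,32,0,0,0,0,[nat_lit 0x1050,nat_lit 0x1041,nat_lit 0x1044,nat_lit 0x104d,nat_lit 0x1035,nat_lit 0x952febda643942f001303],[]⟩,
 ⟨0,0,0,0,0,20,[],[nat_lit 0x10b4]⟩,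
 ⟨0,0,0,0,0,20,[],[nat_lit 0x10b8]⟩,
 ⟨0,32,0,0,0,0,[nat_lit 0x1063],[]⟩,
 ⟨0,32,0,0,0,0,[nat_lit 0x10bd,nat_lit 0x10d1,nat_lit 0x10c4,nat_lit 0x1abc7a5ea69a24fbb010e3],[]⟩,
 ⟨0,32,0,0,0,0,[nat_lit 0x10b5,nat_lit 0x10d1,nat_lit 0x10c4,nat_lit 0x42faabea3d69f7f5010e3],[]⟩,
 ⟨0,32,0,0,0,0,[nat_lit 0x10b5,nat_lit 0x10b8,nat_lit 0x10c0,nat_lit 0x10c4,nat_lit 0xd65755f27d56aa9010eb],[]⟩,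
 ⟨0,32,0,0,0,0,[nat_lit 0x10b8,nat_lit 0x10c8,nat_lit 0x10c5,nat_lit 0x10d0,nat_lit 0xd5113d447425239010aa],[]⟩,
 ⟨0,32,0,0,0,0,[nat_lit 0x10d0,nat_lit 0x10c1,nat_lit 0x10cc,nat_lit 0x10b5,nat_lit 0x73449784f6b3cd553010eb],[]⟩,
 ⟨0,32,0,0,0,0,[nat_lit 0x10c5,nat_lit 0x10b8,nat_lit 0x10c9,nat_lit 0x8a6e64bd1154de88010db],[]⟩,
 ⟨0,32,0,0,0,0,[nat_lit 0x10b4,nat_lit 0x10bc,nat_lit 0x10bc,nat_lit 0x10b8,nat_lit 0x17d8f4964aa1744147010ee],[]⟩,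
 ⟨0,32,0,0,0,0,[nat_lit 0x10b4,nat_lit 0x10b4,nat_lit 0x10b4,nat_lit 0x10bc,nat_lit 0x1aaa2b089e3752ef0010f2],[]⟩,
 ⟨0,32,0,0,0,0,[nat_lit 0x10b4,nat_lit 0x10b4,nat_lit 0x10c0,nat_lit 0x10b5,nat_lit 0x1c333fe63bc8f51010f6],[]⟩,
 ⟨0,32,0,0,0,0,[nat_lit 0x10bd,nat_lit 0x10bd,nat_lit 0x10b4,nat_lit 0x10c1,nat_lit 0x10b5,nat_lit 0x2dd1f9255da1c52010fa],[]⟩,
 ⟨0,32,0,0,0,0,[nat_lit 0x10b9,nat_lit 0x10b5,nat_lit 0x10c4,nat_lit 0x10b9,nat_lit 0x29f8621e51b4505010fa],[]⟩,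
 ⟨0,32,0,0,0,0,[nat_lit 0x10c1,nat_lit 0x10c9,nat_lit 0x10c1,nat_lit 0x10b4,nat_lit 0xa4976972458f345010a6],[]⟩]

theorem c2051 : chk ft nd R0 2318 (j2051 ++ j2091 ++ j2131 ++ j2171 ++ j2211 ++ j2251 ++ j2291) 2051 = true := by decide +kernel

noncomputable def j2318 : List Ju := [⟨0,32,0,0,0,0,[nat_lit 0x10cd,nat_lit 0x10c0,nat_lit 0x10cc,nat_lit 0x10b5,nat_lit 0x7ba4f656a1cc64e6010e7],[]⟩,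
 ⟨0,32,0,0,0,0,[nat_lit 0x10b4,nat_lit 0x10bd,nat_lit 0x10d0,nat_lit 0x1f1651ce8c489213b010e7],[]⟩,
 ⟨0,32,0,0,0,0,[nat_lit 0x10cd,nat_lit 0x10cd,nat_lit 0x10b9,nat_lit 0x19b733386ad2b6975010df],[]⟩,
 ⟨0,32,0,0,0,0,[nat_lit 0x10cc,nat_lit 0x10c4,nat_lit 0x10d0,nat_lit 0x8788a7f1d39489e69010a2],[]⟩,
 ⟨0,32,0,0,0,0,[nat_lit 0x10b8,nat_lit 0x10c9,nat_lit 0x10cc,nat_lit 0x462e6c21c23594698010a2],[]⟩,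
 ⟨0,0,0,0,0,21,[],[nat_lit 0x1154]⟩,
 ⟨0,0,0,0,0,21,[],[nat_lit 0x1158]⟩,
 ⟨0,32,0,0,0,0,[nat_lit 0x110f],[]⟩,
 ⟨0,32,0,0,0,0,[nat_lit 0x115c,nat_lit 0x1154,nat_lit 0x9a6c965efdd37d490110f],[]⟩,
 ⟨0,32,0,0,0,0,[nat_lit 0x1154,nat_lit 0x2e945016bfc80aa501182],[]⟩,
 ⟨0,32,0,0,0,0,[nat_lit 0x1150,nat_lit 0x115c,nat_lit 0x115c,nat_lit 0x1161,nat_lit 0x1151,nat_lit 0x33e21b3e20b86011b2],[]⟩,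
 ⟨0,32,0,0,0,0,[nat_lit 0x1159,nat_lit 0x1150,nat_lit 0x1159,nat_lit 0x1150,nat_lit 0x13b13dc2277517ad001242],[]⟩,
 ⟨0,32,0,0,0,0,[nat_lit 0x116d,nat_lit 0x1164,nat_lit 0x1155,nat_lit 0x116d,nat_lit 0x1151,nat_lit 0x4f28bdd8f8d42de011b2],[]⟩,
 ⟨0,32,0,0,0,0,[nat_lit 0x1150,nat_lit 0x1154,nat_lit 0x115d,nat_lit 0x1150,nat_lit 0x13be28b3cef43aa500121e],[]⟩,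
 ⟨0,32,0,0,0,0,[nat_lit 0x1165,nat_lit 0x1158,nat_lit 0x1154,nat_lit 0x25c24313f2724b9fa80121e],[]⟩,
 ⟨0,32,0,0,0,0,[nat_lit 0x116c,nat_lit 0x115d,nat_lit 0x2918bd6d3a613b01212],[]⟩,
 ⟨0,32,0,0,0,0,[nat_lit 0x1168,nat_lit 0x116d,nat_lit 0x1155,nat_lit 0x1158,nat_lit 0x26b1aa7cfb461540125e],[]⟩,
 ⟨0,32,0,0,0,0,[nat_lit 0x116d,nat_lit 0x1161,nat_lit 0x115c,nat_lit 0x1154,nat_lit 0x1151,nat_lit 0x72fc71ae2ab32c6850125a],[]⟩,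
 ⟨0,32,0,0,0,0,[nat_lit 0x1168,nat_lit 0x1168,nat_lit 0x1150,nat_lit 0x1154,nat_lit 0x16fc39424af8bcff10125a],[]⟩,
 ⟨0,32,0,0,0,0,[nat_lit 0x1161,nat_lit 0x1159,nat_lit 0x2bd6352f3b8a5a19011c6],[]⟩,
 ⟨0,32,0,0,0,0,[nat_lit 0x1151,nat_lit 0x1155,nat_lit 0x1164,nat_lit 0x15b621c29223d26c7011ae],[]⟩,
 ⟨0,32,0,0,0,0,[nat_lit 0x1158,nat_lit 0x1155,nat_lit 0x1159,nat_lit 0x4312ea62294642011ba],[]⟩,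
 ⟨0,32,0,0,0,0,[nat_lit 0x1154,nat_lit 0x1168,nat_lit 0x115d,nat_lit 0x115d,nat_lit 0x19d9343d8b92a59040120e],[]⟩,
 ⟨0,32,0,0,0,0,[nat_lit 0x1164,nat_lit 0x1158,nat_lit 0x1160,nat_lit 0xead371c2fdd4d1f01206],[]⟩,
 ⟨0,32,0,0,0,0,[nat_lit 0x1151,nat_lit 0x1168,nat_lit 0x116c,nat_lit 0x1150,nat_lit 0x188f63bd7a458965f0120e],[]⟩,
 ⟨0,32,0,0,0,0,[nat_lit 0x1154,nat_lit 0x1154,nat_lit 0x1168,nat_lit 0x1154,nat_lit 0x25f9d6369f3a887f98011b6],[]⟩,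
 ⟨0,32,0,0,0,0,[nat_lit 0x116d,nat_lit 0x1154,nat_lit 0x1159,nat_lit 0x115d,nat_lit 0x13dd23e8fbeb822f00124a],[]⟩,
 ⟨0,32,0,0,0,0,[nat_lit 0x1159,nat_lit 0x115c,nat_lit 0x115c,nat_lit 0x1151,nat_lit 0x21f5f2459fcd40123e],[]⟩,
 ⟨0,32,0,0,0,0,[nat_lit 0x1169,nat_lit 0x1158,nat_lit 0x115c,nat_lit 0x1154,nat_lit 0xfd132a567fb57c4011aa],[]⟩,
 ⟨0,32,0,0,0,0,[nat_lit 0x1154,nat_lit 0x1151,nat_lit 0x115c,nat_lit 0x5c76a75c2a7a12f0011a2],[]⟩,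
 ⟨0,32,0,0,0,0,[nat_lit 0x115d,nat_lit 0x115d,nat_lit 0x116c,nat_lit 0xb53f67e9ea74e6748011aa],[]⟩,
 ⟨0,32,0,0,0,0,[nat_lit 0x1168,nat_lit 0x1161,nat_lit 0x115c,nat_lit 0x1168,nat_lit 0x1151,nat_lit 0x8e4e1722729d1f4b0124e],[]⟩,
 ⟨0,32,0,0,0,0,[nat_lit 0x1159,nat_lit 0x1154,nat_lit 0x1160,nat_lit 0x1164,nat_lit 0x1a8504398aa9975060124e],[]⟩,
 ⟨0,32,0,0,0,0,[nat_lit 0x116d,nat_lit 0x1160,nat_lit 0x1155,nat_lit 0x1168,nat_lit 0x1151,nat_lit 0x28a1579d11675fe12201246],[]⟩,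
 ⟨0,32,0,0,0,0,[nat_lit 0x116d,nat_lit 0x1160,nat_lit 0x1151,nat_lit 0x1151,nat_lit 0x43ad3bf9d3061f3120120a],[]⟩,
 ⟨0,32,0,0,0,0,[nat_lit 0x1169,nat_lit 0x1154,nat_lit 0x1168,nat_lit 0x1155,nat_lit 0x92eeb25787234bc701202],[]⟩,
 ⟨0,32,0,0,0,0,[nat_lit 0x1169,nat_lit 0x115d,nat_lit 0x1014d35daf56f93240120a],[]⟩,
 ⟨0,32,0,0,0,0,[nat_lit 0x116d,nat_lit 0x1155,nat_lit 0x1158,nat_lit 0x1155,nat_lit 0x255baad432a9a3e8c7011be],[]⟩,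
 ⟨0,32,0,0,0,0,[nat_lit 0x116c,nat_lit 0x1158,nat_lit 0x1151,nat_lit 0x144d487e5b94011c2],[]⟩,
 ⟨0,32,0,0,0,0,[nat_lit 0x1155,nat_lit 0x115d,nat_lit 0x116c,nat_lit 0x23f15907a7879253bc011a6],[]⟩]

noncomputable def j2358 : List Ju := [⟨0,32,0,0,0,0,[nat_lit 0x1160,nat_lit 0x116c,nat_lit 0x1151,nat_lit 0x16ee7f64d0f6aefb4011df],[]⟩,
 ⟨0,32,0,0,0,0,[nat_lit 0x1164,nat_lit 0x1164,nat_lit 0x1155,nat_lit 0x3aca05c8ade3935101192],[]⟩,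
 ⟨0,32,0,0,0,0,[nat_lit 0x1161,nat_lit 0x1164,nat_lit 0x1160,nat_lit 0x13a5f9b5cbbb50ea2011df],[]⟩,
 ⟨0,32,0,0,0,0,[nat_lit 0x1169,nat_lit 0x116c,nat_lit 0x115d,nat_lit 0x317acb89954dd29117013b2],[]⟩,
 ⟨0,32,0,0,0,0,[nat_lit 0x1161,nat_lit 0x115d,nat_lit 0x1151,nat_lit 0x3d4f0c57a6f855f2a201176],[]⟩,
 ⟨0,32,0,0,0,0,[nat_lit 0x1150,nat_lit 0x1155,nat_lit 0x1da76fc960b696172013b2],[]⟩,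
 ⟨0,32,0,0,0,0,[nat_lit 0x1160,nat_lit 0x1168,nat_lit 0x1151,nat_lit 0x8c48a8ace1a8ff950121a],[]⟩,
 ⟨0,32,0,0,0,0,[nat_lit 0x1164,nat_lit 0x1150,nat_lit 0x116d,nat_lit 0x3cc6f910fe6de47b0121a],[]⟩,
 ⟨0,32,0,0,0,0,[nat_lit 0x1151,nat_lit 0x1169,nat_lit 0x1155,nat_lit 0x267dc4b2ec7daff49201216],[]⟩,
 ⟨0,32,0,0,0,0,[nat_lit 0x1151,nat_lit 0x1164,nat_lit 0x3e6da4aa49a6e3a01172],[]⟩,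
 ⟨0,32,0,0,0,0,[nat_lit 0x1150,nat_lit 0x1160,nat_lit 0x134d348ddbd8cf6c801186],[]⟩,
 ⟨0,32,0,0,0,0,[nat_lit 0x115c,nat_lit 0x1169,nat_lit 0x1151,nat_lit 0xf9a92b789d33d01186],[]⟩,
 ⟨0,32,0,0,0,0,[nat_lit 0x1168,nat_lit 0x1446b3e12345ecd7c0118a],[]⟩,
 ⟨0,32,0,0,0,0,[nat_lit 0x1150,nat_lit 0x115c,nat_lit 0x1150,nat_lit 0x8705581269fe5170114a],[]⟩,
 ⟨0,32,0,0,0,0,[nat_lit 0x116c,nat_lit 0x115c,nat_lit 0x1155,nat_lit 0xaa247b6955cf2140118a],[]⟩,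
 ⟨0,0,0,0,0,22,[],[nat_lit 0x12a0]⟩,
 ⟨0,0,0,0,0,22,[],[nat_lit 0x12a4]⟩,
 ⟨0,32,0,0,0,0,[nat_lit 0x1263],[]⟩,
 ⟨0,32,0,0,0,0,[nat_lit 0x12ac,nat_lit 0x12b5,nat_lit 0x12a1,nat_lit 0x8cebb1c879b70430133e],[]⟩,
 ⟨0,32,0,0,0,0,[nat_lit 0x12a0,nat_lit 0x3ef1e47e77dafe201302],[]⟩,
 ⟨0,32,0,0,0,0,[nat_lit 0x12a0,nat_lit 0x12a0,nat_lit 0x12a9,nat_lit 0x15dda27d5524ff258013c2],[]⟩,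
 ⟨0,32,0,0,0,0,[nat_lit 0x12a1,nat_lit 0x12a4,nat_lit 0x12a1,nat_lit 0x16f9f907bd46f0013ee],[]⟩,
 ⟨0,32,0,0,0,0,[nat_lit 0x12ac,nat_lit 0x12ac,nat_lit 0x12b1,nat_lit 0x5ff5274d13f50601382],[]⟩,
 ⟨0,32,0,0,0,0,[nat_lit 0x12a4,nat_lit 0x12b4,nat_lit 0x12b4,nat_lit 0x12a1,nat_lit 0x135e5577e15369dc430135e],[]⟩,
 ⟨0,32,0,0,0,0,[nat_lit 0x12bc,nat_lit 0x12a1,nat_lit 0x12b4,nat_lit 0x12a0,nat_lit 0x1c5f3d19f132a9ee70135a],[]⟩,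
 ⟨0,32,0,0,0,0,[nat_lit 0x12a1,nat_lit 0x12bd,nat_lit 0x12a4,nat_lit 0x39a4d4d692f27bd3a40138e],[]⟩,
 ⟨0,32,0,0,0,0,[nat_lit 0x12b8,nat_lit 0x12bd,nat_lit 0x12b1,nat_lit 0x3705a2925d653afd3801392],[]⟩,
 ⟨0,32,0,0,0,0,[nat_lit 0x12bd,nat_lit 0x12ad,nat_lit 0x12a8,nat_lit 0x12a1,nat_lit 0x1427d53a1d1c4fe1e0138a],[]⟩,
 ⟨0,32,0,0,0,0,[nat_lit 0x12b4,nat_lit 0x12a9,nat_lit 0x12bd,nat_lit 0x12a1,nat_lit 0x1584a9fa6497ee39e013ce],[]⟩,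
 ⟨0,32,0,0,0,0,[nat_lit 0x12b1,nat_lit 0x12bd,nat_lit 0x12a5,nat_lit 0x12b9,nat_lit 0x12a1,nat_lit 0x1429eb839d104c5927012e6],[]⟩,
 ⟨0,32,0,0,0,0,[nat_lit 0x12a4,nat_lit 0x12a9,nat_lit 0x12ac,nat_lit 0x12a0,nat_lit 0x6af69314b1b8cc9f012e6],[]⟩,
 ⟨0,32,0,0,0,0,[nat_lit 0x12a1,nat_lit 0x12ac,nat_lit 0x12b4,nat_lit 0x12a5,nat_lit 0x1d1669f88f648172a012e6],[]⟩,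
 ⟨0,32,0,0,0,0,[nat_lit 0x12a1,nat_lit 0x12bd,nat_lit 0x12bd,nat_lit 0x12a5,nat_lit 0xba18551ccf19e47b0140a],[]⟩,
 ⟨0,32,0,0,0,0,[nat_lit 0x12ac,nat_lit 0x12a1,nat_lit 0x12b5,nat_lit 0x12a4,nat_lit 0x10bfa8e8aa42d0013ea],[]⟩,
 ⟨0,32,0,0,0,0,[nat_lit 0x12a9,nat_lit 0x12b5,nat_lit 0x12b0,nat_lit 0x12a1,nat_lit 0x4133d227e3eb2b01312],[]⟩,
 ⟨0,32,0,0,0,0,[nat_lit 0x12ad,nat_lit 0x12a8,nat_lit 0x12bd,nat_lit 0x12a1,nat_lit 0x5d28b5efd932d7ec7012f6],[]⟩,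
 ⟨0,32,0,0,0,0,[nat_lit 0x12bc,nat_lit 0x12a5,nat_lit 0x12ad,nat_lit 0x16ea33026d5d39a83012fe],[]⟩,
 ⟨0,32,0,0,0,0,[nat_lit 0x12a5,nat_lit 0x12b1,nat_lit 0x12a4,nat_lit 0x12a0,nat_lit 0xcf69cd9b82e0eaa012fa],[]⟩,
 ⟨0,32,0,0,0,0,[nat_lit 0x12ac,nat_lit 0x12a4,nat_lit 0x12b5,nat_lit 0x51fddc9ab1a5bb6013d2],[]⟩,
 ⟨0,32,0,0,0,0,[nat_lit 0x12a9,nat_lit 0x12bc,nat_lit 0x12a5,nat_lit 0x12a1,nat_lit 0x9733831550ba20a0131e],[]⟩]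

noncomputable def j2398 : List Ju := [⟨0,32,0,0,0,0,[nat_lit 0x12a0,nat_lit 0x12a8,nat_lit 0x12ad,nat_lit 0x19d0f2afcff845fc70139f],[]⟩,
 ⟨0,32,0,0,0,0,[nat_lit 0x12b9,nat_lit 0x12b5,nat_lit 0x12ac,nat_lit 0x580b535ca8bba4d2013d6],[]⟩,
 ⟨0,32,0,0,0,0,[nat_lit 0x12a8,nat_lit 0x12a5,nat_lit 0x12ac,nat_lit 0x3e629c9f69589cbf0140e],[]⟩,
 ⟨0,32,0,0,0,0,[nat_lit 0x12a5,nat_lit 0x12b8,nat_lit 0x12a1,nat_lit 0x655fd09eb1bfef1a01372],[]⟩,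
 ⟨0,32,0,0,0,0,[nat_lit 0x12a8,nat_lit 0x12a4,nat_lit 0x12ac,nat_lit 0x12bd,nat_lit 0x1fba55b3d173260136a],[]⟩,
 ⟨0,32,0,0,0,0,[nat_lit 0x12bc,nat_lit 0x12b9,nat_lit 0x12bc,nat_lit 0x12a4,nat_lit 0x1490d117df775b0137a],[]⟩,
 ⟨0,32,0,0,0,0,[nat_lit 0x12b1,nat_lit 0x12a1,nat_lit 0x12b0,nat_lit 0x12b0,nat_lit 0x15392ead3d0fb10131a],[]⟩,
 ⟨0,32,0,0,0,0,[nat_lit 0x12b4,nat_lit 0x12ad,nat_lit 0x12a0,nat_lit 0x12ad,nat_lit 0x42e9ecfcdcd52c901386],[]⟩,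
 ⟨0,32,0,0,0,0,[nat_lit 0x12b0,nat_lit 0x12a4,nat_lit 0x12ac,nat_lit 0x12a0,nat_lit 0x33ee7429e323ce2701376],[]⟩,
 ⟨0,32,0,0,0,0,[nat_lit 0x12b5,nat_lit 0x12ad,nat_lit 0x12bc,nat_lit 0x5ab417491a9f3d89b01376],[]⟩,
 ⟨0,32,0,0,0,0,[nat_lit 0x12bd,nat_lit 0x12bd,nat_lit 0x12a1,nat_lit 0x12a1,nat_lit 0x21b872bff6b69a1a8b012ee],[]⟩,
 ⟨0,32,0,0,0,0,[nat_lit 0x12b8,nat_lit 0x12b8,nat_lit 0x29d483cf11cc2319012ee],[]⟩,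
 ⟨0,32,0,0,0,0,[nat_lit 0x12a9,nat_lit 0x12b0,nat_lit 0x12b0,nat_lit 0x12a5,nat_lit 0xf7562e3d0f4aa2a8b012ea],[]⟩,
 ⟨0,32,0,0,0,0,[nat_lit 0x12b0,nat_lit 0x12bd,nat_lit 0x12b8,nat_lit 0x12b1,nat_lit 0x10b48b384e1ddc13d012f2],[]⟩,
 ⟨0,32,0,0,0,0,[nat_lit 0x12ad,nat_lit 0x12b0,nat_lit 0x12b5,nat_lit 0x8f7e7dba151a5ed5012f2],[]⟩,
 ⟨0,32,0,0,0,0,[nat_lit 0x12bc,nat_lit 0x12ad,nat_lit 0x12bc,nat_lit 0x12b5,nat_lit 0x9ada9b8257bce369012f2],[]⟩,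
 ⟨0,32,0,0,0,0,[nat_lit 0x12bc,nat_lit 0x12a0,nat_lit 0x12a4,nat_lit 0x12a0,nat_lit 0x1b20b1bb76c62767901352],[]⟩,
 ⟨0,32,0,0,0,0,[nat_lit 0x12a9,nat_lit 0x12a5,nat_lit 0x12b1,nat_lit 0x12a1,nat_lit 0x244ae85e3f775927e5013da],[]⟩,
 ⟨0,32,0,0,0,0,[nat_lit 0x12a1,nat_lit 0x12bc,nat_lit 0x12b0,nat_lit 0x12a5,nat_lit 0xba389345dd62b01356],[]⟩,
 ⟨0,32,0,0,0,0,[nat_lit 0x12b9,nat_lit 0x12a0,nat_lit 0x12a4,nat_lit 0x12a0,nat_lit 0x1effecd731d5690130a],[]⟩,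
 ⟨0,32,0,0,0,0,[nat_lit 0x12b0,nat_lit 0x12a8,nat_lit 0x12b1,nat_lit 0xb9e5617766012c3],[]⟩,
 ⟨0,32,0,0,0,0,[nat_lit 0x12ac,nat_lit 0x12a8,nat_lit 0x12b0,nat_lit 0x12a4,nat_lit 0x11e5445ab88f3510130a],[]⟩,
 ⟨0,32,0,0,0,0,[nat_lit 0x12b9,nat_lit 0x12bc,nat_lit 0x12a8,nat_lit 0x5569d80970baa0901422],[]⟩,
 ⟨0,32,0,0,0,0,[nat_lit 0x12a0,nat_lit 0x12ac,nat_lit 0x12b0,nat_lit 0x76fa51fee7e9ac2770137e],[]⟩,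
 ⟨0,32,0,0,0,0,[nat_lit 0x12b9,nat_lit 0x12ac,nat_lit 0x12a4,nat_lit 0xaf613015ae748b5b013e6],[]⟩,
 ⟨0,32,0,0,0,0,[nat_lit 0x12b4,nat_lit 0x12a4,nat_lit 0x1c13326259192f201332],[]⟩,
 ⟨0,32,0,0,0,0,[nat_lit 0x12bd,nat_lit 0x12b4,nat_lit 0xbedfebf174aec53c013be],[]⟩,
 ⟨0,32,0,0,0,0,[nat_lit 0x12a8,nat_lit 0x10afc95e565abe15b013e2],[]⟩,
 ⟨0,32,0,0,0,0,[nat_lit 0x12a4,nat_lit 0x12b9,nat_lit 0x12a8,nat_lit 0x15b9a5982617850d40136e],[]⟩,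
 ⟨0,32,0,0,0,0,[nat_lit 0x12a0,nat_lit 0x12b0,nat_lit 0xb04c8d1aa7f2bc3d2013ba],[]⟩,
 ⟨0,32,0,0,0,0,[nat_lit 0x12b4,nat_lit 0x12b0,nat_lit 0x12ad,nat_lit 0x15c9de3e276c4d8fdb013c6],[]⟩,
 ⟨0,32,0,0,0,0,[nat_lit 0x12a5,nat_lit 0x12b4,nat_lit 0x12a9,nat_lit 0x3545df665721cc249a013fe],[]⟩,
 ⟨0,32,0,0,0,0,[nat_lit 0x12bd,nat_lit 0x12ac,nat_lit 0x12a9,nat_lit 0x995d1df6275da3b901323],[]⟩,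
 ⟨0,32,0,0,0,0,[nat_lit 0x12ac,nat_lit 0x12a9,nat_lit 0x62c3e3cf6189e6df013de],[]⟩,
 ⟨0,32,0,0,0,0,[nat_lit 0x12a9,nat_lit 0x12a0,nat_lit 0xf627ad9d5e8eede0133a],[]⟩,
 ⟨0,32,0,0,0,0,[nat_lit 0x12b4,nat_lit 0x12b8,nat_lit 0x12a0,nat_lit 0x4788cf29aafe3b0134a],[]⟩,
 ⟨0,32,0,0,0,0,[nat_lit 0x12b8,nat_lit 0x12ad,nat_lit 0x12a1,nat_lit 0x1bc6adb31f2825a75012e2],[]⟩,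
 ⟨0,32,0,0,0,0,[nat_lit 0x12a5,nat_lit 0x12a9,nat_lit 0x12a1,nat_lit 0x5d72143fc4af9f4b01336],[]⟩,
 ⟨0,32,0,0,0,0,[nat_lit 0x12b0,nat_lit 0x12b8,nat_lit 0x12a1,nat_lit 0x1b5935116cf81f7f90129a],[]⟩,
 ⟨0,32,0,0,0,0,[nat_lit 0x12a8,nat_lit 0x12bc,nat_lit 0x1cceb02a42caba2f001336],[]⟩]

noncomputable def j2438 : List Ju := [⟨0,0,0,0,0,74,[],[]⟩,
 ⟨0,0,0,0,0,400,[],[]⟩,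
 ⟨0,0,0,0,0,525,[],[]⟩,
 ⟨0,0,0,0,0,nat_lit 0x4f3,[],[]⟩,
 ⟨0,0,0,0,0,0,[],[]⟩,
 ⟨0,0,0,0,0,nat_lit 0x98a,[],[]⟩,
 ⟨1,nat_lit 0x98b,0,0,nat_lit 0x1ebada,nat_lit 0x986,[129,144,nat_lit 0x12cf609197beea26500047,12,17,20,17,nat_lit 0x14ceef38765d15109000ee],[]⟩,
 ⟨0,0,0,0,0,nat_lit 0x98a,[],[]⟩,
 ⟨0,0,0,0,0,nat_lit 0x98d,[],[]⟩,
 ⟨0,0,0,0,0,nat_lit 0x98b,[],[]⟩,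
 ⟨0,0,0,0,0,nat_lit 0x98e,[],[]⟩,
 ⟨0,0,0,0,0,nat_lit 0x98f,[],[]⟩,
 ⟨0,0,0,0,0,16,[],[]⟩,
 ⟨1,nat_lit 0x98b,0,0,nat_lit 0x1ebada,nat_lit 0x986,[129,144,nat_lit 0x12cf609197beea26500047,12,17,20,17,nat_lit 0x14ceef38765d15109000ee],[]⟩,
 ⟨0,0,0,0,0,55,[],[]⟩,
 ⟨0,0,0,0,0,74,[],[]⟩,
 ⟨1,nat_lit 0x98e,0,0,nat_lit 0xbd82,nat_lit 0x987,[796,780,796,804,789,nat_lit 0x1333144beee5fb7b7900dba,nat_lit 0xdec,nat_lit 0xde8,nat_lit 0xdd4,nat_lit 0x2455cfaf7db179700faa,nat_lit 0xbc0,nat_lit 0xbb0,nat_lit 0xbbc,nat_lit 0x1f9d4972fa88adbba00ca7],[]⟩,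
 ⟨0,0,0,0,0,129,[],[]⟩,
 ⟨1,nat_lit 0x98f,0,0,nat_lit 0x8bd82,nat_lit 0x98c,[645,665,nat_lit 0x9abc71d97bce36b00237,136,145,148,156,129,nat_lit 0x138dd7e290f9d7f7700236,637,641,nat_lit 0xa18788e290ca65600237],[]⟩,
 ⟨0,0,0,0,0,188,[],[]⟩,
 ⟨0,0,0,0,0,225,[],[]⟩,
 ⟨0,0,0,0,0,293,[],[]⟩,
 ⟨0,0,0,0,0,314,[],[]⟩,
 ⟨0,0,0,0,0,400,[],[]⟩,
 ⟨0,0,0,0,0,508,[],[]⟩,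
 ⟨0,0,0,0,0,525,[],[]⟩,
 ⟨0,0,0,0,0,660,[],[]⟩,
 ⟨0,0,0,0,0,719,[],[]⟩,
 ⟨1,nat_lit 0x990,0,0,130,nat_lit 0x988,[nat_lit 0xd68,nat_lit 0xd5d,nat_lit 0xd68,nat_lit 0xd55,nat_lit 0x10ad2d5ed27a2ca8700d4b,nat_lit 0x7ac,nat_lit 0x7bc,nat_lit 0x7b4,nat_lit 0x7bd,nat_lit 0x1b150bcd0cb928f4700c9a,nat_lit 0xbad,nat_lit 0xbb8,nat_lit 0xbb8,nat_lit 0x78573cfb53f24600cc7,nat_lit 0x888,nat_lit 0x894,nat_lit 0x898,nat_lit 0x890,nat_lit 0x889,nat_lit 0x85753b65732cbb9009ae],[]⟩,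
 ⟨0,0,0,0,0,959,[],[]⟩,
 ⟨0,0,0,0,0,nat_lit 0x415,[],[]⟩,
 ⟨1,nat_lit 0x991,0,0,nat_lit 0xf7c2,nat_lit 0x989,[nat_lit 0x10b5,nat_lit 0x10d0,nat_lit 0x10b9,nat_lit 0x10bc,nat_lit 0x10b5,nat_lit 0x1fe4f2516044e6cd2010ee,700,716,705,717,nat_lit 0xf6edcb5385c1c5600e6e,nat_lit 0xde9,nat_lit 0xdd9,nat_lit 0xdec,nat_lit 0xdd9,nat_lit 0x1cb5750ed478aaa9800e7e,720,717,nat_lit 0x163eb77d8ae78ea3f01322],[]⟩,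
 ⟨0,0,0,0,0,nat_lit 0x461,[],[]⟩,
 ⟨0,0,0,0,0,nat_lit 0x4f3,[],[]⟩]

theorem c2318 : chk ft nd R0 2472 (j2318 ++ j2358 ++ j2398 ++ j2438) 2318 = true := by decide +kernel


end Cfsg.Lib.Spor.Bm.Q
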