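import Cfsg.Agent.Spor.BmChk

/-! Facts of the double coset enumeration of the Baby Monster (part P). -/

set_option autoImplicit false
set_option maxRecDepth 100000

namespace Cfsg.Lib.Spor.Bm.P

open Cfsg.Lib.Spor.Bulk

noncomputable def ft0_39 : FT := (.node 19 (.node 9 (.node 4 (.node 2 (.node 1 (.leaf ⟨5,0,0,0,0,0,[0]⟩)
 (.leaf ⟨2,0,0,0,0,0,[0,0]⟩))
 (.node 3 (.leaf ⟨0,1,1,nat_lit 0x175b23234cc69eccc,0,nat_lit 0xd2e091212303bd16,[]⟩)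
 (.leaf ⟨0,1,1,nat_lit 0x7adb1096af5bea2,0,nat_lit 0x10dda96dce39bd0e,[]⟩)))
 (.node 6 (.node 5 (.leaf ⟨0,1,1,nat_lit 0x5d1aeff54be904d5aa,0,nat_lit 0x52fb20f76aefdcd8ec,[]⟩)
 (.leaf ⟨0,1,1,nat_lit 0x52ff927dc542a8acaa,0,nat_lit 0x52741d22aefc53f5aa,[]⟩))
 (.node 7 (.leaf ⟨0,1,1,nat_lit 0x5d4ffa2d23748762,0,nat_lit 0x21c8d743da79e1712,[]⟩)
 (.node 8 (.leaf ⟨0,1,1,nat_lit 0x964df3a5ffd1bc0c,0,nat_lit 0xd1b43fe5ef1615c8,[]⟩)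
 (.leaf ⟨0,1,1,nat_lit 0x397142df8de3f1c56,0,nat_lit 0x17047a1687af14dba,[]⟩)))))
 (.node 14 (.node 11 (.node 10 (.leaf ⟨0,1,1,nat_lit 0x11fb9370e6bbb356e,0,nat_lit 0x2d436b9bec744b786,[]⟩)
 (.leaf ⟨1,0,1,0,0,0,[]⟩))
 (.node 12 (.leaf ⟨2,0,0,0,0,0,[2,2,2,2]⟩)
 (.node 13 (.leaf ⟨1,1,2,2,0,1,[]⟩)
 (.leaf ⟨0,2,2,nat_lit 0x31f5df192669a57e4,0,nat_lit 0x1d561cc50cc3099caa,[]⟩))))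
 (.node 16 (.node 15 (.leaf ⟨0,2,2,nat_lit 0x57fabdc138a5c6,0,nat_lit 0x1cbe2d2eab0f14dc4e,[]⟩)
 (.leaf ⟨0,2,2,nat_lit 0xd3ddb78ecaffa220,0,nat_lit 0x66e4a26dfb752596e0,[]⟩))
 (.node 17 (.leaf ⟨0,2,2,nat_lit 0x33df5fa2f04b786,0,nat_lit 0x229eda30cfd3036fe,[]⟩)
 (.node 18 (.leaf ⟨0,2,2,nat_lit 0xb585a92cdb5e3d6c,0,nat_lit 0x2b4d03a7fb2d756,[]⟩)
 (.leaf ⟨0,2,2,nat_lit 0x1b32bc3945cb8,0,nat_lit 0x4cf5e8a9c2689b25c4,[]⟩))))))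
 (.node 29 (.node 24 (.node 21 (.node 20 (.leaf ⟨0,2,2,nat_lit 0x33fddf70dd0c,0,nat_lit 0x124f2f33a570bda0,[]⟩)
 (.leaf ⟨0,2,2,nat_lit 0x1934b0b8eec3efd6,0,nat_lit 0x536bf5bb810e859de2,[]⟩))
 (.node 22 (.leaf ⟨0,2,2,nat_lit 0x383ec65f86267f4ec,0,nat_lit 0x47cae8e7c376cafef0,[]⟩)
 (.node 23 (.leaf ⟨0,2,2,nat_lit 0x59591744e1af9c6,0,nat_lit 0x18162a85d8541594,[]⟩)
 (.leaf ⟨0,2,2,nat_lit 0x2b4d03a7fb2d756,0,nat_lit 0xb585a92cdb5e3d6c,[]⟩))))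
 (.node 26 (.node 25 (.leaf ⟨0,2,2,nat_lit 0x4d32e40fcd950489bc,0,nat_lit 0x1147d7d5a8f0edc4,[]⟩)
 (.leaf ⟨0,2,2,nat_lit 0x4397ae1322ad04cea2,0,nat_lit 0x2d9ee08bfef54afd4,[]⟩))
 (.node 27 (.leaf ⟨1,0,1,2,0,2,[]⟩)
 (.node 28 (.leaf ⟨0,2,2,2,0,2,[]⟩)
 (.leaf ⟨0,2,2,nat_lit 0x4f7209e04ddba9e6adaeed2,0,nat_lit 0x4f7f0ad547e24eeae,[]⟩)))))
 (.node 34 (.node 31 (.node 30 (.leaf ⟨0,2,2,nat_lit 0x35b0e324116bf5e3934c66,0,nat_lit 0xc7b2ac6fbfca7ed9cc,[]⟩)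
 (.leaf ⟨0,2,2,nat_lit 0x5bb8618923c21aff8b6b2,0,nat_lit 0x7d2ec3f7e23884df6,[]⟩))
 (.node 32 (.leaf ⟨0,2,2,nat_lit 0x3d6c3859bbec76979706,0,nat_lit 0x17b055936a68b1cd0d47a,[]⟩)
 (.node 33 (.leaf ⟨0,2,2,nat_lit 0xbddc2a92c828f76bf646,0,nat_lit 0x494acfb639bfed6cc,[]⟩)
 (.leaf ⟨0,2,2,nat_lit 0x7e9a6b734e16287ce,0,nat_lit 0x1bb8730f6bd3f0fcb3a8e,[]⟩))))
 (.node 36 (.node 35 (.leaf ⟨0,2,2,nat_lit 0x17e4c2ff260b8d786,0,nat_lit 0x892bd35c73eaae6,[]⟩)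
 (.leaf ⟨0,2,2,nat_lit 0x3d75b788ad8aae2f28fdea,0,nat_lit 0x26020e7fc8925d56c7a3aa8,[]⟩))
 (.node 37 (.leaf ⟨1,1,3,nat_lit 0x1905d82,0,1,[]⟩)
 (.node 38 (.leaf ⟨0,3,3,nat_lit 0x6f3fd8f23dcb1fea08,0,nat_lit 0x2bac23c4d42caa488,[]⟩)
 (.leaf ⟨0,3,3,nat_lit 0x2563791dff4945688,0,nat_lit 0x14dd53e35f68e7f6,[]⟩)))))))

noncomputable def ft39_79 : FT := (.node 59 (.node 49 (.node 44 (.node 41 (.node 40 (.leaf ⟨0,3,3,nat_lit 0xf57960abfeb7f518e,0,nat_lit 0x36836146968dd55c6,[]⟩)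
 (.leaf ⟨0,3,3,nat_lit 0x12fcf1711e598d44,0,nat_lit 0xbfcf315656,[]⟩))
 (.node 42 (.leaf ⟨0,3,3,nat_lit 0x31a456f5ece32edbc,0,nat_lit 0x20531f7d24d1b41a6,[]⟩)
 (.node 43 (.leaf ⟨0,3,3,nat_lit 0x7017323f1f97874a,0,nat_lit 0x209b277f3a5d5fb4d4,[]⟩)
 (.leaf ⟨0,3,3,nat_lit 0x16ae43bf45688fd0c,0,nat_lit 0x168aa7bc8e88dc2a,[]⟩))))
 (.node 46 (.node 45 (.leaf ⟨0,3,3,nat_lit 0x270f23ca87a44e,0,nat_lit 0x323d9b345e164c27a,[]⟩)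
 (.leaf ⟨0,3,3,nat_lit 0xf57960abfeb7f518e,0,nat_lit 0x36836146968dd55c6,[]⟩))
 (.node 47 (.leaf ⟨0,3,3,nat_lit 0xa5a4d2585f853178a,0,nat_lit 0x2ed94c88892b6,[]⟩)
 (.node 48 (.leaf ⟨0,3,3,nat_lit 0xd7b0a114e3aa4526,0,nat_lit 0x7e4cfb41306a4f6,[]⟩)
 (.leaf ⟨0,3,3,nat_lit 0x95d77226a09a66c,0,nat_lit 0x73e9a9134f2a503f4e,[]⟩)))))
 (.node 54 (.node 51 (.node 50 (.leaf ⟨0,3,3,nat_lit 0x2a2fda22b4e4524b0,0,nat_lit 0xdf8cca7344bdc554,[]⟩)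
 (.leaf ⟨1,2,4,nat_lit 0x3191882,0,1,[]⟩))
 (.node 52 (.leaf ⟨0,4,4,nat_lit 0xc7a9e560c74ad4,0,nat_lit 0x5a0d85b7615b5efa96,[]⟩)
 (.node 53 (.leaf ⟨0,4,4,nat_lit 0xfdfb8bfa5951ba,0,nat_lit 0x117b0711472d91ea9945e6,[]⟩)
 (.leaf ⟨0,4,4,nat_lit 0x325e3dbc2bcf20e,0,nat_lit 0x1ef60cea580bb7fdc5f8a28,[]⟩))))
 (.node 56 (.node 55 (.leaf ⟨0,4,4,nat_lit 0x69fd033eb8b3694,0,nat_lit 0x7d53ab89ff332d771b47a,[]⟩)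
 (.leaf ⟨0,4,4,nat_lit 0x10e3cb64c41f8a,0,nat_lit 0x230092301910651cc,[]⟩))
 (.node 57 (.leaf ⟨0,4,4,nat_lit 0xc651ace0bbd174,0,nat_lit 0xfad849358fd1d1b7559be,[]⟩)
 (.node 58 (.leaf ⟨0,4,4,nat_lit 0x1696cf2cba8ec2b54e,0,nat_lit 0xf5b0ae76d7d7c5721c48e2,[]⟩)
 (.leaf ⟨0,4,4,nat_lit 0x208e651f70de70,0,nat_lit 0x324c8733f2887c76d0c58e,[]⟩))))))
 (.node 69 (.node 64 (.node 61 (.node 60 (.leaf ⟨0,4,4,nat_lit 0x820cca3996,0,nat_lit 0x4188c732d4,[]⟩)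
 (.leaf ⟨0,4,4,nat_lit 0x40e913c68a59d4,0,nat_lit 0x8c031b104ab412,[]⟩))
 (.node 62 (.leaf ⟨0,4,4,nat_lit 0x899561065a8e,0,nat_lit 0x464399475a8e,[]⟩)
 (.node 63 (.leaf ⟨0,4,4,nat_lit 0x5f9659b9eedfbed1f4,0,nat_lit 0x98082ab532799e27b1e2,[]⟩)
 (.leaf ⟨0,4,4,nat_lit 0xa9b03f7492d2d2,0,nat_lit 0x324c857be679e85a7789b4,[]⟩))))
 (.node 66 (.node 65 (.leaf ⟨1,4,3,nat_lit 0x179302,nat_lit 0x25ccb048d0f15f77058eca,nat_lit 0x18ec5238e0b19946,[]⟩)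
 (.leaf ⟨0,4,4,nat_lit 0xdc361c2b241196,0,nat_lit 0x14041d2e43e13db57ae,[]⟩))
 (.node 67 (.leaf ⟨0,4,4,nat_lit 0x38c8cdcc6b1af92e,0,nat_lit 0x122c984ce2f6328eb51cc,[]⟩)
 (.node 68 (.leaf ⟨0,4,4,nat_lit 0x31601820b8c90cb51cc,0,nat_lit 0x808399f898858d2f6f4,[]⟩)
 (.leaf ⟨0,4,4,nat_lit 0x6a3a60a741eafa9e7e91e8c,0,nat_lit 0x3748868ac911024feabf3c,[]⟩)))))
 (.node 74 (.node 71 (.node 70 (.leaf ⟨0,4,4,nat_lit 0x1cb008b65f9d7d1e2365f8a,0,nat_lit 0x7d941045fb14c391a90a6ec,[]⟩)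
 (.leaf ⟨0,3,3,nat_lit 0x4198f075688ab896fdcf73c,0,nat_lit 0x41ab5365dc76e4ed885376c,[]⟩))
 (.node 72 (.leaf ⟨0,3,3,nat_lit 0x4198f071797166cffdae62c,0,nat_lit 0x41ab5375346b68fdbb8e8aa,[]⟩)
 (.node 73 (.leaf ⟨0,3,3,nat_lit 0xe12ef08e78a26ca3c11117be,0,nat_lit 0x320bb079619216c7d3049a8,[]⟩)
 (.leaf ⟨0,3,3,nat_lit 0x45a9437bbc0bd14dabbb7ea,0,nat_lit 0x32d478fb6a7a8abfb979f6e,[]⟩))))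
 (.node 76 (.node 75 (.leaf ⟨1,0,1,nat_lit 0x61f642,0,nat_lit 0x61f642,[]⟩)
 (.leaf ⟨2,0,0,0,0,0,[nat_lit 0x61f642,nat_lit 0xcbda,nat_lit 0x15a35e,nat_lit 0x15a3db5c5323daeebdd54]⟩))
 (.node 77 (.leaf ⟨1,1,5,nat_lit 0xb42,0,1,[]⟩)
 (.node 78 (.leaf ⟨0,5,5,nat_lit 0x16563b7c7f3da66c,0,nat_lit 0x4bd246a0454bd2524c,[]⟩)
 (.leaf ⟨0,5,5,nat_lit 0x3c48d112f12d95768,0,nat_lit 0x43fb4567c188f5954c,[]⟩)))))))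

noncomputable def ft79_118 : FT := (.node 98 (.node 88 (.node 83 (.node 81 (.node 80 (.leaf ⟨0,5,5,nat_lit 0x351bc053a268b4e26,0,nat_lit 0x5798e12997fdc76a,[]⟩)
 (.leaf ⟨0,5,5,nat_lit 0x104cfe36d4931ec2e,0,nat_lit 0x122e0d5b6883d0c8,[]⟩))
 (.node 82 (.leaf ⟨0,5,5,nat_lit 0x3d6fa8db17d5792b0,0,nat_lit 0x695d18440bfe5d2,[]⟩)
 (.leaf ⟨0,5,5,nat_lit 0x4305c2f27fef5f598e,0,nat_lit 0x2b14bda39bceb4cc4c,[]⟩)))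
 (.node 85 (.node 84 (.leaf ⟨0,5,5,nat_lit 0x70db36afd92bc714ba,0,nat_lit 0xb36ec7cbcd2d0b960,[]⟩)
 (.leaf ⟨0,5,5,nat_lit 0x16fa657ac287ba24,0,nat_lit 0xe2acb10b5467ada0,[]⟩))
 (.node 86 (.leaf ⟨0,5,5,nat_lit 0x7fdace3579aaa9244a,0,nat_lit 0x1ac4ad2acd375cea,[]⟩)
 (.node 87 (.leaf ⟨0,5,5,nat_lit 0x25cbce29baa54cf64,0,nat_lit 0x11ff6239b08f0f5ba,[]⟩)
 (.leaf ⟨0,5,5,nat_lit 0x27fc92d9f0fb7ef92,0,nat_lit 0xbaa92f91c93df5e52,[]⟩)))))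
 (.node 93 (.node 90 (.node 89 (.leaf ⟨0,5,5,nat_lit 0x8df4623a9721c8e,0,nat_lit 0x17c817c93e1ef23f26,[]⟩)
 (.leaf ⟨0,5,5,nat_lit 0x49a7b223c2f090e4,0,nat_lit 0x247919e4b49be94,[]⟩))
 (.node 91 (.leaf ⟨1,5,6,nat_lit 0x1905d82,0,1,[]⟩)
 (.node 92 (.leaf ⟨0,6,6,nat_lit 0xad4417794e4c9d1f4,0,nat_lit 0x4c58466385cfaab786,[]⟩)
 (.leaf ⟨0,6,6,nat_lit 0x22817d77552e9b92a,0,nat_lit 0x1ef1e425f86afa4f3c,[]⟩))))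
 (.node 95 (.node 94 (.leaf ⟨0,6,6,nat_lit 0x95fe7a0ad13992674,0,nat_lit 0x73d6cf91cee7ac70,[]⟩)
 (.leaf ⟨0,6,6,nat_lit 0x1796cf545789c550,0,nat_lit 0x515f9da64c46b9214c,[]⟩))
 (.node 96 (.leaf ⟨0,6,6,nat_lit 0xb8cb1adffbcd262,0,nat_lit 0x8bcf6a3218a5ac1a6,[]⟩)
 (.node 97 (.leaf ⟨0,6,6,nat_lit 0x1ac43fc158541586,0,nat_lit 0xd1f68f2d70834f34,[]⟩)
 (.leaf ⟨0,6,6,nat_lit 0x22a15e7fdf5724fb4,0,nat_lit 0x9e87ad8368fa5a4c,[]⟩))))))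
 (.node 108 (.node 103 (.node 100 (.node 99 (.leaf ⟨0,6,6,nat_lit 0x23daba3f0b7b122532,0,nat_lit 0x3a3cffbecd048afe0,[]⟩)
 (.leaf ⟨0,6,6,nat_lit 0x4c5382ca6584de4,0,nat_lit 0x263b2734173d4af6c,[]⟩))
 (.node 101 (.leaf ⟨0,6,6,nat_lit 0x7fe53f2a8528c84,0,nat_lit 0x3453777e46d6afcca,[]⟩)
 (.node 102 (.leaf ⟨0,6,6,nat_lit 0x5fb7f2477aa6aa,0,nat_lit 0x1e505565d29ffa46ec,[]⟩)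
 (.leaf ⟨1,3,6,nat_lit 0x1d5d158,nat_lit 0x7097787e2d5a58f0c8ae530,nat_lit 0x51479a8fa8fbf8cc74,[]⟩))))
 (.node 105 (.node 104 (.leaf ⟨0,6,6,nat_lit 0xfbacb7c6913636afeeb4dfd2,0,nat_lit 0xd4f185b2897feb19ad38,[]⟩)
 (.leaf ⟨0,6,6,nat_lit 0x3bccbb119dac47b10b558fc,0,nat_lit 0x63ea6b0cb3ee1617be64eb6,[]⟩))
 (.node 106 (.leaf ⟨0,6,6,nat_lit 0x3bccbb2be190f1142e78a8e,0,nat_lit 0xc7d8a6a7f4b73d88279a8722,[]⟩)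
 (.node 107 (.leaf ⟨0,6,6,nat_lit 0x7799767a98e14f435358be34,0,nat_lit 0x6a78ce24715f3b1f628,[]⟩)
 (.leaf ⟨0,5,5,nat_lit 0x41686374d0855cb5d56b2,0,nat_lit 0x416855f28fbba5a1442c6,[]⟩)))))
 (.node 113 (.node 110 (.node 109 (.leaf ⟨0,5,5,nat_lit 0x82d0f7765492a85a14350c,0,nat_lit 0x82d09337e8fd5eed66adb6,[]⟩)
 (.leaf ⟨0,5,5,nat_lit 0x82d0c70bbf48bc4c51a54c,0,nat_lit 0x20b439af114da779c6ce,[]⟩))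
 (.node 111 (.leaf ⟨0,5,5,nat_lit 0x119d26d84af44d134,0,nat_lit 0x5a4ed9e2746a178,[]⟩)
 (.node 112 (.leaf ⟨1,0,1,nat_lit 0x20b42,0,nat_lit 0x20b42,[]⟩)
 (.leaf ⟨2,0,0,0,0,0,[nat_lit 0x20b42,nat_lit 0x20b42,nat_lit 0x20b42,nat_lit 0x41686891efbbf573c3904]⟩))))
 (.node 115 (.node 114 (.leaf ⟨1,5,7,nat_lit 0xb42,0,1,[]⟩)
 (.leaf ⟨0,7,7,nat_lit 0x2510deaeaf0fcaca72,0,nat_lit 0x2cbfe89cc930bea60,[]⟩))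
 (.node 116 (.leaf ⟨0,7,7,nat_lit 0x7efcd4f765df292,0,nat_lit 0x20b439af114da779c6ce,[]⟩)
 (.node 117 (.leaf ⟨0,7,7,nat_lit 0x1097933d6cc9d6d6,0,nat_lit 0x20b425aab87a2e1fceb2,[]⟩)
 (.leaf ⟨0,7,7,nat_lit 0x1353a48dfa57f21c96,0,nat_lit 0x313e57059d7dbaafc,[]⟩)))))))

noncomputable def ft118_158 : FT := (.node 138 (.node 128 (.node 123 (.node 120 (.node 119 (.leaf ⟨0,7,7,nat_lit 0x53b61612b85e2bf7d2,0,nat_lit 0x20b43f9d69e24fd5854a,[]⟩)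
 (.leaf ⟨0,7,7,nat_lit 0x15ed3c3e0d36df6a,0,nat_lit 0x8a0e51950c3f22a,[]⟩))
 (.node 121 (.leaf ⟨0,7,7,nat_lit 0xfd4e476fe0a2b6f2,0,nat_lit 0xd798f253ef19da4e,[]⟩)
 (.node 122 (.leaf ⟨0,7,7,nat_lit 0xa8fb52559471548,0,nat_lit 0x20b429dfb3ee0e43e78e,[]⟩)
 (.leaf ⟨0,7,7,nat_lit 0x3d01716429e9cfd94,0,nat_lit 0x6947dcb7aee5228634,[]⟩))))
 (.node 125 (.node 124 (.leaf ⟨0,7,7,nat_lit 0xec2e32eca3e60a,0,nat_lit 0x82d0d616f4744f0be4d8e2,[]⟩)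
 (.leaf ⟨0,7,7,nat_lit 0x49f93a2e8b21f16,0,nat_lit 0x20b43498b4a5eb29cf12,[]⟩))
 (.node 126 (.leaf ⟨0,7,7,nat_lit 0x29b9ef4acf3ebb744,0,nat_lit 0xe885527b70b83d2c,[]⟩)
 (.node 127 (.leaf ⟨0,7,7,nat_lit 0x171d451e2c95d5966,0,nat_lit 0x41684769d4a4cc47f99cc,[]⟩)
 (.leaf ⟨0,7,7,nat_lit 0x13f086af23d9cd7d8f22bfd4,0,nat_lit 0xc7d8a6a7f4b73d88279a8722,[]⟩)))))
 (.node 133 (.node 130 (.node 129 (.leaf ⟨0,7,7,nat_lit 0x55c3f866adf4a88fbe785e0,0,nat_lit 0xb05e3cc05ed2f244e4e,[]⟩)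
 (.leaf ⟨0,7,7,nat_lit 0x6585e309e8fef05d47b2eea,0,nat_lit 0x2641db0de45732c2f67b666,[]⟩))
 (.node 131 (.leaf ⟨0,7,7,nat_lit 0x5efaf69e91e5349dea23b414,0,nat_lit 0x4c83b62276ad964c6ac,[]⟩)
 (.node 132 (.leaf ⟨0,7,7,nat_lit 0xc264d79c7daca329da3236a0,0,nat_lit 0x807d861f84bd747e42de98b4,[]⟩)
 (.leaf ⟨0,7,7,nat_lit 0x4fc21be557c2bce3fac74,0,nat_lit 0x41f3dbf67b165a4abfb36be,[]⟩))))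
 (.node 135 (.node 134 (.leaf ⟨0,7,7,nat_lit 0x6234d0ac53fdfd727b2799b6,0,nat_lit 0x543b68464fd73e19fd9a12c,[]⟩)
 (.leaf ⟨1,0,1,2,0,2,[]⟩))
 (.node 136 (.leaf ⟨2,0,0,0,0,0,[2,nat_lit 0xb43,nat_lit 0xb43,nat_lit 0xb43,0,2,0,nat_lit 0xb42,nat_lit 0xb42,nat_lit 0xb42]⟩)
 (.node 137 (.leaf ⟨1,0,1,4,0,4,[]⟩)
 (.leaf ⟨2,0,0,0,0,0,[4,nat_lit 0xb43,nat_lit 0xb43,nat_lit 0xb43,0,4,0,nat_lit 0xb42,nat_lit 0xb42,nat_lit 0xb42]⟩))))))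
 (.node 148 (.node 143 (.node 140 (.node 139 (.leaf ⟨1,0,1,6,0,6,[]⟩)
 (.leaf ⟨2,0,0,0,0,0,[6,nat_lit 0xb43,nat_lit 0xb43,nat_lit 0xb43,0,6,0,nat_lit 0xb42,nat_lit 0xb42,nat_lit 0xb42]⟩))
 (.node 141 (.leaf ⟨1,0,1,8,0,8,[]⟩)
 (.node 142 (.leaf ⟨2,0,0,0,0,0,[8,nat_lit 0xb43,nat_lit 0xb43,nat_lit 0xb43,0,8,0,nat_lit 0xb42,nat_lit 0xb42,nat_lit 0xb42]⟩)
 (.leaf ⟨1,0,1,10,0,10,[]⟩))))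
 (.node 145 (.node 144 (.leaf ⟨2,0,0,0,0,0,[10,nat_lit 0xb43,nat_lit 0xb43,nat_lit 0xb43,0,10,0,nat_lit 0xb42,nat_lit 0xb42,nat_lit 0xb42]⟩)
 (.leaf ⟨1,0,1,12,0,12,[]⟩))
 (.node 146 (.leaf ⟨2,0,0,0,0,0,[12,nat_lit 0xb43,nat_lit 0xb43,nat_lit 0xb43,0,12,0,nat_lit 0xb42,nat_lit 0xb42,nat_lit 0xb42]⟩)
 (.node 147 (.leaf ⟨1,0,1,14,0,14,[]⟩)
 (.leaf ⟨2,0,0,0,0,0,[14,nat_lit 0xb43,nat_lit 0xb43,nat_lit 0xb43,0,14,0,nat_lit 0xb42,nat_lit 0xb42,nat_lit 0xb42]⟩)))))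
 (.node 153 (.node 150 (.node 149 (.leaf ⟨1,0,1,16,0,16,[]⟩)
 (.leaf ⟨2,0,0,0,0,0,[16,nat_lit 0xb43,nat_lit 0xb43,nat_lit 0xb43,0,16,0,nat_lit 0xb42,nat_lit 0xb42,nat_lit 0xb42]⟩))
 (.node 151 (.leaf ⟨1,0,1,18,0,18,[]⟩)
 (.node 152 (.leaf ⟨2,0,0,0,0,0,[18,nat_lit 0xb43,nat_lit 0xb43,nat_lit 0xb43,0,18,0,nat_lit 0xb42,nat_lit 0xb42,nat_lit 0xb42]⟩)
 (.leaf ⟨1,0,1,20,0,20,[]⟩))))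
 (.node 155 (.node 154 (.leaf ⟨2,0,0,0,0,0,[20,nat_lit 0xb43,nat_lit 0xb43,nat_lit 0xb43,0,20,0,nat_lit 0xb42,nat_lit 0xb42,nat_lit 0xb42]⟩)
 (.leaf ⟨1,0,1,nat_lit 0xb42,0,nat_lit 0xb42,[]⟩))
 (.node 156 (.leaf ⟨2,0,0,0,0,0,[nat_lit 0xb42,nat_lit 0xb42,nat_lit 0xb42,nat_lit 0xb42,nat_lit 0xb42,nat_lit 0xb42]⟩)
 (.node 157 (.leaf ⟨1,0,1,nat_lit 0xb42,0,nat_lit 0xb42,[]⟩)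
 (.leaf ⟨2,0,0,0,0,0,[nat_lit 0xb42,nat_lit 0xb43,nat_lit 0xb43,nat_lit 0xb43,nat_lit 0xb42,nat_lit 0xb42]⟩)))))))

noncomputable def ft : FT := (.node 79 (.node 39 ft0_39
 ft39_79)
 (.node 118 ft79_118
 ft118_158))

noncomputable def nd : ℕ → ℕ × ℕ × ℕ := getN (0, 0, 0) [(0, 0, 0),
  (0, 0, 0),
  (1, 2, 0),
  (1, nat_lit 0x1905d82, 0),
  (2, nat_lit 0x3191882, 0),
  (1, nat_lit 0xb42, 0),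
  (5, nat_lit 0x1905d82, 0),
  (5, nat_lit 0xb42, 0)]

def R0 : List (List ℕ) := [[0,0],
  [2,2,2,2]]

end Cfsg.Lib.Spor.Bm.P
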