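import Cfsg.Agent.Spor.Fi22Two
import Cfsg.Agent.Spor.FisNrm
import Cfsg.Agent.S0280
import Cfsg.Agent.S0283
import Cfsg.Agent.Class.FieldIso

/-! The centraliser of a transposition and the width of a group of type M(22). -/

set_option autoImplicit false
set_option maxRecDepth 100000

namespace Cfsg.Lib.Spor.F22

open Bulk Equiv Fm Fis Fi22P

theorem stab0_le : G0 ⊓ ptStab 3510 0 ≤ tgen t Y2 := by
  rintro x ⟨h1, h2⟩
  obtain ⟨g, rfl⟩ := range_G0.ge h1
  have h3 := Subgroup.mem_map_of_mem ρ3 ((model3.stab g).2 ((mem_ptStab (b := pp 0)).1 h2))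
  rw [map_gW ρ3_g0 (by decide +kernel)] at h3
  refine gW_le (fun W hW => ?_) h3
  rw [wv_congr (g' := prm Q.T 3510) fun l hl => (prm_lt (lt_of_ltB (k := 10) (by decide +kernel) W hW l hl)).symm]
  exact Mem.tgen rig [[[27],[22,10],[10],[52,10],[53,10]], [[27]], [[17,10]], [[22,10]], [[21,10]], [[10]],
    [[19,15,2]], [[19,26]], [[39,24,2]]] (by decide +kernel) W hW

theorem stab0_eq : tgen t Y2 = G0 ⊓ ptStab 3510 0 := by
  refine le_antisymm (le_inf (tgen_le _) ((Subgroup.closure_le _).2 ?_)) stab0_le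
  rintro _ ⟨p, hp, rfl⟩
  exact (mem_ptStab (b := pp 0)).2 (t_comm ((mem_Y2 p).1 hp).1)

theorem card_stab0 : Nat.card ↥(G0 ⊓ ptStab 3510 0) = 18393661440 := by
  have h1 := card_eq_orbit_mul G0 (pp 0)
  have h2 : MulAction.orbit G0 (pp 0) = Set.univ := Set.eq_univ_of_forall fun p => by
    obtain ⟨c, hc, e⟩ := trans1 p
    exact ⟨⟨c⁻¹, inv_mem hc⟩, by rw [← e]; exact c.symm_apply_apply p⟩
  rw [h2, card_G0, Set.ncard_univ, Nat.card_eq_fintype_card, Fintype.card_fin] at h1
  exact Nat.eq_of_mul_eq_mul_left (n := 3510) (by norm_num) (h1.symm.trans (by norm_num))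

/-- a maximal set of commuting transpositions -/
def B22 : ℕ := 0x18000000000000000000000000000000000000000000000000000000000000000000000000000000000000000000000000000000000000000000000000000000000000000000000000000000000000000000000000000000010000000000000000000020000000000000000000000000000000000000000000000000000000000000000000000000000000000000000000000000000000000000000000000000000000000000000000000000000000000000000000000000000000000000000000000000000000000000008000000000040000040000000000000000000000000000000000000000000000000000000000000000000000000000000000000000000000000000000000000000000000000000000000000000000000000000000000000000040000000000000000000000000000000000000000000000000000000000000000000000000000000000000000000000000000000002000000000000000000000000000000000000000010000000004090000000000000000000000000000000000000000000000000000000000000010000c00000000000000000000000800890000000041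

theorem clq_B22 : Q.isClqB (ones 3510) B22 [(0,[]),(6,[27]),(40,[22,10]),(43,[19,15,2]),(47,[34,16,2]),(59,[41,17]),(154,[10]),(155,[34,10]),(172,[4,16]),(424,[47,22,10]),(427,[30,18]),(434,[40,12,10]),(472,[39,24,2]),(637,[47,10]),(1062,[46,12,10]),(1710,[62,32,10]),(1734,[21,51,2]),(1779,[64,33,10]),(2609,[64,32,10]),(2692,[49,10]),(3399,[52,10]),(3400,[53,10])] = true := by
  decide +kernel

theorem clique_le : CliqueLe t (ones 3510) 22 := by
  refine CliqueLe.step (Q := Q) (b := pp 0) G0_le Inv.ones (fun p _ => trans1 p)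
    (fun q _ h1 h2 => (mem_Y2 q).2 ⟨h1, h2⟩) ?_
  refine CliqueLe.step (Q := Q) (b := pp 6) (C := G0 ⊓ ptStab 3510 0) (inf_le_left.trans G0_le)
    (Ai3.mono (inf_le_inf_right _ G0_le)) back6 (fun q h0 h1 h2 => (mem_Y6 q).2 ⟨(mem_Y2 q).1 h0, h1, h2⟩) ?_
  refine CliqueLe.step (Q := Q) (b := pp 40) (C := G0 ⊓ ptStab 3510 0 ⊓ ptStab 3510 6)
    (Y' := Nat.land Y6 (dif (Q.nbm [22, 10]) (Nat.shiftLeft 1 (pp 40))))
    (inf_le_left.trans (inf_le_left.trans G0_le)) (Ai7.mono (inf_le_inf_right _ (inf_le_inf_right _ G0_le)))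
    back40 (fun q h0 h1 h2 => testBit_land_of h0 ((testBit_dif_pt _ _).2 ⟨(nb40 q).2 h1, h2⟩)) ?_
  exact CliqueLe.of_clqB [(43,[19,15,2]),(47,[34,16,2]),(59,[41,17]),(66,[15,15,2]),(70,[46,10]),(86,[50,10]),(92,[19,26]),(97,[33,10]),(118,[23,29,2]),(155,[34,10]),(172,[4,16]),(196,[35,10]),(217,[22,17]),(246,[2,29]),(274,[12,18]),(308,[33,27]),(392,[51,22,10]),(424,[47,22,10]),(427,[30,18]),(434,[40,12,10]),(472,[39,24,2]),(539,[50,35,10]),(542,[15,16]),(550,[36,31,2]),(636,[46,10,2]),(637,[47,10]),(676,[22,29]),(679,[18,29]),(689,[32,10]),(708,[70,46,10]),(792,[71,32,10]),(875,[14,41,2]),(1062,[46,12,10]),(1347,[47,45,10]),(1361,[38,24,10]),(1396,[68,33,10]),(1525,[48,10]),(1543,[29,16]),(1581,[44,31,2]),(1710,[62,32,10]),(1734,[21,51,2]),(1779,[64,33,10]),(2125,[41,16]),(2179,[72,33,10]),(2364,[48,22,10]),(2433,[46,34,10]),(2609,[64,32,10]),(2692,[49,10]),(154,[10]),(3399,[52,10]),(3400,[53,10])] (by decide +kernel)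

variable {G : Type*} [Group G] {D : Set G} (M : MD G D)

include M in
theorem MD.width : commutingWidth D = 22 :=
  M.width_eq subset_rfl (fun p => iff_of_true (M.τ_mem p) (by simp [testBit_ones])) clique_le
    (HasClique.of_isClqB (Q := Q) _ (Fis.band_intro clq_B22 (by decide +kernel)))

include M in
theorem MD.ncard : D.ncard = 3510 := by
  rw [M.D_eq, ← Set.image_univ, Set.ncard_image_of_injective _ M.τ_inj, Set.ncard_univ,
    Nat.card_eq_fintype_card, Fintype.card_fin]

/-- the members of `D` commuting with `d` -/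
abbrev nbr (D : Set G) (d : G) : Set G := {y | y ∈ D ∧ y ≠ d ∧ Commute d y}

theorem MD.mem_nbr (p : Fin 3510) : M.τ p ∈ nbr D (M.τ (pp 0)) ↔ Y2.testBit p = true := by
  rw [mem_Y2, ← M.commute_ττ_iff, ← M.τ_inj.ne_iff]
  exact ⟨fun h => ⟨h.2.2, h.2.1⟩, fun h => ⟨M.τ_mem p, h.2, h.1⟩⟩

theorem MD.nbr_eq : Subgroup.closure (nbr D (M.τ (pp 0))) = M.pb (G0 ⊓ ptStab 3510 0) := by
  rw [← M.pb_tgen (fun _ h => h.1) M.mem_nbr, stab0_eq]

include M in
theorem MD.closure_nbr {d : G} (hd : d ∈ D) : Subgroup.closure (nbr D d) = Subgroup.centralizer {d} := by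
  obtain ⟨M, rfl⟩ := M.at1 hd
  rw [M.nbr_eq, inf_comm, M.pb_inf_G₀]
  exact M.pb_ptStab (pp 0)

include M in
theorem MD.nbr_equiv {d : G} (hd : d ∈ D) :
    Nonempty (Subgroup.closure (nbr D d) ≃* ↥(G0 ⊓ ptStab 3510 0)) := by
  obtain ⟨M, rfl⟩ := M.at1 hd
  rw [M.nbr_eq]
  exact ⟨M.pbEquiv inf_le_left⟩

include M in
theorem MD.perfect_nbr {d : G} (hd : d ∈ D) : Group.IsPerfect (Subgroup.closure (nbr D d)) := by
  obtain ⟨M, rfl⟩ := M.at1 hd
  have k : ∀ a ∈ nbr D (M.τ (pp 0)), ∃ g ∈ Subgroup.closure (nbr D (M.τ (pp 0))),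
      g * a * g⁻¹ = M.τ (pp 6) := fun a ha => by
    obtain ⟨p, rfl⟩ := M.exists_τ ha.1
    obtain ⟨c, hc, e⟩ := back6 p ((M.mem_nbr p).1 ha)
    obtain ⟨g, rfl⟩ := M.exists_ρ hc.1
    exact ⟨g, M.nbr_eq.ge hc, by rw [M.conj_τ, e]⟩
  refine perfect_of_odd (fun a ha b hb => ?_) (fun a ha => ?_)
    (l := ([[27], [22, 10], [41, 17], [4, 16], [10], [47, 22, 10], [47, 10]].map Q.pt).map M.τ) ?_
    (by simp only [List.length_map]; decide) ?_
  · obtain ⟨g, hg, e⟩ := k a ha
    obtain ⟨h, hh, e'⟩ := k b hb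
    exact ⟨h⁻¹ * g, mul_mem (inv_mem hh) hg, by
      rw [show h⁻¹ * g * a * (h⁻¹ * g)⁻¹ = h⁻¹ * (g * a * g⁻¹) * h by group, e, ← e']; group⟩
  · obtain ⟨p, rfl⟩ := M.exists_τ ha.1
    exact M.τ_sq p
  · intro a ha
    obtain ⟨p, hp, rfl⟩ := List.mem_map.1 ha
    exact (M.mem_nbr p).2 (testBit_of_dif (A := Q.pts [[27], [22, 10], [41, 17], [4, 16], [10], [47, 22, 10],
      [47, 10]]) (by decide +kernel) ((Q.testBit_pts _ _).2 (List.mem_map.1 hp)))
  · apply M.inj
    simp only [List.map_cons, List.map_nil, List.prod_cons, List.prod_nil, map_mul, map_one, M.ρτ, mul_one]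
    have h : ∀ v, t (Q.pt v) = Q.ev (Q.tw v) := Q.t_pt
    simp only [h, ← Q.ev_append]
    exact rig.eq (B := []) (by decide +kernel)

theorem card_center_nbr [Finite G] (M : MD G D) (ht : IsOfTypeM22 G D) {d : G} (hd : d ∈ D) :
    IsSimpleGroup (Subgroup.closure (nbr D d) ⧸ Subgroup.center (Subgroup.closure (nbr D d))) ∧
    Nat.card (Subgroup.center (Subgroup.closure (nbr D d))) = 2 := by
  obtain ⟨-, d', hd', -, -, -, ⟨F, _, _, hF, ⟨e⟩⟩, -⟩ := ht
  obtain ⟨e1⟩ := M.nbr_equiv hd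
  obtain ⟨e2⟩ := M.nbr_equiv hd'
  have e3 := (Class.quotCenterEquiv (e1.trans e2.symm)).trans e
  have := Agent.S0283.result (q := 2) hF 6 (by norm_num) (by norm_num)
  refine ⟨e3.isSimpleGroup, ?_⟩
  have h1 := Agent.S0280.result (q := 2) hF 6 (by norm_num)
  have h2 := Subgroup.card_eq_card_quotient_mul_card_subgroup (Subgroup.center (Subgroup.closure (nbr D d)))
  rw [Nat.card_congr e3.toEquiv, Nat.card_congr e1.toEquiv, card_stab0] at h2
  simp [Finset.prod_range_succ, Nat.even_iff] at h1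
  have h3 : Nat.card (PSU 6 F 2) = 9196830720 := by omega
  rw [h3] at h2
  omega

end Cfsg.Lib.Spor.F22
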