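import Cfsg.Agent.Spor.PresBridge
import Cfsg.Prelude.Def_Spor_Fi22

set_option autoImplicit false
set_option maxRecDepth 100000

namespace Cfsg.Lib.Spor.Fi22P

open Cfsg.Lib.Spor.Bulk

/-- the letters -/
noncomputable def D : PresData Cfsg.Spor.Fi22.Gen where
  k := 10
  ι := idI
  lt := fun v => match v with
    | .a => 1
    | .b => 2
    | .c => 3
    | .d => 4
    | .e => 5
    | .f => 6
    | .g => 7
    | .h => 8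
    | .i => 9
  gn := getN .a [.a, .a, .b, .c, .d, .e, .f, .g, .h, .i]
  exs := [(.pow (.mul (.mul (.mul (.mul (.mul (.mul (.mul (.mul (.gen 4) (.gen 3)) (.gen 2)) (.gen 4)) (.gen 5)) (.gen 6)) (.gen 4)) (.gen 8)) (.gen 9)) 10),
    (.pow (.mul (.mul (.mul (.mul (.mul (.mul (.gen 1) (.gen 2)) (.gen 3)) (.gen 4)) (.gen 5)) (.gen 6)) (.gen 8)) 9),
    (.pow (.mul (.mul (.mul (.mul (.mul (.mul (.gen 2) (.gen 3)) (.gen 4)) (.gen 5)) (.gen 6)) (.gen 7)) (.gen 8)) 9)]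

set_option synthInstance.maxSize 4000 in
theorem ok : D.Ok Cfsg.Spor.Fi22.edges Cfsg.Spor.Fi22.extra :=
  ⟨fun v => by cases v <;> decide +kernel, by decide +kernel, by decide +kernel, by decide +kernel, rfl⟩

/-- the relators -/
def R : List (List ℕ) := [[2,1,2,1,2,1],[3,1,3,1],[4,1,4,1],[5,1,5,1],[6,1,6,1],[7,1,7,1],[8,1,8,1],[9,1,9,1],[3,2,3,2,3,2],[4,2,4,2],[5,2,5,2],[6,2,6,2],[7,2,7,2],[8,2,8,2],[9,2,9,2],[4,3,4,3,4,3],[5,3,5,3],[6,3,6,3],[7,3,7,3],[8,3,8,3],[9,3,9,3],[5,4,5,4,5,4],[6,4,6,4],[7,4,7,4],[8,4,8,4,8,4],[9,4,9,4],[6,5,6,5,6,5],[7,5,7,5],[8,5,8,5],[9,5,9,5],[7,6,7,6,7,6],[8,6,8,6],[9,6,9,6],[8,7,8,7],[9,7,9,7],[9,8,9,8,9,8],[9,8,4,6,5,4,2,3,4,9,8,4,6,5,4,2,3,4,9,8,4,6,5,4,2,3,4,9,8,4,6,5,4,2,3,4,9,8,4,6,5,4,2,3,4,9,8,4,6,5,4,2,3,4,9,8,4,6,5,4,2,3,4,9,8,4,6,5,4,2,3,4,9,8,4,6,5,4,2,3,4,9,8,4,6,5,4,2,3,4],[8,6,5,4,3,2,1,8,6,5,4,3,2,1,8,6,5,4,3,2,1,8,6,5,4,3,2,1,8,6,5,4,3,2,1,8,6,5,4,3,2,1,8,6,5,4,3,2,1,8,6,5,4,3,2,1,8,6,5,4,3,2,1],[8,7,6,5,4,3,2,8,7,6,5,4,3,2,8,7,6,5,4,3,2,8,7,6,5,4,3,2,8,7,6,5,4,3,2,8,7,6,5,4,3,2,8,7,6,5,4,3,2,8,7,6,5,4,3,2,8,7,6,5,4,3,2]]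

/-- the letters as elements of the presented group -/
noncomputable def g0 : ℕ → Cfsg.Spor.Fi22 := D.g0 Cfsg.Spor.Fi22.edges Cfsg.Spor.Fi22.extra

theorem sat : Sat g0 10 idI R := ok.sat.deriv (E := [(1,0),(2,0),(3,0),(5,0),(6,0),(14,0),(7,0),(15,0),(18,0),(19,0),(21,0),(22,0),(30,0),(23,0),(31,0),(35,0),(37,0),(38,0),(46,0),(39,0),(47,0),(53,0),(54,0),(62,0),(55,0),(63,0),(86,0),(94,0),(87,0),(95,0),(110,0),(103,0),(111,0),(126,1),(239,0),(127,0),(256,0),(257,0),(258,0)]) (by decide +kernel)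

theorem sat_raw {G : Type*} [Group G] {g : ℕ → G} (hg : Sat g 10 idI R) :
    Sat g D.k D.ι (D.raw Cfsg.Spor.Fi22.edges) := hg.deriv (E := [(39,0),(0,0),(1,0),(2,0),(2,0),(3,0),(4,0),(6,0),(0,0),(1,0),(2,0),(3,0),(6,0),(4,0),(5,0),(7,0),(0,1),(39,0),(8,0),(9,0),(9,0),(10,0),(11,0),(13,0),(39,0),(8,0),(9,0),(10,0),(13,0),(11,0),(12,0),(14,0),(1,1),(8,1),(39,0),(15,0),(15,0),(16,0),(17,0),(19,0),(8,1),(39,0),(15,0),(16,0),(19,0),(17,0),(18,0),(20,0),(2,1),(9,1),(15,1),(39,0),(39,0),(21,0),(22,0),(24,0),(9,1),(15,1),(39,0),(21,0),(24,0),(22,0),(23,0),(25,0),(2,1),(9,1),(15,1),(39,0),(39,0),(21,0),(22,0),(24,0),(9,1),(15,1),(39,0),(21,0),(24,0),(22,0),(23,0),(25,0),(3,1),(10,1),(16,1),(21,1),(21,1),(39,0),(26,0),(28,0),(10,1),(16,1),(21,1),(39,0),(28,0),(26,0),(27,0),(29,0),(4,1),(11,1),(17,1),(22,1),(22,1),(26,1),(39,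0),(31,0),(11,1),(17,1),(22,1),(26,1),(31,0),(39,0),(30,0),(32,0),(6,1),(13,1),(19,1),(24,1),(24,1),(28,1),(31,1),(39,0),(13,1),(19,1),(24,1),(28,1),(39,0),(31,1),(33,1),(35,0),(0,1),(39,0),(8,0),(9,0),(9,0),(10,0),(11,0),(13,0),(39,0),(8,0),(9,0),(10,0),(13,0),(11,0),(12,0),(14,0),(1,1),(8,1),(39,0),(15,0),(15,0),(16,0),(17,0),(19,0),(8,1),(39,0),(15,0),(16,0),(19,0),(17,0),(18,0),(20,0),(2,1),(9,1),(15,1),(39,0),(39,0),(21,0),(22,0),(24,0),(9,1),(15,1),(39,0),(21,0),(24,0),(22,0),(23,0),(25,0),(3,1),(10,1),(16,1),(21,1),(21,1),(39,0),(26,0),(28,0),(10,1),(16,1),(21,1),(39,0),(28,0),(26,0),(27,0),(29,0),(6,1),(13,1),(19,1),(24,1),(24,1),(28,1),(31,1),(39,0),(13,1),(19,1),(24,1),(28,1),(39,0),(31,1),(33,1),(35,0),(4,1),(11,1),(17,1),(22,1),(22,1),(26,1),(39,0),(31,0),(11,1),(17,1),(22,1),(26,1),(31,0),(39,0),(30,0),(32,0),(5,1),(12,1),(18,1),(23,1),(23,1),(27,1),(30,1),(33,0),(12,1),(18,1),(23,1),(27,1),(33,0),(30,1),(39,0),(34,0),(7,1),(14,1),(20,1),(25,1),(25,1),(29,1),(32,1),(35,1),(14,1),(20,1),(25,1),(29,1),(35,1),(32,1),(34,1),(39,0),(36,0),(37,0),(38,0)])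 (by decide +kernel)

/-- the homomorphism defined by elements satisfying the relators -/
noncomputable def hom {G : Type*} [Group G] {g : ℕ → G} (hg : Sat g 10 idI R) : Cfsg.Spor.Fi22 →* G :=
  ok.hom (sat_raw hg)

theorem hom_g0 {G : Type*} [Group G] {g : ℕ → G} (hg : Sat g 10 idI R) :
    ∀ l < 10, hom hg (g0 l) = g l := ok.hom_g0 (sat_raw hg)

theorem top : gL g0 [1,2,3,4,5,6,7,8,9] = ⊤ := ok.closure_top fun v => by cases v <;> decide +kernel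

end Cfsg.Lib.Spor.Fi22P
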