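import Cfsg.Agent.Spor.Fi24WM

/-! Upper bounds for the Schur multiplier. -/

set_option autoImplicit false
set_option maxRecDepth 100000
set_option Elab.async false

namespace Cfsg.Lib.Spor.F24

open Cfsg.Lib.Spor.Bulk Cfsg.Lib.Spor.WM Cfsg.Lib.Known Cfsg.Lib.Spor.Fi24P

def m7_c : PC.Cert where
  p := 7
  q := 7
  m := 1
  n := 3
  r := 0
  S := 70
  W := 29
  F := 339
  L := 7
  NL := 1
  FV := 1029
  T := 0x300000000000000000c000000000000000000000000000000000000000000000000000000000000000000000000000000000000000000000000000000000000000000000000000000000000000000000000000000000000000000000000000000000000000000000000000000000000000000000000000000000000000000000000000000000000000000000000000000000000000000000000000000000000000000000000000000000000000000000000000000000000000000000000000000000000000000000000000000000000000000000000000000000000000000000000000000000000000000000000000000000000000000000000000000000000000000000000000000000000000000000000000000000000000000000000000001880000000000000000000000000000000000000000000000000000000000000000000000000000000000000000000000000000000000000000000000000000000000000000000000000000000000000000000000000000000000000000000000000000000000000000000000000000000000000000000000000000000000000000000000000000000000000000000000000000000000000000000000000000000000000000000000000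00000000000000000000000000000000000000000000000000000000000000000000000000000000000000000000000000000000000000000000000000000000000000000000000000000000000000000000000000000000000000000000000000000000000000000000000000000000000000000000000000000000000000000000000000000000000000000000000000000000000000000000000000000000000000000000000000000000000000000000000000000000000000000000000000000000000000000000000000000000000000000000000000000000000000000000000000000000000000000000000000000000000000000000000000000000000000000000000000000000000000000000000000000000000000000000000000000000000000000000000000000000000000000000000000000000000000000000000000000000000000000000000000000000000000000000000000000000000000000000000000000000000000000000000000000000000000000000000000000000000000000000000000000000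
  cons := [0x1084210841]
  fus := [(0x6318c6318842108410842100000000000006108400000000000000000, 0xc0000000000000000200000000000000000400000000000000000, [(0x23, 0x61), (0x43, 0x62), (0x42108421, 0x0), (0x84210842, 0x0)])]
  Ss := [[], [], [], [2081]]
  zetas := []
  rows := [(33, 0xae572e, 0x0),
    (65, 0x1ce00e7, 0x0),
    (66, 0x639e2a, 0x0),
    (97, 0x170e0, 0x0),
    (98, 0x448f5, 0x0),
    (99, 0x873abc, 0x0)]
  zrows := []
theorem m7_chk : PC.check m7_c = true := by decide +kernel
noncomputable def m7_cs : List ℕ := [0,1194935743265552759990030375645507099575598899077366259504098,
  22340720997038136949136320092252072204962906269369496438,
  1001953867554412196426403321489702538439858028416293894869332]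
noncomputable def m7_xs : List ℕ := [391681682032192662239942394746312925612552251859687650274596419]
theorem m7_fus : gO.fus m7_cs m7_c m7_xs = true := by decide +kernel
theorem m7_pc0 : gO.pc m7_cs m7_c 0 3 = true := by decide +kernel
theorem m7_ch : gO.chain 1255205709190661721292800 m7_cs m7_c [(1997, 306936, [(6, 3), (6, 2)]), (2727, 306936, [(6, 1)])] = true := by decide +kernel
theorem pBound_7 : PBound Cfsg.Spor.Fi24' 7 1 0 :=
  g_has.pBound' card_commutator (c := m7_c) (g_good.fm_in _) m7_chk m7_fus
    ((Ops.PcUpTo.zero gO m7_cs m7_c).step m7_pc0) m7_ch

end Cfsg.Lib.Spor.F24
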