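import Cfsg.Agent.Spor.PresBridge
import Cfsg.Prelude.Def_Spor_Fi24

set_option autoImplicit false
set_option maxRecDepth 100000

namespace Cfsg.Lib.Spor.Fi24P

open Cfsg.Lib.Spor.Bulk

/-- the letters -/
noncomputable def D : PresData Cfsg.Spor.Fi24.Gen where
  k := 13
  ι := idI
  lt := fun v => match v with
    | .l => 12
    | .k => 11
    | .a => 1
    | .b => 2
    | .c => 3
    | .d => 4
    | .e => 5
    | .f => 6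
    | .g => 7
    | .j => 10
    | .h => 8
    | .i => 9
  gn := getN .l [.l, .a, .b, .c, .d, .e, .f, .g, .h, .i, .j, .k, .l]
  exs := [(.mul (.gen 12) (.inv (.pow (.mul (.mul (.mul (.mul (.mul (.mul (.gen 1) (.gen 2)) (.gen 3)) (.gen 4)) (.gen 5)) (.gen 6)) (.gen 8)) 9))),
    (.pow (.mul (.mul (.mul (.mul (.mul (.mul (.mul (.mul (.mul (.mul (.mul (.mul (.mul (.gen 4) (.gen 3)) (.gen 2)) (.gen 1)) (.gen 11)) (.gen 12)) (.gen 4)) (.gen 5)) (.gen 6)) (.gen 7)) (.gen 10)) (.gen 4)) (.gen 8)) (.gen 9)) 17)]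

set_option synthInstance.maxSize 4000 in
theorem ok : D.Ok Cfsg.Spor.Fi24.edges Cfsg.Spor.Fi24.extra :=
  ⟨fun v => by cases v <;> decide +kernel, by decide +kernel, by decide +kernel, by decide +kernel, rfl⟩

/-- the relators -/
def R : List (List ℕ) := [[11,12,11,12,11,12],[1,12,1,12],[2,12,2,12],[3,12,3,12],[4,12,4,12],[5,12,5,12],[6,12,6,12],[7,12,7,12],[10,12,10,12],[8,12,8,12],[9,12,9,12],[1,11,1,11,1,11],[2,11,2,11],[3,11,3,11],[4,11,4,11],[5,11,5,11],[6,11,6,11],[7,11,7,11],[10,11,10,11],[8,11,8,11],[9,11,9,11],[2,1,2,1,2,1],[3,1,3,1],[4,1,4,1],[5,1,5,1],[6,1,6,1],[7,1,7,1],[10,1,10,1],[8,1,8,1],[9,1,9,1],[3,2,3,2,3,2],[4,2,4,2],[5,2,5,2],[6,2,6,2],[7,2,7,2],[10,2,10,2],[8,2,8,2],[9,2,9,2],[4,3,4,3,4,3],[5,3,5,3],[6,3,6,3],[7,3,7,3],[10,3,10,3],[8,3,8,3],[9,3,9,3],[5,4,5,4,5,4],[6,4,6,4],[7,4,7,4],[10,4,10,4],[8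,4,8,4,8,4],[9,4,9,4],[6,5,6,5,6,5],[7,5,7,5],[10,5,10,5],[8,5,8,5],[9,5,9,5],[7,6,7,6,7,6],[10,6,10,6],[8,6,8,6],[9,6,9,6],[10,7,10,7,10,7],[8,7,8,7],[9,7,9,7],[8,10,8,10],[9,10,9,10],[9,8,9,8,9,8],[1,2,3,4,5,6,8,1,2,3,4,5,6,8,1,2,3,4,5,6,8,1,2,3,4,5,6,8,1,2,3,4,5,6,8,1,2,3,4,5,6,8,1,2,3,4,5,6,8,1,2,3,4,5,6,8,1,2,3,4,5,6,8,12],[9,8,4,10,7,6,5,4,12,11,1,2,3,4,9,8,4,10,7,6,5,4,12,11,1,2,3,4,9,8,4,10,7,6,5,4,12,11,1,2,3,4,9,8,4,10,7,6,5,4,12,11,1,2,3,4,9,8,4,10,7,6,5,4,12,11,1,2,3,4,9,8,4,10,7,6,5,4,12,11,1,2,3,4,9,8,4,10,7,6,5,4,12,11,1,2,3,4,9,8,4,10,7,6,5,4,12,11,1,2,3,4,9,8,4,10,7,6,5,4,12,11,1,2,3,4,9,8,4,10,7,6,5,4,12,11,1,2,3,4,9,8,4,10,7,6,5,4,12,11,1,2,3,4,9,8,4,10,7,6,5,4,12,11,1,2,3,4,9,8,4,10,7,6,5,4,12,11,1,2,3,4,9,8,4,10,7,6,5,4,12,11,1,2,3,4,9,8,4,10,7,6,5,4,12,11,1,2,3,4,9,8,4,10,7,6,5,4,12,11,1,2,3,4,9,8,4,10,7,6,5,4,12,11,1,2,3,4]]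

/-- the letters as elements of the presented group -/
noncomputable def g0 : ℕ → Cfsg.Spor.Fi24 := D.g0 Cfsg.Spor.Fi24.edges Cfsg.Spor.Fi24.extra

theorem sat : Sat g0 13 idI R := ok.sat.deriv (E := [(1,0),(2,0),(3,0),(4,0),(5,0),(7,0),(8,0),(9,0),(20,0),(10,0),(21,0),(24,0),(25,0),(26,0),(27,0),(29,0),(30,0),(31,0),(42,0),(32,0),(43,0),(47,0),(48,0),(49,0),(51,0),(52,0),(53,0),(64,0),(54,0),(65,0),(70,0),(71,0),(73,0),(74,0),(75,0),(86,0),(76,0),(87,0),(93,0),(95,0),(96,0),(97,0),(108,0),(98,0),(109,0),(117,0),(118,0),(119,0),(130,0),(120,0),(131,0),(162,0),(163,0),(174,0),(164,0),(175,0),(185,0),(196,0),(186,0),(197,0),(218,0),(208,0),(219,0),(240,1),(461,0),(241,0),(484,0),(485,0)]) (by decide +kernel)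

theorem sat_raw {G : Type*} [Group G] {g : ℕ → G} (hg : Sat g 13 idI R) :
    Sat g D.k D.ι (D.raw Cfsg.Spor.Fi24.edges) := hg.deriv (E := [(68,0),(0,0),(1,0),(2,0),(3,0),(4,0),(4,0),(5,0),(6,0),(7,0),(9,0),(0,0),(1,0),(2,0),(3,0),(4,0),(5,0),(9,0),(6,0),(7,0),(8,0),(10,0),(0,1),(68,0),(11,0),(12,0),(13,0),(14,0),(14,0),(15,0),(16,0),(17,0),(19,0),(68,0),(11,0),(12,0),(13,0),(14,0),(15,0),(19,0),(16,0),(17,0),(18,0),(20,0),(1,1),(11,1),(68,0),(21,0),(22,0),(23,0),(23,0),(24,0),(25,0),(26,0),(28,0),(11,1),(68,0),(21,0),(22,0),(23,0),(24,0),(28,0),(25,0),(26,0),(27,0),(29,0),(2,1),(12,1),(21,1),(68,0),(30,0),(31,0),(31,0),(32,0),(33,0),(34,0),(36,0),(12,1),(21,1),(68,0),(30,0),(31,0),(32,0),(36,0),(33,0),(34,0),(35,0),(37,0),(3,1),(13,1),(22,1),(30,1),(68,0),(38,0),(38,0),(39,0),(40,0),(41,0),(43,0),(13,1),(22,1),(30,1),(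68,0),(38,0),(39,0),(43,0),(40,0),(41,0),(42,0),(44,0),(4,1),(14,1),(23,1),(31,1),(38,1),(68,0),(68,0),(45,0),(46,0),(47,0),(49,0),(14,1),(23,1),(31,1),(38,1),(68,0),(45,0),(49,0),(46,0),(47,0),(48,0),(50,0),(4,1),(14,1),(23,1),(31,1),(38,1),(68,0),(68,0),(45,0),(46,0),(47,0),(49,0),(14,1),(23,1),(31,1),(38,1),(68,0),(45,0),(49,0),(46,0),(47,0),(48,0),(50,0),(5,1),(15,1),(24,1),(32,1),(39,1),(45,1),(45,1),(68,0),(51,0),(52,0),(54,0),(15,1),(24,1),(32,1),(39,1),(45,1),(68,0),(54,0),(51,0),(52,0),(53,0),(55,0),(6,1),(16,1),(25,1),(33,1),(40,1),(46,1),(46,1),(51,1),(68,0),(56,0),(58,0),(16,1),(25,1),(33,1),(40,1),(46,1),(51,1),(58,0),(68,0),(56,0),(57,0),(59,0),(7,1),(17,1),(26,1),(34,1),(41,1),(47,1),(47,1),(52,1),(56,1),(68,0),(61,0),(17,1),(26,1),(34,1),(41,1),(47,1),(52,1),(61,0),(56,1),(68,0),(60,0),(62,0),(9,1),(19,1),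(28,1),(36,1),(43,1),(49,1),(49,1),(54,1),(58,1),(61,1),(68,0),(19,1),(28,1),(36,1),(43,1),(49,1),(54,1),(68,0),(58,1),(61,1),(63,1),(65,0),(0,1),(68,0),(11,0),(12,0),(13,0),(14,0),(14,0),(15,0),(16,0),(17,0),(19,0),(68,0),(11,0),(12,0),(13,0),(14,0),(15,0),(19,0),(16,0),(17,0),(18,0),(20,0),(1,1),(11,1),(68,0),(21,0),(22,0),(23,0),(23,0),(24,0),(25,0),(26,0),(28,0),(11,1),(68,0),(21,0),(22,0),(23,0),(24,0),(28,0),(25,0),(26,0),(27,0),(29,0),(2,1),(12,1),(21,1),(68,0),(30,0),(31,0),(31,0),(32,0),(33,0),(34,0),(36,0),(12,1),(21,1),(68,0),(30,0),(31,0),(32,0),(36,0),(33,0),(34,0),(35,0),(37,0),(3,1),(13,1),(22,1),(30,1),(68,0),(38,0),(38,0),(39,0),(40,0),(41,0),(43,0),(13,1),(22,1),(30,1),(68,0),(38,0),(39,0),(43,0),(40,0),(41,0),(42,0),(44,0),(4,1),(14,1),(23,1),(31,1),(38,1),(68,0),(68,0),(45,0),(46,0),(47,0),(49,0),(14,1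),(23,1),(31,1),(38,1),(68,0),(45,0),(49,0),(46,0),(47,0),(48,0),(50,0),(5,1),(15,1),(24,1),(32,1),(39,1),(45,1),(45,1),(68,0),(51,0),(52,0),(54,0),(15,1),(24,1),(32,1),(39,1),(45,1),(68,0),(54,0),(51,0),(52,0),(53,0),(55,0),(9,1),(19,1),(28,1),(36,1),(43,1),(49,1),(49,1),(54,1),(58,1),(61,1),(68,0),(19,1),(28,1),(36,1),(43,1),(49,1),(54,1),(68,0),(58,1),(61,1),(63,1),(65,0),(6,1),(16,1),(25,1),(33,1),(40,1),(46,1),(46,1),(51,1),(68,0),(56,0),(58,0),(16,1),(25,1),(33,1),(40,1),(46,1),(51,1),(58,0),(68,0),(56,0),(57,0),(59,0),(7,1),(17,1),(26,1),(34,1),(41,1),(47,1),(47,1),(52,1),(56,1),(68,0),(61,0),(17,1),(26,1),(34,1),(41,1),(47,1),(52,1),(61,0),(56,1),(68,0),(60,0),(62,0),(8,1),(18,1),(27,1),(35,1),(42,1),(48,1),(48,1),(53,1),(57,1),(60,1),(63,0),(18,1),(27,1),(35,1),(42,1),(48,1),(53,1),(63,0),(57,1),(60,1),(68,0),(64,0),(10,1),(20,1),(29,1),(37,1),(44,1),(50,1),(50,1),(55,1),(59,1),(62,1),(65,1),(20,1),(29,1),(37,1),(44,1),(50,1),(55,1),(65,1),(59,1),(62,1),(64,1),(68,0),(66,0),(67,0)])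 (by decide +kernel)

/-- the homomorphism defined by elements satisfying the relators -/
noncomputable def hom {G : Type*} [Group G] {g : ℕ → G} (hg : Sat g 13 idI R) : Cfsg.Spor.Fi24 →* G :=
  ok.hom (sat_raw hg)

theorem hom_g0 {G : Type*} [Group G] {g : ℕ → G} (hg : Sat g 13 idI R) :
    ∀ l < 13, hom hg (g0 l) = g l := ok.hom_g0 (sat_raw hg)

theorem top : gL g0 [1,2,3,4,5,6,7,8,9,10,11,12] = ⊤ := ok.closure_top fun v => by cases v <;> decide +kernel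

end Cfsg.Lib.Spor.Fi24P
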