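import Cfsg.Agent.Spor.Fi24TabC

set_option autoImplicit false
set_option maxRecDepth 100000
set_option Elab.async false

namespace Cfsg.Lib.Spor.Fi24P

open Cfsg.Lib.Spor.Bulk

theorem fi24a_tr0 : allL fi24a_C.treeOK [1,2,3,4,5] = true := by decide +kernel
theorem fi24a_tr5 : allL fi24a_C.treeOK [6,7,8,9,10] = true := by decide +kernel
theorem fi24a_tr10 : allL fi24a_C.treeOK [11,12] = true := by decide +kernel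
theorem fi24a_j0 : (band (fi24a_C.just 13 idI fi24a_R fi24a_U [1,2,3,4,5,6,7,8,9,10,11,12] 1 (dif (dif (ones 306936) fi24a_a1_0) fi24a_a1_1) true [⟨0,0,[12],[12,1],1,0,0⟩]) <|
  band (fi24a_C.just 13 idI fi24a_R fi24a_U [1,2,3,4,5,6,7,8,9,10,11,12] 2 (dif (dif (ones 306936) fi24a_a2_0) fi24a_a2_1) true [⟨0,0,[12],[12,2],2,0,0⟩]) <|
  band (fi24a_C.just 13 idI fi24a_R fi24a_U [1,2,3,4,5,6,7,8,9,10,11,12] 3 (dif (dif (dif (ones 306936) fi24a_a3_0) fi24a_a3_1) fi24a_a3_2) true [⟨0,0,[12],[12,3],3,0,0⟩]) <|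
  band (fi24a_C.just 13 idI fi24a_R fi24a_U [1,2,3,4,5,6,7,8,9,10,11,12] 4 (dif (dif (dif (ones 306936) fi24a_a4_0) fi24a_a4_1) fi24a_a4_2) true [⟨0,0,[12],[12,4],4,0,0⟩]) <|
  band (fi24a_C.just 13 idI fi24a_R fi24a_U [1,2,3,4,5,6,7,8,9,10,11,12] 11 (dif (dif (ones 306936) fi24a_a11_0) fi24a_a11_1) true [⟨0,0,[12,11],[12,11,12],0,0,0⟩]) <|
  band (fi24a_C.just 13 idI fi24a_R fi24a_U [1,2,3,4,5,6,7,8,9,10,11,12] 12 (dif (dif (ones 306936) fi24a_a12_0) fi24a_a12_1) true [⟨0,0,[11,12],[11,12,11],0,0,1⟩, ⟨0,0,[1],[1,12],1,0,1⟩, ⟨0,0,[2],[2,12],2,0,1⟩, ⟨0,0,[3],[3,12],3,0,1⟩, ⟨0,0,[4],[4,12],4,0,1⟩]) <|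
  true) = true := by decide +kernel
theorem fi24a_j1 : (band (fi24a_C.just 13 idI fi24a_R fi24a_U [1,2,3,4,5,6,7,8,9,10,11,12] 5 (dif (dif (dif (ones 306936) fi24a_a5_0) fi24a_a5_1) fi24a_a5_2) true [⟨0,0,[12],[12,5],5,0,0⟩]) <|
  band (fi24a_C.just 13 idI fi24a_R fi24a_U [1,2,3,4,5,6,7,8,9,10,11,12] 6 (dif (dif (dif (ones 306936) fi24a_a6_0) fi24a_a6_1) fi24a_a6_2) true [⟨0,0,[12],[12,6],6,0,0⟩]) <|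
  band (fi24a_C.just 13 idI fi24a_R fi24a_U [1,2,3,4,5,6,7,8,9,10,11,12] 7 (dif (dif (dif (ones 306936) fi24a_a7_0) fi24a_a7_1) fi24a_a7_2) true [⟨0,0,[12],[12,7],7,0,0⟩]) <|
  band (fi24a_C.just 13 idI fi24a_R fi24a_U [1,2,3,4,5,6,7,8,9,10,11,12] 8 (dif (dif (dif (ones 306936) fi24a_a8_0) fi24a_a8_1) fi24a_a8_2) true [⟨0,0,[12],[12,8],9,0,0⟩]) <|
  band (fi24a_C.just 13 idI fi24a_R fi24a_U [1,2,3,4,5,6,7,8,9,10,11,12] 9 (dif (dif (dif (ones 306936) fi24a_a9_0) fi24a_a9_1) fi24a_a9_2) true [⟨0,0,[12],[12,9],10,0,0⟩]) <|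
  band (fi24a_C.just 13 idI fi24a_R fi24a_U [1,2,3,4,5,6,7,8,9,10,11,12] 10 (dif (dif (dif (ones 306936) fi24a_a10_0) fi24a_a10_1) fi24a_a10_2) true [⟨0,0,[12],[12,10],8,0,0⟩]) <|
  band (fi24a_C.just 13 idI fi24a_R fi24a_U [1,2,3,4,5,6,7,8,9,10,11,12] 12 (Nat.land (dif (ones 306936) fi24a_a12_0) fi24a_a12_1) false [⟨0,0,[5],[5,12],5,0,1⟩, ⟨0,0,[6],[6,12],6,0,1⟩, ⟨0,0,[7],[7,12],7,0,1⟩, ⟨0,0,[10],[10,12],8,0,1⟩, ⟨0,0,[8],[8,12],9,0,1⟩, ⟨0,0,[9],[9,12],10,0,1⟩]) <|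
  true) = true := by decide +kernel
theorem fi24a_j2 : (band (fi24a_C.just 13 idI fi24a_R fi24a_U [1,2,3,4,5,6,7,8,9,10,11,12] 1 (dif (Nat.land (dif (ones 306936) fi24a_a1_0) fi24a_a1_1) fi24a_a1_2) false [⟨0,0,[11,1],[11,1,11],11,0,0⟩]) <|
  band (fi24a_C.just 13 idI fi24a_R fi24a_U [1,2,3,4,5,6,7,8,9,10,11,12] 2 (dif (Nat.land (dif (ones 306936) fi24a_a2_0) fi24a_a2_1) fi24a_a2_2) false [⟨0,0,[11],[11,2],12,0,0⟩]) <|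
  band (fi24a_C.just 13 idI fi24a_R fi24a_U [1,2,3,4,5,6,7,8,9,10,11,12] 3 (Nat.land (dif (dif (ones 306936) fi24a_a3_0) fi24a_a3_1) fi24a_a3_2) false [⟨0,0,[11],[11,3],13,0,0⟩]) <|
  band (fi24a_C.just 13 idI fi24a_R fi24a_U [1,2,3,4,5,6,7,8,9,10,11,12] 4 (Nat.land (dif (dif (ones 306936) fi24a_a4_0) fi24a_a4_1) fi24a_a4_2) false [⟨0,0,[11],[11,4],14,0,0⟩]) <|
  band (fi24a_C.just 13 idI fi24a_R fi24a_U [1,2,3,4,5,6,7,8,9,10,11,12] 5 (Nat.land (dif (dif (ones 306936) fi24a_a5_0) fi24a_a5_1) fi24a_a5_2) false [⟨0,0,[11],[11,5],15,0,0⟩]) <|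
  band (fi24a_C.just 13 idI fi24a_R fi24a_U [1,2,3,4,5,6,7,8,9,10,11,12] 6 (Nat.land (dif (dif (ones 306936) fi24a_a6_0) fi24a_a6_1) fi24a_a6_2) false [⟨0,0,[11],[11,6],16,0,0⟩]) <|
  band (fi24a_C.just 13 idI fi24a_R fi24a_U [1,2,3,4,5,6,7,8,9,10,11,12] 11 (Nat.land (dif (ones 306936) fi24a_a11_0) fi24a_a11_1) false [⟨0,0,[1,11],[1,11,1],11,0,1⟩, ⟨0,0,[2],[2,11],12,0,1⟩, ⟨0,0,[3],[3,11],13,0,1⟩, ⟨0,0,[4],[4,11],14,0,1⟩, ⟨0,0,[5],[5,11],15,0,1⟩, ⟨0,0,[6],[6,11],16,0,1⟩]) <|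
  true) = true := by decide +kernel
theorem fi24a_j3 : (band (fi24a_C.just 13 idI fi24a_R fi24a_U [1,2,3,4,5,6,7,8,9,10,11,12] 1 (Nat.land (Nat.land (dif (ones 306936) fi24a_a1_0) fi24a_a1_1) fi24a_a1_2) false [⟨0,0,[2,1],[2,1,2],21,0,1⟩, ⟨0,0,[3],[3,1],22,0,1⟩]) <|
  band (fi24a_C.just 13 idI fi24a_R fi24a_U [1,2,3,4,5,6,7,8,9,10,11,12] 2 (Nat.land (Nat.land (dif (ones 306936) fi24a_a2_0) fi24a_a2_1) fi24a_a2_2) false [⟨0,0,[1,2],[1,2,1],21,0,0⟩]) <|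
  band (fi24a_C.just 13 idI fi24a_R fi24a_U [1,2,3,4,5,6,7,8,9,10,11,12] 3 (dif (Nat.land (dif (ones 306936) fi24a_a3_0) fi24a_a3_1) fi24a_a3_2) false [⟨0,0,[1],[1,3],22,0,0⟩]) <|
  band (fi24a_C.just 13 idI fi24a_R fi24a_U [1,2,3,4,5,6,7,8,9,10,11,12] 7 (Nat.land (dif (dif (ones 306936) fi24a_a7_0) fi24a_a7_1) fi24a_a7_2) false [⟨0,0,[11],[11,7],17,0,0⟩]) <|
  band (fi24a_C.just 13 idI fi24a_R fi24a_U [1,2,3,4,5,6,7,8,9,10,11,12] 8 (Nat.land (dif (dif (ones 306936) fi24a_a8_0) fi24a_a8_1) fi24a_a8_2) false [⟨0,0,[11],[11,8],19,0,0⟩]) <|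
  band (fi24a_C.just 13 idI fi24a_R fi24a_U [1,2,3,4,5,6,7,8,9,10,11,12] 9 (dif (Nat.land (dif (dif (ones 306936) fi24a_a9_0) fi24a_a9_1) fi24a_a9_2) fi24a_a9_3) false [⟨0,0,[11],[11,9],20,0,0⟩]) <|
  band (fi24a_C.just 13 idI fi24a_R fi24a_U [1,2,3,4,5,6,7,8,9,10,11,12] 10 (Nat.land (dif (dif (ones 306936) fi24a_a10_0) fi24a_a10_1) fi24a_a10_2) false [⟨0,0,[11],[11,10],18,0,0⟩]) <|
  band (fi24a_C.just 13 idI fi24a_R fi24a_U [1,2,3,4,5,6,7,8,9,10,11,12] 11 (dif (Nat.land (ones 306936) fi24a_a11_0) fi24a_a11_1) false [⟨0,0,[7],[7,11],17,0,1⟩, ⟨0,0,[10],[10,11],18,0,1⟩, ⟨0,0,[8],[8,11],19,0,1⟩, ⟨0,0,[9],[9,11],20,0,1⟩]) <|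
  true) = true := by decide +kernel
theorem fi24a_j4 : (band (fi24a_C.just 13 idI fi24a_R fi24a_U [1,2,3,4,5,6,7,8,9,10,11,12] 1 (dif (Nat.land (ones 306936) fi24a_a1_0) fi24a_a1_1) false [⟨0,0,[4],[4,1],23,0,1⟩, ⟨0,0,[5],[5,1],24,0,1⟩, ⟨0,0,[6],[6,1],25,0,1⟩, ⟨0,0,[7],[7,1],26,0,1⟩, ⟨0,0,[10],[10,1],27,0,1⟩, ⟨0,0,[8],[8,1],28,0,1⟩, ⟨0,0,[9],[9,1],29,0,1⟩]) <|
  band (fi24a_C.just 13 idI fi24a_R fi24a_U [1,2,3,4,5,6,7,8,9,10,11,12] 4 (dif (Nat.land (dif (ones 306936) fi24a_a4_0) fi24a_a4_1) fi24a_a4_2) false [⟨0,0,[1],[1,4],23,0,0⟩]) <|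
  band (fi24a_C.just 13 idI fi24a_R fi24a_U [1,2,3,4,5,6,7,8,9,10,11,12] 5 (dif (Nat.land (dif (ones 306936) fi24a_a5_0) fi24a_a5_1) fi24a_a5_2) false [⟨0,0,[1],[1,5],24,0,0⟩]) <|
  band (fi24a_C.just 13 idI fi24a_R fi24a_U [1,2,3,4,5,6,7,8,9,10,11,12] 6 (dif (Nat.land (dif (ones 306936) fi24a_a6_0) fi24a_a6_1) fi24a_a6_2) false [⟨0,0,[1],[1,6],25,0,0⟩]) <|
  band (fi24a_C.just 13 idI fi24a_R fi24a_U [1,2,3,4,5,6,7,8,9,10,11,12] 7 (dif (Nat.land (dif (ones 306936) fi24a_a7_0) fi24a_a7_1) fi24a_a7_2) false [⟨0,0,[1],[1,7],26,0,0⟩]) <|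
  band (fi24a_C.just 13 idI fi24a_R fi24a_U [1,2,3,4,5,6,7,8,9,10,11,12] 8 (dif (Nat.land (dif (ones 306936) fi24a_a8_0) fi24a_a8_1) fi24a_a8_2) false [⟨0,0,[1],[1,8],28,0,0⟩]) <|
  band (fi24a_C.just 13 idI fi24a_R fi24a_U [1,2,3,4,5,6,7,8,9,10,11,12] 9 (Nat.land (Nat.land (dif (dif (ones 306936) fi24a_a9_0) fi24a_a9_1) fi24a_a9_2) fi24a_a9_3) false [⟨0,0,[1],[1,9],29,0,0⟩]) <|
  band (fi24a_C.just 13 idI fi24a_R fi24a_U [1,2,3,4,5,6,7,8,9,10,11,12] 10 (dif (Nat.land (dif (ones 306936) fi24a_a10_0) fi24a_a10_1) fi24a_a10_2) false [⟨0,0,[1],[1,10],27,0,0⟩]) <|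
  true) = true := by decide +kernel
theorem fi24a_j5 : (band (fi24a_C.just 13 idI fi24a_R fi24a_U [1,2,3,4,5,6,7,8,9,10,11,12] 2 (dif (dif (Nat.land (ones 306936) fi24a_a2_0) fi24a_a2_1) fi24a_a2_2) false [⟨0,0,[3,2],[3,2,3],30,0,1⟩, ⟨0,0,[4],[4,2],31,0,1⟩, ⟨0,0,[5],[5,2],32,0,1⟩, ⟨0,0,[6],[6,2],33,0,1⟩, ⟨0,0,[7],[7,2],34,0,1⟩, ⟨0,0,[10],[10,2],35,0,1⟩]) <|
  band (fi24a_C.just 13 idI fi24a_R fi24a_U [1,2,3,4,5,6,7,8,9,10,11,12] 3 (Nat.land (Nat.land (dif (ones 306936) fi24a_a3_0) fi24a_a3_1) fi24a_a3_2) false [⟨0,0,[2,3],[2,3,2],30,0,0⟩]) <|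
  band (fi24a_C.just 13 idI fi24a_R fi24a_U [1,2,3,4,5,6,7,8,9,10,11,12] 4 (Nat.land (Nat.land (dif (ones 306936) fi24a_a4_0) fi24a_a4_1) fi24a_a4_2) false [⟨0,0,[2],[2,4],31,0,0⟩]) <|
  band (fi24a_C.just 13 idI fi24a_R fi24a_U [1,2,3,4,5,6,7,8,9,10,11,12] 5 (Nat.land (Nat.land (dif (ones 306936) fi24a_a5_0) fi24a_a5_1) fi24a_a5_2) false [⟨0,0,[2],[2,5],32,0,0⟩]) <|
  band (fi24a_C.just 13 idI fi24a_R fi24a_U [1,2,3,4,5,6,7,8,9,10,11,12] 6 (dif (Nat.land (Nat.land (dif (ones 306936) fi24a_a6_0) fi24a_a6_1) fi24a_a6_2) fi24a_a6_3) false [⟨0,0,[2],[2,6],33,0,0⟩]) <|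
  band (fi24a_C.just 13 idI fi24a_R fi24a_U [1,2,3,4,5,6,7,8,9,10,11,12] 7 (dif (Nat.land (Nat.land (dif (ones 306936) fi24a_a7_0) fi24a_a7_1) fi24a_a7_2) fi24a_a7_3) false [⟨0,0,[2],[2,7],34,0,0⟩]) <|
  band (fi24a_C.just 13 idI fi24a_R fi24a_U [1,2,3,4,5,6,7,8,9,10,11,12] 10 (dif (Nat.land (Nat.land (dif (ones 306936) fi24a_a10_0) fi24a_a10_1) fi24a_a10_2) fi24a_a10_3) false [⟨0,0,[2],[2,10],35,0,0⟩]) <|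
  true) = true := by decide +kernel
theorem fi24a_j6 : (band (fi24a_C.just 13 idI fi24a_R fi24a_U [1,2,3,4,5,6,7,8,9,10,11,12] 2 (Nat.land (dif (Nat.land (ones 306936) fi24a_a2_0) fi24a_a2_1) fi24a_a2_2) false [⟨0,0,[8],[8,2],36,0,1⟩, ⟨0,0,[9],[9,2],37,0,1⟩]) <|
  band (fi24a_C.just 13 idI fi24a_R fi24a_U [1,2,3,4,5,6,7,8,9,10,11,12] 3 (dif (dif (Nat.land (ones 306936) fi24a_a3_0) fi24a_a3_1) fi24a_a3_2) false [⟨0,0,[4,3],[4,3,4],38,0,1⟩, ⟨0,0,[5],[5,3],39,0,1⟩, ⟨0,0,[6],[6,3],40,0,1⟩, ⟨0,0,[7],[7,3],41,0,1⟩]) <|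
  band (fi24a_C.just 13 idI fi24a_R fi24a_U [1,2,3,4,5,6,7,8,9,10,11,12] 4 (dif (dif (Nat.land (ones 306936) fi24a_a4_0) fi24a_a4_1) fi24a_a4_2) false [⟨0,0,[3,4],[3,4,3],38,0,0⟩]) <|
  band (fi24a_C.just 13 idI fi24a_R fi24a_U [1,2,3,4,5,6,7,8,9,10,11,12] 5 (dif (dif (Nat.land (ones 306936) fi24a_a5_0) fi24a_a5_1) fi24a_a5_2) false [⟨0,0,[3],[3,5],39,0,0⟩]) <|
  band (fi24a_C.just 13 idI fi24a_R fi24a_U [1,2,3,4,5,6,7,8,9,10,11,12] 6 (Nat.land (Nat.land (Nat.land (dif (ones 306936) fi24a_a6_0) fi24a_a6_1) fi24a_a6_2) fi24a_a6_3) false [⟨0,0,[3],[3,6],40,0,0⟩]) <|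
  band (fi24a_C.just 13 idI fi24a_R fi24a_U [1,2,3,4,5,6,7,8,9,10,11,12] 7 (Nat.land (Nat.land (Nat.land (dif (ones 306936) fi24a_a7_0) fi24a_a7_1) fi24a_a7_2) fi24a_a7_3) false [⟨0,0,[3],[3,7],41,0,0⟩]) <|
  band (fi24a_C.just 13 idI fi24a_R fi24a_U [1,2,3,4,5,6,7,8,9,10,11,12] 8 (dif (Nat.land (Nat.land (dif (ones 306936) fi24a_a8_0) fi24a_a8_1) fi24a_a8_2) fi24a_a8_3) false [⟨0,0,[2],[2,8],36,0,0⟩]) <|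
  band (fi24a_C.just 13 idI fi24a_R fi24a_U [1,2,3,4,5,6,7,8,9,10,11,12] 9 (dif (Nat.land (dif (ones 306936) fi24a_a9_0) fi24a_a9_1) fi24a_a9_2) false [⟨0,0,[2],[2,9],37,0,0⟩]) <|
  true) = true := by decide +kernel
theorem fi24a_j7 : (band (fi24a_C.just 13 idI fi24a_R fi24a_U [1,2,3,4,5,6,7,8,9,10,11,12] 3 (Nat.land (dif (Nat.land (ones 306936) fi24a_a3_0) fi24a_a3_1) fi24a_a3_2) false [⟨0,0,[10],[10,3],42,0,1⟩, ⟨0,0,[8],[8,3],43,0,1⟩, ⟨0,0,[9],[9,3],44,0,1⟩]) <|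
  band (fi24a_C.just 13 idI fi24a_R fi24a_U [1,2,3,4,5,6,7,8,9,10,11,12] 4 (Nat.land (dif (Nat.land (ones 306936) fi24a_a4_0) fi24a_a4_1) fi24a_a4_2) false [⟨0,0,[5,4],[5,4,5],45,0,1⟩, ⟨0,0,[6],[6,4],46,0,1⟩, ⟨0,0,[7],[7,4],47,0,1⟩]) <|
  band (fi24a_C.just 13 idI fi24a_R fi24a_U [1,2,3,4,5,6,7,8,9,10,11,12] 5 (Nat.land (dif (Nat.land (ones 306936) fi24a_a5_0) fi24a_a5_1) fi24a_a5_2) false [⟨0,0,[4,5],[4,5,4],45,0,0⟩]) <|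
  band (fi24a_C.just 13 idI fi24a_R fi24a_U [1,2,3,4,5,6,7,8,9,10,11,12] 6 (dif (dif (Nat.land (ones 306936) fi24a_a6_0) fi24a_a6_1) fi24a_a6_2) false [⟨0,0,[4],[4,6],46,0,0⟩]) <|
  band (fi24a_C.just 13 idI fi24a_R fi24a_U [1,2,3,4,5,6,7,8,9,10,11,12] 7 (dif (dif (Nat.land (ones 306936) fi24a_a7_0) fi24a_a7_1) fi24a_a7_2) false [⟨0,0,[4],[4,7],47,0,0⟩]) <|
  band (fi24a_C.just 13 idI fi24a_R fi24a_U [1,2,3,4,5,6,7,8,9,10,11,12] 8 (Nat.land (Nat.land (Nat.land (dif (ones 306936) fi24a_a8_0) fi24a_a8_1) fi24a_a8_2) fi24a_a8_3) false [⟨0,0,[3],[3,8],43,0,0⟩]) <|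
  band (fi24a_C.just 13 idI fi24a_R fi24a_U [1,2,3,4,5,6,7,8,9,10,11,12] 9 (dif (Nat.land (Nat.land (dif (ones 306936) fi24a_a9_0) fi24a_a9_1) fi24a_a9_2) fi24a_a9_3) false [⟨0,0,[3],[3,9],44,0,0⟩]) <|
  band (fi24a_C.just 13 idI fi24a_R fi24a_U [1,2,3,4,5,6,7,8,9,10,11,12] 10 (Nat.land (Nat.land (Nat.land (dif (ones 306936) fi24a_a10_0) fi24a_a10_1) fi24a_a10_2) fi24a_a10_3) false [⟨0,0,[3],[3,10],42,0,0⟩]) <|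
  true) = true := by decide +kernel
theorem fi24a_j8 : (band (fi24a_C.just 13 idI fi24a_R fi24a_U [1,2,3,4,5,6,7,8,9,10,11,12] 4 (dif (Nat.land (Nat.land (ones 306936) fi24a_a4_0) fi24a_a4_1) fi24a_a4_2) false [⟨0,0,[10],[10,4],48,0,1⟩, ⟨0,0,[8,4],[8,4,8],49,0,1⟩, ⟨0,0,[9],[9,4],50,0,1⟩]) <|
  band (fi24a_C.just 13 idI fi24a_R fi24a_U [1,2,3,4,5,6,7,8,9,10,11,12] 5 (dif (Nat.land (Nat.land (ones 306936) fi24a_a5_0) fi24a_a5_1) fi24a_a5_2) false [⟨0,0,[6,5],[6,5,6],51,0,1⟩, ⟨0,0,[7],[7,5],52,0,1⟩]) <|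
  band (fi24a_C.just 13 idI fi24a_R fi24a_U [1,2,3,4,5,6,7,8,9,10,11,12] 6 (Nat.land (dif (Nat.land (ones 306936) fi24a_a6_0) fi24a_a6_1) fi24a_a6_2) false [⟨0,0,[5,6],[5,6,5],51,0,0⟩]) <|
  band (fi24a_C.just 13 idI fi24a_R fi24a_U [1,2,3,4,5,6,7,8,9,10,11,12] 7 (dif (Nat.land (dif (Nat.land (ones 306936) fi24a_a7_0) fi24a_a7_1) fi24a_a7_2) fi24a_a7_3) false [⟨0,0,[5],[5,7],52,0,0⟩]) <|
  band (fi24a_C.just 13 idI fi24a_R fi24a_U [1,2,3,4,5,6,7,8,9,10,11,12] 8 (dif (dif (Nat.land (ones 306936) fi24a_a8_0) fi24a_a8_1) fi24a_a8_2) false [⟨0,0,[4,8],[4,8,4],49,0,0⟩]) <|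
  band (fi24a_C.just 13 idI fi24a_R fi24a_U [1,2,3,4,5,6,7,8,9,10,11,12] 9 (Nat.land (Nat.land (Nat.land (dif (ones 306936) fi24a_a9_0) fi24a_a9_1) fi24a_a9_2) fi24a_a9_3) false [⟨0,0,[4],[4,9],50,0,0⟩]) <|
  band (fi24a_C.just 13 idI fi24a_R fi24a_U [1,2,3,4,5,6,7,8,9,10,11,12] 10 (dif (dif (Nat.land (ones 306936) fi24a_a10_0) fi24a_a10_1) fi24a_a10_2) false [⟨0,0,[4],[4,10],48,0,0⟩]) <|
  true) = true := by decide +kernel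
theorem fi24a_j9 : (band (fi24a_C.just 13 idI fi24a_R fi24a_U [1,2,3,4,5,6,7,8,9,10,11,12] 5 (dif (Nat.land (Nat.land (Nat.land (ones 306936) fi24a_a5_0) fi24a_a5_1) fi24a_a5_2) fi24a_a5_3) false [⟨0,0,[10],[10,5],53,0,1⟩, ⟨0,0,[8],[8,5],54,0,1⟩, ⟨0,0,[9],[9,5],55,0,1⟩]) <|
  band (fi24a_C.just 13 idI fi24a_R fi24a_U [1,2,3,4,5,6,7,8,9,10,11,12] 6 (dif (Nat.land (Nat.land (ones 306936) fi24a_a6_0) fi24a_a6_1) fi24a_a6_2) false [⟨0,0,[7,6],[7,6,7],56,0,1⟩, ⟨0,0,[10],[10,6],57,0,1⟩, ⟨0,0,[8],[8,6],58,0,1⟩]) <|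
  band (fi24a_C.just 13 idI fi24a_R fi24a_U [1,2,3,4,5,6,7,8,9,10,11,12] 7 (Nat.land (Nat.land (dif (Nat.land (ones 306936) fi24a_a7_0) fi24a_a7_1) fi24a_a7_2) fi24a_a7_3) false [⟨0,0,[6,7],[6,7,6],56,0,0⟩]) <|
  band (fi24a_C.just 13 idI fi24a_R fi24a_U [1,2,3,4,5,6,7,8,9,10,11,12] 8 (Nat.land (dif (Nat.land (ones 306936) fi24a_a8_0) fi24a_a8_1) fi24a_a8_2) false [⟨0,0,[5],[5,8],54,0,0⟩, ⟨0,0,[6],[6,8],58,0,0⟩]) <|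
  band (fi24a_C.just 13 idI fi24a_R fi24a_U [1,2,3,4,5,6,7,8,9,10,11,12] 9 (dif (dif (Nat.land (ones 306936) fi24a_a9_0) fi24a_a9_1) fi24a_a9_2) false [⟨0,0,[5],[5,9],55,0,0⟩]) <|
  band (fi24a_C.just 13 idI fi24a_R fi24a_U [1,2,3,4,5,6,7,8,9,10,11,12] 10 (Nat.land (dif (Nat.land (ones 306936) fi24a_a10_0) fi24a_a10_1) fi24a_a10_2) false [⟨0,0,[5],[5,10],53,0,0⟩, ⟨0,0,[6],[6,10],57,0,0⟩]) <|
  true) = true := by decide +kernel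
theorem fi24a_j10 : (band (fi24a_C.just 13 idI fi24a_R fi24a_U [1,2,3,4,5,6,7,8,9,10,11,12] 6 (dif (Nat.land (Nat.land (Nat.land (ones 306936) fi24a_a6_0) fi24a_a6_1) fi24a_a6_2) fi24a_a6_3) false [⟨0,0,[9],[9,6],59,0,1⟩]) <|
  band (fi24a_C.just 13 idI fi24a_R fi24a_U [1,2,3,4,5,6,7,8,9,10,11,12] 7 (dif (Nat.land (Nat.land (ones 306936) fi24a_a7_0) fi24a_a7_1) fi24a_a7_2) false [⟨0,0,[10,7],[10,7,10],60,0,1⟩, ⟨0,0,[8],[8,7],61,0,1⟩, ⟨0,0,[9],[9,7],62,0,1⟩]) <|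
  band (fi24a_C.just 13 idI fi24a_R fi24a_U [1,2,3,4,5,6,7,8,9,10,11,12] 8 (dif (Nat.land (Nat.land (ones 306936) fi24a_a8_0) fi24a_a8_1) fi24a_a8_2) false [⟨0,0,[7],[7,8],61,0,0⟩, ⟨0,0,[10],[10,8],63,0,0⟩]) <|
  band (fi24a_C.just 13 idI fi24a_R fi24a_U [1,2,3,4,5,6,7,8,9,10,11,12] 9 (dif (Nat.land (dif (Nat.land (ones 306936) fi24a_a9_0) fi24a_a9_1) fi24a_a9_2) fi24a_a9_3) false [⟨0,0,[6],[6,9],59,0,0⟩, ⟨0,0,[7],[7,9],62,0,0⟩, ⟨0,0,[10],[10,9],64,0,0⟩]) <|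
  band (fi24a_C.just 13 idI fi24a_R fi24a_U [1,2,3,4,5,6,7,8,9,10,11,12] 10 (dif (Nat.land (Nat.land (ones 306936) fi24a_a10_0) fi24a_a10_1) fi24a_a10_2) false [⟨0,0,[7,10],[7,10,7],60,0,0⟩, ⟨0,0,[8],[8,10],63,0,1⟩, ⟨0,0,[9],[9,10],64,0,1⟩]) <|
  true) = true := by decide +kernel
theorem fi24a_j11 : (band (fi24a_C.just 13 idI fi24a_R fi24a_U [1,2,3,4,5,6,7,8,9,10,11,12] 1 (dif (Nat.land (Nat.land (ones 306936) fi24a_a1_0) fi24a_a1_1) fi24a_a1_2) false [⟨1,1,[1],[],0,2,0⟩]) <|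
  band (fi24a_C.just 13 idI fi24a_R fi24a_U [1,2,3,4,5,6,7,8,9,10,11,12] 2 (dif (Nat.land (Nat.land (ones 306936) fi24a_a2_0) fi24a_a2_1) fi24a_a2_2) false [⟨1,1,[2],[],0,2,0⟩]) <|
  band (fi24a_C.just 13 idI fi24a_R fi24a_U [1,2,3,4,5,6,7,8,9,10,11,12] 3 (dif (Nat.land (Nat.land (ones 306936) fi24a_a3_0) fi24a_a3_1) fi24a_a3_2) false [⟨1,58,[4,5,6,8,1,2,3,4,5,6,8,1,2,3,4,5,6,8,1,2,3,4,5,6,8,1,2,3,4,5,6,8,1,2,3,4,5,6,8,1,2,3,4,5,6,8,1,2,3,4,5,6,8,1,2,3,4,5,6,8,12,1,2],[],66,0,2⟩, ⟨1,1,[3],[],0,2,0⟩]) <|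
  band (fi24a_C.just 13 idI fi24a_R fi24a_U [1,2,3,4,5,6,7,8,9,10,11,12] 7 (dif (Nat.land (Nat.land (Nat.land (ones 306936) fi24a_a7_0) fi24a_a7_1) fi24a_a7_2) fi24a_a7_3) false [⟨1,1,[7],[],0,2,0⟩]) <|
  band (fi24a_C.just 13 idI fi24a_R fi24a_U [1,2,3,4,5,6,7,8,9,10,11,12] 8 (dif (Nat.land (Nat.land (Nat.land (ones 306936) fi24a_a8_0) fi24a_a8_1) fi24a_a8_2) fi24a_a8_3) false [⟨0,0,[9,8],[9,8,9],65,0,1⟩]) <|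
  band (fi24a_C.just 13 idI fi24a_R fi24a_U [1,2,3,4,5,6,7,8,9,10,11,12] 9 (Nat.land (Nat.land (dif (Nat.land (ones 306936) fi24a_a9_0) fi24a_a9_1) fi24a_a9_2) fi24a_a9_3) false [⟨0,0,[8,9],[8,9,8],65,0,0⟩]) <|
  band (fi24a_C.just 13 idI fi24a_R fi24a_U [1,2,3,4,5,6,7,8,9,10,11,12] 10 (dif (Nat.land (Nat.land (Nat.land (ones 306936) fi24a_a10_0) fi24a_a10_1) fi24a_a10_2) fi24a_a10_3) false [⟨1,1,[10],[],0,2,0⟩]) <|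
  band (fi24a_C.just 13 idI fi24a_R fi24a_U [1,2,3,4,5,6,7,8,9,10,11,12] 11 (Nat.land (Nat.land (ones 306936) fi24a_a11_0) fi24a_a11_1) false [⟨1,1,[11],[],0,2,0⟩]) <|
  band (fi24a_C.just 13 idI fi24a_R fi24a_U [1,2,3,4,5,6,7,8,9,10,11,12] 12 (dif (Nat.land (ones 306936) fi24a_a12_0) fi24a_a12_1) false [⟨1,1,[12],[],0,2,0⟩]) <|
  true) = true := by decide +kernel

end Cfsg.Lib.Spor.Fi24P
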