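import Cfsg.Agent.Spor.Fi24TabT

set_option autoImplicit false
set_option maxRecDepth 100000
set_option Elab.async false

namespace Cfsg.Lib.Spor.Fi24P

open Cfsg.Lib.Spor.Bulk

theorem fi24a_inv_0 : eqsOn fi24a_T 306936 19 (invPairs idI 13) 0 4 = true := by decide +kernel
theorem fi24a_inv_4 : eqsOn fi24a_T 306936 19 (invPairs idI 13) 4 4 = true := by decide +kernel
theorem fi24a_inv_8 : eqsOn fi24a_T 306936 19 (invPairs idI 13) 8 4 = true := by decide +kernel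
theorem fi24a_inv_12 : eqsOn fi24a_T 306936 19 (invPairs idI 13) 12 4 = true := by decide +kernel
theorem fi24a_inv_16 : eqsOn fi24a_T 306936 19 (invPairs idI 13) 16 3 = true := by decide +kernel
theorem fi24a_r0_0 : eqsOn fi24a_T 306936 19 (relPairs idI [[11,12,11,12,11,12],[1,12,1,12],[2,12,2,12],[3,12,3,12],[4,12,4,12],[5,12,5,12],[6,12,6,12],[7,12,7,12],[10,12,10,12],[8,12,8,12],[9,12,9,12],[1,11,1,11,1,11],[2,11,2,11],[3,11,3,11],[4,11,4,11],[5,11,5,11],[6,11,6,11],[7,11,7,11],[10,11,10,11],[8,11,8,11],[9,11,9,11],[2,1,2,1,2,1],[3,1,3,1],[4,1,4,1],[5,1,5,1],[6,1,6,1],[7,1,7,1],[10,1,10,1],[8,1,8,1],[9,1,9,1],[3,2,3,2,3,2],[4,2,4,2],[5,2,5,2],[6,2,6,2],[7,2,7,2],[10,2,10,2],[8,2,8,2],[9,2,9,2],[4,3,4,3,4,3],[5,3,5,3],[6,3,6,3],[7,3,7,3],[10,3,10,3],[8,3,8,3],[9,3,9,3],[5,4,5,4,5,4],[6,4,6,4]])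 0 1 = true := by decide +kernel
theorem fi24a_r0_1 : eqsOn fi24a_T 306936 19 (relPairs idI [[11,12,11,12,11,12],[1,12,1,12],[2,12,2,12],[3,12,3,12],[4,12,4,12],[5,12,5,12],[6,12,6,12],[7,12,7,12],[10,12,10,12],[8,12,8,12],[9,12,9,12],[1,11,1,11,1,11],[2,11,2,11],[3,11,3,11],[4,11,4,11],[5,11,5,11],[6,11,6,11],[7,11,7,11],[10,11,10,11],[8,11,8,11],[9,11,9,11],[2,1,2,1,2,1],[3,1,3,1],[4,1,4,1],[5,1,5,1],[6,1,6,1],[7,1,7,1],[10,1,10,1],[8,1,8,1],[9,1,9,1],[3,2,3,2,3,2],[4,2,4,2],[5,2,5,2],[6,2,6,2],[7,2,7,2],[10,2,10,2],[8,2,8,2],[9,2,9,2],[4,3,4,3,4,3],[5,3,5,3],[6,3,6,3],[7,3,7,3],[10,3,10,3],[8,3,8,3],[9,3,9,3],[5,4,5,4,5,4],[6,4,6,4]]) 1 1 = true := by decide +kernel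
theorem fi24a_r0_2 : eqsOn fi24a_T 306936 19 (relPairs idI [[11,12,11,12,11,12],[1,12,1,12],[2,12,2,12],[3,12,3,12],[4,12,4,12],[5,12,5,12],[6,12,6,12],[7,12,7,12],[10,12,10,12],[8,12,8,12],[9,12,9,12],[1,11,1,11,1,11],[2,11,2,11],[3,11,3,11],[4,11,4,11],[5,11,5,11],[6,11,6,11],[7,11,7,11],[10,11,10,11],[8,11,8,11],[9,11,9,11],[2,1,2,1,2,1],[3,1,3,1],[4,1,4,1],[5,1,5,1],[6,1,6,1],[7,1,7,1],[10,1,10,1],[8,1,8,1],[9,1,9,1],[3,2,3,2,3,2],[4,2,4,2],[5,2,5,2],[6,2,6,2],[7,2,7,2],[10,2,10,2],[8,2,8,2],[9,2,9,2],[4,3,4,3,4,3],[5,3,5,3],[6,3,6,3],[7,3,7,3],[10,3,10,3],[8,3,8,3],[9,3,9,3],[5,4,5,4,5,4],[6,4,6,4]]) 2 1 = true := by decide +kernel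
theorem fi24a_r0_3 : eqsOn fi24a_T 306936 19 (relPairs idI [[11,12,11,12,11,12],[1,12,1,12],[2,12,2,12],[3,12,3,12],[4,12,4,12],[5,12,5,12],[6,12,6,12],[7,12,7,12],[10,12,10,12],[8,12,8,12],[9,12,9,12],[1,11,1,11,1,11],[2,11,2,11],[3,11,3,11],[4,11,4,11],[5,11,5,11],[6,11,6,11],[7,11,7,11],[10,11,10,11],[8,11,8,11],[9,11,9,11],[2,1,2,1,2,1],[3,1,3,1],[4,1,4,1],[5,1,5,1],[6,1,6,1],[7,1,7,1],[10,1,10,1],[8,1,8,1],[9,1,9,1],[3,2,3,2,3,2],[4,2,4,2],[5,2,5,2],[6,2,6,2],[7,2,7,2],[10,2,10,2],[8,2,8,2],[9,2,9,2],[4,3,4,3,4,3],[5,3,5,3],[6,3,6,3],[7,3,7,3],[10,3,10,3],[8,3,8,3],[9,3,9,3],[5,4,5,4,5,4],[6,4,6,4]]) 3 1 = true := by decide +kernel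
theorem fi24a_r0_4 : eqsOn fi24a_T 306936 19 (relPairs idI [[11,12,11,12,11,12],[1,12,1,12],[2,12,2,12],[3,12,3,12],[4,12,4,12],[5,12,5,12],[6,12,6,12],[7,12,7,12],[10,12,10,12],[8,12,8,12],[9,12,9,12],[1,11,1,11,1,11],[2,11,2,11],[3,11,3,11],[4,11,4,11],[5,11,5,11],[6,11,6,11],[7,11,7,11],[10,11,10,11],[8,11,8,11],[9,11,9,11],[2,1,2,1,2,1],[3,1,3,1],[4,1,4,1],[5,1,5,1],[6,1,6,1],[7,1,7,1],[10,1,10,1],[8,1,8,1],[9,1,9,1],[3,2,3,2,3,2],[4,2,4,2],[5,2,5,2],[6,2,6,2],[7,2,7,2],[10,2,10,2],[8,2,8,2],[9,2,9,2],[4,3,4,3,4,3],[5,3,5,3],[6,3,6,3],[7,3,7,3],[10,3,10,3],[8,3,8,3],[9,3,9,3],[5,4,5,4,5,4],[6,4,6,4]]) 4 1 = true := by decide +kernel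
theorem fi24a_r0_5 : eqsOn fi24a_T 306936 19 (relPairs idI [[11,12,11,12,11,12],[1,12,1,12],[2,12,2,12],[3,12,3,12],[4,12,4,12],[5,12,5,12],[6,12,6,12],[7,12,7,12],[10,12,10,12],[8,12,8,12],[9,12,9,12],[1,11,1,11,1,11],[2,11,2,11],[3,11,3,11],[4,11,4,11],[5,11,5,11],[6,11,6,11],[7,11,7,11],[10,11,10,11],[8,11,8,11],[9,11,9,11],[2,1,2,1,2,1],[3,1,3,1],[4,1,4,1],[5,1,5,1],[6,1,6,1],[7,1,7,1],[10,1,10,1],[8,1,8,1],[9,1,9,1],[3,2,3,2,3,2],[4,2,4,2],[5,2,5,2],[6,2,6,2],[7,2,7,2],[10,2,10,2],[8,2,8,2],[9,2,9,2],[4,3,4,3,4,3],[5,3,5,3],[6,3,6,3],[7,3,7,3],[10,3,10,3],[8,3,8,3],[9,3,9,3],[5,4,5,4,5,4],[6,4,6,4]]) 5 1 = true := by decide +kernel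
theorem fi24a_r0_6 : eqsOn fi24a_T 306936 19 (relPairs idI [[11,12,11,12,11,12],[1,12,1,12],[2,12,2,12],[3,12,3,12],[4,12,4,12],[5,12,5,12],[6,12,6,12],[7,12,7,12],[10,12,10,12],[8,12,8,12],[9,12,9,12],[1,11,1,11,1,11],[2,11,2,11],[3,11,3,11],[4,11,4,11],[5,11,5,11],[6,11,6,11],[7,11,7,11],[10,11,10,11],[8,11,8,11],[9,11,9,11],[2,1,2,1,2,1],[3,1,3,1],[4,1,4,1],[5,1,5,1],[6,1,6,1],[7,1,7,1],[10,1,10,1],[8,1,8,1],[9,1,9,1],[3,2,3,2,3,2],[4,2,4,2],[5,2,5,2],[6,2,6,2],[7,2,7,2],[10,2,10,2],[8,2,8,2],[9,2,9,2],[4,3,4,3,4,3],[5,3,5,3],[6,3,6,3],[7,3,7,3],[10,3,10,3],[8,3,8,3],[9,3,9,3],[5,4,5,4,5,4],[6,4,6,4]]) 6 1 = true := by decide +kernel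
theorem fi24a_r0_7 : eqsOn fi24a_T 306936 19 (relPairs idI [[11,12,11,12,11,12],[1,12,1,12],[2,12,2,12],[3,12,3,12],[4,12,4,12],[5,12,5,12],[6,12,6,12],[7,12,7,12],[10,12,10,12],[8,12,8,12],[9,12,9,12],[1,11,1,11,1,11],[2,11,2,11],[3,11,3,11],[4,11,4,11],[5,11,5,11],[6,11,6,11],[7,11,7,11],[10,11,10,11],[8,11,8,11],[9,11,9,11],[2,1,2,1,2,1],[3,1,3,1],[4,1,4,1],[5,1,5,1],[6,1,6,1],[7,1,7,1],[10,1,10,1],[8,1,8,1],[9,1,9,1],[3,2,3,2,3,2],[4,2,4,2],[5,2,5,2],[6,2,6,2],[7,2,7,2],[10,2,10,2],[8,2,8,2],[9,2,9,2],[4,3,4,3,4,3],[5,3,5,3],[6,3,6,3],[7,3,7,3],[10,3,10,3],[8,3,8,3],[9,3,9,3],[5,4,5,4,5,4],[6,4,6,4]]) 7 1 = true := by decide +kernel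
theorem fi24a_r0_8 : eqsOn fi24a_T 306936 19 (relPairs idI [[11,12,11,12,11,12],[1,12,1,12],[2,12,2,12],[3,12,3,12],[4,12,4,12],[5,12,5,12],[6,12,6,12],[7,12,7,12],[10,12,10,12],[8,12,8,12],[9,12,9,12],[1,11,1,11,1,11],[2,11,2,11],[3,11,3,11],[4,11,4,11],[5,11,5,11],[6,11,6,11],[7,11,7,11],[10,11,10,11],[8,11,8,11],[9,11,9,11],[2,1,2,1,2,1],[3,1,3,1],[4,1,4,1],[5,1,5,1],[6,1,6,1],[7,1,7,1],[10,1,10,1],[8,1,8,1],[9,1,9,1],[3,2,3,2,3,2],[4,2,4,2],[5,2,5,2],[6,2,6,2],[7,2,7,2],[10,2,10,2],[8,2,8,2],[9,2,9,2],[4,3,4,3,4,3],[5,3,5,3],[6,3,6,3],[7,3,7,3],[10,3,10,3],[8,3,8,3],[9,3,9,3],[5,4,5,4,5,4],[6,4,6,4]]) 8 1 = true := by decide +kernel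
theorem fi24a_r0_9 : eqsOn fi24a_T 306936 19 (relPairs idI [[11,12,11,12,11,12],[1,12,1,12],[2,12,2,12],[3,12,3,12],[4,12,4,12],[5,12,5,12],[6,12,6,12],[7,12,7,12],[10,12,10,12],[8,12,8,12],[9,12,9,12],[1,11,1,11,1,11],[2,11,2,11],[3,11,3,11],[4,11,4,11],[5,11,5,11],[6,11,6,11],[7,11,7,11],[10,11,10,11],[8,11,8,11],[9,11,9,11],[2,1,2,1,2,1],[3,1,3,1],[4,1,4,1],[5,1,5,1],[6,1,6,1],[7,1,7,1],[10,1,10,1],[8,1,8,1],[9,1,9,1],[3,2,3,2,3,2],[4,2,4,2],[5,2,5,2],[6,2,6,2],[7,2,7,2],[10,2,10,2],[8,2,8,2],[9,2,9,2],[4,3,4,3,4,3],[5,3,5,3],[6,3,6,3],[7,3,7,3],[10,3,10,3],[8,3,8,3],[9,3,9,3],[5,4,5,4,5,4],[6,4,6,4]]) 9 1 = true := by decide +kernel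

end Cfsg.Lib.Spor.Fi24P
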