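import Cfsg.Agent.Spor.Fi24Fact
import Cfsg.Agent.Spor.WMFast

/-! The word model of the simple Fischer group of degree 306936; a letter is a pair of transpositions. -/

set_option autoImplicit false
set_option maxRecDepth 100000
set_option Elab.async false

namespace Cfsg.Lib.Spor.F24

open Cfsg.Lib.Spor.Bulk Cfsg.Lib.Spor.WM Cfsg.Lib.Known Cfsg.Lib.Spor.Fi24P

/-- the action of the commutator subgroup -/
noncomputable def ρ2 : Cfsg.Spor.Fi24' →* Equiv.Perm (Fin 306936) := ρ.comp (commutator Cfsg.Spor.Fi24).subtype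

theorem g1_odd {l : ℕ} (h1 : 1 ≤ l) (h2 : l ≤ 15) : g1 l ∉ commutator Cfsg.Spor.Fi24 := by
  obtain ⟨M, hM⟩ := exists_mdl0
  exact facts0.odd _ (congrFun hM l ▸ g_mem M h1 h2 :)

/-- both letters are in range -/
def okP (a b : ℕ) : Bool := decide ((1 ≤ a ∧ a ≤ 15) ∧ 1 ≤ b ∧ b ≤ 15)

/-- a pair of letters -/
noncomputable def g2 {a b : ℕ} (h : okP a b = true) : Cfsg.Spor.Fi24' :=
  ⟨g1 b * g1 a, by
    have h := of_decide_eq_true h
    rw [Subgroup.mul_mem_iff_of_index_two index_commutator]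
    exact iff_of_false (g1_odd h.2.1 h.2.2) (g1_odd h.1.1 h.1.2)⟩

/-- lookup for a pair of letters -/
noncomputable def L2 (a b p : ℕ) : ℕ := PC.frc (L a p) (L b)

theorem a2 {a b : ℕ} (h : okP a b = true) : (FT.leaf (L2 a b)).Ok ρ2 :=
  .leaf (g := g2 h) fun p => by
    show _ = (ρ (g1 b * g1 a) p : ℕ)
    rw [L2, PC.frc_eq, look_ok, look_ok, map_mul, ρ_g1, ρ_g1]; rfl

/-- a base -/
def wbase : List ℕ := [96815,268387,249436,97608,49347,234143]

theorem isBase0 : IsBase ρ wbase := fun x hx => by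
  obtain ⟨M, hM⟩ := exists_mdl0
  have key : ∀ y ∈ gL g0 [1,2,3,4,5,6,7,8,9,10,11,12], ∀ p : Fin 306936, M.act y p = ρ y p := fun y hy => by
    induction hy using Subgroup.closure_induction with
    | mem y hy =>
      obtain ⟨l, hl, rfl⟩ := hy
      have hl' : l < 13 := by revert l; decide
      intro p
      rw [← g1_eq hl', ρ_g1, ← congrFun hM l]; exact M.act_g l p
    | one => simp
    | mul y z _ _ hy hz => intro p; rw [M.act_mul, hz, hy, map_mul]; rfl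
    | inv y _ hy =>
      intro p
      rw [map_inv, Equiv.Perm.inv_eq_iff_eq, hy, map_inv]; simp
  refine M.base x fun p hp => ?_
  have h1 := key x (top ▸ Subgroup.mem_top x) ⟨p, M.ok.base_lt p hp⟩
  rw [hx _ hp] at h1
  exact h1

theorem isBase : IsBase ρ2 wbase := fun x hx => Subtype.ext (isBase0 x hx)

noncomputable def g_T : FT := (.node (nat_lit 128) (.node (nat_lit 64) (.node (nat_lit 32) (.node (nat_lit 16) (.leaf id) (.node (nat_lit
    24) (.node (nat_lit 20) (.node (nat_lit 18) (.node (nat_lit 17) (.leaf id) (.leaf (L2 1 1))) (.node (nat_lit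
    19) (.leaf (L2 2 1)) (.leaf (L2 3 1)))) (.node (nat_lit 22) (.node (nat_lit 21) (.leaf (L2 4 1)) (.leaf (L2 5
    1))) (.node (nat_lit 23) (.leaf (L2 6 1)) (.leaf (L2 7 1))))) (.node (nat_lit 28) (.node (nat_lit 26) (.node
    (nat_lit 25) (.leaf (L2 8 1)) (.leaf (L2 9 1))) (.node (nat_lit 27) (.leaf (L2 10 1)) (.leaf (L2 11 1))))
    (.node (nat_lit 30) (.node (nat_lit 29) (.leaf (L2 12 1)) (.leaf (L2 13 1))) (.node (nat_lit 31) (.leaf (L2 14
    1)) (.leaf (L2 15 1))))))) (.node (nat_lit 48) (.node (nat_lit 40) (.node (nat_lit 36) (.node (nat_lit 34)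
    (.node (nat_lit 33) (.leaf id) (.leaf (L2 1 2))) (.node (nat_lit 35) (.leaf (L2 2 2)) (.leaf (L2 3 2))))
    (.node (nat_lit 38) (.node (nat_lit 37) (.leaf (L2 4 2)) (.leaf (L2 5 2))) (.node (nat_lit 39) (.leaf (L2 6
    2)) (.leaf (L2 7 2))))) (.node (nat_lit 44) (.node (nat_lit 42) (.node (nat_lit 41) (.leaf (L2 8 2)) (.leaf
    (L2 9 2))) (.node (nat_lit 43) (.leaf (L2 10 2)) (.leaf (L2 11 2)))) (.node (nat_lit 46) (.node (nat_lit 45)
    (.leaf (L2 12 2)) (.leaf (L2 13 2))) (.node (nat_lit 47) (.leaf (L2 14 2)) (.leaf (L2 15 2)))))) (.node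
    (nat_lit 56) (.node (nat_lit 52) (.node (nat_lit 50) (.node (nat_lit 49) (.leaf id) (.leaf (L2 1 3))) (.node
    (nat_lit 51) (.leaf (L2 2 3)) (.leaf (L2 3 3)))) (.node (nat_lit 54) (.node (nat_lit 53) (.leaf (L2 4 3))
    (.leaf (L2 5 3))) (.node (nat_lit 55) (.leaf (L2 6 3)) (.leaf (L2 7 3))))) (.node (nat_lit 60) (.node (nat_lit
    58) (.node (nat_lit 57) (.leaf (L2 8 3)) (.leaf (L2 9 3))) (.node (nat_lit 59) (.leaf (L2 10 3)) (.leaf (L2 11
    3)))) (.node (nat_lit 62) (.node (nat_lit 61) (.leaf (L2 12 3)) (.leaf (L2 13 3))) (.node (nat_lit 63) (.leaf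
    (L2 14 3)) (.leaf (L2 15 3)))))))) (.node (nat_lit 96) (.node (nat_lit 80) (.node (nat_lit 72) (.node (nat_lit
    68) (.node (nat_lit 66) (.node (nat_lit 65) (.leaf id) (.leaf (L2 1 4))) (.node (nat_lit 67) (.leaf (L2 2 4))
    (.leaf (L2 3 4)))) (.node (nat_lit 70) (.node (nat_lit 69) (.leaf (L2 4 4)) (.leaf (L2 5 4))) (.node (nat_lit
    71) (.leaf (L2 6 4)) (.leaf (L2 7 4))))) (.node (nat_lit 76) (.node (nat_lit 74) (.node (nat_lit 73) (.leaf
    (L2 8 4)) (.leaf (L2 9 4))) (.node (nat_lit 75) (.leaf (L2 10 4)) (.leaf (L2 11 4)))) (.node (nat_lit 78)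
    (.node (nat_lit 77) (.leaf (L2 12 4)) (.leaf (L2 13 4))) (.node (nat_lit 79) (.leaf (L2 14 4)) (.leaf (L2 15
    4)))))) (.node (nat_lit 88) (.node (nat_lit 84) (.node (nat_lit 82) (.node (nat_lit 81) (.leaf id) (.leaf (L2
    1 5))) (.node (nat_lit 83) (.leaf (L2 2 5)) (.leaf (L2 3 5)))) (.node (nat_lit 86) (.node (nat_lit 85) (.leaf
    (L2 4 5)) (.leaf (L2 5 5))) (.node (nat_lit 87) (.leaf (L2 6 5)) (.leaf (L2 7 5))))) (.node (nat_lit 92)
    (.node (nat_lit 90) (.node (nat_lit 89) (.leaf (L2 8 5)) (.leaf (L2 9 5))) (.node (nat_lit 91) (.leaf (L2 10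
    5)) (.leaf (L2 11 5)))) (.node (nat_lit 94) (.node (nat_lit 93) (.leaf (L2 12 5)) (.leaf (L2 13 5))) (.node
    (nat_lit 95) (.leaf (L2 14 5)) (.leaf (L2 15 5))))))) (.node (nat_lit 112) (.node (nat_lit 104) (.node
    (nat_lit 100) (.node (nat_lit 98) (.node (nat_lit 97) (.leaf id) (.leaf (L2 1 6))) (.node (nat_lit 99) (.leaf
    (L2 2 6)) (.leaf (L2 3 6)))) (.node (nat_lit 102) (.node (nat_lit 101) (.leaf (L2 4 6)) (.leaf (L2 5 6)))
    (.node (nat_lit 103) (.leaf (L2 6 6)) (.leaf (L2 7 6))))) (.node (nat_lit 108) (.node (nat_lit 106) (.node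
    (nat_lit 105) (.leaf (L2 8 6)) (.leaf (L2 9 6))) (.node (nat_lit 107) (.leaf (L2 10 6)) (.leaf (L2 11 6))))
    (.node (nat_lit 110) (.node (nat_lit 109) (.leaf (L2 12 6)) (.leaf (L2 13 6))) (.node (nat_lit 111) (.leaf (L2
    14 6)) (.leaf (L2 15 6)))))) (.node (nat_lit 120) (.node (nat_lit 116) (.node (nat_lit 114) (.node (nat_lit
    113) (.leaf id) (.leaf (L2 1 7))) (.node (nat_lit 115) (.leaf (L2 2 7)) (.leaf (L2 3 7)))) (.node (nat_lit
    118) (.node (nat_lit 117) (.leaf (L2 4 7)) (.leaf (L2 5 7))) (.node (nat_lit 119) (.leaf (L2 6 7)) (.leaf (L2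
    7 7))))) (.node (nat_lit 124) (.node (nat_lit 122) (.node (nat_lit 121) (.leaf (L2 8 7)) (.leaf (L2 9 7)))
    (.node (nat_lit 123) (.leaf (L2 10 7)) (.leaf (L2 11 7)))) (.node (nat_lit 126) (.node (nat_lit 125) (.leaf
    (L2 12 7)) (.leaf (L2 13 7))) (.node (nat_lit 127) (.leaf (L2 14 7)) (.leaf (L2 15 7))))))))) (.node (nat_lit
    192) (.node (nat_lit 160) (.node (nat_lit 144) (.node (nat_lit 136) (.node (nat_lit 132) (.node (nat_lit 130)
    (.node (nat_lit 129) (.leaf id) (.leaf (L2 1 8))) (.node (nat_lit 131) (.leaf (L2 2 8)) (.leaf (L2 3 8))))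
    (.node (nat_lit 134) (.node (nat_lit 133) (.leaf (L2 4 8)) (.leaf (L2 5 8))) (.node (nat_lit 135) (.leaf (L2 6
    8)) (.leaf (L2 7 8))))) (.node (nat_lit 140) (.node (nat_lit 138) (.node (nat_lit 137) (.leaf (L2 8 8)) (.leaf
    (L2 9 8))) (.node (nat_lit 139) (.leaf (L2 10 8)) (.leaf (L2 11 8)))) (.node (nat_lit 142) (.node (nat_lit
    141) (.leaf (L2 12 8)) (.leaf (L2 13 8))) (.node (nat_lit 143) (.leaf (L2 14 8)) (.leaf (L2 15 8)))))) (.node
    (nat_lit 152) (.node (nat_lit 148) (.node (nat_lit 146) (.node (nat_lit 145) (.leaf id) (.leaf (L2 1 9)))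
    (.node (nat_lit 147) (.leaf (L2 2 9)) (.leaf (L2 3 9)))) (.node (nat_lit 150) (.node (nat_lit 149) (.leaf (L2
    4 9)) (.leaf (L2 5 9))) (.node (nat_lit 151) (.leaf (L2 6 9)) (.leaf (L2 7 9))))) (.node (nat_lit 156) (.node
    (nat_lit 154) (.node (nat_lit 153) (.leaf (L2 8 9)) (.leaf (L2 9 9))) (.node (nat_lit 155) (.leaf (L2 10 9))
    (.leaf (L2 11 9)))) (.node (nat_lit 158) (.node (nat_lit 157) (.leaf (L2 12 9)) (.leaf (L2 13 9))) (.node
    (nat_lit 159) (.leaf (L2 14 9)) (.leaf (L2 15 9))))))) (.node (nat_lit 176) (.node (nat_lit 168) (.node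
    (nat_lit 164) (.node (nat_lit 162) (.node (nat_lit 161) (.leaf id) (.leaf (L2 1 10))) (.node (nat_lit 163)
    (.leaf (L2 2 10)) (.leaf (L2 3 10)))) (.node (nat_lit 166) (.node (nat_lit 165) (.leaf (L2 4 10)) (.leaf (L2 5
    10))) (.node (nat_lit 167) (.leaf (L2 6 10)) (.leaf (L2 7 10))))) (.node (nat_lit 172) (.node (nat_lit 170)
    (.node (nat_lit 169) (.leaf (L2 8 10)) (.leaf (L2 9 10))) (.node (nat_lit 171) (.leaf (L2 10 10)) (.leaf (L2
    11 10)))) (.node (nat_lit 174) (.node (nat_lit 173) (.leaf (L2 12 10)) (.leaf (L2 13 10))) (.node (nat_lit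
    175) (.leaf (L2 14 10)) (.leaf (L2 15 10)))))) (.node (nat_lit 184) (.node (nat_lit 180) (.node (nat_lit 178)
    (.node (nat_lit 177) (.leaf id) (.leaf (L2 1 11))) (.node (nat_lit 179) (.leaf (L2 2 11)) (.leaf (L2 3 11))))
    (.node (nat_lit 182) (.node (nat_lit 181) (.leaf (L2 4 11)) (.leaf (L2 5 11))) (.node (nat_lit 183) (.leaf (L2
    6 11)) (.leaf (L2 7 11))))) (.node (nat_lit 188) (.node (nat_lit 186) (.node (nat_lit 185) (.leaf (L2 8 11))
    (.leaf (L2 9 11))) (.node (nat_lit 187) (.leaf (L2 10 11)) (.leaf (L2 11 11)))) (.node (nat_lit 190) (.node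
    (nat_lit 189) (.leaf (L2 12 11)) (.leaf (L2 13 11))) (.node (nat_lit 191) (.leaf (L2 14 11)) (.leaf (L2 15
    11)))))))) (.node (nat_lit 224) (.node (nat_lit 208) (.node (nat_lit 200) (.node (nat_lit 196) (.node (nat_lit
    194) (.node (nat_lit 193) (.leaf id) (.leaf (L2 1 12))) (.node (nat_lit 195) (.leaf (L2 2 12)) (.leaf (L2 3
    12)))) (.node (nat_lit 198) (.node (nat_lit 197) (.leaf (L2 4 12)) (.leaf (L2 5 12))) (.node (nat_lit 199)
    (.leaf (L2 6 12)) (.leaf (L2 7 12))))) (.node (nat_lit 204) (.node (nat_lit 202) (.node (nat_lit 201) (.leaf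
    (L2 8 12)) (.leaf (L2 9 12))) (.node (nat_lit 203) (.leaf (L2 10 12)) (.leaf (L2 11 12)))) (.node (nat_lit
    206) (.node (nat_lit 205) (.leaf (L2 12 12)) (.leaf (L2 13 12))) (.node (nat_lit 207) (.leaf (L2 14 12))
    (.leaf (L2 15 12)))))) (.node (nat_lit 216) (.node (nat_lit 212) (.node (nat_lit 210) (.node (nat_lit 209)
    (.leaf id) (.leaf (L2 1 13))) (.node (nat_lit 211) (.leaf (L2 2 13)) (.leaf (L2 3 13)))) (.node (nat_lit 214)
    (.node (nat_lit 213) (.leaf (L2 4 13)) (.leaf (L2 5 13))) (.node (nat_lit 215) (.leaf (L2 6 13)) (.leaf (L2 7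
    13))))) (.node (nat_lit 220) (.node (nat_lit 218) (.node (nat_lit 217) (.leaf (L2 8 13)) (.leaf (L2 9 13)))
    (.node (nat_lit 219) (.leaf (L2 10 13)) (.leaf (L2 11 13)))) (.node (nat_lit 222) (.node (nat_lit 221) (.leaf
    (L2 12 13)) (.leaf (L2 13 13))) (.node (nat_lit 223) (.leaf (L2 14 13)) (.leaf (L2 15 13))))))) (.node
    (nat_lit 240) (.node (nat_lit 232) (.node (nat_lit 228) (.node (nat_lit 226) (.node (nat_lit 225) (.leaf id)
    (.leaf (L2 1 14))) (.node (nat_lit 227) (.leaf (L2 2 14)) (.leaf (L2 3 14)))) (.node (nat_lit 230) (.node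
    (nat_lit 229) (.leaf (L2 4 14)) (.leaf (L2 5 14))) (.node (nat_lit 231) (.leaf (L2 6 14)) (.leaf (L2 7 14)))))
    (.node (nat_lit 236) (.node (nat_lit 234) (.node (nat_lit 233) (.leaf (L2 8 14)) (.leaf (L2 9 14))) (.node
    (nat_lit 235) (.leaf (L2 10 14)) (.leaf (L2 11 14)))) (.node (nat_lit 238) (.node (nat_lit 237) (.leaf (L2 12
    14)) (.leaf (L2 13 14))) (.node (nat_lit 239) (.leaf (L2 14 14)) (.leaf (L2 15 14)))))) (.node (nat_lit 248)
    (.node (nat_lit 244) (.node (nat_lit 242) (.node (nat_lit 241) (.leaf id) (.leaf (L2 1 15))) (.node (nat_lit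
    243) (.leaf (L2 2 15)) (.leaf (L2 3 15)))) (.node (nat_lit 246) (.node (nat_lit 245) (.leaf (L2 4 15)) (.leaf
    (L2 5 15))) (.node (nat_lit 247) (.leaf (L2 6 15)) (.leaf (L2 7 15))))) (.node (nat_lit 252) (.node (nat_lit
    250) (.node (nat_lit 249) (.leaf (L2 8 15)) (.leaf (L2 9 15))) (.node (nat_lit 251) (.leaf (L2 10 15)) (.leaf
    (L2 11 15)))) (.node (nat_lit 254) (.node (nat_lit 253) (.leaf (L2 12 15)) (.leaf (L2 13 15))) (.node (nat_lit
    255) (.leaf (L2 14 15)) (.leaf (L2 15 15))))))))))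
theorem g_good : Good ρ2 g_T 8 255 wbase :=
  ⟨(.node (.node (.node (.node (.leaf (acts_id ρ2)) (.node (.node (.node (.node (.leaf (acts_id ρ2)) (a2 rfl))
    (.node (a2 rfl) (a2 rfl))) (.node (.node (a2 rfl) (a2 rfl)) (.node (a2 rfl) (a2 rfl)))) (.node (.node (.node
    (a2 rfl) (a2 rfl)) (.node (a2 rfl) (a2 rfl))) (.node (.node (a2 rfl) (a2 rfl)) (.node (a2 rfl) (a2 rfl))))))
    (.node (.node (.node (.node (.node (.leaf (acts_id ρ2)) (a2 rfl)) (.node (a2 rfl) (a2 rfl))) (.node (.node (a2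
    rfl) (a2 rfl)) (.node (a2 rfl) (a2 rfl)))) (.node (.node (.node (a2 rfl) (a2 rfl)) (.node (a2 rfl) (a2 rfl)))
    (.node (.node (a2 rfl) (a2 rfl)) (.node (a2 rfl) (a2 rfl))))) (.node (.node (.node (.node (.leaf (acts_id ρ2))
    (a2 rfl)) (.node (a2 rfl) (a2 rfl))) (.node (.node (a2 rfl) (a2 rfl)) (.node (a2 rfl) (a2 rfl)))) (.node
    (.node (.node (a2 rfl) (a2 rfl)) (.node (a2 rfl) (a2 rfl))) (.node (.node (a2 rfl) (a2 rfl)) (.node (a2 rfl)
    (a2 rfl))))))) (.node (.node (.node (.node (.node (.node (.leaf (acts_id ρ2)) (a2 rfl)) (.node (a2 rfl) (a2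
    rfl))) (.node (.node (a2 rfl) (a2 rfl)) (.node (a2 rfl) (a2 rfl)))) (.node (.node (.node (a2 rfl) (a2 rfl))
    (.node (a2 rfl) (a2 rfl))) (.node (.node (a2 rfl) (a2 rfl)) (.node (a2 rfl) (a2 rfl))))) (.node (.node (.node
    (.node (.leaf (acts_id ρ2)) (a2 rfl)) (.node (a2 rfl) (a2 rfl))) (.node (.node (a2 rfl) (a2 rfl)) (.node (a2
    rfl) (a2 rfl)))) (.node (.node (.node (a2 rfl) (a2 rfl)) (.node (a2 rfl) (a2 rfl))) (.node (.node (a2 rfl) (a2
    rfl)) (.node (a2 rfl) (a2 rfl)))))) (.node (.node (.node (.node (.node (.leaf (acts_id ρ2)) (a2 rfl)) (.node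
    (a2 rfl) (a2 rfl))) (.node (.node (a2 rfl) (a2 rfl)) (.node (a2 rfl) (a2 rfl)))) (.node (.node (.node (a2 rfl)
    (a2 rfl)) (.node (a2 rfl) (a2 rfl))) (.node (.node (a2 rfl) (a2 rfl)) (.node (a2 rfl) (a2 rfl))))) (.node
    (.node (.node (.node (.leaf (acts_id ρ2)) (a2 rfl)) (.node (a2 rfl) (a2 rfl))) (.node (.node (a2 rfl) (a2
    rfl)) (.node (a2 rfl) (a2 rfl)))) (.node (.node (.node (a2 rfl) (a2 rfl)) (.node (a2 rfl) (a2 rfl))) (.node
    (.node (a2 rfl) (a2 rfl)) (.node (a2 rfl) (a2 rfl)))))))) (.node (.node (.node (.node (.node (.node (.node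
    (.leaf (acts_id ρ2)) (a2 rfl)) (.node (a2 rfl) (a2 rfl))) (.node (.node (a2 rfl) (a2 rfl)) (.node (a2 rfl) (a2
    rfl)))) (.node (.node (.node (a2 rfl) (a2 rfl)) (.node (a2 rfl) (a2 rfl))) (.node (.node (a2 rfl) (a2 rfl))
    (.node (a2 rfl) (a2 rfl))))) (.node (.node (.node (.node (.leaf (acts_id ρ2)) (a2 rfl)) (.node (a2 rfl) (a2
    rfl))) (.node (.node (a2 rfl) (a2 rfl)) (.node (a2 rfl) (a2 rfl)))) (.node (.node (.node (a2 rfl) (a2 rfl))
    (.node (a2 rfl) (a2 rfl))) (.node (.node (a2 rfl) (a2 rfl)) (.node (a2 rfl) (a2 rfl)))))) (.node (.node (.node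
    (.node (.node (.leaf (acts_id ρ2)) (a2 rfl)) (.node (a2 rfl) (a2 rfl))) (.node (.node (a2 rfl) (a2 rfl))
    (.node (a2 rfl) (a2 rfl)))) (.node (.node (.node (a2 rfl) (a2 rfl)) (.node (a2 rfl) (a2 rfl))) (.node (.node
    (a2 rfl) (a2 rfl)) (.node (a2 rfl) (a2 rfl))))) (.node (.node (.node (.node (.leaf (acts_id ρ2)) (a2 rfl))
    (.node (a2 rfl) (a2 rfl))) (.node (.node (a2 rfl) (a2 rfl)) (.node (a2 rfl) (a2 rfl)))) (.node (.node (.node
    (a2 rfl) (a2 rfl)) (.node (a2 rfl) (a2 rfl))) (.node (.node (a2 rfl) (a2 rfl)) (.node (a2 rfl) (a2 rfl)))))))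
    (.node (.node (.node (.node (.node (.node (.leaf (acts_id ρ2)) (a2 rfl)) (.node (a2 rfl) (a2 rfl))) (.node
    (.node (a2 rfl) (a2 rfl)) (.node (a2 rfl) (a2 rfl)))) (.node (.node (.node (a2 rfl) (a2 rfl)) (.node (a2 rfl)
    (a2 rfl))) (.node (.node (a2 rfl) (a2 rfl)) (.node (a2 rfl) (a2 rfl))))) (.node (.node (.node (.node (.leaf
    (acts_id ρ2)) (a2 rfl)) (.node (a2 rfl) (a2 rfl))) (.node (.node (a2 rfl) (a2 rfl)) (.node (a2 rfl) (a2
    rfl)))) (.node (.node (.node (a2 rfl) (a2 rfl)) (.node (a2 rfl) (a2 rfl))) (.node (.node (a2 rfl) (a2 rfl))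
    (.node (a2 rfl) (a2 rfl)))))) (.node (.node (.node (.node (.node (.leaf (acts_id ρ2)) (a2 rfl)) (.node (a2
    rfl) (a2 rfl))) (.node (.node (a2 rfl) (a2 rfl)) (.node (a2 rfl) (a2 rfl)))) (.node (.node (.node (a2 rfl) (a2
    rfl)) (.node (a2 rfl) (a2 rfl))) (.node (.node (a2 rfl) (a2 rfl)) (.node (a2 rfl) (a2 rfl))))) (.node (.node
    (.node (.node (.leaf (acts_id ρ2)) (a2 rfl)) (.node (a2 rfl) (a2 rfl))) (.node (.node (a2 rfl) (a2 rfl))
    (.node (a2 rfl) (a2 rfl)))) (.node (.node (.node (a2 rfl) (a2 rfl)) (.node (a2 rfl) (a2 rfl))) (.node (.node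
    (a2 rfl) (a2 rfl)) (.node (a2 rfl) (a2 rfl))))))))), acts_id ρ2, by decide, rfl, isBase⟩
noncomputable def g_i (l : ℕ) : ℕ := Nat.add (Nat.shiftRight l 4) (Nat.shiftLeft (Nat.land l 15) 4)
theorem g_inv : invB g_T 8 255 wbase g_i = true := by decide +kernel
/-- the operations -/
noncomputable def gO : Ops := fops g_T 8 255 wbase 306936 g_i
theorem g_has : g_good.fm.Has gO := g_good.hasF g_inv

end Cfsg.Lib.Spor.F24
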