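import Cfsg.Agent.Spor.GeoFlag
import Cfsg.Agent.Spor.GeoSmall

/-! Orbits of the stabiliser of two points and of some of its subgroups. -/

set_option autoImplicit false

namespace Cfsg.Lib.Spor.Orb

open Cfsg Cfsg.Lib.Spor MulAction
open scoped Pointwise

/-- Which of the two points lie in the set. -/
def ind2 (a : GolayPt × GolayPt) (y : Finset GolayPt) : ℕ := ind a.1 y + 2 * ind a.2 y

theorem ind2_smul (g : M24) (a : GolayPt × GolayPt) (y : Finset GolayPt) :
    ind2 (g • a) (g • y) = ind2 a y := by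
  simp only [ind2, Prod.smul_fst, Prod.smul_snd, ind_smul]

theorem ind2_mask {i j : ℕ} (hi : i < 24) (hj : j < 24) (m : ℕ) :
    ind2 (idxPt i, idxPt j) (maskSet m) =
      cond (Nat.testBit m i) 1 0 + 2 * cond (Nat.testBit m j) 1 0 := by
  simp only [ind2, ind_mask hi, ind_mask hj]

theorem ind2_eq_three {p q : GolayPt} {y : Finset GolayPt} : ind2 (p, q) y = 3 ↔ p ∈ y ∧ q ∈ y := by
  simp only [ind2, ind]; split_ifs with h1 h2 h2 <;> simp [h1, h2]

theorem ind2_eq_one {p q : GolayPt} {y : Finset GolayPt} : ind2 (p, q) y = 1 ↔ p ∈ y ∧ q ∉ y := by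
  simp only [ind2, ind]; split_ifs with h1 h2 h2 <;> simp [h1, h2]

theorem ind2_eq_zero {p q : GolayPt} {y : Finset GolayPt} : ind2 (p, q) y = 0 ↔ p ∉ y ∧ q ∉ y := by
  simp only [ind2, ind]; split_ifs with h1 h2 h2 <;> simp [h1, h2]

theorem gens_stab_pq {gens : List ℕ} {i j : ℕ} (hi : i < 24) (hj : j < 24)
    (h : (gens.all fun g => pkM24 g && (fixPt g i && fixPt g j)) = true) :
    ∀ g ∈ gens, pkM24 g = true ∧ m24 g ∈ stabilizer M24 (idxPt i, idxPt j) :=
  gens_mem h fun _ h1 h2 => Prod.ext (smul_of_fixPt h1 hi (Bool.and_eq_true_iff.1 h2).1)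
    (smul_of_fixPt h1 hj (Bool.and_eq_true_iff.1 h2).2)

theorem gens_stab_pqs {gens : List ℕ} {i j m : ℕ} (hi : i < 24) (hj : j < 24)
    (h : (gens.all fun g => pkM24 g && ((fixPt g i && fixPt g j) && fixSet g m)) = true) :
    ∀ g ∈ gens, pkM24 g = true ∧ m24 g ∈ stabilizer M24 ((idxPt i, idxPt j), maskSet m) :=
  gens_mem h fun _ h1 h2 => by
    simp only [Bool.and_eq_true] at h2
    exact Prod.ext (Prod.ext (smul_of_fixPt h1 hi h2.1.1) (smul_of_fixPt h1 hj h2.1.2))
      (smul_of_fixSet h1 h2.2)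

theorem idxPt_zero_ne_one : idxPt 0 ≠ idxPt 1 := by decide +kernel

def gPQ : List ℕ :=
  [835211374446104911049603523585057824, 545292078591352228196093122659985440, 440431601146018059332611010202222624, 965265916941323786118645818715716640, 429951807725588654555178413218904096, 253631895091098096073142528967826464, 231872599576805103724245527696195616, 466909472340860873119932558782839840]

theorem gPQ_spec : ∀ g ∈ gPQ, pkM24 g = true ∧ m24 g ∈ stabilizer M24 (idxPt 0, idxPt 1) :=
  gens_stab_pq (by norm_num) (by norm_num) (by decide +kernel)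

def dPQOct : Fin 4 → ℕ × ℕ × ℕ × ℕ :=
  ![(5279, 831, 0x119e9c7667c0f9a17b926371f15d1a0939f467281282455681aa5bf162f0, 79),
    (10558, 2417, 0x7dd64f13dec0befa132062ad9839e9875f14e9836fa89cc56948f691438295a6df7951fc8152eae1e07bfce6a95af68706127dd9fcce57e0ad20855f1c7f23b02f1ac73940, 184),
    (15777, 2213, 0xfe3c53574f33cd055cd35342d1cc41f0a919328a717517f4ae0e899a1b62b15e9b11f95f99ba889a59c9ef261af5dae073e40c827a9f6a3857d8514aa16d79df51cd40760, 183),
    (21116, 7063, 0xfef6acbd946c3be765d08ce8ecaf2a978ddc94999a116189dd460a4297ae5788fa2a56587e77c0b51a72935c62338a764a5f6c256569148fa1907817726000350ee33337290269ede9b436b7c8ee9e481fa280fd98ad61337a8951d09919d9f3a908e7ca4af4c513efbc7bbdd54725d42246643017d3b068f47996a10c2a4ce9a3370, 348)]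

theorem rank_pq_oct {p q : GolayPt} (h : p ≠ q) : Rank M24 (p, q) octads (ind2 (p, q)) ![3, 2, 1, 0] ![77, 176, 176, 330] :=
  rank_set (𝒜 := fun _ => octads) (Φ := ind2)
    (fun g _ _ hy => smul_mem_octads' g hy) ind2_smul _ _ gPQ_spec dPQOct
    (by decide +kernel) (fun i => mem_octads_of (by revert i; decide +kernel))
    (fun i => by rw [ind2_mask (by norm_num) (by norm_num)]; revert i; decide +kernel) (by decide)
    (by rw [ncard_octads]; decide) (trans_two idxPt_zero_ne_one h)

theorem trans_pq_oct {p q p' q' : GolayPt} (h : p ≠ q) (h' : p' ≠ q') {o o' : Finset GolayPt}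
    (ho : o ∈ octads) (ho' : o' ∈ octads) (e : ind2 (p, q) o = ind2 (p', q') o') :
    ∃ g : M24, g • ((p, q), o) = ((p', q'), o') :=
  trans_pair (trans_two h h') fun g hg => (rank_pq_oct h').trans _ (smul_mem_octads' g ho) _ ho'
    (by rw [← hg, ind2_smul, e, hg])

def dPQTwo : Fin 4 → ℕ × ℕ × ℕ × ℕ :=
  ![(3, 1, 0x0, 1),
    (5, 37, 0xeff3b47ef2f227890, 23),
    (6, 37, 0x24153b8f22ec220a8, 22),
    (12, 3347, 0x46e8c49118a22650e426429ba133ac2b9cd46ecc7c6ff155de9ffd9b3341a80a8be650bd61780a86daebe09c54adbf562dfdc6aff208dd5c1841457079ac0bd8e9a3d4ef7bd1f00f2acb3f928c2082e7a04a2ff8151c2caa14150, 241)]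

theorem rank_pq_two {p q : GolayPt} (h : p ≠ q) :
    Rank M24 (p, q) {t : Finset GolayPt | t.card = 2} (ind2 (p, q)) ![3, 1, 2, 0] ![1, 22, 22, 231] :=
  rank_set (𝒜 := fun _ => {t : Finset GolayPt | t.card = 2}) (Φ := ind2)
    (fun g _ _ hy => smul_mem_card g hy) ind2_smul _ _ gPQ_spec dPQTwo
    (by decide +kernel) (fun i => (card_maskSet _).trans (by revert i; decide +kernel))
    (fun i => by rw [ind2_mask (by norm_num) (by norm_num)]; revert i; decide +kernel) (by decide)
    (by rw [ncard_card_eq]; decide) (trans_two idxPt_zero_ne_one h)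

theorem trans_pq_two {p q p' q' : GolayPt} (h : p ≠ q) (h' : p' ≠ q') {o o' : Finset GolayPt}
    (ho : o.card = 2) (ho' : o'.card = 2) (e : ind2 (p, q) o = ind2 (p', q') o') :
    ∃ g : M24, g • ((p, q), o) = ((p', q'), o') :=
  trans_pair (trans_two h h') fun g hg => (rank_pq_two h').trans _ (smul_mem_card g ho) _ ho'
    (by rw [← hg, ind2_smul, e, hg])

def gBoth : List ℕ :=
  [812989154823869882292703546062286880, 349566273814246064335425789900337184, 890822966094515022262415920220835872, 231452029723833332247180935049586720, 272133734771319190623879234876319776, 855006493947643520469069526708889632, 765482560111022133881708899244249120, 860115603649915159732650553943399456]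

def dBoth : Fin 3 → ℕ × ℕ × ℕ × ℕ :=
  ![(5279, 1, 0x0, 1),
    (352547, 59, 0xaace576bd9e8, 16),
    (18147, 397, 0x7487d60f7dc2fba75d249ed42a96adf968d3dbbae08c80, 62)]

theorem rank_pq_both {p q : GolayPt} (h : p ≠ q) {o : Finset GolayPt} (ho : o ∈ octads)
    (hv : ind2 (p, q) o = 3) :
    Rank M24 ((p, q), o) {y | y ∈ octads ∧ ind2 (p, q) y = 3} (fun y => (o ∩ y).card) ![8, 2, 4] ![1, 16, 60] :=
  rank_set (𝒜 := fun a : (GolayPt × GolayPt) × Finset GolayPt =>
      {y | y ∈ octads ∧ ind2 a.1 y = 3}) (Φ := fun a y => (a.2 ∩ y).card)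
    (fun g b y hy => ⟨smul_mem_octads' g hy.1, (ind2_smul g b.1 y).trans hy.2⟩)
    (fun g b y => card_inter_smul g b.2 y) _ _
    (gens_stab_pqs (gens := gBoth) (i := 0) (j := 1) (m := 5279) (by norm_num) (by norm_num)
      (by decide +kernel)) dBoth (by decide +kernel)
    (fun i => ⟨mem_octads_of (by revert i; decide +kernel), by
      rw [ind2_mask (by norm_num) (by norm_num)]; revert i; decide +kernel⟩)
    (fun i => by rw [card_inter_maskSet]; revert i; decide +kernel) (by decide)
    (((rank_pq_oct idxPt_zero_ne_one).card 0).le.trans (by decide))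
    (trans_pq_oct idxPt_zero_ne_one h (mem_octads_of (by decide +kernel)) ho (by
      rw [ind2_mask (by norm_num) (by norm_num), hv]; decide +kernel))

def gFirst : List ℕ :=
  [940376552339292995945362884411907104, 729779781370076994275230330794348576, 626366071618884996249909138424505376, 252504973831426606449938852775252000, 152056777217387539944321631321803808, 274288614816825581648030293501295648, 395312625916675339287499002106842144, 107273088414425733704579464865434656]

def dFirst : Fin 3 → ℕ × ℕ × ℕ × ℕ :=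
  ![(15777, 1, 0x0, 1),
    (99029, 555, 0x910940022798b2512d21a7baa89af5549f768aade59ff5a0484d0, 71),
    (39257, 1215, 0xedce64a3df262e5e9000c2d7fb384a0c2f0b80fd8dc12f224332653ef83492fd24bc7bb7d16c30d78, 108)]

theorem rank_pq_first {p q : GolayPt} (h : p ≠ q) {o : Finset GolayPt} (ho : o ∈ octads)
    (hv : ind2 (p, q) o = 1) :
    Rank M24 ((p, q), o) {y | y ∈ octads ∧ ind2 (p, q) y = 1} (fun y => (o ∩ y).card) ![8, 2, 4] ![1, 70, 105] :=
  rank_set (𝒜 := fun a : (GolayPt × GolayPt) × Finset GolayPt =>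
      {y | y ∈ octads ∧ ind2 a.1 y = 1}) (Φ := fun a y => (a.2 ∩ y).card)
    (fun g b y hy => ⟨smul_mem_octads' g hy.1, (ind2_smul g b.1 y).trans hy.2⟩)
    (fun g b y => card_inter_smul g b.2 y) _ _
    (gens_stab_pqs (gens := gFirst) (i := 0) (j := 1) (m := 15777) (by norm_num) (by norm_num)
      (by decide +kernel)) dFirst (by decide +kernel)
    (fun i => ⟨mem_octads_of (by revert i; decide +kernel), by
      rw [ind2_mask (by norm_num) (by norm_num)]; revert i; decide +kernel⟩)
    (fun i => by rw [card_inter_maskSet]; revert i; decide +kernel) (by decide)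
    (((rank_pq_oct idxPt_zero_ne_one).card 2).le.trans (by decide))
    (trans_pq_oct idxPt_zero_ne_one h (mem_octads_of (by decide +kernel)) ho (by
      rw [ind2_mask (by norm_num) (by norm_num), hv]; decide +kernel))

/-- The intersection size, plus `4` if the two points and the two sets lie in an octad. -/
noncomputable def phiV (a : (GolayPt × GolayPt) × Finset GolayPt) (t : Finset GolayPt) : ℕ :=
  (a.2 ∩ t).card + four (∃ o ∈ octads, a.1.1 ∈ o ∧ a.1.2 ∈ o ∧ a.2 ∪ t ⊆ o)

theorem phiV_iff (p q : GolayPt) (s : Finset GolayPt) :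
    (∃ o ∈ octads, p ∈ o ∧ q ∈ o ∧ s ⊆ o) ↔ ∃ o ∈ octads, {p} ∪ ({q} ∪ s) ⊆ o := by
  simp only [Finset.union_subset_iff, Finset.singleton_subset_iff]

theorem phiV_smul (g : M24) (a : (GolayPt × GolayPt) × Finset GolayPt) (t : Finset GolayPt) :
    phiV (g • a) (g • t) = phiV a t := by
  have e : ({g • a.1.1} ∪ ({g • a.1.2} ∪ (g • a.2 ∪ g • t)) : Finset GolayPt) =
      g • ({a.1.1} ∪ ({a.1.2} ∪ (a.2 ∪ t))) := by
    rw [Finset.smul_finset_union, Finset.smul_finset_union, Finset.smul_finset_union,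
      Finset.smul_finset_singleton, Finset.smul_finset_singleton]
  simp only [phiV, Prod.smul_fst, Prod.smul_snd, card_inter_smul, phiV_iff, e, inOct_smul]

theorem phiV_mask {a b : ℕ} (ha : a < 2 ^ 24) (hb : b < 2 ^ 24) :
    phiV ((idxPt 0, idxPt 1), maskSet a) (maskSet b) =
      popc (Nat.land a b) + cond (inOct (1 ||| (2 ||| (a ||| b)))) 4 0 := by
  have h := inOct_iff (m := 1 ||| (2 ||| (a ||| b))) (Nat.or_lt_two_pow (by norm_num)
    (Nat.or_lt_two_pow (by norm_num) (Nat.or_lt_two_pow ha hb)))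
  have h0 : ({idxPt 0} : Finset GolayPt) = maskSet 1 := (maskSet_two_pow (idxPt 0)).symm
  have h1 : ({idxPt 1} : Finset GolayPt) = maskSet 2 := (maskSet_two_pow (idxPt 1)).symm
  simp only [phiV, card_inter_maskSet, phiV_iff, h0, h1, ← maskSet_or, h, four_bool]

def gPQS : List ℕ :=
  [191037739962941222565820175281622048, 354928645547060516578573501532802080, 394154902588970608060877799419874336, 564894522981524089230425805004310560, 464159642434464459778400694334228512, 277271254085440354811136941024676896, 358866004217636901629131287278193696, 438319692955041246421668487252510752]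

def dPQS : Fin 4 → ℕ × ℕ × ℕ × ℕ :=
  ![(12, 1, 0x0, 1),
    (144, 143, 0x27aba8eebf2da65665e2908, 30),
    (20, 173, 0x3ae50e19ed44acad903322ee10f9850, 41),
    (48, 1601, 0xbaddb020c465c0c9729911fee0028508e1f8bc42f55fc002d714ffa3f574b94f572e6eda0b759e0bfd36c6ebe341d7d7e511bef4f49420f08a32e448a617f8, 168)]

theorem rank_pqs {p q : GolayPt} (h : p ≠ q) {s : Finset GolayPt} (hs : s.card = 2)
    (hv : ind2 (p, q) s = 0) :
    Rank M24 ((p, q), s) {y : Finset GolayPt | y.card = 2 ∧ ind2 (p, q) y = 0}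
      (phiV ((p, q), s)) ![6, 4, 5, 0] ![1, 30, 40, 160] :=
  have hd : setChk gPQS ![1, 30, 40, 160] dPQS := by decide +kernel
  rank_set (𝒜 := fun a : (GolayPt × GolayPt) × Finset GolayPt =>
      {y : Finset GolayPt | y.card = 2 ∧ ind2 a.1 y = 0}) (Φ := phiV)
    (fun g b y hy => ⟨smul_mem_card g hy.1, (ind2_smul g b.1 y).trans hy.2⟩)
    phiV_smul _ _
    (gens_stab_pqs (gens := gPQS) (i := 0) (j := 1) (m := 12) (by norm_num) (by norm_num)
      (by decide +kernel)) dPQS hd
    (fun i => ⟨(card_maskSet _).trans (by revert i; decide +kernel), by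
      rw [ind2_mask (by norm_num) (by norm_num)]; revert i; decide +kernel⟩)
    (fun i => by rw [phiV_mask (by norm_num) (hd i).1]; revert i; decide +kernel) (by decide)
    (((rank_pq_two idxPt_zero_ne_one).card 3).le.trans (by decide))
    (trans_pq_two idxPt_zero_ne_one h ((card_maskSet _).trans (by decide +kernel)) hs (by
      rw [ind2_mask (by norm_num) (by norm_num), hv]; decide +kernel))

end Cfsg.Lib.Spor.Orb
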