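import Cfsg.Agent.Spor.HNUD1

/-! Generated certificate checks. -/

set_option autoImplicit false
set_option maxRecDepth 100000
set_option linter.unusedVariables false
set_option linter.unusedSectionVars false

namespace Cfsg.Lib.Spor.HNU

open Cfsg.Lib.Spor.MG Cfsg.Lib.Spor.Bulk

variable [Fact Cfsg.Lib.HN.StA] {M : Type} [Monoid M] [Finite M] (I : Impl CF.O M) {X : Type} [MulAction M X] (B : BImpl I V X)
include I B

theorem a2 : I.AllS P (I.gen P S1) (msk S1) :=
  Impl.allS_gen (W := [3, 5, 6]) (by decide +kernel)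

theorem a6 : I.AllS P (I.gen P S1) m5 :=
  (a2 I B).ext L4 (by decide +kernel)

theorem a8 : I.AllS P (I.gen P S7) (msk S7) :=
  Impl.allS_gen_of (a6 I B) (by decide +kernel)

theorem a11 : I.AllS P (I.gen P S7) m10 :=
  (a8 I B).ext L9 (by decide +kernel)

theorem a13 : I.AllS P (I.gen P S12) (msk S12) :=
  Impl.allS_gen_of (a11 I B) (by decide +kernel)

theorem lo15 : 50 * Nat.card (I.gen P S12) ≤ Nat.card (I.gen P S7) :=
  BImpl.low_lev (B := B) (a11 I B) b14 [0, 0x13016012012, 17, 0x13016016, 0x13016012, 19, 0x11012012, 69652, 0x13016016012, 0x11012015013, 69654, 23, 0x13016014, 0x11016014, 0x12013016014, 0x11016012012, 98322, 0x18012015, 0x18018014, 0x18012015013, 0x12015017, 0x18012013018, 0x11012015, 0x13016016018, 0x18012012, 0x12013016, 69650, 73747, 0x11018014, 0x11012015017, 98328, 0x11012013016, 0x12015013, 0x11018012, 0x11018012012, 0x11012013, 73749, 0x13016018016, 0x11016012, 94227, 77846, 0x13016018, 98324, 69656, 18, 0x18012013, 24, 0x11018016, 0x11016016,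 0x13016016012015] 50 (by decide +kernel)

theorem a18 : I.AllS P (I.gen P S12) m17 :=
  (a13 I B).ext L16 (by decide +kernel)

theorem a20 : I.AllS P (I.gen P S19) (msk S19) :=
  Impl.allS_gen_of (a18 I B) (by decide +kernel)

theorem lo22 : 42 * Nat.card (I.gen P S19) ≤ Nat.card (I.gen P S12) :=
  BImpl.low_lev (B := B) (a18 I B) b21 [0x1902301e, 0, 118809, 114719, 102431, 31, 114723, 33, 27, 0x19021019, 110620, 106521, 102429, 30, 114721, 122905, 29, 131104, 102430, 32, 118813, 118810, 0x1901e01b, 114725, 114724, 28, 106528, 106531, 36, 131105, 26, 131107, 35, 127007, 127010, 102435, 25, 102432, 102433, 102426, 37, 0x1b01c023] 42 (by decide +kernel)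

theorem a25 : I.AllS P (I.gen P S19) m24 :=
  (a20 I B).ext L23 (by decide +kernel)

theorem a27 : I.AllS P (I.gen P S26) (msk S26) :=
  Impl.allS_gen_of (a25 I B) (by decide +kernel)

theorem lo29 : 30 * Nat.card (I.gen P S26) ≤ Nat.card (I.gen P S19) :=
  BImpl.low_lev (B := B) (a25 I B) b28 [0, 0x29028028, 167975, 41, 159786, 0x2802a02a026, 0x29028029, 0x2802a02a, 163880, 0x28029028, 167977, 0x2a02a027, 0x2a02a026, 159782, 0x28029029, 172074, 39, 0x27026029029, 163881, 167976, 0x27026029, 40, 0x27026028, 0x2802802a, 42, 0x2802a02a027, 0x29028029029, 163882, 159785, 0x27029029] 30 (by decide +kernel)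

theorem a31 : I.AllS P (I.gen P S30) (msk S30) :=
  Impl.allS_gen_of (a27 I B) (by decide +kernel)

theorem lo33 : 2 * Nat.card (I.gen P S30) ≤ Nat.card (I.gen P S26) :=
  BImpl.low_lev (B := B) (a27 I B) b32 [0, 43] 2 (by decide +kernel)

theorem low34 : 126000 ≤ Nat.card (I.gen P S7) :=
  le_trans (by decide +kernel) (le_of_low (lo15 I B) (le_of_low (lo22 I B) (le_of_low (lo29 I B) (le_of_low (lo33 I B) (Nat.succ_le_of_lt Nat.card_pos)))))

theorem a37 : I.AllS P (I.gen P S1) m36 :=
  (a6 I B).ext L35 (by decide +kernel)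

theorem nt208 : BImpl.Nets (B := B) (P := P) [6] Q206 1408 [N207] :=
  BImpl.Nets.cons (a37 I B) 6 N207 (by decide +kernel) (B.nets_nil Q206 1408)

theorem nt210 : BImpl.Nets (B := B) (P := P) [4, 6] Q206 1408 [N209, N207] :=
  BImpl.Nets.cons (a37 I B) 4 N209 (by decide +kernel) (nt208 I B)

theorem nt212 : BImpl.Nets (B := B) (P := P) [2, 4, 6] Q206 1408 [N211, N209, N207] :=
  BImpl.Nets.cons (a37 I B) 2 N211 (by decide +kernel) (nt210 I B)

theorem ob213 : B.Orb (I.gen P S1) (B.vd b3) Q206 1408 :=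
  (nt212 I B).orb b3 0 (by decide +kernel)

theorem oc214 : (MulAction.orbit (I.gen P S1) (B.vd b3)).ncard = 1408 :=
  (nt212 I B).ncard_orbit b3 0 8 (by decide +kernel)

theorem satH : (∀ l < 8, I.InS Set.univ (P (ix l))) ∧ Sat (fun l => I.u (P (ix l))) 8 iota RH :=
  Impl.sat_app (Impl.sat_nil (fun l => P (ix l)) 8 iota (by decide +kernel)) RH (by decide +kernel)

theorem genH : I.gen P SH = gL (fun l => I.u (P (ix l))) LS0 :=
  Impl.gen_eq_gL (satH I B).2 [1, 3, 5] [] (by decide +kernel)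

theorem ordH : OrdB 8 iota RH LS0 177408000 :=
  OrdB.ext (Fact.out : Cfsg.Lib.HN.StA) LS0 [] (by decide +kernel)

theorem cardH_le : Nat.card (I.gen P SH) ≤ 177408000 :=
  by rw [genH I B]; exact (ordH I B _ _ (satH I B).2).2

theorem cardH_ge : 177408000 ≤ Nat.card (I.gen P SH) :=
  card_ge_of_stab B (a37 I B) S7 b3 (by decide +kernel) (oc214 I B) (low34 I B)

theorem hk215 : (I.gen P S1) ⊓ MulAction.stabilizer Mˣ (B.vd b3) ≤ (I.gen P S7) :=
  B.stab_le_of_card (a37 I B) S7 b3 (by decide +kernel) (oc214 I B) (by norm_num) (cardH_le I B) (low34 I B)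

end Cfsg.Lib.Spor.HNU
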