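import Cfsg.Agent.Spor.HNUP0
import Cfsg.Agent.Spor.HNUH

/-! Generated certificate checks. -/

set_option autoImplicit false
set_option maxRecDepth 100000
set_option linter.unusedVariables false
set_option linter.unusedSectionVars false

namespace Cfsg.Lib.Spor.HNU

open Cfsg.Lib.Spor.MG Cfsg.Lib.Spor.Bulk

variable [Fact Cfsg.Lib.HN.StA] {M : Type} [Monoid M] [Finite M] (I : Impl CF.O M) {X : Type} [MulAction M X] (B : BImpl I V X)
  {G A Ω : Type} [Group G] [Group A] [MulAction G Ω] [MulAction A Ω] {σ : I.gen P SH →* G}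
  {S : Sem CF G A Ω} (E : Over S I σ)
include I B E

theorem ak787 : I.AllS P (LS σ S.g) (msk (mapL hd L786)) :=
  E.allS_L (allH S) P L786 (by decide +kernel)

theorem a790 : I.AllS P (LS σ S.g) m789 :=
  (ak787 I B E).ext L788 (by decide +kernel)

theorem pr791 : ∀ p, 0 ≤ p → p < 1 → I.PlainAt P (LS σ S.g) 44 1 17 p :=
  Impl.plain_range (a790 I B E) (a37 I B) 44 1 17 0 1 W792 (by decide +kernel)

theorem pr793 : ∀ p, 0 ≤ p → p < 1 → I.PlainAt P (LS σ S.g) 44 1 18 p :=
  Impl.plain_range (a790 I B E) (a37 I B) 44 1 18 0 1 W794 (by decide +kernel)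

theorem sc795 : StabCov (C := CF) I (I.gen P S1) (LS σ S.g) (B.vd b3) U785 :=
  stabCov_of (C := CF) (hk215 I B) (a37 I B) (Impl.plain_cover' (S := S7) (p0 := 0) (a790 I B E) (by decide +kernel) (List.forall_mem_cons.2 ⟨(pr791 I B E), List.forall_mem_cons.2 ⟨(pr793 I B E), List.forall_mem_nil _⟩⟩)) U785 (by decide +kernel) (by decide +kernel)

theorem ak797 : I.AllS P (KS σ (S.ω 1)) (msk (mapL hd L796)) :=
  E.allS_K (allH S) P 1 L796 (by decide +kernel)

theorem a800 : I.AllS P (KS σ (S.ω 1)) m799 :=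
  (ak797 I B E).ext L798 (by decide +kernel)

theorem a802 : I.AllS P (I.gen P S801) (msk S801) :=
  Impl.allS_gen_of (a800 I B E) (by decide +kernel)

theorem lo804 : 50 * Nat.card (I.gen P S801) ≤ Nat.card (KS σ (S.ω 1)) :=
  BImpl.low_lev (B := B) (a800 I B E) b803 [0, 70, 69, 72, 282699, 71, 282693, 76, 85, 290894, 86, 290890, 75, 290902, 0x4504e055, 77, 344148, 356430, 290893, 315473, 307277, 335947, 282704, 294990, 335946, 335958, 307285, 282701, 335957, 286801, 0x4504c052, 335942, 315471, 290898, 282702, 315469, 307274, 282700, 307287, 315463, 290904, 84, 286794, 87, 282707, 311374, 286798, 344153, 335945, 82] 50 (by decide +kernel)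

theorem a807 : I.AllS P (I.gen P S801) m806 :=
  (a802 I B E).ext L805 (by decide +kernel)

theorem a809 : I.AllS P (I.gen P S808) (msk S808) :=
  Impl.allS_gen_of (a807 I B E) (by decide +kernel)

theorem lo811 : 42 * Nat.card (I.gen P S808) ≤ Nat.card (I.gen P S801) :=
  BImpl.low_lev (B := B) (a807 I B E) b810 [0x5e05b060, 0, 93, 95, 0x5e05b05f, 0x5e05b05d, 0x5e05b05e, 0x5c05b05c05b05d, 92, 376923, 0x5c05b05d05b05d, 0x5c05b05d, 0x5c05b05c05b05c, 0x5c05b05d05b060, 0x5c05b05d05b05c, 0x5c05b05c05b060, 389211, 0x5c05b05d05b, 0x5c05b05c05b, 0x5f05b05c, 0x5f05b05c05b, 0x5f05b05d05b, 0x5c05b06005b, 385115, 0x5c05b05e, 96, 0x5c05b060, 372828, 0x5c05b05f, 0x5c05b05c, 0x5d05b05c, 381019, 0x5d05b05d, 0x5f05b05e, 91, 372829, 0x5f05b05d, 0x5f05b06005b, 0x5f05b060, 0x5b05c05b, 94, 393307] 42 (by decide +kernel)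

theorem a814 : I.AllS P (I.gen P S808) m813 :=
  (a809 I B E).ext L812 (by decide +kernel)

theorem a816 : I.AllS P (I.gen P S815) (msk S815) :=
  Impl.allS_gen_of (a814 I B E) (by decide +kernel)

theorem lo818 : 30 * Nat.card (I.gen P S815) ≤ Nat.card (I.gen P S808) :=
  BImpl.low_lev (B := B) (a814 I B E) b817 [0, 99, 105, 413795, 413793, 102, 97, 103, 401506, 0x61062068, 405605, 405609, 98, 417892, 0x61069061, 397416, 397411, 100, 397413, 397412, 104, 397417, 409700, 417896, 409704, 101, 0x61062069, 397410, 397415, 413797] 30 (by decide +kernel)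

theorem a820 : I.AllS P (I.gen P S819) (msk S819) :=
  Impl.allS_gen_of (a816 I B E) (by decide +kernel)

theorem lo822 : 2 * Nat.card (I.gen P S819) ≤ Nat.card (I.gen P S815) :=
  BImpl.low_lev (B := B) (a816 I B E) b821 [0, 106] 2 (by decide +kernel)

theorem low823 : 126000 ≤ Nat.card (KS σ (S.ω 1)) :=
  le_trans (by decide +kernel) (le_of_low (lo804 I B E) (le_of_low (lo811 I B E) (le_of_low (lo818 I B E) (le_of_low (lo822 I B E) (Nat.succ_le_of_lt Nat.card_pos)))))

theorem a826 : I.AllS P (KS σ (S.ω 1)) m825 :=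
  (a800 I B E).ext L824 (by decide +kernel)

theorem rp835 : CovOn (C := CF) B S σ (0 :: JN) 1 (B.vd b3) U785 (V.cube P C827 Q206) 0xffffffffffffffffffffffffffffffffffffffffffffffffffffffffffffffffffffffffffffffffffffffffffffffffffffffffffffffffffffffffffffffffffffffffffffffffffffffffffffffffffffffffffffffffffffffffffffffffffffffffffffffffffffffffffffffffffffffffffffffffffffffffffffffffffffffffffffffffffffffffffffffffffffffffffffffffffffffffffffffffffffffffffffffffffffffffffffffff :=
  Over.covOn (C := CF) B E (allH S) _ _ _ _ _ R833 _ ck834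

theorem cv836 : ∀ h : (I.gen P S1), S.g • σ h • S.ω 1 ∈ DS σ S.ω (0 :: JN) :=
  (rp835 I B E).node (ob213 I B) (sc795 I B E) (a826 I B E) (by decide +kernel)

theorem ak840 : I.AllS P (KS σ (S.ω 2)) (msk (mapL hd L839)) :=
  E.allS_K (allH S) P 2 L839 (by decide +kernel)

theorem a843 : I.AllS P (KS σ (S.ω 2)) m842 :=
  (ak840 I B E).ext L841 (by decide +kernel)

theorem a845 : I.AllS P (I.gen P S844) (msk S844) :=
  Impl.allS_gen_of (a843 I B E) (by decide +kernel)

theorem lo847 : 14 * Nat.card (I.gen P S844) ≤ Nat.card (KS σ (S.ω 2)) :=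
  BImpl.low_lev (B := B) (a843 I B E) b846 [0, 115, 127, 471159, 467077, 119, 471161, 520312, 114, 471168, 467069, 467078, 133, 134] 14 (by decide +kernel)

theorem a850 : I.AllS P (I.gen P S844) m849 :=
  (a845 I B E).ext L848 (by decide +kernel)

theorem a852 : I.AllS P (I.gen P S851) (msk S851) :=
  Impl.allS_gen_of (a850 I B E) (by decide +kernel)

theorem lo854 : 36 * Nat.card (I.gen P S851) ≤ Nat.card (I.gen P S844) :=
  BImpl.low_lev (B := B) (a850 I B E) b853 [0, 585863, 577675, 585867, 0x8708e088, 589968, 569485, 553102, 581776, 589959, 0x8708e08f, 561290, 135, 139, 561295, 577673, 142, 137, 136, 585869, 144, 557199, 553095, 143, 0x8708d08f, 553104, 141, 561296, 553101, 557193, 553100, 589966, 569487, 557191, 585871, 577672] 36 (by decide +kernel)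

theorem a857 : I.AllS P (I.gen P S851) m856 :=
  (a852 I B E).ext L855 (by decide +kernel)

theorem a859 : I.AllS P (I.gen P S858) (msk S858) :=
  Impl.allS_gen_of (a857 I B E) (by decide +kernel)

theorem lo861 : 10 * Nat.card (I.gen P S858) ≤ Nat.card (I.gen P S851) :=
  BImpl.low_lev (B := B) (a857 I B E) b860 [0, 149, 145, 146, 594068, 602259, 594065, 148, 594066, 147] 10 (by decide +kernel)

theorem low862 : 5040 ≤ Nat.card (KS σ (S.ω 2)) :=
  le_trans (by decide +kernel) (le_of_low (lo847 I B E) (le_of_low (lo854 I B E) (le_of_low (lo861 I B E) (Nat.succ_le_of_lt Nat.card_pos))))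

theorem a865 : I.AllS P (KS σ (S.ω 2)) m864 :=
  (a843 I B E).ext L863 (by decide +kernel)

theorem rp879 : CovOn (C := CF) B S σ (0 :: JN) 2 (B.vd b3) U785 (V.cube P C866 Q206) 0xffffffffffffffffffffffffffffffffffffffffffffffffffffffffffffffffffffffffffffffffffffffffffffffffffffffffffffffffffffffffffffffffffffffffffffffffffffffffffffffffffffffffffffffffffffffffffffffffffffffffffffffffffffffffffffffffffffffffffffffffffffffffffffffffffffffffffffffffffffffffffffffffffffffffffffffffffffffffffffffffffffffffffffffffffffffffffffffff :=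
  Over.covOn (C := CF) B E (allH S) _ _ _ _ _ R877 _ ck878

theorem cv880 : ∀ h : (I.gen P S1), S.g • σ h • S.ω 2 ∈ DS σ S.ω (0 :: JN) :=
  (rp879 I B E).node (ob213 I B) (sc795 I B E) (a865 I B E) (by decide +kernel)

theorem ak884 : I.AllS P (KS σ (S.ω 3)) (msk (mapL hd L883)) :=
  E.allS_K (allH S) P 3 L883 (by decide +kernel)

theorem a887 : I.AllS P (KS σ (S.ω 3)) m886 :=
  (ak884 I B E).ext L885 (by decide +kernel)

theorem a889 : I.AllS P (I.gen P S888) (msk S888) :=
  Impl.allS_gen_of (a887 I B E) (by decide +kernel)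

theorem lo891 : 32 * Nat.card (I.gen P S888) ≤ Nat.card (KS σ (S.ω 3)) :=
  BImpl.low_lev (B := B) (a887 I B E) b890 [0, 164, 684207, 676010, 671916, 172, 700584, 684192, 676012, 680112, 170, 671914, 684200, 684205, 168, 165, 177, 167, 166, 680115, 684203, 176, 181, 671921, 676017, 671918, 700587, 175, 171, 696498, 174, 680102] 32 (by decide +kernel)

theorem a894 : I.AllS P (I.gen P S888) m893 :=
  (a889 I B E).ext L892 (by decide +kernel)

theorem a896 : I.AllS P (I.gen P S895) (msk S895) :=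
  Impl.allS_gen_of (a894 I B E) (by decide +kernel)

theorem lo898 : 42 * Nat.card (I.gen P S895) ≤ Nat.card (I.gen P S888) :=
  BImpl.low_lev (B := B) (a894 I B E) b897 [0, 191, 190, 753848, 0xb60bc0be, 753853, 749754, 757949, 753852, 0xb60bd0bf, 185, 745659, 757945, 778425, 745656, 774329, 188, 0xb80b80bf, 745655, 762047, 0xba0bf0bd, 0xb60b80bd, 0xb90be0bc, 757950, 745661, 749756, 745658, 186, 182, 762042, 745663, 184, 189, 0xb70bc0bf, 0xb70b70bc, 778424, 0xb60bf0b9, 778429, 749751, 183, 0xb60ba0bf, 745660] 42 (by decide +kernel)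

theorem a901 : I.AllS P (I.gen P S895) m900 :=
  (a896 I B E).ext L899 (by decide +kernel)

theorem a903 : I.AllS P (I.gen P S902) (msk S902) :=
  Impl.allS_gen_of (a901 I B E) (by decide +kernel)

theorem lo905 : 30 * Nat.card (I.gen P S902) ≤ Nat.card (I.gen P S895) :=
  BImpl.low_lev (B := B) (a901 I B E) b904 [0, 786624, 786627, 807105, 0xc00c10c2, 194, 786625, 0xc00c10c5, 0xc00c30c5, 798916, 803008, 794819, 0xc00c10c4, 786629, 0xc00c00c4, 794817, 196, 0xc10c20c4, 192, 790725, 197, 794820, 798915, 786628, 790724, 794818, 195, 790722, 798917, 193] 30 (by decide +kernel)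

theorem a907 : I.AllS P (I.gen P S906) (msk S906) :=
  Impl.allS_gen_of (a903 I B E) (by decide +kernel)

theorem lo909 : 2 * Nat.card (I.gen P S906) ≤ Nat.card (I.gen P S902) :=
  BImpl.low_lev (B := B) (a903 I B E) b908 [0, 198] 2 (by decide +kernel)

theorem low910 : 80640 ≤ Nat.card (KS σ (S.ω 3)) :=
  le_trans (by decide +kernel) (le_of_low (lo891 I B E) (le_of_low (lo898 I B E) (le_of_low (lo905 I B E) (le_of_low (lo909 I B E) (Nat.succ_le_of_lt Nat.card_pos)))))

theorem a913 : I.AllS P (KS σ (S.ω 3)) m912 :=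
  (a887 I B E).ext L911 (by decide +kernel)

theorem rp919 : CovOn (C := CF) B S σ (0 :: JN) 3 (B.vd b3) U785 (V.cube P C914 Q206) 0xffffffffffffffffffffffffffffffffffffffffffffffffffffffffffffffffffffffffffffffffffffffffffffffffffffffffffffffffffffffffffffffffffffffffffffffffffffffffffffffffffffffffffffffffffffffffffffffffffffffffffffffffffffffffffffffffffffffffffffffffffffffffffffffffffffffffffffffffffffffffffffffffffffffffffffffffffffffffffffffffffffffffffffffffffffffffffffffff :=
  Over.covOn (C := CF) B E (allH S) _ _ _ _ _ R917 _ ck918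

theorem cv920 : ∀ h : (I.gen P S1), S.g • σ h • S.ω 3 ∈ DS σ S.ω (0 :: JN) :=
  (rp919 I B E).node (ob213 I B) (sc795 I B E) (a913 I B E) (by decide +kernel)

theorem ak924 : I.AllS P (KS σ (S.ω 4)) (msk (mapL hd L923)) :=
  E.allS_K (allH S) P 4 L923 (by decide +kernel)

theorem a927 : I.AllS P (KS σ (S.ω 4)) m926 :=
  (ak924 I B E).ext L925 (by decide +kernel)

theorem a929 : I.AllS P (I.gen P S928) (msk S928) :=
  Impl.allS_gen_of (a927 I B E) (by decide +kernel)

theorem lo931 : 24 * Nat.card (I.gen P S928) ≤ Nat.card (KS σ (S.ω 4)) :=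
  BImpl.low_lev (B := B) (a927 I B E) b930 [852179, 0, 839892, 839885, 213, 219, 210, 843996, 843990, 205, 843993, 222, 839896, 843999, 839890, 839902, 843986, 221, 839897, 220, 839895, 208, 206, 211] 24 (by decide +kernel)

theorem a934 : I.AllS P (I.gen P S928) m933 :=
  (a929 I B E).ext L932 (by decide +kernel)

theorem a936 : I.AllS P (I.gen P S935) (msk S935) :=
  Impl.allS_gen_of (a934 I B E) (by decide +kernel)

theorem lo938 : 30 * Nat.card (I.gen P S935) ≤ Nat.card (I.gen P S928) :=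
  BImpl.low_lev (B := B) (a934 I B E) b937 [934114, 0, 226, 921829, 938213, 0xe30e40e1, 925923, 227, 0xe10e20e1, 930020, 934113, 0xe10e20e3, 921826, 0xe30e30e4, 0xe10e50e3, 934116, 229, 938209, 925921, 921825, 921828, 930021, 925925, 938211, 0xe30e50e1, 228, 930019, 225, 0xe10e50e5, 0xe10e50e1] 30 (by decide +kernel)

theorem a940 : I.AllS P (I.gen P S939) (msk S939) :=
  Impl.allS_gen_of (a936 I B E) (by decide +kernel)

theorem lo942 : 2 * Nat.card (I.gen P S939) ≤ Nat.card (I.gen P S935) :=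
  BImpl.low_lev (B := B) (a936 I B E) b941 [0, 230] 2 (by decide +kernel)

theorem low943 : 1440 ≤ Nat.card (KS σ (S.ω 4)) :=
  le_trans (by decide +kernel) (le_of_low (lo931 I B E) (le_of_low (lo938 I B E) (le_of_low (lo942 I B E) (Nat.succ_le_of_lt Nat.card_pos))))

theorem a946 : I.AllS P (KS σ (S.ω 4)) m945 :=
  (a927 I B E).ext L944 (by decide +kernel)

theorem rp962 : CovOn (C := CF) B S σ (0 :: JN) 4 (B.vd b3) U785 (V.cube P C947 Q206) 0xffffffffffffffffffffffffffffffffffffffffffffffffffffffffffffffffffffffffffffffffffffffffffffffffffffffffffffffffffffffffffffffffffffffffffffffffffffffffffffffffffffffffffffffffffffffffffffffffffffffffffffffffffffffffffffffffffffffffffffffffffffffffffffffffffffffffffffffffffffffffffffffffffffffffffffffffffffffffffffffffffffffffffffffffffffffffffffffff :=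
  Over.covOn (C := CF) B E (allH S) _ _ _ _ _ R960 _ ck961

theorem cv963 : ∀ h : (I.gen P S1), S.g • σ h • S.ω 4 ∈ DS σ S.ω (0 :: JN) :=
  (rp962 I B E).node (ob213 I B) (sc795 I B E) (a946 I B E) (by decide +kernel)

theorem ak967 : I.AllS P (KS σ (S.ω 6)) (msk (mapL hd L966)) :=
  E.allS_K (allH S) P 6 L966 (by decide +kernel)

theorem a970 : I.AllS P (KS σ (S.ω 6)) m969 :=
  (ak967 I B E).ext L968 (by decide +kernel)

theorem a972 : I.AllS P (I.gen P S971) (msk S971) :=
  Impl.allS_gen_of (a970 I B E) (by decide +kernel)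

theorem lo974 : 50 * Nat.card (I.gen P S971) ≤ Nat.card (KS σ (S.ω 6)) :=
  BImpl.low_lev (B := B) (a970 I B E) b973 [0, 240, 979200, 983293, 251, 239, 248, 256, 983291, 979187, 979185, 257, 983294, 999678, 995586, 995574, 979189, 983298, 995573, 254, 999670, 1007863, 979183, 991471, 983296, 979199, 999681, 991475, 244, 243, 991483, 255, 242, 983280, 979194, 991489, 979191, 979197, 247, 246, 979190, 979192, 258, 1011956, 253, 245, 999677, 979202, 1011962, 995582] 50 (by decide +kernel)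

theorem a977 : I.AllS P (I.gen P S971) m976 :=
  (a972 I B E).ext L975 (by decide +kernel)

theorem a979 : I.AllS P (I.gen P S978) (msk S978) :=
  Impl.allS_gen_of (a977 I B E) (by decide +kernel)

theorem lo981 : 10 * Nat.card (I.gen P S978) ≤ Nat.card (I.gen P S971) :=
  BImpl.low_lev (B := B) (a977 I B E) b980 [0x103104, 0x104106, 0, 261, 0x103105, 0x104104, 0x103106, 262, 259, 260] 10 (by decide +kernel)

theorem low982 : 500 ≤ Nat.card (KS σ (S.ω 6)) :=
  le_trans (by decide +kernel) (le_of_low (lo974 I B E) (le_of_low (lo981 I B E) (Nat.succ_le_of_lt Nat.card_pos)))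

theorem a985 : I.AllS P (KS σ (S.ω 6)) m984 :=
  (a970 I B E).ext L983 (by decide +kernel)

theorem rp1001 : CovOn (C := CF) B S σ (0 :: JN) 6 (B.vd b3) U785 (V.cube P C986 Q206) 0xffffffffffffffffffffffffffffffffffffffffffffffffffffffffffffffffffffffffffffffffffffffffffffffffffffffffffffffffffffffffffffffffffffffffffffffffffffffffffffffffffffffffffffffffffffffffffffffffffffffffffffffffffffffffffffffffffffffffffffffffffffffffffffffffffffffffffffffffffffffffffffffffffffffffffffffffffffffffffffffffffffffffffffffffffffffffffffffff :=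
  Over.covOn (C := CF) B E (allH S) _ _ _ _ _ R999 _ ck1000

theorem cv1002 : ∀ h : (I.gen P S1), S.g • σ h • S.ω 6 ∈ DS σ S.ω (0 :: JN) :=
  (rp1001 I B E).node (ob213 I B) (sc795 I B E) (a985 I B E) (by decide +kernel)

theorem ak1006 : I.AllS P (KS σ (S.ω 7)) (msk (mapL hd L1005)) :=
  E.allS_K (allH S) P 7 L1005 (by decide +kernel)

theorem a1009 : I.AllS P (KS σ (S.ω 7)) m1008 :=
  (ak1006 I B E).ext L1007 (by decide +kernel)

theorem a1011 : I.AllS P (I.gen P S1010) (msk S1010) :=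
  Impl.allS_gen_of (a1009 I B E) (by decide +kernel)

theorem lo1013 : 24 * Nat.card (I.gen P S1010) ≤ Nat.card (KS σ (S.ω 7)) :=
  BImpl.low_lev (B := B) (a1009 I B E) b1012 [0, 285, 283, 270, 274, 0x10d112, 280, 269, 0x10d116, 272, 279, 282, 0x10c11a, 275, 0x10c118, 0x10c113, 268, 0x11011a, 0x11211d, 0x110112, 0x11711a, 0x112118, 0x11011b, 0x10c112] 24 (by decide +kernel)

theorem a1016 : I.AllS P (I.gen P S1010) m1015 :=
  (a1011 I B E).ext L1014 (by decide +kernel)

theorem a1018 : I.AllS P (I.gen P S1017) (msk S1017) :=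
  Impl.allS_gen_of (a1016 I B E) (by decide +kernel)

theorem lo1020 : 10 * Nat.card (I.gen P S1017) ≤ Nat.card (I.gen P S1010) :=
  BImpl.low_lev (B := B) (a1016 I B E) b1019 [0, 0x11e120, 0x11e12011f, 0x12011f, 0x11e11f120, 0x11e11f, 0x11f120, 288, 287, 286] 10 (by decide +kernel)

theorem low1021 : 240 ≤ Nat.card (KS σ (S.ω 7)) :=
  le_trans (by decide +kernel) (le_of_low (lo1013 I B E) (le_of_low (lo1020 I B E) (Nat.succ_le_of_lt Nat.card_pos)))

theorem a1024 : I.AllS P (KS σ (S.ω 7)) m1023 :=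
  (a1009 I B E).ext L1022 (by decide +kernel)

theorem rp1049 : CovOn (C := CF) B S σ (0 :: JN) 7 (B.vd b3) U785 (V.cube P C1025 Q206) 0xffffffffffffffffffffffffffffffffffffffffffffffffffffffffffffffffffffffffffffffffffffffffffffffffffffffffffffffffffffffffffffffffffffffffffffffffffffffffffffffffffffffffffffffffffffffffffffffffffffffffffffffffffffffffffffffffffffffffffffffffffffffffffffffffffffffffffffffffffffffffffffffffffffffffffffffffffffffffffffffffffffffffffffffffffffffffffffffff :=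
  Over.covOn (C := CF) B E (allH S) _ _ _ _ _ R1047 _ ck1048

theorem cv1050 : ∀ h : (I.gen P S1), S.g • σ h • S.ω 7 ∈ DS σ S.ω (0 :: JN) :=
  (rp1049 I B E).node (ob213 I B) (sc795 I B E) (a1024 I B E) (by decide +kernel)

theorem ak1054 : I.AllS P (KS σ (S.ω 8)) (msk (mapL hd L1053)) :=
  E.allS_K (allH S) P 8 L1053 (by decide +kernel)

theorem a1057 : I.AllS P (KS σ (S.ω 8)) m1056 :=
  (ak1054 I B E).ext L1055 (by decide +kernel)

theorem a1059 : I.AllS P (I.gen P S1058) (msk S1058) :=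
  Impl.allS_gen_of (a1057 I B E) (by decide +kernel)

theorem lo1061 : 128 * Nat.card (I.gen P S1058) ≤ Nat.card (KS σ (S.ω 8)) :=
  BImpl.low_lev (B := B) (a1057 I B E) b1060 [0, 0x133131, 0x130134, 299, 309, 0x13d130, 0x12f13d, 0x12b135, 0x128137, 0x12812e, 0x12d129, 0x12812d, 303, 0x128131, 0x130128, 0x128134, 311, 0x127133, 310, 0x12b138, 312, 0x129137, 0x12713b, 305, 296, 0x12d12f, 0x12812b, 0x137134, 0x12712e133, 295, 0x12712b, 0x12d130, 0x12d136, 297, 0x136134, 0x127132, 0x13813a, 0x129135, 0x12912c, 0x13c13d, 300, 0x12713e137, 0x12712f, 0x12813113e, 0x12d12b, 301, 0x12912e, 0x12c132, 302, 0x12c12a, 0x12713c, 0x127130, 304, 0x13e135, 0x12d13d, 0x12712e, 0x12e13e, 0x13013a, 0x12d128, 0x136128, 0x129131, 0x12b130, 0x12912f, 0x13d12e, 0x127138, 0x12712d, 0x127134, 0x12b12e, 0x12712c, 0x129136, 0x129134, 0x13313e, 0x127135, 0x13313d, 0x12913613d, 316, 307, 0x130129, 0x12c13d, 0x13e12d, 0x12d134, 0x12b13d, 317, 0x12f138, 0x12713e, 0x12713d, 0x12e138, 0x12d137, 0x12c135,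 0x12c130, 0x13112d, 0x12e134, 0x13112f, 0x12e130, 0x12d13c, 0x12f136, 0x12913d, 0x137135, 0x136130, 318, 0x13013c, 0x12c12f, 0x12e12e, 0x131136, 0x12e12d, 0x13512e, 0x12c134, 0x12d12e, 0x12712e12d, 0x12813d, 0x13312d, 0x13112c, 0x12813e, 0x12c12c, 0x13d12a, 0x12c12e, 0x12f12c, 0x13013b, 0x12c131, 0x13712e, 0x12b13e, 0x13612e, 0x12e12c, 0x131135, 0x12c136, 0x12913e, 0x12f131, 0x12e131] 128 (by decide +kernel)

theorem a1064 : I.AllS P (I.gen P S1058) m1063 :=
  (a1059 I B E).ext L1062 (by decide +kernel)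

theorem a1066 : I.AllS P (I.gen P S1065) (msk S1065) :=
  Impl.allS_gen_of (a1064 I B E) (by decide +kernel)

theorem lo1068 : 24 * Nat.card (I.gen P S1065) ≤ Nat.card (I.gen P S1058) :=
  BImpl.low_lev (B := B) (a1064 I B E) b1067 [0x145141, 0x140143, 0x13f140141, 321, 0x140145, 0x13f143, 0x13f142, 320, 325, 0x13f144144, 0x14513f, 0x141141, 322, 0x13f144, 0x14513f145, 324, 0x145144, 0x13f145, 0x13f140, 323, 0x142145, 319, 0x141140, 0] 24 (by decide +kernel)

theorem a1071 : I.AllS P (I.gen P S1065) m1070 :=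
  (a1066 I B E).ext L1069 (by decide +kernel)

theorem a1073 : I.AllS P (I.gen P S1072) (msk S1072) :=
  Impl.allS_gen_of (a1071 I B E) (by decide +kernel)

theorem lo1075 : 10 * Nat.card (I.gen P S1072) ≤ Nat.card (I.gen P S1065) :=
  BImpl.low_lev (B := B) (a1071 I B E) b1074 [0, 0x14714714a, 0x148149, 0x14714a, 330, 327, 0x147147, 328, 0x147149, 329] 10 (by decide +kernel)

theorem low1076 : 30720 ≤ Nat.card (KS σ (S.ω 8)) :=
  le_trans (by decide +kernel) (le_of_low (lo1061 I B E) (le_of_low (lo1068 I B E) (le_of_low (lo1075 I B E) (Nat.succ_le_of_lt Nat.card_pos))))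

theorem a1079 : I.AllS P (KS σ (S.ω 8)) m1078 :=
  (a1057 I B E).ext L1077 (by decide +kernel)

theorem rp1085 : CovOn (C := CF) B S σ (0 :: JN) 8 (B.vd b3) U785 (V.cube P C1080 Q206) 0xffffffffffffffffffffffffffffffffffffffffffffffffffffffffffffffffffffffffffffffffffffffffffffffffffffffffffffffffffffffffffffffffffffffffffffffffffffffffffffffffffffffffffffffffffffffffffffffffffffffffffffffffffffffffffffffffffffffffffffffffffffffffffffffffffffffffffffffffffffffffffffffffffffffffffffffffffffffffffffffffffffffffffffffffffffffffffffffff :=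
  Over.covOn (C := CF) B E (allH S) _ _ _ _ _ R1083 _ ck1084

theorem cv1086 : ∀ h : (I.gen P S1), S.g • σ h • S.ω 8 ∈ DS σ S.ω (0 :: JN) :=
  (rp1085 I B E).node (ob213 I B) (sc795 I B E) (a1079 I B E) (by decide +kernel)

theorem ak1090 : I.AllS P (KS σ (S.ω 9)) (msk (mapL hd L1089)) :=
  E.allS_K (allH S) P 9 L1089 (by decide +kernel)

theorem a1093 : I.AllS P (KS σ (S.ω 9)) m1092 :=
  (ak1090 I B E).ext L1091 (by decide +kernel)

theorem a1095 : I.AllS P (I.gen P S1094) (msk S1094) :=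
  Impl.allS_gen_of (a1093 I B E) (by decide +kernel)

theorem lo1097 : 128 * Nat.card (I.gen P S1094) ≤ Nat.card (KS σ (S.ω 9)) :=
  BImpl.low_lev (B := B) (a1093 I B E) b1096 [0, 0x155158, 0x155160, 0x153154, 359, 0x152166, 0x166153, 0x15815a, 0x167158, 0x15215a, 0x152159, 0x15b155, 0x15c158, 0x166163, 0x152167, 0x15b162, 0x15215515a, 0x16215a, 347, 0x166164, 0x15615a, 0x15615c, 0x152155159, 0x162159, 0x15f156, 0x15c167, 339, 0x152153, 0x156155, 0x152157155, 0x15215f155, 0x155156, 0x152154, 340, 0x155165, 338, 0x153166, 0x15715c, 0x15715a, 358, 0x15515b, 0x15c155, 0x158166, 0x15315a, 0x15a15d, 0x152157159, 0x155166, 0x15315c, 0x15c153, 0x15515c, 0x15215e167, 345, 0x167165, 0x154167, 0x15c156, 0x15a164, 0x156167, 0x15515a, 0x155159, 0x159161, 0x15715b, 0x15d167, 0x153167, 0x152155166, 346, 0x153155159, 0x15b15e, 0x152162159, 0x15415c, 0x155167, 0x15215715a, 0x15915d, 0x153159, 0x160166, 0x161166, 348, 0x159157, 0x15215c, 0x154166, 0x15215b, 0x156157, 0x163154, 0x152163,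 354, 0x15915b, 353, 0x155164, 0x157164, 0x153165, 0x15615d, 0x152155, 0x154162, 0x152162, 0x152157, 0x15215e, 0x157157, 0x152163155, 0x157162, 0x162156, 0x155157, 0x163155, 0x157161, 0x157152, 0x15515d, 344, 343, 0x154155, 0x153156, 349, 0x153155, 351, 352, 0x160156, 0x15c159, 0x15515e, 342, 0x156164, 355, 341, 0x15d15d, 0x153160, 0x15715f, 0x15215f, 0x15815e, 0x153162, 0x155161, 0x152161, 0x155152] 128 (by decide +kernel)

theorem a1100 : I.AllS P (I.gen P S1094) m1099 :=
  (a1095 I B E).ext L1098 (by decide +kernel)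

theorem a1102 : I.AllS P (I.gen P S1101) (msk S1101) :=
  Impl.allS_gen_of (a1100 I B E) (by decide +kernel)

theorem lo1104 : 5 * Nat.card (I.gen P S1101) ≤ Nat.card (I.gen P S1094) :=
  BImpl.low_lev (B := B) (a1100 I B E) b1103 [0, 361, 362, 363, 360] 5 (by decide +kernel)

theorem low1105 : 640 ≤ Nat.card (KS σ (S.ω 9)) :=
  le_trans (by decide +kernel) (le_of_low (lo1097 I B E) (le_of_low (lo1104 I B E) (Nat.succ_le_of_lt Nat.card_pos)))

theorem a1108 : I.AllS P (KS σ (S.ω 9)) m1107 :=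
  (a1093 I B E).ext L1106 (by decide +kernel)

theorem rp1119 : CovOn (C := CF) B S σ (0 :: JN) 9 (B.vd b3) U785 (V.cube P C1109 Q206) 0xffffffffffffffffffffffffffffffffffffffffffffffffffffffffffffffffffffffffffffffffffffffffffffffffffffffffffffffffffffffffffffffffffffffffffffffffffffffffffffffffffffffffffffffffffffffffffffffffffffffffffffffffffffffffffffffffffffffffffffffffffffffffffffffffffffffffffffffffffffffffffffffffffffffffffffffffffffffffffffffffffffffffffffffffffffffffffffffff :=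
  Over.covOn (C := CF) B E (allH S) _ _ _ _ _ R1117 _ ck1118

theorem cv1120 : ∀ h : (I.gen P S1), S.g • σ h • S.ω 9 ∈ DS σ S.ω (0 :: JN) :=
  (rp1119 I B E).node (ob213 I B) (sc795 I B E) (a1108 I B E) (by decide +kernel)

theorem cov : ∀ j ∈ JN, ∀ h : (I.gen P S1), S.g • σ h • S.ω j ∈ DS σ S.ω (0 :: JN) :=
  List.forall_mem_cons.2 ⟨(cv836 I B E), List.forall_mem_cons.2 ⟨(cv880 I B E), List.forall_mem_cons.2 ⟨(cv920 I B E), List.forall_mem_cons.2 ⟨(cv963 I B E), List.forall_mem_cons.2 ⟨(cv1002 I B E), List.forall_mem_cons.2 ⟨(cv1050 I B E), List.forall_mem_cons.2 ⟨(cv1086 I B E), List.forall_mem_cons.2 ⟨(cv1120 I B E), List.forall_mem_nil _⟩⟩⟩⟩⟩⟩⟩⟩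

theorem low : ∀ j ∈ JN, 177408000 ≤ NF j * Nat.card (KS σ (S.ω j)) :=
  List.forall_mem_cons.2 ⟨le_trans (b := NF 1 * 126000) (by decide +kernel) (Nat.mul_le_mul_left _ (low823 I B E)), List.forall_mem_cons.2 ⟨le_trans (b := NF 2 * 5040) (by decide +kernel) (Nat.mul_le_mul_left _ (low862 I B E)), List.forall_mem_cons.2 ⟨le_trans (b := NF 3 * 80640) (by decide +kernel) (Nat.mul_le_mul_left _ (low910 I B E)), List.forall_mem_cons.2 ⟨le_trans (b := NF 4 * 1440) (by decide +kernel) (Nat.mul_le_mul_left _ (low943 I B E)), List.forall_mem_cons.2 ⟨le_trans (b := NF 6 * 500) (by decide +kernel) (Nat.mul_le_mul_left _ (low982 I B E)), List.forall_mem_cons.2 ⟨le_trans (b := NF 7 * 240) (by decide +kernel) (Nat.mul_le_mul_left _ (low1021 I B E)), List.forall_mem_cons.2 ⟨le_trans (b := NF 8 * 30720) (by decide +kernel) (Nat.mul_le_mul_left _ (low1076 I B E)), List.forall_mem_cons.2 ⟨le_trans (b := NF 9 * 640) (by decide +kernel) (Nat.mul_le_mul_left _ (low1105 I B E)), List.forall_mem_nil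 _⟩⟩⟩⟩⟩⟩⟩⟩

end Cfsg.Lib.Spor.HNU
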