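import Cfsg.Agent.Spor.J1D0

/-! Generated certificate checks. -/

set_option autoImplicit false
set_option maxRecDepth 100000
set_option linter.unusedVariables false
set_option linter.unusedSectionVars false

namespace Cfsg.Lib.Spor.J1

open Cfsg.Lib.Spor.MG Cfsg.Lib.Spor.Bulk

variable {M : Type} [Monoid M] [Finite M] (I : Impl O M) {X : Type} [MulAction M X] (B : BImpl I V X)
include I B

theorem a2 : I.AllS P (I.gen P S1) (msk S1) :=
  Impl.allS_gen (W := []) (by decide +kernel)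

theorem card3 : Nat.card (I.gen P S1) = 1 :=
  by rw [show (I.gen P S1) = ⊥ from Impl.gen_nil]; exact Subgroup.card_bot

theorem a6 : I.AllS P (I.gen P S5) (msk S5) :=
  Impl.allS_gen (W := [3]) (by decide +kernel)

theorem le7 : (I.gen P S1) ≤ (I.gen P S5) :=
  Impl.gen_le (a6 I B) (by decide +kernel)

theorem a10 : I.AllS P (I.gen P S1) m9 :=
  (a2 I B).ext L8 (by decide +kernel)

theorem a14 : I.AllS P (I.gen P S5) m13 :=
  ((a6 I B).lor ((a10 I B).le (le7 I B))).ext L12 (by decide +kernel)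

theorem a17 : I.AllS P (I.gen P S1) m16 :=
  (a10 I B).ext L15 (by decide +kernel)

theorem pa18 : ∀ s ∈ S5, ∀ p, 0 ≤ p → p < 3 → I.PlainAt P (I.gen P S1) 4 3 s p :=
  Impl.plain_all (a17 I B) (a14 I B) 4 3 S5 W19 (by decide +kernel)

theorem lv20 : (I.gen P S5) ⊓ MulAction.stabilizer Mˣ (B.vd b11) = (I.gen P S1) ∧ (MulAction.orbit (I.gen P S5) (B.vd b11)).ncard = 3 ∧ Nat.card (I.gen P S5) = 3 * Nat.card (I.gen P S1) :=
  B.plain_lev (a14 I B) (a17 I B) 4 3 0 b11 (pa18 I B) (by decide +kernel)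

theorem card21 : Nat.card (I.gen P S5) = 3 :=
  by have h := (lv20 I B).2.2; rw [(card3 I B)] at h; exact h.trans (by norm_num)

theorem a24 : I.AllS P (I.gen P S23) (msk S23) :=
  Impl.allS_gen (W := [8, 3]) (by decide +kernel)

theorem le25 : (I.gen P S5) ≤ (I.gen P S23) :=
  Impl.gen_le (a24 I B) (by decide +kernel)

theorem a29 : I.AllS P (I.gen P S23) m28 :=
  ((a24 I B).lor ((a14 I B).le (le25 I B))).ext L27 (by decide +kernel)

theorem a32 : I.AllS P (I.gen P S5) m31 :=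
  (a14 I B).ext L30 (by decide +kernel)

theorem pa33 : ∀ s ∈ S23, ∀ p, 0 ≤ p → p < 19 → I.PlainAt P (I.gen P S5) 9 19 s p :=
  Impl.plain_all (a32 I B) (a29 I B) 9 19 S23 W34 (by decide +kernel)

theorem lv35 : (I.gen P S23) ⊓ MulAction.stabilizer Mˣ (B.vd b26) = (I.gen P S5) ∧ (MulAction.orbit (I.gen P S23) (B.vd b26)).ncard = 19 ∧ Nat.card (I.gen P S23) = 19 * Nat.card (I.gen P S5) :=
  B.plain_lev (a29 I B) (a32 I B) 9 19 5 b26 (pa33 I B) (by decide +kernel)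

theorem card36 : Nat.card (I.gen P S23) = 57 :=
  by have h := (lv35 I B).2.2; rw [(card21 I B)] at h; exact h.trans (by norm_num)

theorem a39 : I.AllS P (I.gen P S38) (msk S38) :=
  Impl.allS_gen (W := [29, 8, 3]) (by decide +kernel)

theorem le40 : (I.gen P S23) ≤ (I.gen P S38) :=
  Impl.gen_le (a39 I B) (by decide +kernel)

theorem a45 : I.AllS P (I.gen P S38) m44 :=
  ((a39 I B).lor ((a29 I B).le (le40 I B))).ext L43 (by decide +kernel)

theorem a77 : I.AllS P (I.gen P S23) m76 :=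
  (a29 I B).ext L75 (by decide +kernel)

theorem nt79 : BImpl.Nets (B := B) (P := P) [2] Q74 19 [N78] :=
  BImpl.Nets.cons (a77 I B) 2 N78 (by decide +kernel) (B.nets_nil Q74 19)

theorem nt81 : BImpl.Nets (B := B) (P := P) [7, 2] Q74 19 [N80, N78] :=
  BImpl.Nets.cons (a77 I B) 7 N80 (by decide +kernel) (nt79 I B)

theorem a84 : I.AllS P (I.gen P S23) m83 :=
  (a77 I B).ext L82 (by decide +kernel)

theorem ad85 : I.AllS P (dset (I.gen P S23) (I.lset P T42)) (Nat.lor m83 (msk T42)) :=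
  Impl.allS_dset (a84 I B) (a45 I B) (by decide +kernel)

theorem ob86 : B.Orb (I.gen P S23) (B.vd b26) Q74 19 :=
  (nt81 I B).orb b26 5 (by decide +kernel)

theorem lc87 : ∀ l ∈ (I.gen P S5), (I.u (P 28))⁻¹ * l * (I.u (P 28)) ∈ (I.gen P S23) :=
  Impl.lconj_gen (a84 I B) ((a45 I B).tb (i := 28) (by decide +kernel)) [23] (by decide +kernel)

theorem ak89 : I.AllS P (conjIn (I.gen P S23) (I.u (P 28))) (msk (mapL hd L88)) :=
  Impl.allS_conjIn (a84 I B) ((a45 I B).tb (i := 28) (by decide +kernel)) (by decide +kernel)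

theorem rp92 : BImpl.RepsOn (B := B) (I.gen P S23) (dset (I.gen P S23) (I.lset P T42)) (I.u (P 28)) (I.u (P 28)) (B.vd b26) (V.cube P C90 Q74) 524287 :=
  B.repsOn_of_chk (a84 I B) (ad85 I B) (a45 I B) 28 28 b26 _ R91 _ (by decide +kernel)

theorem dt93 : ∀ h ∈ (I.gen P S23), (I.u (P 28)) * h * (I.u (P 28)) ∈ (dset (I.gen P S23) (I.lset P T42)) :=
  B.dc_t (le_of_eq (lv35 I B).1) (lc87 I B) (ob86 I B) (ak89 I B) (rp92 I B) (by decide +kernel)

theorem ak95 : I.AllS P (conjIn (I.gen P S23) (I.u (P 48))) (msk (mapL hd L94)) :=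
  Impl.allS_conjIn (a84 I B) ((a45 I B).tb (i := 48) (by decide +kernel)) (by decide +kernel)

theorem rp98 : BImpl.RepsOn (B := B) (I.gen P S23) (dset (I.gen P S23) (I.lset P T42)) (I.u (P 48)) (I.u (P 28)) (B.vd b26) (V.cube P C96 Q74) 524287 :=
  B.repsOn_of_chk (a84 I B) (ad85 I B) (a45 I B) 48 28 b26 _ R97 _ (by decide +kernel)

theorem dt99 : ∀ h ∈ (I.gen P S23), (I.u (P 48)) * h * (I.u (P 28)) ∈ (dset (I.gen P S23) (I.lset P T42)) :=
  B.dc_t (le_of_eq (lv35 I B).1) (lc87 I B) (ob86 I B) (ak95 I B) (rp98 I B) (by decide +kernel)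

theorem ak101 : I.AllS P (conjIn (I.gen P S23) (I.u (P 49))) (msk (mapL hd L100)) :=
  Impl.allS_conjIn (a84 I B) ((a45 I B).tb (i := 49) (by decide +kernel)) (by decide +kernel)

theorem rp104 : BImpl.RepsOn (B := B) (I.gen P S23) (dset (I.gen P S23) (I.lset P T42)) (I.u (P 49)) (I.u (P 28)) (B.vd b26) (V.cube P C102 Q74) 524287 :=
  B.repsOn_of_chk (a84 I B) (ad85 I B) (a45 I B) 49 28 b26 _ R103 _ (by decide +kernel)

theorem dt105 : ∀ h ∈ (I.gen P S23), (I.u (P 49)) * h * (I.u (P 28)) ∈ (dset (I.gen P S23) (I.lset P T42)) :=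
  B.dc_t (le_of_eq (lv35 I B).1) (lc87 I B) (ob86 I B) (ak101 I B) (rp104 I B) (by decide +kernel)

theorem ak107 : I.AllS P (conjIn (I.gen P S23) (I.u (P 50))) (msk (mapL hd L106)) :=
  Impl.allS_conjIn (a84 I B) ((a45 I B).tb (i := 50) (by decide +kernel)) (by decide +kernel)

theorem rp110 : BImpl.RepsOn (B := B) (I.gen P S23) (dset (I.gen P S23) (I.lset P T42)) (I.u (P 50)) (I.u (P 28)) (B.vd b26) (V.cube P C108 Q74) 524287 :=
  B.repsOn_of_chk (a84 I B) (ad85 I B) (a45 I B) 50 28 b26 _ R109 _ (by decide +kernel)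

theorem dt111 : ∀ h ∈ (I.gen P S23), (I.u (P 50)) * h * (I.u (P 28)) ∈ (dset (I.gen P S23) (I.lset P T42)) :=
  B.dc_t (le_of_eq (lv35 I B).1) (lc87 I B) (ob86 I B) (ak107 I B) (rp110 I B) (by decide +kernel)

theorem ak113 : I.AllS P (conjIn (I.gen P S23) (I.u (P 51))) (msk (mapL hd L112)) :=
  Impl.allS_conjIn (a84 I B) ((a45 I B).tb (i := 51) (by decide +kernel)) (by decide +kernel)

theorem rp116 : BImpl.RepsOn (B := B) (I.gen P S23) (dset (I.gen P S23) (I.lset P T42)) (I.u (P 51)) (I.u (P 28)) (B.vd b26) (V.cube P C114 Q74) 524287 :=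
  B.repsOn_of_chk (a84 I B) (ad85 I B) (a45 I B) 51 28 b26 _ R115 _ (by decide +kernel)

theorem dt117 : ∀ h ∈ (I.gen P S23), (I.u (P 51)) * h * (I.u (P 28)) ∈ (dset (I.gen P S23) (I.lset P T42)) :=
  B.dc_t (le_of_eq (lv35 I B).1) (lc87 I B) (ob86 I B) (ak113 I B) (rp116 I B) (by decide +kernel)

theorem ak119 : I.AllS P (conjIn (I.gen P S23) (I.u (P 52))) (msk (mapL hd L118)) :=
  Impl.allS_conjIn (a84 I B) ((a45 I B).tb (i := 52) (by decide +kernel)) (by decide +kernel)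

theorem rp122 : BImpl.RepsOn (B := B) (I.gen P S23) (dset (I.gen P S23) (I.lset P T42)) (I.u (P 52)) (I.u (P 28)) (B.vd b26) (V.cube P C120 Q74) 524287 :=
  B.repsOn_of_chk (a84 I B) (ad85 I B) (a45 I B) 52 28 b26 _ R121 _ (by decide +kernel)

theorem dt123 : ∀ h ∈ (I.gen P S23), (I.u (P 52)) * h * (I.u (P 28)) ∈ (dset (I.gen P S23) (I.lset P T42)) :=
  B.dc_t (le_of_eq (lv35 I B).1) (lc87 I B) (ob86 I B) (ak119 I B) (rp122 I B) (by decide +kernel)

theorem ak125 : I.AllS P (conjIn (I.gen P S23) (I.u (P 53))) (msk (mapL hd L124)) :=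
  Impl.allS_conjIn (a84 I B) ((a45 I B).tb (i := 53) (by decide +kernel)) (by decide +kernel)

theorem rp128 : BImpl.RepsOn (B := B) (I.gen P S23) (dset (I.gen P S23) (I.lset P T42)) (I.u (P 53)) (I.u (P 28)) (B.vd b26) (V.cube P C126 Q74) 524287 :=
  B.repsOn_of_chk (a84 I B) (ad85 I B) (a45 I B) 53 28 b26 _ R127 _ (by decide +kernel)

theorem dt129 : ∀ h ∈ (I.gen P S23), (I.u (P 53)) * h * (I.u (P 28)) ∈ (dset (I.gen P S23) (I.lset P T42)) :=
  B.dc_t (le_of_eq (lv35 I B).1) (lc87 I B) (ob86 I B) (ak125 I B) (rp128 I B) (by decide +kernel)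

theorem ak131 : I.AllS P (conjIn (I.gen P S23) (I.u (P 54))) (msk (mapL hd L130)) :=
  Impl.allS_conjIn (a84 I B) ((a45 I B).tb (i := 54) (by decide +kernel)) (by decide +kernel)

theorem rp134 : BImpl.RepsOn (B := B) (I.gen P S23) (dset (I.gen P S23) (I.lset P T42)) (I.u (P 54)) (I.u (P 28)) (B.vd b26) (V.cube P C132 Q74) 524287 :=
  B.repsOn_of_chk (a84 I B) (ad85 I B) (a45 I B) 54 28 b26 _ R133 _ (by decide +kernel)

theorem dt135 : ∀ h ∈ (I.gen P S23), (I.u (P 54)) * h * (I.u (P 28)) ∈ (dset (I.gen P S23) (I.lset P T42)) :=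
  B.dc_t (le_of_eq (lv35 I B).1) (lc87 I B) (ob86 I B) (ak131 I B) (rp134 I B) (by decide +kernel)

theorem ak137 : I.AllS P (conjIn (I.gen P S23) (I.u (P 55))) (msk (mapL hd L136)) :=
  Impl.allS_conjIn (a84 I B) ((a45 I B).tb (i := 55) (by decide +kernel)) (by decide +kernel)

theorem rp140 : BImpl.RepsOn (B := B) (I.gen P S23) (dset (I.gen P S23) (I.lset P T42)) (I.u (P 55)) (I.u (P 28)) (B.vd b26) (V.cube P C138 Q74) 524287 :=
  B.repsOn_of_chk (a84 I B) (ad85 I B) (a45 I B) 55 28 b26 _ R139 _ (by decide +kernel)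

theorem dt141 : ∀ h ∈ (I.gen P S23), (I.u (P 55)) * h * (I.u (P 28)) ∈ (dset (I.gen P S23) (I.lset P T42)) :=
  B.dc_t (le_of_eq (lv35 I B).1) (lc87 I B) (ob86 I B) (ak137 I B) (rp140 I B) (by decide +kernel)

theorem ak143 : I.AllS P (conjIn (I.gen P S23) (I.u (P 56))) (msk (mapL hd L142)) :=
  Impl.allS_conjIn (a84 I B) ((a45 I B).tb (i := 56) (by decide +kernel)) (by decide +kernel)

theorem rp146 : BImpl.RepsOn (B := B) (I.gen P S23) (dset (I.gen P S23) (I.lset P T42)) (I.u (P 56)) (I.u (P 28)) (B.vd b26) (V.cube P C144 Q74) 524287 :=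
  B.repsOn_of_chk (a84 I B) (ad85 I B) (a45 I B) 56 28 b26 _ R145 _ (by decide +kernel)

theorem dt147 : ∀ h ∈ (I.gen P S23), (I.u (P 56)) * h * (I.u (P 28)) ∈ (dset (I.gen P S23) (I.lset P T42)) :=
  B.dc_t (le_of_eq (lv35 I B).1) (lc87 I B) (ob86 I B) (ak143 I B) (rp146 I B) (by decide +kernel)

theorem ak149 : I.AllS P (conjIn (I.gen P S23) (I.u (P 57))) (msk (mapL hd L148)) :=
  Impl.allS_conjIn (a84 I B) ((a45 I B).tb (i := 57) (by decide +kernel)) (by decide +kernel)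

theorem rp152 : BImpl.RepsOn (B := B) (I.gen P S23) (dset (I.gen P S23) (I.lset P T42)) (I.u (P 57)) (I.u (P 28)) (B.vd b26) (V.cube P C150 Q74) 524287 :=
  B.repsOn_of_chk (a84 I B) (ad85 I B) (a45 I B) 57 28 b26 _ R151 _ (by decide +kernel)

theorem dt153 : ∀ h ∈ (I.gen P S23), (I.u (P 57)) * h * (I.u (P 28)) ∈ (dset (I.gen P S23) (I.lset P T42)) :=
  B.dc_t (le_of_eq (lv35 I B).1) (lc87 I B) (ob86 I B) (ak149 I B) (rp152 I B) (by decide +kernel)

theorem ak155 : I.AllS P (conjIn (I.gen P S23) (I.u (P 58))) (msk (mapL hd L154)) :=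
  Impl.allS_conjIn (a84 I B) ((a45 I B).tb (i := 58) (by decide +kernel)) (by decide +kernel)

theorem rp158 : BImpl.RepsOn (B := B) (I.gen P S23) (dset (I.gen P S23) (I.lset P T42)) (I.u (P 58)) (I.u (P 28)) (B.vd b26) (V.cube P C156 Q74) 524287 :=
  B.repsOn_of_chk (a84 I B) (ad85 I B) (a45 I B) 58 28 b26 _ R157 _ (by decide +kernel)

theorem dt159 : ∀ h ∈ (I.gen P S23), (I.u (P 58)) * h * (I.u (P 28)) ∈ (dset (I.gen P S23) (I.lset P T42)) :=
  B.dc_t (le_of_eq (lv35 I B).1) (lc87 I B) (ob86 I B) (ak155 I B) (rp158 I B) (by decide +kernel)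

theorem ak161 : I.AllS P (conjIn (I.gen P S23) (I.u (P 59))) (msk (mapL hd L160)) :=
  Impl.allS_conjIn (a84 I B) ((a45 I B).tb (i := 59) (by decide +kernel)) (by decide +kernel)

theorem rp164 : BImpl.RepsOn (B := B) (I.gen P S23) (dset (I.gen P S23) (I.lset P T42)) (I.u (P 59)) (I.u (P 28)) (B.vd b26) (V.cube P C162 Q74) 524287 :=
  B.repsOn_of_chk (a84 I B) (ad85 I B) (a45 I B) 59 28 b26 _ R163 _ (by decide +kernel)

theorem dt165 : ∀ h ∈ (I.gen P S23), (I.u (P 59)) * h * (I.u (P 28)) ∈ (dset (I.gen P S23) (I.lset P T42)) :=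
  B.dc_t (le_of_eq (lv35 I B).1) (lc87 I B) (ob86 I B) (ak161 I B) (rp164 I B) (by decide +kernel)

theorem ak167 : I.AllS P (conjIn (I.gen P S23) (I.u (P 60))) (msk (mapL hd L166)) :=
  Impl.allS_conjIn (a84 I B) ((a45 I B).tb (i := 60) (by decide +kernel)) (by decide +kernel)

theorem rp170 : BImpl.RepsOn (B := B) (I.gen P S23) (dset (I.gen P S23) (I.lset P T42)) (I.u (P 60)) (I.u (P 28)) (B.vd b26) (V.cube P C168 Q74) 524287 :=
  B.repsOn_of_chk (a84 I B) (ad85 I B) (a45 I B) 60 28 b26 _ R169 _ (by decide +kernel)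

theorem dt171 : ∀ h ∈ (I.gen P S23), (I.u (P 60)) * h * (I.u (P 28)) ∈ (dset (I.gen P S23) (I.lset P T42)) :=
  B.dc_t (le_of_eq (lv35 I B).1) (lc87 I B) (ob86 I B) (ak167 I B) (rp170 I B) (by decide +kernel)

theorem ak173 : I.AllS P (conjIn (I.gen P S23) (I.u (P 61))) (msk (mapL hd L172)) :=
  Impl.allS_conjIn (a84 I B) ((a45 I B).tb (i := 61) (by decide +kernel)) (by decide +kernel)

theorem rp176 : BImpl.RepsOn (B := B) (I.gen P S23) (dset (I.gen P S23) (I.lset P T42)) (I.u (P 61)) (I.u (P 28)) (B.vd b26) (V.cube P C174 Q74) 524287 :=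
  B.repsOn_of_chk (a84 I B) (ad85 I B) (a45 I B) 61 28 b26 _ R175 _ (by decide +kernel)

theorem dt177 : ∀ h ∈ (I.gen P S23), (I.u (P 61)) * h * (I.u (P 28)) ∈ (dset (I.gen P S23) (I.lset P T42)) :=
  B.dc_t (le_of_eq (lv35 I B).1) (lc87 I B) (ob86 I B) (ak173 I B) (rp176 I B) (by decide +kernel)

theorem ak179 : I.AllS P (conjIn (I.gen P S23) (I.u (P 62))) (msk (mapL hd L178)) :=
  Impl.allS_conjIn (a84 I B) ((a45 I B).tb (i := 62) (by decide +kernel)) (by decide +kernel)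

theorem rp182 : BImpl.RepsOn (B := B) (I.gen P S23) (dset (I.gen P S23) (I.lset P T42)) (I.u (P 62)) (I.u (P 28)) (B.vd b26) (V.cube P C180 Q74) 524287 :=
  B.repsOn_of_chk (a84 I B) (ad85 I B) (a45 I B) 62 28 b26 _ R181 _ (by decide +kernel)

theorem dt183 : ∀ h ∈ (I.gen P S23), (I.u (P 62)) * h * (I.u (P 28)) ∈ (dset (I.gen P S23) (I.lset P T42)) :=
  B.dc_t (le_of_eq (lv35 I B).1) (lc87 I B) (ob86 I B) (ak179 I B) (rp182 I B) (by decide +kernel)

theorem ak185 : I.AllS P (conjIn (I.gen P S23) (I.u (P 63))) (msk (mapL hd L184)) :=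
  Impl.allS_conjIn (a84 I B) ((a45 I B).tb (i := 63) (by decide +kernel)) (by decide +kernel)

theorem rp188 : BImpl.RepsOn (B := B) (I.gen P S23) (dset (I.gen P S23) (I.lset P T42)) (I.u (P 63)) (I.u (P 28)) (B.vd b26) (V.cube P C186 Q74) 524287 :=
  B.repsOn_of_chk (a84 I B) (ad85 I B) (a45 I B) 63 28 b26 _ R187 _ (by decide +kernel)

theorem dt189 : ∀ h ∈ (I.gen P S23), (I.u (P 63)) * h * (I.u (P 28)) ∈ (dset (I.gen P S23) (I.lset P T42)) :=
  B.dc_t (le_of_eq (lv35 I B).1) (lc87 I B) (ob86 I B) (ak185 I B) (rp188 I B) (by decide +kernel)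

theorem ak191 : I.AllS P (conjIn (I.gen P S23) (I.u (P 64))) (msk (mapL hd L190)) :=
  Impl.allS_conjIn (a84 I B) ((a45 I B).tb (i := 64) (by decide +kernel)) (by decide +kernel)

theorem rp194 : BImpl.RepsOn (B := B) (I.gen P S23) (dset (I.gen P S23) (I.lset P T42)) (I.u (P 64)) (I.u (P 28)) (B.vd b26) (V.cube P C192 Q74) 524287 :=
  B.repsOn_of_chk (a84 I B) (ad85 I B) (a45 I B) 64 28 b26 _ R193 _ (by decide +kernel)

theorem dt195 : ∀ h ∈ (I.gen P S23), (I.u (P 64)) * h * (I.u (P 28)) ∈ (dset (I.gen P S23) (I.lset P T42)) :=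
  B.dc_t (le_of_eq (lv35 I B).1) (lc87 I B) (ob86 I B) (ak191 I B) (rp194 I B) (by decide +kernel)

theorem ak197 : I.AllS P (conjIn (I.gen P S23) (I.u (P 65))) (msk (mapL hd L196)) :=
  Impl.allS_conjIn (a84 I B) ((a45 I B).tb (i := 65) (by decide +kernel)) (by decide +kernel)

theorem rp200 : BImpl.RepsOn (B := B) (I.gen P S23) (dset (I.gen P S23) (I.lset P T42)) (I.u (P 65)) (I.u (P 28)) (B.vd b26) (V.cube P C198 Q74) 524287 :=
  B.repsOn_of_chk (a84 I B) (ad85 I B) (a45 I B) 65 28 b26 _ R199 _ (by decide +kernel)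

theorem dt201 : ∀ h ∈ (I.gen P S23), (I.u (P 65)) * h * (I.u (P 28)) ∈ (dset (I.gen P S23) (I.lset P T42)) :=
  B.dc_t (le_of_eq (lv35 I B).1) (lc87 I B) (ob86 I B) (ak197 I B) (rp200 I B) (by decide +kernel)

theorem ak203 : I.AllS P (conjIn (I.gen P S23) (I.u (P 66))) (msk (mapL hd L202)) :=
  Impl.allS_conjIn (a84 I B) ((a45 I B).tb (i := 66) (by decide +kernel)) (by decide +kernel)

theorem rp206 : BImpl.RepsOn (B := B) (I.gen P S23) (dset (I.gen P S23) (I.lset P T42)) (I.u (P 66)) (I.u (P 28)) (B.vd b26) (V.cube P C204 Q74) 524287 :=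
  B.repsOn_of_chk (a84 I B) (ad85 I B) (a45 I B) 66 28 b26 _ R205 _ (by decide +kernel)

theorem dt207 : ∀ h ∈ (I.gen P S23), (I.u (P 66)) * h * (I.u (P 28)) ∈ (dset (I.gen P S23) (I.lset P T42)) :=
  B.dc_t (le_of_eq (lv35 I B).1) (lc87 I B) (ob86 I B) (ak203 I B) (rp206 I B) (by decide +kernel)

theorem ak209 : I.AllS P (conjIn (I.gen P S23) (I.u (P 67))) (msk (mapL hd L208)) :=
  Impl.allS_conjIn (a84 I B) ((a45 I B).tb (i := 67) (by decide +kernel)) (by decide +kernel)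

theorem rp212 : BImpl.RepsOn (B := B) (I.gen P S23) (dset (I.gen P S23) (I.lset P T42)) (I.u (P 67)) (I.u (P 28)) (B.vd b26) (V.cube P C210 Q74) 524287 :=
  B.repsOn_of_chk (a84 I B) (ad85 I B) (a45 I B) 67 28 b26 _ R211 _ (by decide +kernel)

theorem dt213 : ∀ h ∈ (I.gen P S23), (I.u (P 67)) * h * (I.u (P 28)) ∈ (dset (I.gen P S23) (I.lset P T42)) :=
  B.dc_t (le_of_eq (lv35 I B).1) (lc87 I B) (ob86 I B) (ak209 I B) (rp212 I B) (by decide +kernel)

theorem ak215 : I.AllS P (conjIn (I.gen P S23) (I.u (P 68))) (msk (mapL hd L214)) :=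
  Impl.allS_conjIn (a84 I B) ((a45 I B).tb (i := 68) (by decide +kernel)) (by decide +kernel)

theorem rp218 : BImpl.RepsOn (B := B) (I.gen P S23) (dset (I.gen P S23) (I.lset P T42)) (I.u (P 68)) (I.u (P 28)) (B.vd b26) (V.cube P C216 Q74) 524287 :=
  B.repsOn_of_chk (a84 I B) (ad85 I B) (a45 I B) 68 28 b26 _ R217 _ (by decide +kernel)

theorem dt219 : ∀ h ∈ (I.gen P S23), (I.u (P 68)) * h * (I.u (P 28)) ∈ (dset (I.gen P S23) (I.lset P T42)) :=
  B.dc_t (le_of_eq (lv35 I B).1) (lc87 I B) (ob86 I B) (ak215 I B) (rp218 I B) (by decide +kernel)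

theorem ak221 : I.AllS P (conjIn (I.gen P S23) (I.u (P 69))) (msk (mapL hd L220)) :=
  Impl.allS_conjIn (a84 I B) ((a45 I B).tb (i := 69) (by decide +kernel)) (by decide +kernel)

theorem rp224 : BImpl.RepsOn (B := B) (I.gen P S23) (dset (I.gen P S23) (I.lset P T42)) (I.u (P 69)) (I.u (P 28)) (B.vd b26) (V.cube P C222 Q74) 524287 :=
  B.repsOn_of_chk (a84 I B) (ad85 I B) (a45 I B) 69 28 b26 _ R223 _ (by decide +kernel)

theorem dt225 : ∀ h ∈ (I.gen P S23), (I.u (P 69)) * h * (I.u (P 28)) ∈ (dset (I.gen P S23) (I.lset P T42)) :=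
  B.dc_t (le_of_eq (lv35 I B).1) (lc87 I B) (ob86 I B) (ak221 I B) (rp224 I B) (by decide +kernel)

theorem ak227 : I.AllS P (conjIn (I.gen P S23) (I.u (P 70))) (msk (mapL hd L226)) :=
  Impl.allS_conjIn (a84 I B) ((a45 I B).tb (i := 70) (by decide +kernel)) (by decide +kernel)

theorem rp230 : BImpl.RepsOn (B := B) (I.gen P S23) (dset (I.gen P S23) (I.lset P T42)) (I.u (P 70)) (I.u (P 28)) (B.vd b26) (V.cube P C228 Q74) 524287 :=
  B.repsOn_of_chk (a84 I B) (ad85 I B) (a45 I B) 70 28 b26 _ R229 _ (by decide +kernel)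

theorem dt231 : ∀ h ∈ (I.gen P S23), (I.u (P 70)) * h * (I.u (P 28)) ∈ (dset (I.gen P S23) (I.lset P T42)) :=
  B.dc_t (le_of_eq (lv35 I B).1) (lc87 I B) (ob86 I B) (ak227 I B) (rp230 I B) (by decide +kernel)

theorem ak233 : I.AllS P (conjIn (I.gen P S23) (I.u (P 71))) (msk (mapL hd L232)) :=
  Impl.allS_conjIn (a84 I B) ((a45 I B).tb (i := 71) (by decide +kernel)) (by decide +kernel)

theorem rp236 : BImpl.RepsOn (B := B) (I.gen P S23) (dset (I.gen P S23) (I.lset P T42)) (I.u (P 71)) (I.u (P 28)) (B.vd b26) (V.cube P C234 Q74) 524287 :=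
  B.repsOn_of_chk (a84 I B) (ad85 I B) (a45 I B) 71 28 b26 _ R235 _ (by decide +kernel)

theorem dt237 : ∀ h ∈ (I.gen P S23), (I.u (P 71)) * h * (I.u (P 28)) ∈ (dset (I.gen P S23) (I.lset P T42)) :=
  B.dc_t (le_of_eq (lv35 I B).1) (lc87 I B) (ob86 I B) (ak233 I B) (rp236 I B) (by decide +kernel)

theorem ak239 : I.AllS P (conjIn (I.gen P S23) (I.u (P 72))) (msk (mapL hd L238)) :=
  Impl.allS_conjIn (a84 I B) ((a45 I B).tb (i := 72) (by decide +kernel)) (by decide +kernel)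

theorem rp242 : BImpl.RepsOn (B := B) (I.gen P S23) (dset (I.gen P S23) (I.lset P T42)) (I.u (P 72)) (I.u (P 28)) (B.vd b26) (V.cube P C240 Q74) 524287 :=
  B.repsOn_of_chk (a84 I B) (ad85 I B) (a45 I B) 72 28 b26 _ R241 _ (by decide +kernel)

theorem dt243 : ∀ h ∈ (I.gen P S23), (I.u (P 72)) * h * (I.u (P 28)) ∈ (dset (I.gen P S23) (I.lset P T42)) :=
  B.dc_t (le_of_eq (lv35 I B).1) (lc87 I B) (ob86 I B) (ak239 I B) (rp242 I B) (by decide +kernel)

theorem ak245 : I.AllS P (conjIn (I.gen P S23) (I.u (P 73))) (msk (mapL hd L244)) :=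
  Impl.allS_conjIn (a84 I B) ((a45 I B).tb (i := 73) (by decide +kernel)) (by decide +kernel)

theorem rp248 : BImpl.RepsOn (B := B) (I.gen P S23) (dset (I.gen P S23) (I.lset P T42)) (I.u (P 73)) (I.u (P 28)) (B.vd b26) (V.cube P C246 Q74) 524287 :=
  B.repsOn_of_chk (a84 I B) (ad85 I B) (a45 I B) 73 28 b26 _ R247 _ (by decide +kernel)

theorem dt249 : ∀ h ∈ (I.gen P S23), (I.u (P 73)) * h * (I.u (P 28)) ∈ (dset (I.gen P S23) (I.lset P T42)) :=
  B.dc_t (le_of_eq (lv35 I B).1) (lc87 I B) (ob86 I B) (ak245 I B) (rp248 I B) (by decide +kernel)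

theorem ak251 : I.AllS P (conjIn (I.gen P S23) (I.u (P 74))) (msk (mapL hd L250)) :=
  Impl.allS_conjIn (a84 I B) ((a45 I B).tb (i := 74) (by decide +kernel)) (by decide +kernel)

theorem rp254 : BImpl.RepsOn (B := B) (I.gen P S23) (dset (I.gen P S23) (I.lset P T42)) (I.u (P 74)) (I.u (P 28)) (B.vd b26) (V.cube P C252 Q74) 524287 :=
  B.repsOn_of_chk (a84 I B) (ad85 I B) (a45 I B) 74 28 b26 _ R253 _ (by decide +kernel)

theorem dt255 : ∀ h ∈ (I.gen P S23), (I.u (P 74)) * h * (I.u (P 28)) ∈ (dset (I.gen P S23) (I.lset P T42)) :=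
  B.dc_t (le_of_eq (lv35 I B).1) (lc87 I B) (ob86 I B) (ak251 I B) (rp254 I B) (by decide +kernel)

theorem ak257 : I.AllS P (conjIn (I.gen P S23) (I.u (P 75))) (msk (mapL hd L256)) :=
  Impl.allS_conjIn (a84 I B) ((a45 I B).tb (i := 75) (by decide +kernel)) (by decide +kernel)

theorem rp260 : BImpl.RepsOn (B := B) (I.gen P S23) (dset (I.gen P S23) (I.lset P T42)) (I.u (P 75)) (I.u (P 28)) (B.vd b26) (V.cube P C258 Q74) 524287 :=
  B.repsOn_of_chk (a84 I B) (ad85 I B) (a45 I B) 75 28 b26 _ R259 _ (by decide +kernel)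

theorem dt261 : ∀ h ∈ (I.gen P S23), (I.u (P 75)) * h * (I.u (P 28)) ∈ (dset (I.gen P S23) (I.lset P T42)) :=
  B.dc_t (le_of_eq (lv35 I B).1) (lc87 I B) (ob86 I B) (ak257 I B) (rp260 I B) (by decide +kernel)

theorem ak263 : I.AllS P (conjIn (I.gen P S23) (I.u (P 76))) (msk (mapL hd L262)) :=
  Impl.allS_conjIn (a84 I B) ((a45 I B).tb (i := 76) (by decide +kernel)) (by decide +kernel)

theorem rp266 : BImpl.RepsOn (B := B) (I.gen P S23) (dset (I.gen P S23) (I.lset P T42)) (I.u (P 76)) (I.u (P 28)) (B.vd b26) (V.cube P C264 Q74) 524287 :=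
  B.repsOn_of_chk (a84 I B) (ad85 I B) (a45 I B) 76 28 b26 _ R265 _ (by decide +kernel)

theorem dt267 : ∀ h ∈ (I.gen P S23), (I.u (P 76)) * h * (I.u (P 28)) ∈ (dset (I.gen P S23) (I.lset P T42)) :=
  B.dc_t (le_of_eq (lv35 I B).1) (lc87 I B) (ob86 I B) (ak263 I B) (rp266 I B) (by decide +kernel)

theorem ak269 : I.AllS P (conjIn (I.gen P S23) (I.u (P 77))) (msk (mapL hd L268)) :=
  Impl.allS_conjIn (a84 I B) ((a45 I B).tb (i := 77) (by decide +kernel)) (by decide +kernel)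

theorem rp272 : BImpl.RepsOn (B := B) (I.gen P S23) (dset (I.gen P S23) (I.lset P T42)) (I.u (P 77)) (I.u (P 28)) (B.vd b26) (V.cube P C270 Q74) 524287 :=
  B.repsOn_of_chk (a84 I B) (ad85 I B) (a45 I B) 77 28 b26 _ R271 _ (by decide +kernel)

theorem dt273 : ∀ h ∈ (I.gen P S23), (I.u (P 77)) * h * (I.u (P 28)) ∈ (dset (I.gen P S23) (I.lset P T42)) :=
  B.dc_t (le_of_eq (lv35 I B).1) (lc87 I B) (ob86 I B) (ak269 I B) (rp272 I B) (by decide +kernel)

theorem ak275 : I.AllS P (conjIn (I.gen P S23) (I.u (P 78))) (msk (mapL hd L274)) :=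
  Impl.allS_conjIn (a84 I B) ((a45 I B).tb (i := 78) (by decide +kernel)) (by decide +kernel)

theorem rp278 : BImpl.RepsOn (B := B) (I.gen P S23) (dset (I.gen P S23) (I.lset P T42)) (I.u (P 78)) (I.u (P 28)) (B.vd b26) (V.cube P C276 Q74) 524287 :=
  B.repsOn_of_chk (a84 I B) (ad85 I B) (a45 I B) 78 28 b26 _ R277 _ (by decide +kernel)

theorem dt279 : ∀ h ∈ (I.gen P S23), (I.u (P 78)) * h * (I.u (P 28)) ∈ (dset (I.gen P S23) (I.lset P T42)) :=
  B.dc_t (le_of_eq (lv35 I B).1) (lc87 I B) (ob86 I B) (ak275 I B) (rp278 I B) (by decide +kernel)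

theorem ak281 : I.AllS P (conjIn (I.gen P S23) (I.u (P 79))) (msk (mapL hd L280)) :=
  Impl.allS_conjIn (a84 I B) ((a45 I B).tb (i := 79) (by decide +kernel)) (by decide +kernel)

theorem rp284 : BImpl.RepsOn (B := B) (I.gen P S23) (dset (I.gen P S23) (I.lset P T42)) (I.u (P 79)) (I.u (P 28)) (B.vd b26) (V.cube P C282 Q74) 524287 :=
  B.repsOn_of_chk (a84 I B) (ad85 I B) (a45 I B) 79 28 b26 _ R283 _ (by decide +kernel)

theorem dt285 : ∀ h ∈ (I.gen P S23), (I.u (P 79)) * h * (I.u (P 28)) ∈ (dset (I.gen P S23) (I.lset P T42)) :=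
  B.dc_t (le_of_eq (lv35 I B).1) (lc87 I B) (ob86 I B) (ak281 I B) (rp284 I B) (by decide +kernel)

theorem ak287 : I.AllS P (conjIn (I.gen P S23) (I.u (P 80))) (msk (mapL hd L286)) :=
  Impl.allS_conjIn (a84 I B) ((a45 I B).tb (i := 80) (by decide +kernel)) (by decide +kernel)

theorem rp290 : BImpl.RepsOn (B := B) (I.gen P S23) (dset (I.gen P S23) (I.lset P T42)) (I.u (P 80)) (I.u (P 28)) (B.vd b26) (V.cube P C288 Q74) 524287 :=
  B.repsOn_of_chk (a84 I B) (ad85 I B) (a45 I B) 80 28 b26 _ R289 _ (by decide +kernel)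

theorem dt291 : ∀ h ∈ (I.gen P S23), (I.u (P 80)) * h * (I.u (P 28)) ∈ (dset (I.gen P S23) (I.lset P T42)) :=
  B.dc_t (le_of_eq (lv35 I B).1) (lc87 I B) (ob86 I B) (ak287 I B) (rp290 I B) (by decide +kernel)

theorem ak293 : I.AllS P (conjIn (I.gen P S23) (I.u (P 81))) (msk (mapL hd L292)) :=
  Impl.allS_conjIn (a84 I B) ((a45 I B).tb (i := 81) (by decide +kernel)) (by decide +kernel)

theorem rp296 : BImpl.RepsOn (B := B) (I.gen P S23) (dset (I.gen P S23) (I.lset P T42)) (I.u (P 81)) (I.u (P 28)) (B.vd b26) (V.cube P C294 Q74) 524287 :=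
  B.repsOn_of_chk (a84 I B) (ad85 I B) (a45 I B) 81 28 b26 _ R295 _ (by decide +kernel)

theorem dt297 : ∀ h ∈ (I.gen P S23), (I.u (P 81)) * h * (I.u (P 28)) ∈ (dset (I.gen P S23) (I.lset P T42)) :=
  B.dc_t (le_of_eq (lv35 I B).1) (lc87 I B) (ob86 I B) (ak293 I B) (rp296 I B) (by decide +kernel)

theorem ak299 : I.AllS P (conjIn (I.gen P S23) (I.u (P 82))) (msk (mapL hd L298)) :=
  Impl.allS_conjIn (a84 I B) ((a45 I B).tb (i := 82) (by decide +kernel)) (by decide +kernel)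

theorem rp302 : BImpl.RepsOn (B := B) (I.gen P S23) (dset (I.gen P S23) (I.lset P T42)) (I.u (P 82)) (I.u (P 28)) (B.vd b26) (V.cube P C300 Q74) 524287 :=
  B.repsOn_of_chk (a84 I B) (ad85 I B) (a45 I B) 82 28 b26 _ R301 _ (by decide +kernel)

theorem dt303 : ∀ h ∈ (I.gen P S23), (I.u (P 82)) * h * (I.u (P 28)) ∈ (dset (I.gen P S23) (I.lset P T42)) :=
  B.dc_t (le_of_eq (lv35 I B).1) (lc87 I B) (ob86 I B) (ak299 I B) (rp302 I B) (by decide +kernel)

theorem ak305 : I.AllS P (conjIn (I.gen P S23) (I.u (P 83))) (msk (mapL hd L304)) :=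
  Impl.allS_conjIn (a84 I B) ((a45 I B).tb (i := 83) (by decide +kernel)) (by decide +kernel)

theorem rp308 : BImpl.RepsOn (B := B) (I.gen P S23) (dset (I.gen P S23) (I.lset P T42)) (I.u (P 83)) (I.u (P 28)) (B.vd b26) (V.cube P C306 Q74) 524287 :=
  B.repsOn_of_chk (a84 I B) (ad85 I B) (a45 I B) 83 28 b26 _ R307 _ (by decide +kernel)

theorem dt309 : ∀ h ∈ (I.gen P S23), (I.u (P 83)) * h * (I.u (P 28)) ∈ (dset (I.gen P S23) (I.lset P T42)) :=
  B.dc_t (le_of_eq (lv35 I B).1) (lc87 I B) (ob86 I B) (ak305 I B) (rp308 I B) (by decide +kernel)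

theorem ak311 : I.AllS P (conjIn (I.gen P S23) (I.u (P 84))) (msk (mapL hd L310)) :=
  Impl.allS_conjIn (a84 I B) ((a45 I B).tb (i := 84) (by decide +kernel)) (by decide +kernel)

theorem rp314 : BImpl.RepsOn (B := B) (I.gen P S23) (dset (I.gen P S23) (I.lset P T42)) (I.u (P 84)) (I.u (P 28)) (B.vd b26) (V.cube P C312 Q74) 524287 :=
  B.repsOn_of_chk (a84 I B) (ad85 I B) (a45 I B) 84 28 b26 _ R313 _ (by decide +kernel)

theorem dt315 : ∀ h ∈ (I.gen P S23), (I.u (P 84)) * h * (I.u (P 28)) ∈ (dset (I.gen P S23) (I.lset P T42)) :=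
  B.dc_t (le_of_eq (lv35 I B).1) (lc87 I B) (ob86 I B) (ak311 I B) (rp314 I B) (by decide +kernel)

theorem ak317 : I.AllS P (conjIn (I.gen P S23) (I.u (P 85))) (msk (mapL hd L316)) :=
  Impl.allS_conjIn (a84 I B) ((a45 I B).tb (i := 85) (by decide +kernel)) (by decide +kernel)

theorem rp320 : BImpl.RepsOn (B := B) (I.gen P S23) (dset (I.gen P S23) (I.lset P T42)) (I.u (P 85)) (I.u (P 28)) (B.vd b26) (V.cube P C318 Q74) 524287 :=
  B.repsOn_of_chk (a84 I B) (ad85 I B) (a45 I B) 85 28 b26 _ R319 _ (by decide +kernel)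

theorem dt321 : ∀ h ∈ (I.gen P S23), (I.u (P 85)) * h * (I.u (P 28)) ∈ (dset (I.gen P S23) (I.lset P T42)) :=
  B.dc_t (le_of_eq (lv35 I B).1) (lc87 I B) (ob86 I B) (ak317 I B) (rp320 I B) (by decide +kernel)

theorem ak323 : I.AllS P (conjIn (I.gen P S23) (I.u (P 86))) (msk (mapL hd L322)) :=
  Impl.allS_conjIn (a84 I B) ((a45 I B).tb (i := 86) (by decide +kernel)) (by decide +kernel)

theorem rp326 : BImpl.RepsOn (B := B) (I.gen P S23) (dset (I.gen P S23) (I.lset P T42)) (I.u (P 86)) (I.u (P 28)) (B.vd b26) (V.cube P C324 Q74) 524287 :=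
  B.repsOn_of_chk (a84 I B) (ad85 I B) (a45 I B) 86 28 b26 _ R325 _ (by decide +kernel)

theorem dt327 : ∀ h ∈ (I.gen P S23), (I.u (P 86)) * h * (I.u (P 28)) ∈ (dset (I.gen P S23) (I.lset P T42)) :=
  B.dc_t (le_of_eq (lv35 I B).1) (lc87 I B) (ob86 I B) (ak323 I B) (rp326 I B) (by decide +kernel)

theorem ak329 : I.AllS P (conjIn (I.gen P S23) (I.u (P 87))) (msk (mapL hd L328)) :=
  Impl.allS_conjIn (a84 I B) ((a45 I B).tb (i := 87) (by decide +kernel)) (by decide +kernel)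

theorem rp332 : BImpl.RepsOn (B := B) (I.gen P S23) (dset (I.gen P S23) (I.lset P T42)) (I.u (P 87)) (I.u (P 28)) (B.vd b26) (V.cube P C330 Q74) 524287 :=
  B.repsOn_of_chk (a84 I B) (ad85 I B) (a45 I B) 87 28 b26 _ R331 _ (by decide +kernel)

theorem dt333 : ∀ h ∈ (I.gen P S23), (I.u (P 87)) * h * (I.u (P 28)) ∈ (dset (I.gen P S23) (I.lset P T42)) :=
  B.dc_t (le_of_eq (lv35 I B).1) (lc87 I B) (ob86 I B) (ak329 I B) (rp332 I B) (by decide +kernel)

theorem ak335 : I.AllS P (conjIn (I.gen P S23) (I.u (P 88))) (msk (mapL hd L334)) :=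
  Impl.allS_conjIn (a84 I B) ((a45 I B).tb (i := 88) (by decide +kernel)) (by decide +kernel)

theorem rp338 : BImpl.RepsOn (B := B) (I.gen P S23) (dset (I.gen P S23) (I.lset P T42)) (I.u (P 88)) (I.u (P 28)) (B.vd b26) (V.cube P C336 Q74) 524287 :=
  B.repsOn_of_chk (a84 I B) (ad85 I B) (a45 I B) 88 28 b26 _ R337 _ (by decide +kernel)

theorem dt339 : ∀ h ∈ (I.gen P S23), (I.u (P 88)) * h * (I.u (P 28)) ∈ (dset (I.gen P S23) (I.lset P T42)) :=
  B.dc_t (le_of_eq (lv35 I B).1) (lc87 I B) (ob86 I B) (ak335 I B) (rp338 I B) (by decide +kernel)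

theorem ak341 : I.AllS P (conjIn (I.gen P S23) (I.u (P 89))) (msk (mapL hd L340)) :=
  Impl.allS_conjIn (a84 I B) ((a45 I B).tb (i := 89) (by decide +kernel)) (by decide +kernel)

theorem rp344 : BImpl.RepsOn (B := B) (I.gen P S23) (dset (I.gen P S23) (I.lset P T42)) (I.u (P 89)) (I.u (P 28)) (B.vd b26) (V.cube P C342 Q74) 524287 :=
  B.repsOn_of_chk (a84 I B) (ad85 I B) (a45 I B) 89 28 b26 _ R343 _ (by decide +kernel)

theorem dt345 : ∀ h ∈ (I.gen P S23), (I.u (P 89)) * h * (I.u (P 28)) ∈ (dset (I.gen P S23) (I.lset P T42)) :=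
  B.dc_t (le_of_eq (lv35 I B).1) (lc87 I B) (ob86 I B) (ak341 I B) (rp344 I B) (by decide +kernel)

theorem ak347 : I.AllS P (conjIn (I.gen P S23) (I.u (P 90))) (msk (mapL hd L346)) :=
  Impl.allS_conjIn (a84 I B) ((a45 I B).tb (i := 90) (by decide +kernel)) (by decide +kernel)

theorem rp350 : BImpl.RepsOn (B := B) (I.gen P S23) (dset (I.gen P S23) (I.lset P T42)) (I.u (P 90)) (I.u (P 28)) (B.vd b26) (V.cube P C348 Q74) 524287 :=
  B.repsOn_of_chk (a84 I B) (ad85 I B) (a45 I B) 90 28 b26 _ R349 _ (by decide +kernel)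

theorem dt351 : ∀ h ∈ (I.gen P S23), (I.u (P 90)) * h * (I.u (P 28)) ∈ (dset (I.gen P S23) (I.lset P T42)) :=
  B.dc_t (le_of_eq (lv35 I B).1) (lc87 I B) (ob86 I B) (ak347 I B) (rp350 I B) (by decide +kernel)

theorem ak353 : I.AllS P (conjIn (I.gen P S23) (I.u (P 91))) (msk (mapL hd L352)) :=
  Impl.allS_conjIn (a84 I B) ((a45 I B).tb (i := 91) (by decide +kernel)) (by decide +kernel)

theorem rp356 : BImpl.RepsOn (B := B) (I.gen P S23) (dset (I.gen P S23) (I.lset P T42)) (I.u (P 91)) (I.u (P 28)) (B.vd b26) (V.cube P C354 Q74) 524287 :=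
  B.repsOn_of_chk (a84 I B) (ad85 I B) (a45 I B) 91 28 b26 _ R355 _ (by decide +kernel)

theorem dt357 : ∀ h ∈ (I.gen P S23), (I.u (P 91)) * h * (I.u (P 28)) ∈ (dset (I.gen P S23) (I.lset P T42)) :=
  B.dc_t (le_of_eq (lv35 I B).1) (lc87 I B) (ob86 I B) (ak353 I B) (rp356 I B) (by decide +kernel)

theorem ak359 : I.AllS P (conjIn (I.gen P S23) (I.u (P 92))) (msk (mapL hd L358)) :=
  Impl.allS_conjIn (a84 I B) ((a45 I B).tb (i := 92) (by decide +kernel)) (by decide +kernel)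

theorem rp362 : BImpl.RepsOn (B := B) (I.gen P S23) (dset (I.gen P S23) (I.lset P T42)) (I.u (P 92)) (I.u (P 28)) (B.vd b26) (V.cube P C360 Q74) 524287 :=
  B.repsOn_of_chk (a84 I B) (ad85 I B) (a45 I B) 92 28 b26 _ R361 _ (by decide +kernel)

theorem dt363 : ∀ h ∈ (I.gen P S23), (I.u (P 92)) * h * (I.u (P 28)) ∈ (dset (I.gen P S23) (I.lset P T42)) :=
  B.dc_t (le_of_eq (lv35 I B).1) (lc87 I B) (ob86 I B) (ak359 I B) (rp362 I B) (by decide +kernel)

theorem ak365 : I.AllS P (conjIn (I.gen P S23) (I.u (P 93))) (msk (mapL hd L364)) :=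
  Impl.allS_conjIn (a84 I B) ((a45 I B).tb (i := 93) (by decide +kernel)) (by decide +kernel)

theorem rp368 : BImpl.RepsOn (B := B) (I.gen P S23) (dset (I.gen P S23) (I.lset P T42)) (I.u (P 93)) (I.u (P 28)) (B.vd b26) (V.cube P C366 Q74) 524287 :=
  B.repsOn_of_chk (a84 I B) (ad85 I B) (a45 I B) 93 28 b26 _ R367 _ (by decide +kernel)

theorem dt369 : ∀ h ∈ (I.gen P S23), (I.u (P 93)) * h * (I.u (P 28)) ∈ (dset (I.gen P S23) (I.lset P T42)) :=
  B.dc_t (le_of_eq (lv35 I B).1) (lc87 I B) (ob86 I B) (ak365 I B) (rp368 I B) (by decide +kernel)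

theorem ak371 : I.AllS P (conjIn (I.gen P S23) (I.u (P 94))) (msk (mapL hd L370)) :=
  Impl.allS_conjIn (a84 I B) ((a45 I B).tb (i := 94) (by decide +kernel)) (by decide +kernel)

theorem rp374 : BImpl.RepsOn (B := B) (I.gen P S23) (dset (I.gen P S23) (I.lset P T42)) (I.u (P 94)) (I.u (P 28)) (B.vd b26) (V.cube P C372 Q74) 524287 :=
  B.repsOn_of_chk (a84 I B) (ad85 I B) (a45 I B) 94 28 b26 _ R373 _ (by decide +kernel)

theorem dt375 : ∀ h ∈ (I.gen P S23), (I.u (P 94)) * h * (I.u (P 28)) ∈ (dset (I.gen P S23) (I.lset P T42)) :=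
  B.dc_t (le_of_eq (lv35 I B).1) (lc87 I B) (ob86 I B) (ak371 I B) (rp374 I B) (by decide +kernel)

theorem ak377 : I.AllS P (conjIn (I.gen P S23) (I.u (P 95))) (msk (mapL hd L376)) :=
  Impl.allS_conjIn (a84 I B) ((a45 I B).tb (i := 95) (by decide +kernel)) (by decide +kernel)

theorem rp380 : BImpl.RepsOn (B := B) (I.gen P S23) (dset (I.gen P S23) (I.lset P T42)) (I.u (P 95)) (I.u (P 28)) (B.vd b26) (V.cube P C378 Q74) 524287 :=
  B.repsOn_of_chk (a84 I B) (ad85 I B) (a45 I B) 95 28 b26 _ R379 _ (by decide +kernel)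

theorem dt381 : ∀ h ∈ (I.gen P S23), (I.u (P 95)) * h * (I.u (P 28)) ∈ (dset (I.gen P S23) (I.lset P T42)) :=
  B.dc_t (le_of_eq (lv35 I B).1) (lc87 I B) (ob86 I B) (ak377 I B) (rp380 I B) (by decide +kernel)

theorem ak383 : I.AllS P (conjIn (I.gen P S23) (I.u (P 96))) (msk (mapL hd L382)) :=
  Impl.allS_conjIn (a84 I B) ((a45 I B).tb (i := 96) (by decide +kernel)) (by decide +kernel)

theorem rp386 : BImpl.RepsOn (B := B) (I.gen P S23) (dset (I.gen P S23) (I.lset P T42)) (I.u (P 96)) (I.u (P 28)) (B.vd b26) (V.cube P C384 Q74) 524287 :=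
  B.repsOn_of_chk (a84 I B) (ad85 I B) (a45 I B) 96 28 b26 _ R385 _ (by decide +kernel)

theorem dt387 : ∀ h ∈ (I.gen P S23), (I.u (P 96)) * h * (I.u (P 28)) ∈ (dset (I.gen P S23) (I.lset P T42)) :=
  B.dc_t (le_of_eq (lv35 I B).1) (lc87 I B) (ob86 I B) (ak383 I B) (rp386 I B) (by decide +kernel)

theorem ak389 : I.AllS P (conjIn (I.gen P S23) (I.u (P 97))) (msk (mapL hd L388)) :=
  Impl.allS_conjIn (a84 I B) ((a45 I B).tb (i := 97) (by decide +kernel)) (by decide +kernel)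

theorem rp392 : BImpl.RepsOn (B := B) (I.gen P S23) (dset (I.gen P S23) (I.lset P T42)) (I.u (P 97)) (I.u (P 28)) (B.vd b26) (V.cube P C390 Q74) 524287 :=
  B.repsOn_of_chk (a84 I B) (ad85 I B) (a45 I B) 97 28 b26 _ R391 _ (by decide +kernel)

theorem dt393 : ∀ h ∈ (I.gen P S23), (I.u (P 97)) * h * (I.u (P 28)) ∈ (dset (I.gen P S23) (I.lset P T42)) :=
  B.dc_t (le_of_eq (lv35 I B).1) (lc87 I B) (ob86 I B) (ak389 I B) (rp392 I B) (by decide +kernel)

theorem ak395 : I.AllS P (conjIn (I.gen P S23) (I.u (P 98))) (msk (mapL hd L394)) :=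
  Impl.allS_conjIn (a84 I B) ((a45 I B).tb (i := 98) (by decide +kernel)) (by decide +kernel)

theorem rp398 : BImpl.RepsOn (B := B) (I.gen P S23) (dset (I.gen P S23) (I.lset P T42)) (I.u (P 98)) (I.u (P 28)) (B.vd b26) (V.cube P C396 Q74) 524287 :=
  B.repsOn_of_chk (a84 I B) (ad85 I B) (a45 I B) 98 28 b26 _ R397 _ (by decide +kernel)

theorem dt399 : ∀ h ∈ (I.gen P S23), (I.u (P 98)) * h * (I.u (P 28)) ∈ (dset (I.gen P S23) (I.lset P T42)) :=
  B.dc_t (le_of_eq (lv35 I B).1) (lc87 I B) (ob86 I B) (ak395 I B) (rp398 I B) (by decide +kernel)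

theorem ak401 : I.AllS P (conjIn (I.gen P S23) (I.u (P 99))) (msk (mapL hd L400)) :=
  Impl.allS_conjIn (a84 I B) ((a45 I B).tb (i := 99) (by decide +kernel)) (by decide +kernel)

theorem rp404 : BImpl.RepsOn (B := B) (I.gen P S23) (dset (I.gen P S23) (I.lset P T42)) (I.u (P 99)) (I.u (P 28)) (B.vd b26) (V.cube P C402 Q74) 524287 :=
  B.repsOn_of_chk (a84 I B) (ad85 I B) (a45 I B) 99 28 b26 _ R403 _ (by decide +kernel)

theorem dt405 : ∀ h ∈ (I.gen P S23), (I.u (P 99)) * h * (I.u (P 28)) ∈ (dset (I.gen P S23) (I.lset P T42)) :=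
  B.dc_t (le_of_eq (lv35 I B).1) (lc87 I B) (ob86 I B) (ak401 I B) (rp404 I B) (by decide +kernel)

theorem ak407 : I.AllS P (conjIn (I.gen P S23) (I.u (P 100))) (msk (mapL hd L406)) :=
  Impl.allS_conjIn (a84 I B) ((a45 I B).tb (i := 100) (by decide +kernel)) (by decide +kernel)

theorem rp410 : BImpl.RepsOn (B := B) (I.gen P S23) (dset (I.gen P S23) (I.lset P T42)) (I.u (P 100)) (I.u (P 28)) (B.vd b26) (V.cube P C408 Q74) 524287 :=
  B.repsOn_of_chk (a84 I B) (ad85 I B) (a45 I B) 100 28 b26 _ R409 _ (by decide +kernel)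

theorem dt411 : ∀ h ∈ (I.gen P S23), (I.u (P 100)) * h * (I.u (P 28)) ∈ (dset (I.gen P S23) (I.lset P T42)) :=
  B.dc_t (le_of_eq (lv35 I B).1) (lc87 I B) (ob86 I B) (ak407 I B) (rp410 I B) (by decide +kernel)

theorem ak413 : I.AllS P (conjIn (I.gen P S23) (I.u (P 101))) (msk (mapL hd L412)) :=
  Impl.allS_conjIn (a84 I B) ((a45 I B).tb (i := 101) (by decide +kernel)) (by decide +kernel)

theorem rp416 : BImpl.RepsOn (B := B) (I.gen P S23) (dset (I.gen P S23) (I.lset P T42)) (I.u (P 101)) (I.u (P 28)) (B.vd b26) (V.cube P C414 Q74) 524287 :=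
  B.repsOn_of_chk (a84 I B) (ad85 I B) (a45 I B) 101 28 b26 _ R415 _ (by decide +kernel)

theorem dt417 : ∀ h ∈ (I.gen P S23), (I.u (P 101)) * h * (I.u (P 28)) ∈ (dset (I.gen P S23) (I.lset P T42)) :=
  B.dc_t (le_of_eq (lv35 I B).1) (lc87 I B) (ob86 I B) (ak413 I B) (rp416 I B) (by decide +kernel)

theorem ak419 : I.AllS P (conjIn (I.gen P S23) (I.u (P 102))) (msk (mapL hd L418)) :=
  Impl.allS_conjIn (a84 I B) ((a45 I B).tb (i := 102) (by decide +kernel)) (by decide +kernel)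

theorem rp422 : BImpl.RepsOn (B := B) (I.gen P S23) (dset (I.gen P S23) (I.lset P T42)) (I.u (P 102)) (I.u (P 28)) (B.vd b26) (V.cube P C420 Q74) 524287 :=
  B.repsOn_of_chk (a84 I B) (ad85 I B) (a45 I B) 102 28 b26 _ R421 _ (by decide +kernel)

theorem dt423 : ∀ h ∈ (I.gen P S23), (I.u (P 102)) * h * (I.u (P 28)) ∈ (dset (I.gen P S23) (I.lset P T42)) :=
  B.dc_t (le_of_eq (lv35 I B).1) (lc87 I B) (ob86 I B) (ak419 I B) (rp422 I B) (by decide +kernel)

theorem ak425 : I.AllS P (conjIn (I.gen P S23) (I.u (P 103))) (msk (mapL hd L424)) :=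
  Impl.allS_conjIn (a84 I B) ((a45 I B).tb (i := 103) (by decide +kernel)) (by decide +kernel)

theorem rp428 : BImpl.RepsOn (B := B) (I.gen P S23) (dset (I.gen P S23) (I.lset P T42)) (I.u (P 103)) (I.u (P 28)) (B.vd b26) (V.cube P C426 Q74) 524287 :=
  B.repsOn_of_chk (a84 I B) (ad85 I B) (a45 I B) 103 28 b26 _ R427 _ (by decide +kernel)

theorem dt429 : ∀ h ∈ (I.gen P S23), (I.u (P 103)) * h * (I.u (P 28)) ∈ (dset (I.gen P S23) (I.lset P T42)) :=
  B.dc_t (le_of_eq (lv35 I B).1) (lc87 I B) (ob86 I B) (ak425 I B) (rp428 I B) (by decide +kernel)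

theorem ak431 : I.AllS P (conjIn (I.gen P S23) (I.u (P 104))) (msk (mapL hd L430)) :=
  Impl.allS_conjIn (a84 I B) ((a45 I B).tb (i := 104) (by decide +kernel)) (by decide +kernel)

theorem rp434 : BImpl.RepsOn (B := B) (I.gen P S23) (dset (I.gen P S23) (I.lset P T42)) (I.u (P 104)) (I.u (P 28)) (B.vd b26) (V.cube P C432 Q74) 524287 :=
  B.repsOn_of_chk (a84 I B) (ad85 I B) (a45 I B) 104 28 b26 _ R433 _ (by decide +kernel)

theorem dt435 : ∀ h ∈ (I.gen P S23), (I.u (P 104)) * h * (I.u (P 28)) ∈ (dset (I.gen P S23) (I.lset P T42)) :=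
  B.dc_t (le_of_eq (lv35 I B).1) (lc87 I B) (ob86 I B) (ak431 I B) (rp434 I B) (by decide +kernel)

theorem ak437 : I.AllS P (conjIn (I.gen P S23) (I.u (P 105))) (msk (mapL hd L436)) :=
  Impl.allS_conjIn (a84 I B) ((a45 I B).tb (i := 105) (by decide +kernel)) (by decide +kernel)

theorem rp440 : BImpl.RepsOn (B := B) (I.gen P S23) (dset (I.gen P S23) (I.lset P T42)) (I.u (P 105)) (I.u (P 28)) (B.vd b26) (V.cube P C438 Q74) 524287 :=
  B.repsOn_of_chk (a84 I B) (ad85 I B) (a45 I B) 105 28 b26 _ R439 _ (by decide +kernel)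

theorem dt441 : ∀ h ∈ (I.gen P S23), (I.u (P 105)) * h * (I.u (P 28)) ∈ (dset (I.gen P S23) (I.lset P T42)) :=
  B.dc_t (le_of_eq (lv35 I B).1) (lc87 I B) (ob86 I B) (ak437 I B) (rp440 I B) (by decide +kernel)

theorem ak443 : I.AllS P (conjIn (I.gen P S23) (I.u (P 106))) (msk (mapL hd L442)) :=
  Impl.allS_conjIn (a84 I B) ((a45 I B).tb (i := 106) (by decide +kernel)) (by decide +kernel)

theorem rp446 : BImpl.RepsOn (B := B) (I.gen P S23) (dset (I.gen P S23) (I.lset P T42)) (I.u (P 106)) (I.u (P 28)) (B.vd b26) (V.cube P C444 Q74) 524287 :=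
  B.repsOn_of_chk (a84 I B) (ad85 I B) (a45 I B) 106 28 b26 _ R445 _ (by decide +kernel)

theorem dt447 : ∀ h ∈ (I.gen P S23), (I.u (P 106)) * h * (I.u (P 28)) ∈ (dset (I.gen P S23) (I.lset P T42)) :=
  B.dc_t (le_of_eq (lv35 I B).1) (lc87 I B) (ob86 I B) (ak443 I B) (rp446 I B) (by decide +kernel)

theorem ak449 : I.AllS P (conjIn (I.gen P S23) (I.u (P 107))) (msk (mapL hd L448)) :=
  Impl.allS_conjIn (a84 I B) ((a45 I B).tb (i := 107) (by decide +kernel)) (by decide +kernel)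

theorem rp452 : BImpl.RepsOn (B := B) (I.gen P S23) (dset (I.gen P S23) (I.lset P T42)) (I.u (P 107)) (I.u (P 28)) (B.vd b26) (V.cube P C450 Q74) 524287 :=
  B.repsOn_of_chk (a84 I B) (ad85 I B) (a45 I B) 107 28 b26 _ R451 _ (by decide +kernel)

theorem dt453 : ∀ h ∈ (I.gen P S23), (I.u (P 107)) * h * (I.u (P 28)) ∈ (dset (I.gen P S23) (I.lset P T42)) :=
  B.dc_t (le_of_eq (lv35 I B).1) (lc87 I B) (ob86 I B) (ak449 I B) (rp452 I B) (by decide +kernel)

theorem ak455 : I.AllS P (conjIn (I.gen P S23) (I.u (P 108))) (msk (mapL hd L454)) :=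
  Impl.allS_conjIn (a84 I B) ((a45 I B).tb (i := 108) (by decide +kernel)) (by decide +kernel)

theorem rp458 : BImpl.RepsOn (B := B) (I.gen P S23) (dset (I.gen P S23) (I.lset P T42)) (I.u (P 108)) (I.u (P 28)) (B.vd b26) (V.cube P C456 Q74) 524287 :=
  B.repsOn_of_chk (a84 I B) (ad85 I B) (a45 I B) 108 28 b26 _ R457 _ (by decide +kernel)

theorem dt459 : ∀ h ∈ (I.gen P S23), (I.u (P 108)) * h * (I.u (P 28)) ∈ (dset (I.gen P S23) (I.lset P T42)) :=
  B.dc_t (le_of_eq (lv35 I B).1) (lc87 I B) (ob86 I B) (ak455 I B) (rp458 I B) (by decide +kernel)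

theorem ak461 : I.AllS P (conjIn (I.gen P S23) (I.u (P 109))) (msk (mapL hd L460)) :=
  Impl.allS_conjIn (a84 I B) ((a45 I B).tb (i := 109) (by decide +kernel)) (by decide +kernel)

theorem rp464 : BImpl.RepsOn (B := B) (I.gen P S23) (dset (I.gen P S23) (I.lset P T42)) (I.u (P 109)) (I.u (P 28)) (B.vd b26) (V.cube P C462 Q74) 524287 :=
  B.repsOn_of_chk (a84 I B) (ad85 I B) (a45 I B) 109 28 b26 _ R463 _ (by decide +kernel)

theorem dt465 : ∀ h ∈ (I.gen P S23), (I.u (P 109)) * h * (I.u (P 28)) ∈ (dset (I.gen P S23) (I.lset P T42)) :=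
  B.dc_t (le_of_eq (lv35 I B).1) (lc87 I B) (ob86 I B) (ak461 I B) (rp464 I B) (by decide +kernel)

theorem ak467 : I.AllS P (conjIn (I.gen P S23) (I.u (P 110))) (msk (mapL hd L466)) :=
  Impl.allS_conjIn (a84 I B) ((a45 I B).tb (i := 110) (by decide +kernel)) (by decide +kernel)

theorem rp470 : BImpl.RepsOn (B := B) (I.gen P S23) (dset (I.gen P S23) (I.lset P T42)) (I.u (P 110)) (I.u (P 28)) (B.vd b26) (V.cube P C468 Q74) 524287 :=
  B.repsOn_of_chk (a84 I B) (ad85 I B) (a45 I B) 110 28 b26 _ R469 _ (by decide +kernel)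

theorem dt471 : ∀ h ∈ (I.gen P S23), (I.u (P 110)) * h * (I.u (P 28)) ∈ (dset (I.gen P S23) (I.lset P T42)) :=
  B.dc_t (le_of_eq (lv35 I B).1) (lc87 I B) (ob86 I B) (ak467 I B) (rp470 I B) (by decide +kernel)

theorem ak473 : I.AllS P (conjIn (I.gen P S23) (I.u (P 111))) (msk (mapL hd L472)) :=
  Impl.allS_conjIn (a84 I B) ((a45 I B).tb (i := 111) (by decide +kernel)) (by decide +kernel)

theorem rp476 : BImpl.RepsOn (B := B) (I.gen P S23) (dset (I.gen P S23) (I.lset P T42)) (I.u (P 111)) (I.u (P 28)) (B.vd b26) (V.cube P C474 Q74) 524287 :=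
  B.repsOn_of_chk (a84 I B) (ad85 I B) (a45 I B) 111 28 b26 _ R475 _ (by decide +kernel)

theorem dt477 : ∀ h ∈ (I.gen P S23), (I.u (P 111)) * h * (I.u (P 28)) ∈ (dset (I.gen P S23) (I.lset P T42)) :=
  B.dc_t (le_of_eq (lv35 I B).1) (lc87 I B) (ob86 I B) (ak473 I B) (rp476 I B) (by decide +kernel)

theorem ak479 : I.AllS P (conjIn (I.gen P S23) (I.u (P 112))) (msk (mapL hd L478)) :=
  Impl.allS_conjIn (a84 I B) ((a45 I B).tb (i := 112) (by decide +kernel)) (by decide +kernel)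

theorem rp482 : BImpl.RepsOn (B := B) (I.gen P S23) (dset (I.gen P S23) (I.lset P T42)) (I.u (P 112)) (I.u (P 28)) (B.vd b26) (V.cube P C480 Q74) 524287 :=
  B.repsOn_of_chk (a84 I B) (ad85 I B) (a45 I B) 112 28 b26 _ R481 _ (by decide +kernel)

theorem dt483 : ∀ h ∈ (I.gen P S23), (I.u (P 112)) * h * (I.u (P 28)) ∈ (dset (I.gen P S23) (I.lset P T42)) :=
  B.dc_t (le_of_eq (lv35 I B).1) (lc87 I B) (ob86 I B) (ak479 I B) (rp482 I B) (by decide +kernel)

theorem ak485 : I.AllS P (conjIn (I.gen P S23) (I.u (P 113))) (msk (mapL hd L484)) :=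
  Impl.allS_conjIn (a84 I B) ((a45 I B).tb (i := 113) (by decide +kernel)) (by decide +kernel)

theorem a488 : I.AllS P (conjIn (I.gen P S23) (I.u (P 113))) m487 :=
  (ak485 I B).ext L486 (by decide +kernel)

theorem rp491 : BImpl.RepsOn (B := B) (I.gen P S23) (dset (I.gen P S23) (I.lset P T42)) (I.u (P 113)) (I.u (P 28)) (B.vd b26) (V.cube P C489 Q74) 524287 :=
  B.repsOn_of_chk (a84 I B) (ad85 I B) (a45 I B) 113 28 b26 _ R490 _ (by decide +kernel)

theorem dt492 : ∀ h ∈ (I.gen P S23), (I.u (P 113)) * h * (I.u (P 28)) ∈ (dset (I.gen P S23) (I.lset P T42)) :=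
  B.dc_t (le_of_eq (lv35 I B).1) (lc87 I B) (ob86 I B) (a488 I B) (rp491 I B) (by decide +kernel)

theorem cv493 : ∀ x ∈ (I.gen P S38), x ∈ (dset (I.gen P S23) (I.lset P T42)) :=
  Impl.dc_cover' (S := S23) (g := 28) List.mem_cons_self (List.forall_mem_cons.2 ⟨(dt93 I B), List.forall_mem_cons.2 ⟨(dt99 I B), List.forall_mem_cons.2 ⟨(dt105 I B), List.forall_mem_cons.2 ⟨(dt111 I B), List.forall_mem_cons.2 ⟨(dt117 I B), List.forall_mem_cons.2 ⟨(dt123 I B), List.forall_mem_cons.2 ⟨(dt129 I B), List.forall_mem_cons.2 ⟨(dt135 I B), List.forall_mem_cons.2 ⟨(dt141 I B), List.forall_mem_cons.2 ⟨(dt147 I B), List.forall_mem_cons.2 ⟨(dt153 I B), List.forall_mem_cons.2 ⟨(dt159 I B), List.forall_mem_cons.2 ⟨(dt165 I B), List.forall_mem_cons.2 ⟨(dt171 I B), List.forall_mem_cons.2 ⟨(dt177 I B), List.forall_mem_cons.2 ⟨(dt183 I B), List.forall_mem_cons.2 ⟨(dt189 I B), List.forall_mem_cons.2 ⟨(dt195 I B), List.forall_mem_cons.2 ⟨(dt201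 I B), List.forall_mem_cons.2 ⟨(dt207 I B), List.forall_mem_cons.2 ⟨(dt213 I B), List.forall_mem_cons.2 ⟨(dt219 I B), List.forall_mem_cons.2 ⟨(dt225 I B), List.forall_mem_cons.2 ⟨(dt231 I B), List.forall_mem_cons.2 ⟨(dt237 I B), List.forall_mem_cons.2 ⟨(dt243 I B), List.forall_mem_cons.2 ⟨(dt249 I B), List.forall_mem_cons.2 ⟨(dt255 I B), List.forall_mem_cons.2 ⟨(dt261 I B), List.forall_mem_cons.2 ⟨(dt267 I B), List.forall_mem_cons.2 ⟨(dt273 I B), List.forall_mem_cons.2 ⟨(dt279 I B), List.forall_mem_cons.2 ⟨(dt285 I B), List.forall_mem_cons.2 ⟨(dt291 I B), List.forall_mem_cons.2 ⟨(dt297 I B), List.forall_mem_cons.2 ⟨(dt303 I B), List.forall_mem_cons.2 ⟨(dt309 I B), List.forall_mem_cons.2 ⟨(dt315 I B), List.forall_mem_cons.2 ⟨(dt321 I B), List.forall_mem_cons.2 ⟨(dt327 I B), List.forall_mem_cons.2 ⟨(dt333 I B), List.forall_mem_cons.2 ⟨(dt339 I B), List.forall_mem_cons.2 ⟨(dt345 I B), List.forall_mem_cons.2 ⟨(dt351 I B),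 List.forall_mem_cons.2 ⟨(dt357 I B), List.forall_mem_cons.2 ⟨(dt363 I B), List.forall_mem_cons.2 ⟨(dt369 I B), List.forall_mem_cons.2 ⟨(dt375 I B), List.forall_mem_cons.2 ⟨(dt381 I B), List.forall_mem_cons.2 ⟨(dt387 I B), List.forall_mem_cons.2 ⟨(dt393 I B), List.forall_mem_cons.2 ⟨(dt399 I B), List.forall_mem_cons.2 ⟨(dt405 I B), List.forall_mem_cons.2 ⟨(dt411 I B), List.forall_mem_cons.2 ⟨(dt417 I B), List.forall_mem_cons.2 ⟨(dt423 I B), List.forall_mem_cons.2 ⟨(dt429 I B), List.forall_mem_cons.2 ⟨(dt435 I B), List.forall_mem_cons.2 ⟨(dt441 I B), List.forall_mem_cons.2 ⟨(dt447 I B), List.forall_mem_cons.2 ⟨(dt453 I B), List.forall_mem_cons.2 ⟨(dt459 I B), List.forall_mem_cons.2 ⟨(dt465 I B), List.forall_mem_cons.2 ⟨(dt471 I B), List.forall_mem_cons.2 ⟨(dt477 I B), List.forall_mem_cons.2 ⟨(dt483 I B), List.forall_mem_cons.2 ⟨(dt492 I B), List.forall_mem_nil _⟩⟩⟩⟩⟩⟩⟩⟩⟩⟩⟩⟩⟩⟩⟩⟩⟩⟩⟩⟩⟩⟩⟩⟩⟩⟩⟩⟩⟩⟩⟩⟩⟩⟩⟩⟩⟩⟩⟩⟩⟩⟩⟩⟩⟩⟩⟩⟩⟩⟩⟩⟩⟩⟩⟩⟩⟩⟩⟩⟩⟩⟩⟩⟩⟩⟩⟩)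

theorem st494 : (I.gen P S38) ⊓ MulAction.stabilizer Mˣ (B.vd b41) = (I.gen P S23) :=
  B.dc_stab (S := S23) (g := 28) (a45 I B) (cv493 I B) b41 (by decide +kernel)

theorem nt538 : BImpl.Nets (B := B) (P := P) [2] Q523 3080 [N537] :=
  BImpl.Nets.cons (a45 I B) 2 N537 (by decide +kernel) (B.nets_nil Q523 3080)

theorem nt553 : BImpl.Nets (B := B) (P := P) [7, 2] Q523 3080 [N552, N537] :=
  BImpl.Nets.cons (a45 I B) 7 N552 (by decide +kernel) (nt538 I B)

theorem nt568 : BImpl.Nets (B := B) (P := P) [28, 7, 2] Q523 3080 [N567, N552, N537] :=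
  BImpl.Nets.cons (a45 I B) 28 N567 (by decide +kernel) (nt553 I B)

theorem oc569 : (MulAction.orbit (I.gen P S38) (B.vd b41)).ncard = 3080 :=
  (nt568 I B).ncard_orbit b41 2939 7 (by decide +kernel)

theorem card570 : Nat.card (I.gen P S38) = 175560 :=
  (BImpl.card_of_stab (st494 I B) (oc569 I B) (card36 I B)).trans (by norm_num)

theorem a573 : I.AllS P (I.gen P S572) (msk S572) :=
  Impl.allS_gen (W := [136, 8, 3]) (by decide +kernel)

theorem le574 : (I.gen P S23) ≤ (I.gen P S572) :=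
  Impl.gen_le (a573 I B) (by decide +kernel)

theorem a578 : I.AllS P (I.gen P S572) m577 :=
  ((a573 I B).lor ((a84 I B).le (le574 I B))).ext L576 (by decide +kernel)

theorem a581 : I.AllS P (I.gen P S23) m580 :=
  (a84 I B).ext L579 (by decide +kernel)

theorem pa582 : ∀ s ∈ S572, ∀ p, 0 ≤ p → p < 2 → I.PlainAt P (I.gen P S23) 137 2 s p :=
  Impl.plain_all (a581 I B) (a578 I B) 137 2 S572 W583 (by decide +kernel)

theorem lv584 : (I.gen P S572) ⊓ MulAction.stabilizer Mˣ (B.vd b575) = (I.gen P S23) ∧ (MulAction.orbit (I.gen P S572) (B.vd b575)).ncard = 2 ∧ Nat.card (I.gen P S572) = 2 * Nat.card (I.gen P S23) :=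
  B.plain_lev (a578 I B) (a581 I B) 137 2 1 b575 (pa582 I B) (by decide +kernel)

theorem card585 : Nat.card (I.gen P S572) = 114 :=
  by have h := (lv584 I B).2.2; rw [(card36 I B)] at h; exact h.trans (by norm_num)

theorem a588 : I.AllS P (I.gen P S572) m587 :=
  (a578 I B).ext L586 (by decide +kernel)

theorem a591 : I.AllS P (I.gen P S572) m590 :=
  (a588 I B).ext L589 (by decide +kernel)

theorem le592 : (I.gen P S23) ≤ (I.gen P S572) :=
  Impl.gen_le (a591 I B) (by decide +kernel)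

theorem mx593 : ∀ N : Subgroup Mˣ, (I.gen P S572) ≤ N → N ≤ (I.gen P S38) → N ≤ (I.gen P S572) ∨ (I.gen P S38) ≤ N :=
  Impl.max_of_chk (S := S23) (g := 28) (le592 I B) ((a591 I B).lor ((a581 I B).le (le592 I B))) (a45 I B) (cv493 I B) [28, 0x1603000708c08803008808d08c03008b08e00803000501b, 0x601003108c00700203100500c, 0x601403200308d08d03200208b00703208c08b08e032006015, 0xd03300800800303300200700303301b, 0x500a034088003003034003007008034006018, 0x1403508c00208e03508b00208e03500208d007035019, 0x601103608d003088036017, 0x501703708800700803708b00808e03700601b, 0x501803808d08c08803808d08808c03800501b, 0x600903900800300703900800208c039006017, 0x1703a00808d00203a08d00308b03a005015, 0x1803b00808800303b08e00708803b006011, 0x600b03c08c00300803c017, 0x601a03d00308c08b03d00800800803d006011, 0x601b03e08c08b00703e08800200203e08e08808c03e00c, 0x501a03f08b08800803f00300800203f014, 0x500a04000208c003040006018, 0x600904100808b00204100800700704100308d08d041019,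 0x500904208d08c00704208e00300204200600c, 0x601304308b08c08b04300308c00804300600c, 0xc04408c08d08d04408b08e08e04400c, 0x601b04508d08c08b04500808d08b04508b08d08c045006019, 0x500a04600200700304600808c08804608c08b088046005012, 0x600c04700300808804700808e002047006018, 0x601804800300808e04800808d08e04808b00800304800600d, 0x604908c00308e04908b00200304908e08d00204900c, 0x501704a08c08c00204a00800708e04a00600d, 0x601704b00300300304b00208d08b04b006017, 0x1204c08c00308d04c00601b, 0x501704d08d00700304d006019, 0x501004e08808e08e04e08d00808e04e08b00708b04e00c, 0x1204f08e00300304f08c08e00204f006015, 0xa05000200708d05000200808e050009, 0x1705100308808e051006019, 0xc05208e00808e05200308d08b05208e08b08c052014, 0x600a05308800308c05300700800305300500c, 0x501a05400200308e05400308d08e05408c08c008054009, 0xd05500300808e05500600d, 0x600a05600200208b05600208800205600c, 0x5700200200205708c08d08d057, 0xd05808d08808d05800808b088058006011, 0xb05908d00808805908d002007059,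 0x600f05a08800300805a00c, 0x500a05b08d08d08c05b00708808e05b005015, 0x905c08800308d05c00808c08b05c00708c00305c006015, 0x601b05d00208c08805d, 0x601005e08c08d08805e08b08b00705e00c, 0x501205f00700700305f00708800305f006017, 0x1a06000808808806008800200206000600d, 0x1606108b00200806100300308b06100600d, 0x601006208808c08b06208c08e08d062002002007062009, 0x501306308e00708b06308d00308b06300600c, 0x501006408800708c06408d002008064017, 0x1406500208d08e06500808c007065014, 0x1806600800308806608e00700206600600c, 0x6700800708d06708c08c08e06700601b, 0xc06808b08e08c06808c08808c06800308808c068005012, 0xb06908d007003069014, 0x1506a00700200206a08800200306a, 0x600f06b08800300706b00708808b06b00c, 0x606c00700308d06c08808c08c06c019, 0x501406d08d08808b06d08800208d06d00600d, 0x1306e00800700206e00308b00706e00808800306e005012, 0x601606f08c00308b06f00300808806f006017, 0x601b07008b08808c07008808b088070006015, 0] (by decide +kernel)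

theorem a596 : I.AllS P (I.gen P S38) m595 :=
  (a45 I B).ext L594 (by decide +kernel)

theorem le597 : (I.gen P S572) ≤ (I.gen P S38) :=
  Impl.gen_le (a596 I B) (by decide +kernel)

theorem nm598 : ∀ N, NormalIn N (I.gen P S38) → N ≤ (I.gen P S572) ∨ (I.gen P S38) ≤ N :=
  fun _ hN => Impl.normal_le_or (le597 I B) (a596 I B) (card585 I B) (mx593 I B) [28815, 28816, 45201, 45202, 45203, 20628] [0x12011e01c, 0x124122007, 0x128126002] (by decide +kernel) hN

theorem a601 : I.AllS P (I.gen P S600) (msk S600) :=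
  Impl.allS_gen (W := [151, 152]) (by decide +kernel)

theorem a604 : I.AllS P (I.gen P S38) m603 :=
  (a596 I B).ext L602 (by decide +kernel)

theorem le605 : (I.gen P S600) ≤ (I.gen P S38) :=
  Impl.gen_le (a604 I B) (by decide +kernel)

theorem a608 : I.AllS P (I.gen P S600) m607 :=
  (a601 I B).ext L606 (by decide +kernel)

theorem le609 : (I.gen P S38) ≤ (I.gen P S600) :=
  Impl.gen_le (a608 I B) (by decide +kernel)

theorem eq610 : (I.gen P S600) = (I.gen P S38) :=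
  le_antisymm (le605 I B) (le609 I B)

theorem st611 : (I.gen P S600) ⊓ MulAction.stabilizer Mˣ (B.vd b41) = (I.gen P S23) :=
  by rw [eq610 I B]; exact (st494 I B)

theorem card612 : Nat.card (I.gen P S600) = 175560 :=
  by rw [eq610 I B]; exact (card570 I B)

theorem wit : ∀ u ∈ Uw, ∃ k ∈ (I.gen P S38), k • B.vd b41 = B.vd u :=
  B.mem_orbit_of_chk (a604 I B) b41 Uw [0, 167977, 0x1c01c026, 0x1c024008, 28, 0x2101e021, 0x2600202701c, 0x24029029] (by decide +kernel)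

theorem card_G : Nat.card (I.gen P SG) = 175560 :=
  (card570 I B)

theorem card_Z : Nat.card (I.gen P SZ) = 114 :=
  (card585 I B)

theorem stab_G : I.gen P SG ⊓ MulAction.stabilizer Mˣ (B.vd v0) = I.gen P SH :=
  (st494 I B)

theorem normal_G : ∀ N, NormalIn N (I.gen P SG) → N ≤ I.gen P SZ ∨ I.gen P SG ≤ N :=
  (nm598 I B)

theorem all_G : I.AllS P (I.gen P SG) mG :=
  (a604 I B)

theorem le613 : (I.gen P S38) ≤ (I.gen P S600) :=
  Impl.gen_le ((a608 I B).lor ((a604 I B).le (le609 I B))) (by decide +kernel)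

theorem le614 : (I.gen P S600) ≤ (I.gen P S38) :=
  Impl.gen_le (a604 I B) (by decide +kernel)

theorem O_eq : I.gen P SO = I.gen P SG :=
  le_antisymm (le614 I B) (le613 I B)

end Cfsg.Lib.Spor.J1
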