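import Cfsg.Agent.Spor.J2Main
import Cfsg.Agent.Spor.PKWords
import Cfsg.Agent.Perm.UnitMat
import Cfsg.Agent.Class.HermSimple
import Cfsg.Agent.Class.FieldIso

/-!
The point stabiliser of the Hall–Janko group on 100 points is `U₃(3)`, with orbits of lengths
1, 36, 63 (data generated by `py/j2f.py`).
-/

set_option autoImplicit false
set_option maxRecDepth 100000

namespace Cfsg.Lib.Spor.J2

open Cfsg.Spor Cfsg.Lib.Spor.PK Cfsg.Lib.Class MulAction

/-- Words for generators of the point stabiliser. -/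
def hw : List (List ℕ) := [[1, 2, 3, 1, 2, 1, 3, 2, 1], [0, 3, 0, 1, 3, 2, 1, 3, 0, 3]]

/-- Generators of the point stabiliser on the 100 points. -/
def hl : List (List ℕ) :=
  [[0, 25, 16, 15, 88, 5, 6, 13, 98, 64, 10, 82, 12, 7, 70, 3, 2, 19, 29, 17, 86, 72, 50, 23, 43, 1, 78, 41, 61,
    18, 84, 91, 97, 33, 58, 35, 38, 67, 36, 60, 56, 27, 42, 24, 95, 83, 46, 99, 48, 80, 22, 57, 52, 65, 74,
    55, 40, 51, 34, 59, 39, 28, 62, 66, 9, 53, 63, 37, 94, 69, 14, 71, 21, 81, 54, 75, 93, 90, 26, 79, 49, 73,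
    11, 45, 30, 87, 20, 85, 4, 96, 77, 31, 92, 76, 68, 44, 89, 32, 8, 47],
   [0, 17, 24, 80, 9, 33, 68, 84, 77, 34, 94, 15, 20, 98, 40, 53, 47, 48, 14, 12, 93, 67, 39, 69, 83, 72, 29, 30,
    62, 70, 4, 23, 38, 71, 5, 92, 28, 25, 18, 19, 97, 8, 7, 78, 82, 60, 55, 32, 86, 49, 2, 27, 63, 11, 44, 13,
    74, 41, 46, 52, 21, 59, 35, 89, 57, 73, 56, 76, 51, 42, 96, 75, 37, 36, 3, 6, 43, 88, 61, 10, 65, 22, 95,
    16, 31, 87, 1, 90, 64, 45, 91, 79, 66, 99, 58, 81, 26, 50, 85, 54]]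

/-- The 252 vectors of norm one. -/
def uL : List ℕ :=
  [1, 2, 3, 6, 9, 18, 27, 40, 41, 43, 44, 49, 50, 52, 53, 54, 67, 68, 70, 71, 76, 77, 79, 80, 81, 94, 95, 97,
    98, 103, 104, 106, 107, 112, 113, 115, 116, 118, 119, 120, 123, 127, 128, 129, 132, 139, 140, 142, 143,
    145, 146, 147, 150, 154, 155, 156, 159, 162, 175, 176, 178, 179, 184, 185, 187, 188, 193, 194, 196, 197,
    199, 200, 201, 204, 208, 209, 210, 213, 220, 221, 223, 224, 226, 227, 228, 231, 235, 236, 237, 240, 243,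
    256, 257, 259, 260, 265, 266, 268, 269, 274, 275, 277, 278, 280, 281, 282, 285, 289, 290, 291, 294, 301,
    302, 304, 305, 307, 308, 309, 312, 316, 317, 318, 321, 328, 329, 331, 332, 334, 335, 336, 339, 343, 344,
    345, 348, 352, 353, 354, 357, 360, 369, 379, 380, 381, 384, 387, 396, 409, 410, 412, 413, 415, 416, 417,
    420, 424, 425, 426, 429, 433, 434, 435, 438, 441, 450, 460, 461, 462, 465, 468, 477, 486, 499, 500, 502,
    503, 508, 509, 511, 512, 517, 518, 520, 521, 523, 524, 525, 528, 532, 533, 534, 537, 544, 545, 547, 548,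
    550, 551, 552, 555, 559, 560, 561, 564, 571, 572, 574, 575, 577, 578, 579, 582, 586, 587, 588, 591, 595,
    596, 597, 600, 603, 612, 622, 623, 624, 627, 630, 639, 652, 653, 655, 656, 658, 659, 660, 663, 667, 668,
    669, 672, 676, 677, 678, 681, 684, 693, 703, 704, 705, 708, 711, 720]

/-- The corresponding unitary matrices on the 252 vectors. -/
def ul : List (List ℕ) :=
  [[250, 140, 220, 170, 91, 179, 67, 243, 130, 118, 77, 70, 212, 200, 159, 47, 223, 104, 152, 54, 51, 190, 238,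
    143, 46, 225, 106, 154, 56, 49, 188, 236, 141, 97, 80, 35, 174, 87, 217, 42, 247, 167, 39, 137, 84, 164,
    24, 15, 244, 29, 192, 20, 204, 126, 19, 114, 28, 68, 241, 128, 116, 75, 72, 214, 202, 161, 146, 6, 57,
    226, 11, 228, 62, 180, 102, 61, 150, 10, 96, 79, 34, 173, 89, 219, 44, 249, 165, 37, 135, 82, 94, 4, 251,
    221, 90, 95, 78, 33, 172, 240, 127, 115, 74, 124, 17, 112, 26, 211, 122, 199, 134, 224, 105, 153, 55, 101,
    60, 149, 9, 185, 156, 233, 108, 222, 103, 151, 53, 100, 59, 148, 8, 187, 158, 235, 110, 88, 218, 43, 248,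
    178, 1, 32, 195, 23, 207, 245, 66, 242, 129, 117, 76, 125, 18, 113, 27, 209, 120, 197, 132, 14, 231, 65,
    183, 227, 45, 86, 216, 41, 246, 177, 3, 176, 98, 81, 36, 175, 171, 169, 139, 5, 73, 215, 203, 162, 208,
    119, 196, 131, 30, 193, 21, 205, 50, 189, 237, 142, 186, 157, 234, 109, 13, 230, 64, 182, 52, 191, 239,
    144, 184, 155, 232, 107, 12, 229, 63, 181, 166, 38, 136, 83, 2, 93, 123, 16, 111, 25, 69, 163, 71, 213,
    201, 160, 210, 121, 198, 133, 31, 194, 22, 206, 99, 58, 147, 7, 48, 145, 168, 40, 138, 85, 0, 92],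
   [4, 5, 6, 15, 149, 205, 228, 38, 42, 50, 54, 106, 110, 118, 122, 126, 186, 190, 198, 202, 70, 74, 82, 86, 231,
    39, 43, 51, 55, 103, 107, 115, 119, 139, 140, 145, 146, 174, 178, 182, 194, 59, 63, 67, 79, 7, 11, 16, 20,
    152, 156, 160, 166, 211, 215, 219, 225, 123, 185, 189, 197, 201, 73, 77, 85, 89, 10, 14, 19, 23, 153, 157,
    161, 167, 208, 212, 216, 222, 244, 245, 250, 251, 27, 31, 35, 47, 92, 96, 100, 112, 206, 8, 12, 17, 21,
    163, 164, 169, 170, 104, 108, 116, 120, 235, 239, 243, 249, 25, 29, 33, 45, 72, 76, 84, 88, 127, 131, 135,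
    141, 175, 179, 183, 195, 105, 109, 117, 121, 232, 236, 240, 246, 28, 32, 36, 48, 60, 64, 68, 80, 124, 171,
    209, 213, 217, 223, 3, 147, 71, 75, 83, 87, 130, 134, 138, 144, 172, 176, 180, 192, 210, 214, 218, 224, 0,
    150, 93, 97, 101, 113, 229, 24, 148, 220, 221, 226, 227, 9, 13, 18, 22, 40, 44, 52, 56, 91, 95, 99, 111,
    233, 237, 241, 247, 184, 188, 196, 200, 61, 65, 69, 81, 129, 133, 137, 143, 37, 41, 49, 53, 94, 98, 102,
    114, 234, 238, 242, 248, 173, 177, 181, 193, 57, 125, 154, 158, 162, 168, 204, 1, 187, 191, 199, 203, 58,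
    62, 66, 78, 128, 132, 136, 142, 151, 155, 159, 165, 207, 2, 26, 30, 34, 46, 90, 230]]

/-- Chain of the whole group. -/
def ucG : List Cfsg.Lib.Spor.PK.Cert :=
  [⟨0, [64, 129, 195, 257, 323, 384, 450, 512, 577, 642, 704, 770, 835, 896, 961, 1026, 1089, 1154, 1219, 1281,
    1346, 1411, 1472, 1539, 1601, 1665, 1730, 1795, 1857, 1921, 1986, 2051, 2112, 2178, 2243, 2305, 2371,
    2435, 2497, 2560, 2627, 2689, 2753, 2816, 2880, 2947, 3011, 3073, 3138, 3202, 3267, 3329, 3393, 3458,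
    3521, 3587, 3648, 3715, 3776, 3842, 3904, 3970, 4035, 4099, 4160, 4225, 4290, 4353, 4418, 4482, 4547,
    4609, 4675, 4736, 4802, 4865, 4931, 4992, 5056, 5121, 5185, 5251, 5313, 5377, 5442, 5505, 5568, 5634,
    5696, 5761, 5827, 5889, 5955, 6017, 6082, 6145, 6209, 6275, 6338], [[3, 0, 3, 1, 2, 3, 1, 0, 3, 0], [0, 3,
    0, 2, 1, 0, 3, 0, 1, 2, 0, 3, 0]]⟩,
   ⟨2, [1536, 2497, 5312, 3009, 1216, 1024, 4993, 2048, 768, 1345, 3841, 3904, 2432, 3457, 1280, 3073, 4288,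
    3776, 1857, 1152, 3201, 2816, 5952, 5504, 4864, 2369, 3328, 3969, 4480, 896, 1793, 5248, 193, 6336, 65,
    2752, 1601, 4032, 2240, 6144, 2560, 6080, 5185, 5120, 1088, 4608, 5696, 5888, 1664, 6208, 961, 1408, 4160,
    3393, 2880, 3585, 4224, 4737, 2305, 4672, 3137, 704], [[0, 0, 0, 1, 0, 0, 0, 0, 1, 0, 1, 0, 1, 0], [0, 1,
    0, 1, 0, 1, 0, 1, 0, 0, 1, 0, 0, 0, 1]]⟩,
   ⟨1, [4992, 769, 3904, 4736, 5185, 3009, 897, 6145, 1856, 1408, 1601, 4225, 1280, 961, 1088, 4161, 2753, 6209,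
    5313, 3328, 3777, 193, 3393], [[0, 1]]⟩,
   ⟨3, [4992, 3008, 960], []⟩]

/-- Chain of the stabiliser. -/
def uc36 : List Cfsg.Lib.Spor.PK.Cert :=
  [⟨4, [5632, 1921, 4929, 5376, 1729, 5760, 513, 449, 2624, 3265, 5569, 6272, 832, 2689, 3649, 4353, 5440, 3521,
    4417, 4097, 6016, 385, 2945, 1473, 576, 641, 4801, 3713, 1985, 5057, 4545, 2176, 5824, 2113, 321], [[1, 0,
    1, 1, 1, 0, 1, 1, 1, 0, 1, 1, 0, 1, 1, 0], [1, 1, 1, 1, 1, 1, 1, 1, 1, 0, 1, 1, 1]]⟩,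
   ⟨1, [3904, 2497, 1216, 3969, 1792, 6336, 3841, 1088, 2880, 705, 2560, 3584, 1601, 3072, 2369, 3200, 896, 129,
    4736, 3137, 3008, 960, 5185, 768, 3329, 4992, 5249, 4032, 3456, 3393, 1536, 4481, 4225, 1280, 2048, 2240,
    2432, 6081, 5953, 6144, 5889], [[0, 1, 0, 0, 0, 0, 0, 1]]⟩,
   ⟨2, [4992, 3584, 896], []⟩]

/-- Chain of the stabiliser. -/
def uc63 : List Cfsg.Lib.Spor.PK.Cert :=
  [⟨1, [1600, 5505, 2369, 1280, 3073, 4288, 4609, 769, 1089, 1345, 1217, 3841, 2497, 2881, 1409, 5312, 5697,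
    3200, 5185, 1537, 6144, 4033, 6209, 4672, 6081, 2752, 129, 4481, 4224, 3329, 2048, 2561, 4161, 2816, 5249,
    4865, 1024, 896, 1857, 5889, 3777, 3009, 3584, 3392, 5121, 3457, 704, 5952, 1153, 1665, 2241, 3905, 6336,
    961, 3136, 193, 4736, 2433, 4992, 3969, 1792, 2304], [[0, 1, 0, 1, 1, 1, 0, 1, 1, 1, 1, 0, 1, 0, 1, 1, 1,
    1, 0, 1], [0, 1, 0, 1, 1, 1, 1, 0, 1, 1, 1, 1, 1, 1, 1, 0, 1, 1, 1, 1, 0, 1, 0]]⟩,
   ⟨2, [5184, 4161, 1152, 1345, 2304, 961, 3392, 4289, 3968, 897, 704, 5697, 193, 4992, 3457, 3008, 5889, 3905,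
    3584, 1025, 768, 4032, 3200], [[1, 0, 0, 0, 1]]⟩,
   ⟨3, [4992, 3008, 960], []⟩]

/-- Chain of the graph. -/
def ug1 : List Cfsg.Lib.Spor.PK.Cert :=
  [⟨1, [1600, 5505, 2369, 1280, 3073, 4288, 4609, 769, 1089, 1345, 1217, 3841, 2497, 2881, 1409, 5312, 5697,
    3200, 5185, 1537, 6144, 4033, 6209, 4672, 6081, 2752, 129, 4481, 4224, 3329, 2048, 2561, 4161, 2816, 5249,
    4865, 1024, 896, 1857, 5889, 3777, 3009, 3584, 3392, 5121, 3457, 704, 5952, 1153, 1665, 2241, 3905, 6336,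
    961, 3136, 193, 4736, 2433, 4992, 3969, 1792, 2304], [[0, 1, 0, 1, 1, 1, 1, 1, 1, 0, 1, 1, 1, 1, 1, 1, 1,
    0, 1, 0], [1, 0, 1, 1, 1, 1, 0, 1, 1, 1, 1, 0, 1, 0, 1, 1, 1, 1, 0, 1, 0]]⟩,
   ⟨2, [2304, 1153, 3392, 193, 4992, 3904, 5185, 704, 3457, 1345, 4289, 3968, 3584, 3009, 768, 961, 3200, 897,
    4161, 4033, 5696, 5888, 1025], [[0, 0, 1, 1, 1, 0, 0]]⟩,
   ⟨3, [4992, 3008, 960], []⟩]

/-- Chain of the graph. -/
def ug2 : List Cfsg.Lib.Spor.PK.Cert :=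
  [⟨100, [22400, 16833, 11521, 20928, 12481, 8576, 15233, 17601, 18241, 22273, 16193, 14017, 10113, 20161, 13632,
    10881, 8449, 21824, 21249, 17984, 9857, 17153, 7104, 7681, 15424, 14849, 18561, 19840, 14529, 20353, 7616,
    7041, 22144, 20801, 9345, 9664, 9473, 13953, 16512, 21569, 7744, 7489, 16577, 12800, 13761, 15104, 16705,
    10753, 11328, 10625, 14721, 8000, 9985, 7936, 22337, 8129, 22016, 14977, 6976, 7233, 20673, 18816, 18497,
    12417, 13056, 12353, 7296, 21889, 12033, 12864, 8385, 21633, 10560, 11009, 10048, 15169, 10433, 15744,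
    21377, 6912, 16065, 13249, 8192, 18113, 17281, 11840, 13185, 16256, 11649, 11393, 13440, 16129, 17665,
    19200, 17729, 7424, 15617, 8961, 18752, 10177, 12160, 19713, 12737, 20544, 16961, 10689, 15808, 20097,
    15040, 13697, 17089, 21504, 11713, 7808, 20033, 19009, 10368, 13505, 20481, 9152, 19329, 9089, 8705,
    19072, 19969, 12225, 14400, 21761, 19904, 8321, 14785, 16768, 14145, 6592, 12673, 10497, 8064, 20609,
    12096, 12544, 21441, 7169, 7552, 9537, 17344, 16385, 18881, 17216, 20289, 9409, 19648, 22208, 17921,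
    20417, 14592, 9025, 18176, 11137, 18305, 17473, 11904, 21953, 6784, 16641, 13889, 9920, 11073, 15937,
    17857, 21056, 15489, 16448, 10241, 21313, 20736, 18369, 6528, 17409, 8896, 17536, 14913, 11201, 6656,
    14657, 9793, 18432, 13825, 14465, 15681, 19777, 14272, 11969, 12993, 12289, 17793, 8256, 19585, 15361,
    14080, 9601, 14209, 12609, 8832, 15553, 7360, 18625, 19521, 18689, 12928, 18944, 11584, 20225, 7873, 6848,
    13121, 21184, 6720, 21697, 10945, 20993, 22081, 16321, 8769, 19265, 10304, 15873, 8641, 16001, 14336,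
    22464, 15296, 13313, 6464, 8512, 17025, 19393, 19137, 11265, 10817, 9281, 13568, 11457, 19457, 21120,
    11777, 16897, 13377, 9729, 18048, 20864, 9217], [[1, 1, 1, 1, 1, 0, 1, 0, 1, 1, 1, 1, 1, 0, 1, 0, 1], [1,
    0, 1, 1, 1, 1, 1, 0, 1, 1, 1, 0, 1, 1, 1, 0, 1, 1]]⟩,
   ⟨104, [16832, 22401, 20864, 15745, 20544, 15297, 7361, 7936, 12161, 17344, 6784, 15680, 17281, 20480, 15360,
    20929, 22080, 22464, 22016, 16897, 17216, 6721, 10048], []⟩]

/-- First unitary matrix. -/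
def uA : SU 3 GF9 3 := ⟨⟨!![⟨0, 0⟩, ⟨1, 1⟩, ⟨2, 1⟩; ⟨1, 2⟩, ⟨1, 0⟩, ⟨0, 2⟩; ⟨2, 2⟩, ⟨0, 1⟩, ⟨1, 0⟩],
  by rw [Matrix.det_fin_three]; decide +kernel⟩,
  (Cfsg.Lib.Perm.mem_SU_iff_mul (starRingEnd GF9) (by decide +kernel) _).2 (by decide +kernel)⟩

/-- Second unitary matrix. -/
def uB : SU 3 GF9 3 := ⟨⟨!![⟨0, 0⟩, ⟨1, 2⟩, ⟨2, 2⟩; ⟨1, 0⟩, ⟨0, 0⟩, ⟨0, 0⟩; ⟨0, 0⟩, ⟨2, 1⟩, ⟨2, 2⟩],
  by rw [Matrix.det_fin_three]; decide +kernel⟩,
  (Cfsg.Lib.Perm.mem_SU_iff_mul (starRingEnd GF9) (by decide +kernel) _).2 (by decide +kernel)⟩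

theorem ptsOk_U : PtsOk (SU 3 GF9 3) 252 (vecL g9 9 3 uL) := by
  refine (ptsOk_SL (fun i j e => ?_) (by decide +kernel)).subgroup _
  let f : (Fin 3 → GF9) → ℕ := fun v => ∑ t, ((v t).re.val + 3 * (v t).im.val) * 9 ^ t.1
  have h : ∀ i : Fin 252, f (vecL g9 9 3 uL i) = uL[i.1]'i.2 := by decide +kernel
  exact Fin.ext ((List.Nodup.getElem_inj_iff (by decide +kernel : uL.Nodup)).1
    ((h i).symm.trans ((congrArg f e).trans (h j))))

theorem actL_U : List.Forall₂ (ActL (vecL g9 9 3 uL) 252) ul [uA, uB] :=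
  .cons (actL_iff_fin.2 (by decide +kernel)) (.cons (actL_iff_fin.2 (by decide +kernel)) .nil)

theorem dens_h : Dens 12 100 pt (hl.map (encL 12)) (hw.map (evalG gs)) := by
  rw [← show evalWs (pmul 12 100) (one 12 100) cs hw = hl.map (encL 12) by decide +kernel]
  exact dens.evalWs ctx (isMul_pmul ctx) hw

theorem actL_h : List.Forall₂ (ActL pt 100) hl (hw.map (evalG gs)) :=
  dens_h.actL ctx (by decide +kernel)

theorem mem_stab : ∀ g ∈ hw.map (evalG gs), g ∈ stabilizer Cfsg.Spor.J2 (pt 0) := by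
  have h := actL_h
  simp only [hw, hl, List.map_cons, List.map_nil, List.forall₂_cons] at h
  simp only [hw, List.map_cons, List.map_nil, List.forall_mem_cons]
  exact ⟨(h.1.2 0 (by norm_num)).2, (h.2.1.2 0 (by norm_num)).2, by simp⟩

theorem ncard_orbit_pt : (orbit Cfsg.Spor.J2 (pt 0)).ncard = 100 := by
  have h := (chain_of_chkLow ctx dens (cert := ucG) (by decide +kernel) (H := ⊤)
    (fun _ _ => Subgroup.mem_top _) (by rw [Subgroup.card_top, card_J2]; decide +kernel)).2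
  have h1 := h.ncard_orbit ctx
  rwa [show orbit (⊤ : Subgroup Cfsg.Spor.J2) (pt _) = orbit Cfsg.Spor.J2 (pt 0) from
    Set.ext fun _ => ⟨fun ⟨g, e⟩ => ⟨g.1, e⟩, fun ⟨g, e⟩ => ⟨⟨g, trivial⟩, e⟩⟩] at h1

theorem exists_smul_pt (x : HJ) : ∃ g : Cfsg.Spor.J2, g • pt 0 = x := by
  have : Finite HJ := inferInstanceAs (Finite (Fin 100))
  have h : orbit Cfsg.Spor.J2 (pt 0) = Set.univ := Set.eq_of_subset_of_ncard_le (Set.subset_univ _)
    (by rw [ncard_orbit_pt, Set.ncard_univ]; exact (Nat.card_fin 100).le)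
  exact (h ▸ Set.mem_univ x : x ∈ orbit Cfsg.Spor.J2 (pt 0))

theorem index_stab : (stabilizer Cfsg.Spor.J2 (pt 0)).index = 100 := by
  rw [index_stabilizer, ncard_orbit_pt]

theorem card_stab : Nat.card (stabilizer Cfsg.Spor.J2 (pt 0)) = 6048 := by
  have h := (stabilizer Cfsg.Spor.J2 (pt 0)).card_mul_index
  rw [index_stab, card_J2] at h
  omega

theorem gen_stab : gen (hw.map (evalG gs)) = stabilizer Cfsg.Spor.J2 (pt 0) ∧
    (orbit (stabilizer Cfsg.Spor.J2 (pt 0)) (pt 4)).ncard = 36 := by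
  have h := chain_of_chkLow ctx dens_h (cert := uc36) (by decide +kernel) mem_stab
    (by rw [card_stab]; decide +kernel)
  exact ⟨h.1, h.2.ncard_orbit ctx⟩

theorem ncard_orbit_63 : (orbit (stabilizer Cfsg.Spor.J2 (pt 0)) (pt 1)).ncard = 63 :=
  (chain_of_chkLow ctx dens_h (cert := uc63) (by decide +kernel) mem_stab
    (by rw [card_stab]; decide +kernel)).2.ncard_orbit ctx

theorem center_SU33 : Subgroup.center (SU 3 GF9 3) = ⊥ := by
  rw [← Subgroup.card_eq_one, Form.card_center_SU (q := 3) card_GF9 3 (by norm_num)]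
  norm_num

theorem stab_equiv : Nonempty (stabilizer Cfsg.Spor.J2 (pt 0) ≃* PSU 3 GF9 3) := by
  have h := Form.card_SU (F := GF9) (q := 3) card_GF9 3 (by norm_num)
  rw [show Form.guOrder 3 3 = 24192 by decide] at h
  obtain ⟨e, -⟩ := graph_iso_top ptsOk_pt ptsOk_U (actP_zip actL_h actL_U) (w := 13) (cert := ug1)
    (cert' := ug2) (by decide +kernel) (by decide +kernel)
    (fun g hg => mem_stab _ (List.of_mem_zip hg).1) (by rw [card_stab]; decide +kernel)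
    (by rw [show certOrder ug1 = 6048 by decide +kernel]; omega)
  exact ⟨e.trans (quotCenterEquivOfEqBot center_SU33).symm⟩

end Cfsg.Lib.Spor.J2
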