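import Cfsg.Agent.Spor.J3D1

/-! Generated certificate checks. -/

set_option autoImplicit false
set_option maxRecDepth 100000
set_option linter.unusedVariables false
set_option linter.unusedSectionVars false

namespace Cfsg.Lib.Spor.J3

open Cfsg.Lib.Spor.MG Cfsg.Lib.Spor.Bulk

variable {M : Type} [Monoid M] [Finite M] (I : Impl O M) {X : Type} [MulAction M X] (B : BImpl I V X)
include I B

theorem a2 : I.AllS P (I.gen P S1) (msk S1) :=
  Impl.allS_gen (W := []) (by decide +kernel)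

theorem card3 : Nat.card (I.gen P S1) = 1 :=
  by rw [show (I.gen P S1) = ⊥ from Impl.gen_nil]; exact Subgroup.card_bot

theorem a6 : I.AllS P (I.gen P S5) (msk S5) :=
  Impl.allS_gen (W := [2]) (by decide +kernel)

theorem le7 : (I.gen P S1) ≤ (I.gen P S5) :=
  Impl.gen_le (a6 I B) (by decide +kernel)

theorem a10 : I.AllS P (I.gen P S1) m9 :=
  (a2 I B).ext L8 (by decide +kernel)

theorem a14 : I.AllS P (I.gen P S5) m13 :=
  ((a6 I B).lor ((a10 I B).le (le7 I B))).ext L12 (by decide +kernel)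

theorem a17 : I.AllS P (I.gen P S1) m16 :=
  (a10 I B).ext L15 (by decide +kernel)

theorem pa18 : ∀ s ∈ S5, ∀ p, 0 ≤ p → p < 2 → I.PlainAt P (I.gen P S1) 3 2 s p :=
  Impl.plain_all (a17 I B) (a14 I B) 3 2 S5 W19 (by decide +kernel)

theorem lv20 : (I.gen P S5) ⊓ MulAction.stabilizer Mˣ (B.vd b11) = (I.gen P S1) ∧ (MulAction.orbit (I.gen P S5) (B.vd b11)).ncard = 2 ∧ Nat.card (I.gen P S5) = 2 * Nat.card (I.gen P S1) :=
  B.plain_lev (a14 I B) (a17 I B) 3 2 0 b11 (pa18 I B) (by decide +kernel)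

theorem card21 : Nat.card (I.gen P S5) = 2 :=
  by have h := (lv20 I B).2.2; rw [(card3 I B)] at h; exact h.trans (by norm_num)

theorem a24 : I.AllS P (I.gen P S23) (msk S23) :=
  Impl.allS_gen (W := [5, 2]) (by decide +kernel)

theorem le25 : (I.gen P S5) ≤ (I.gen P S23) :=
  Impl.gen_le (a24 I B) (by decide +kernel)

theorem a29 : I.AllS P (I.gen P S23) m28 :=
  ((a24 I B).lor ((a14 I B).le (le25 I B))).ext L27 (by decide +kernel)

theorem a32 : I.AllS P (I.gen P S5) m31 :=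
  (a14 I B).ext L30 (by decide +kernel)

theorem pa33 : ∀ s ∈ S23, ∀ p, 0 ≤ p → p < 8 → I.PlainAt P (I.gen P S5) 6 8 s p :=
  Impl.plain_all (a32 I B) (a29 I B) 6 8 S23 W34 (by decide +kernel)

theorem lv35 : (I.gen P S23) ⊓ MulAction.stabilizer Mˣ (B.vd b26) = (I.gen P S5) ∧ (MulAction.orbit (I.gen P S23) (B.vd b26)).ncard = 8 ∧ Nat.card (I.gen P S23) = 8 * Nat.card (I.gen P S5) :=
  B.plain_lev (a29 I B) (a32 I B) 6 8 4 b26 (pa33 I B) (by decide +kernel)

theorem card36 : Nat.card (I.gen P S23) = 16 :=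
  by have h := (lv35 I B).2.2; rw [(card21 I B)] at h; exact h.trans (by norm_num)

theorem a39 : I.AllS P (I.gen P S38) (msk S38) :=
  Impl.allS_gen (W := [15, 5, 2]) (by decide +kernel)

theorem le40 : (I.gen P S23) ≤ (I.gen P S38) :=
  Impl.gen_le (a39 I B) (by decide +kernel)

theorem a44 : I.AllS P (I.gen P S38) m43 :=
  ((a39 I B).lor ((a29 I B).le (le40 I B))).ext L42 (by decide +kernel)

theorem a47 : I.AllS P (I.gen P S23) m46 :=
  (a29 I B).ext L45 (by decide +kernel)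

theorem pa48 : ∀ s ∈ S38, ∀ p, 0 ≤ p → p < 135 → I.PlainAt P (I.gen P S23) 16 135 s p :=
  Impl.plain_all (a47 I B) (a44 I B) 16 135 S38 W49 (by decide +kernel)

theorem lv50 : (I.gen P S38) ⊓ MulAction.stabilizer Mˣ (B.vd b41) = (I.gen P S23) ∧ (MulAction.orbit (I.gen P S38) (B.vd b41)).ncard = 135 ∧ Nat.card (I.gen P S38) = 135 * Nat.card (I.gen P S23) :=
  B.plain_lev (a44 I B) (a47 I B) 16 135 0 b41 (pa48 I B) (by decide +kernel)

theorem card51 : Nat.card (I.gen P S38) = 2160 :=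
  by have h := (lv50 I B).2.2; rw [(card36 I B)] at h; exact h.trans (by norm_num)

theorem a54 : I.AllS P (I.gen P S53) (msk S53) :=
  Impl.allS_gen (W := [152, 15, 5, 2]) (by decide +kernel)

theorem le55 : (I.gen P S38) ≤ (I.gen P S53) :=
  Impl.gen_le (a54 I B) (by decide +kernel)

theorem a60 : I.AllS P (I.gen P S53) m59 :=
  ((a54 I B).lor ((a44 I B).le (le55 I B))).ext L58 (by decide +kernel)

theorem a82 : I.AllS P (I.gen P S38) m81 :=
  (a44 I B).ext L80 (by decide +kernel)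

theorem nt84 : BImpl.Nets (B := B) (P := P) [2] Q79 135 [N83] :=
  BImpl.Nets.cons (a82 I B) 2 N83 (by decide +kernel) (B.nets_nil Q79 135)

theorem nt86 : BImpl.Nets (B := B) (P := P) [5, 2] Q79 135 [N85, N83] :=
  BImpl.Nets.cons (a82 I B) 5 N85 (by decide +kernel) (nt84 I B)

theorem nt88 : BImpl.Nets (B := B) (P := P) [14, 5, 2] Q79 135 [N87, N85, N83] :=
  BImpl.Nets.cons (a82 I B) 14 N87 (by decide +kernel) (nt86 I B)

theorem a91 : I.AllS P (I.gen P S38) m90 :=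
  (a82 I B).ext L89 (by decide +kernel)

theorem ad92 : I.AllS P (dset (I.gen P S38) (I.lset P T57)) (Nat.lor m90 (msk T57)) :=
  Impl.allS_dset (a91 I B) (a60 I B) (by decide +kernel)

theorem ob93 : B.Orb (I.gen P S38) (B.vd b41) Q79 135 :=
  (nt88 I B).orb b41 0 (by decide +kernel)

theorem lc94 : ∀ l ∈ (I.gen P S23), (I.u (P 151))⁻¹ * l * (I.u (P 151)) ∈ (I.gen P S38) :=
  Impl.lconj_gen (a91 I B) ((a60 I B).tb (i := 151) (by decide +kernel)) [7, 16516] (by decide +kernel)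

theorem ak96 : I.AllS P (conjIn (I.gen P S38) (I.u (P 151))) (msk (mapL hd L95)) :=
  Impl.allS_conjIn (a91 I B) ((a60 I B).tb (i := 151) (by decide +kernel)) (by decide +kernel)

theorem a99 : I.AllS P (conjIn (I.gen P S38) (I.u (P 151))) m98 :=
  (ak96 I B).ext L97 (by decide +kernel)

theorem rp102 : BImpl.RepsOn (B := B) (I.gen P S38) (dset (I.gen P S38) (I.lset P T57)) (I.u (P 151)) (I.u (P 151)) (B.vd b41) (V.cube P C100 Q79) 0x7fffffffffffffffffffffffffffffffff :=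
  B.repsOn_of_chk (a91 I B) (ad92 I B) (a60 I B) 151 151 b41 _ R101 _ (by decide +kernel)

theorem dt103 : ∀ h ∈ (I.gen P S38), (I.u (P 151)) * h * (I.u (P 151)) ∈ (dset (I.gen P S38) (I.lset P T57)) :=
  B.dc_t (le_of_eq (lv50 I B).1) (lc94 I B) (ob93 I B) (a99 I B) (rp102 I B) (by decide +kernel)

theorem ak105 : I.AllS P (conjIn (I.gen P S38) (I.u (P 173))) (msk (mapL hd L104)) :=
  Impl.allS_conjIn (a91 I B) ((a60 I B).tb (i := 173) (by decide +kernel)) (by decide +kernel)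

theorem rp108 : BImpl.RepsOn (B := B) (I.gen P S38) (dset (I.gen P S38) (I.lset P T57)) (I.u (P 173)) (I.u (P 151)) (B.vd b41) (V.cube P C106 Q79) 0x7fffffffffffffffffffffffffffffffff :=
  B.repsOn_of_chk (a91 I B) (ad92 I B) (a60 I B) 173 151 b41 _ R107 _ (by decide +kernel)

theorem dt109 : ∀ h ∈ (I.gen P S38), (I.u (P 173)) * h * (I.u (P 151)) ∈ (dset (I.gen P S38) (I.lset P T57)) :=
  B.dc_t (le_of_eq (lv50 I B).1) (lc94 I B) (ob93 I B) (ak105 I B) (rp108 I B) (by decide +kernel)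

theorem ak111 : I.AllS P (conjIn (I.gen P S38) (I.u (P 174))) (msk (mapL hd L110)) :=
  Impl.allS_conjIn (a91 I B) ((a60 I B).tb (i := 174) (by decide +kernel)) (by decide +kernel)

theorem rp114 : BImpl.RepsOn (B := B) (I.gen P S38) (dset (I.gen P S38) (I.lset P T57)) (I.u (P 174)) (I.u (P 151)) (B.vd b41) (V.cube P C112 Q79) 0x7fffffffffffffffffffffffffffffffff :=
  B.repsOn_of_chk (a91 I B) (ad92 I B) (a60 I B) 174 151 b41 _ R113 _ (by decide +kernel)

theorem dt115 : ∀ h ∈ (I.gen P S38), (I.u (P 174)) * h * (I.u (P 151)) ∈ (dset (I.gen P S38) (I.lset P T57)) :=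
  B.dc_t (le_of_eq (lv50 I B).1) (lc94 I B) (ob93 I B) (ak111 I B) (rp114 I B) (by decide +kernel)

theorem ak117 : I.AllS P (conjIn (I.gen P S38) (I.u (P 175))) (msk (mapL hd L116)) :=
  Impl.allS_conjIn (a91 I B) ((a60 I B).tb (i := 175) (by decide +kernel)) (by decide +kernel)

theorem rp120 : BImpl.RepsOn (B := B) (I.gen P S38) (dset (I.gen P S38) (I.lset P T57)) (I.u (P 175)) (I.u (P 151)) (B.vd b41) (V.cube P C118 Q79) 0x7fffffffffffffffffffffffffffffffff :=
  B.repsOn_of_chk (a91 I B) (ad92 I B) (a60 I B) 175 151 b41 _ R119 _ (by decide +kernel)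

theorem dt121 : ∀ h ∈ (I.gen P S38), (I.u (P 175)) * h * (I.u (P 151)) ∈ (dset (I.gen P S38) (I.lset P T57)) :=
  B.dc_t (le_of_eq (lv50 I B).1) (lc94 I B) (ob93 I B) (ak117 I B) (rp120 I B) (by decide +kernel)

theorem ak123 : I.AllS P (conjIn (I.gen P S38) (I.u (P 176))) (msk (mapL hd L122)) :=
  Impl.allS_conjIn (a91 I B) ((a60 I B).tb (i := 176) (by decide +kernel)) (by decide +kernel)

theorem rp126 : BImpl.RepsOn (B := B) (I.gen P S38) (dset (I.gen P S38) (I.lset P T57)) (I.u (P 176)) (I.u (P 151)) (B.vd b41) (V.cube P C124 Q79) 0x7fffffffffffffffffffffffffffffffff :=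
  B.repsOn_of_chk (a91 I B) (ad92 I B) (a60 I B) 176 151 b41 _ R125 _ (by decide +kernel)

theorem dt127 : ∀ h ∈ (I.gen P S38), (I.u (P 176)) * h * (I.u (P 151)) ∈ (dset (I.gen P S38) (I.lset P T57)) :=
  B.dc_t (le_of_eq (lv50 I B).1) (lc94 I B) (ob93 I B) (ak123 I B) (rp126 I B) (by decide +kernel)

theorem ak129 : I.AllS P (conjIn (I.gen P S38) (I.u (P 177))) (msk (mapL hd L128)) :=
  Impl.allS_conjIn (a91 I B) ((a60 I B).tb (i := 177) (by decide +kernel)) (by decide +kernel)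

theorem rp132 : BImpl.RepsOn (B := B) (I.gen P S38) (dset (I.gen P S38) (I.lset P T57)) (I.u (P 177)) (I.u (P 151)) (B.vd b41) (V.cube P C130 Q79) 0x7fffffffffffffffffffffffffffffffff :=
  B.repsOn_of_chk (a91 I B) (ad92 I B) (a60 I B) 177 151 b41 _ R131 _ (by decide +kernel)

theorem dt133 : ∀ h ∈ (I.gen P S38), (I.u (P 177)) * h * (I.u (P 151)) ∈ (dset (I.gen P S38) (I.lset P T57)) :=
  B.dc_t (le_of_eq (lv50 I B).1) (lc94 I B) (ob93 I B) (ak129 I B) (rp132 I B) (by decide +kernel)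

theorem ak135 : I.AllS P (conjIn (I.gen P S38) (I.u (P 178))) (msk (mapL hd L134)) :=
  Impl.allS_conjIn (a91 I B) ((a60 I B).tb (i := 178) (by decide +kernel)) (by decide +kernel)

theorem rp138 : BImpl.RepsOn (B := B) (I.gen P S38) (dset (I.gen P S38) (I.lset P T57)) (I.u (P 178)) (I.u (P 151)) (B.vd b41) (V.cube P C136 Q79) 0x7fffffffffffffffffffffffffffffffff :=
  B.repsOn_of_chk (a91 I B) (ad92 I B) (a60 I B) 178 151 b41 _ R137 _ (by decide +kernel)

theorem dt139 : ∀ h ∈ (I.gen P S38), (I.u (P 178)) * h * (I.u (P 151)) ∈ (dset (I.gen P S38) (I.lset P T57)) :=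
  B.dc_t (le_of_eq (lv50 I B).1) (lc94 I B) (ob93 I B) (ak135 I B) (rp138 I B) (by decide +kernel)

theorem ak141 : I.AllS P (conjIn (I.gen P S38) (I.u (P 179))) (msk (mapL hd L140)) :=
  Impl.allS_conjIn (a91 I B) ((a60 I B).tb (i := 179) (by decide +kernel)) (by decide +kernel)

theorem rp144 : BImpl.RepsOn (B := B) (I.gen P S38) (dset (I.gen P S38) (I.lset P T57)) (I.u (P 179)) (I.u (P 151)) (B.vd b41) (V.cube P C142 Q79) 0x7fffffffffffffffffffffffffffffffff :=
  B.repsOn_of_chk (a91 I B) (ad92 I B) (a60 I B) 179 151 b41 _ R143 _ (by decide +kernel)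

theorem dt145 : ∀ h ∈ (I.gen P S38), (I.u (P 179)) * h * (I.u (P 151)) ∈ (dset (I.gen P S38) (I.lset P T57)) :=
  B.dc_t (le_of_eq (lv50 I B).1) (lc94 I B) (ob93 I B) (ak141 I B) (rp144 I B) (by decide +kernel)

theorem ak147 : I.AllS P (conjIn (I.gen P S38) (I.u (P 180))) (msk (mapL hd L146)) :=
  Impl.allS_conjIn (a91 I B) ((a60 I B).tb (i := 180) (by decide +kernel)) (by decide +kernel)

theorem rp150 : BImpl.RepsOn (B := B) (I.gen P S38) (dset (I.gen P S38) (I.lset P T57)) (I.u (P 180)) (I.u (P 151)) (B.vd b41) (V.cube P C148 Q79) 0x7fffffffffffffffffffffffffffffffff :=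
  B.repsOn_of_chk (a91 I B) (ad92 I B) (a60 I B) 180 151 b41 _ R149 _ (by decide +kernel)

theorem dt151 : ∀ h ∈ (I.gen P S38), (I.u (P 180)) * h * (I.u (P 151)) ∈ (dset (I.gen P S38) (I.lset P T57)) :=
  B.dc_t (le_of_eq (lv50 I B).1) (lc94 I B) (ob93 I B) (ak147 I B) (rp150 I B) (by decide +kernel)

theorem ak153 : I.AllS P (conjIn (I.gen P S38) (I.u (P 181))) (msk (mapL hd L152)) :=
  Impl.allS_conjIn (a91 I B) ((a60 I B).tb (i := 181) (by decide +kernel)) (by decide +kernel)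

theorem rp156 : BImpl.RepsOn (B := B) (I.gen P S38) (dset (I.gen P S38) (I.lset P T57)) (I.u (P 181)) (I.u (P 151)) (B.vd b41) (V.cube P C154 Q79) 0x7fffffffffffffffffffffffffffffffff :=
  B.repsOn_of_chk (a91 I B) (ad92 I B) (a60 I B) 181 151 b41 _ R155 _ (by decide +kernel)

theorem dt157 : ∀ h ∈ (I.gen P S38), (I.u (P 181)) * h * (I.u (P 151)) ∈ (dset (I.gen P S38) (I.lset P T57)) :=
  B.dc_t (le_of_eq (lv50 I B).1) (lc94 I B) (ob93 I B) (ak153 I B) (rp156 I B) (by decide +kernel)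

theorem ak159 : I.AllS P (conjIn (I.gen P S38) (I.u (P 182))) (msk (mapL hd L158)) :=
  Impl.allS_conjIn (a91 I B) ((a60 I B).tb (i := 182) (by decide +kernel)) (by decide +kernel)

theorem a162 : I.AllS P (conjIn (I.gen P S38) (I.u (P 182))) m161 :=
  (ak159 I B).ext L160 (by decide +kernel)

theorem rp165 : BImpl.RepsOn (B := B) (I.gen P S38) (dset (I.gen P S38) (I.lset P T57)) (I.u (P 182)) (I.u (P 151)) (B.vd b41) (V.cube P C163 Q79) 0x7fffffffffffffffffffffffffffffffff :=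
  B.repsOn_of_chk (a91 I B) (ad92 I B) (a60 I B) 182 151 b41 _ R164 _ (by decide +kernel)

theorem dt166 : ∀ h ∈ (I.gen P S38), (I.u (P 182)) * h * (I.u (P 151)) ∈ (dset (I.gen P S38) (I.lset P T57)) :=
  B.dc_t (le_of_eq (lv50 I B).1) (lc94 I B) (ob93 I B) (a162 I B) (rp165 I B) (by decide +kernel)

theorem ak168 : I.AllS P (conjIn (I.gen P S38) (I.u (P 183))) (msk (mapL hd L167)) :=
  Impl.allS_conjIn (a91 I B) ((a60 I B).tb (i := 183) (by decide +kernel)) (by decide +kernel)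

theorem a171 : I.AllS P (conjIn (I.gen P S38) (I.u (P 183))) m170 :=
  (ak168 I B).ext L169 (by decide +kernel)

theorem rp174 : BImpl.RepsOn (B := B) (I.gen P S38) (dset (I.gen P S38) (I.lset P T57)) (I.u (P 183)) (I.u (P 151)) (B.vd b41) (V.cube P C172 Q79) 0x7fffffffffffffffffffffffffffffffff :=
  B.repsOn_of_chk (a91 I B) (ad92 I B) (a60 I B) 183 151 b41 _ R173 _ (by decide +kernel)

theorem dt175 : ∀ h ∈ (I.gen P S38), (I.u (P 183)) * h * (I.u (P 151)) ∈ (dset (I.gen P S38) (I.lset P T57)) :=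
  B.dc_t (le_of_eq (lv50 I B).1) (lc94 I B) (ob93 I B) (a171 I B) (rp174 I B) (by decide +kernel)

theorem ak177 : I.AllS P (conjIn (I.gen P S38) (I.u (P 184))) (msk (mapL hd L176)) :=
  Impl.allS_conjIn (a91 I B) ((a60 I B).tb (i := 184) (by decide +kernel)) (by decide +kernel)

theorem rp180 : BImpl.RepsOn (B := B) (I.gen P S38) (dset (I.gen P S38) (I.lset P T57)) (I.u (P 184)) (I.u (P 151)) (B.vd b41) (V.cube P C178 Q79) 0x7fffffffffffffffffffffffffffffffff :=
  B.repsOn_of_chk (a91 I B) (ad92 I B) (a60 I B) 184 151 b41 _ R179 _ (by decide +kernel)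

theorem dt181 : ∀ h ∈ (I.gen P S38), (I.u (P 184)) * h * (I.u (P 151)) ∈ (dset (I.gen P S38) (I.lset P T57)) :=
  B.dc_t (le_of_eq (lv50 I B).1) (lc94 I B) (ob93 I B) (ak177 I B) (rp180 I B) (by decide +kernel)

theorem ak183 : I.AllS P (conjIn (I.gen P S38) (I.u (P 185))) (msk (mapL hd L182)) :=
  Impl.allS_conjIn (a91 I B) ((a60 I B).tb (i := 185) (by decide +kernel)) (by decide +kernel)

theorem rp186 : BImpl.RepsOn (B := B) (I.gen P S38) (dset (I.gen P S38) (I.lset P T57)) (I.u (P 185)) (I.u (P 151)) (B.vd b41) (V.cube P C184 Q79) 0x7fffffffffffffffffffffffffffffffff :=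
  B.repsOn_of_chk (a91 I B) (ad92 I B) (a60 I B) 185 151 b41 _ R185 _ (by decide +kernel)

theorem dt187 : ∀ h ∈ (I.gen P S38), (I.u (P 185)) * h * (I.u (P 151)) ∈ (dset (I.gen P S38) (I.lset P T57)) :=
  B.dc_t (le_of_eq (lv50 I B).1) (lc94 I B) (ob93 I B) (ak183 I B) (rp186 I B) (by decide +kernel)

theorem ak189 : I.AllS P (conjIn (I.gen P S38) (I.u (P 186))) (msk (mapL hd L188)) :=
  Impl.allS_conjIn (a91 I B) ((a60 I B).tb (i := 186) (by decide +kernel)) (by decide +kernel)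

theorem rp192 : BImpl.RepsOn (B := B) (I.gen P S38) (dset (I.gen P S38) (I.lset P T57)) (I.u (P 186)) (I.u (P 151)) (B.vd b41) (V.cube P C190 Q79) 0x7fffffffffffffffffffffffffffffffff :=
  B.repsOn_of_chk (a91 I B) (ad92 I B) (a60 I B) 186 151 b41 _ R191 _ (by decide +kernel)

theorem dt193 : ∀ h ∈ (I.gen P S38), (I.u (P 186)) * h * (I.u (P 151)) ∈ (dset (I.gen P S38) (I.lset P T57)) :=
  B.dc_t (le_of_eq (lv50 I B).1) (lc94 I B) (ob93 I B) (ak189 I B) (rp192 I B) (by decide +kernel)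

theorem ak195 : I.AllS P (conjIn (I.gen P S38) (I.u (P 187))) (msk (mapL hd L194)) :=
  Impl.allS_conjIn (a91 I B) ((a60 I B).tb (i := 187) (by decide +kernel)) (by decide +kernel)

theorem rp198 : BImpl.RepsOn (B := B) (I.gen P S38) (dset (I.gen P S38) (I.lset P T57)) (I.u (P 187)) (I.u (P 151)) (B.vd b41) (V.cube P C196 Q79) 0x7fffffffffffffffffffffffffffffffff :=
  B.repsOn_of_chk (a91 I B) (ad92 I B) (a60 I B) 187 151 b41 _ R197 _ (by decide +kernel)

theorem dt199 : ∀ h ∈ (I.gen P S38), (I.u (P 187)) * h * (I.u (P 151)) ∈ (dset (I.gen P S38) (I.lset P T57)) :=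
  B.dc_t (le_of_eq (lv50 I B).1) (lc94 I B) (ob93 I B) (ak195 I B) (rp198 I B) (by decide +kernel)

theorem ak201 : I.AllS P (conjIn (I.gen P S38) (I.u (P 188))) (msk (mapL hd L200)) :=
  Impl.allS_conjIn (a91 I B) ((a60 I B).tb (i := 188) (by decide +kernel)) (by decide +kernel)

theorem rp204 : BImpl.RepsOn (B := B) (I.gen P S38) (dset (I.gen P S38) (I.lset P T57)) (I.u (P 188)) (I.u (P 151)) (B.vd b41) (V.cube P C202 Q79) 0x7fffffffffffffffffffffffffffffffff :=
  B.repsOn_of_chk (a91 I B) (ad92 I B) (a60 I B) 188 151 b41 _ R203 _ (by decide +kernel)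

theorem dt205 : ∀ h ∈ (I.gen P S38), (I.u (P 188)) * h * (I.u (P 151)) ∈ (dset (I.gen P S38) (I.lset P T57)) :=
  B.dc_t (le_of_eq (lv50 I B).1) (lc94 I B) (ob93 I B) (ak201 I B) (rp204 I B) (by decide +kernel)

theorem ak207 : I.AllS P (conjIn (I.gen P S38) (I.u (P 189))) (msk (mapL hd L206)) :=
  Impl.allS_conjIn (a91 I B) ((a60 I B).tb (i := 189) (by decide +kernel)) (by decide +kernel)

theorem rp210 : BImpl.RepsOn (B := B) (I.gen P S38) (dset (I.gen P S38) (I.lset P T57)) (I.u (P 189)) (I.u (P 151)) (B.vd b41) (V.cube P C208 Q79) 0x7fffffffffffffffffffffffffffffffff :=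
  B.repsOn_of_chk (a91 I B) (ad92 I B) (a60 I B) 189 151 b41 _ R209 _ (by decide +kernel)

theorem dt211 : ∀ h ∈ (I.gen P S38), (I.u (P 189)) * h * (I.u (P 151)) ∈ (dset (I.gen P S38) (I.lset P T57)) :=
  B.dc_t (le_of_eq (lv50 I B).1) (lc94 I B) (ob93 I B) (ak207 I B) (rp210 I B) (by decide +kernel)

theorem ak213 : I.AllS P (conjIn (I.gen P S38) (I.u (P 190))) (msk (mapL hd L212)) :=
  Impl.allS_conjIn (a91 I B) ((a60 I B).tb (i := 190) (by decide +kernel)) (by decide +kernel)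

theorem rp216 : BImpl.RepsOn (B := B) (I.gen P S38) (dset (I.gen P S38) (I.lset P T57)) (I.u (P 190)) (I.u (P 151)) (B.vd b41) (V.cube P C214 Q79) 0x7fffffffffffffffffffffffffffffffff :=
  B.repsOn_of_chk (a91 I B) (ad92 I B) (a60 I B) 190 151 b41 _ R215 _ (by decide +kernel)

theorem dt217 : ∀ h ∈ (I.gen P S38), (I.u (P 190)) * h * (I.u (P 151)) ∈ (dset (I.gen P S38) (I.lset P T57)) :=
  B.dc_t (le_of_eq (lv50 I B).1) (lc94 I B) (ob93 I B) (ak213 I B) (rp216 I B) (by decide +kernel)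

theorem ak219 : I.AllS P (conjIn (I.gen P S38) (I.u (P 191))) (msk (mapL hd L218)) :=
  Impl.allS_conjIn (a91 I B) ((a60 I B).tb (i := 191) (by decide +kernel)) (by decide +kernel)

theorem rp222 : BImpl.RepsOn (B := B) (I.gen P S38) (dset (I.gen P S38) (I.lset P T57)) (I.u (P 191)) (I.u (P 151)) (B.vd b41) (V.cube P C220 Q79) 0x7fffffffffffffffffffffffffffffffff :=
  B.repsOn_of_chk (a91 I B) (ad92 I B) (a60 I B) 191 151 b41 _ R221 _ (by decide +kernel)

theorem dt223 : ∀ h ∈ (I.gen P S38), (I.u (P 191)) * h * (I.u (P 151)) ∈ (dset (I.gen P S38) (I.lset P T57)) :=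
  B.dc_t (le_of_eq (lv50 I B).1) (lc94 I B) (ob93 I B) (ak219 I B) (rp222 I B) (by decide +kernel)

theorem ak225 : I.AllS P (conjIn (I.gen P S38) (I.u (P 192))) (msk (mapL hd L224)) :=
  Impl.allS_conjIn (a91 I B) ((a60 I B).tb (i := 192) (by decide +kernel)) (by decide +kernel)

theorem rp228 : BImpl.RepsOn (B := B) (I.gen P S38) (dset (I.gen P S38) (I.lset P T57)) (I.u (P 192)) (I.u (P 151)) (B.vd b41) (V.cube P C226 Q79) 0x7fffffffffffffffffffffffffffffffff :=
  B.repsOn_of_chk (a91 I B) (ad92 I B) (a60 I B) 192 151 b41 _ R227 _ (by decide +kernel)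

theorem dt229 : ∀ h ∈ (I.gen P S38), (I.u (P 192)) * h * (I.u (P 151)) ∈ (dset (I.gen P S38) (I.lset P T57)) :=
  B.dc_t (le_of_eq (lv50 I B).1) (lc94 I B) (ob93 I B) (ak225 I B) (rp228 I B) (by decide +kernel)

theorem ak231 : I.AllS P (conjIn (I.gen P S38) (I.u (P 193))) (msk (mapL hd L230)) :=
  Impl.allS_conjIn (a91 I B) ((a60 I B).tb (i := 193) (by decide +kernel)) (by decide +kernel)

theorem rp234 : BImpl.RepsOn (B := B) (I.gen P S38) (dset (I.gen P S38) (I.lset P T57)) (I.u (P 193)) (I.u (P 151)) (B.vd b41) (V.cube P C232 Q79) 0x7fffffffffffffffffffffffffffffffff :=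
  B.repsOn_of_chk (a91 I B) (ad92 I B) (a60 I B) 193 151 b41 _ R233 _ (by decide +kernel)

theorem dt235 : ∀ h ∈ (I.gen P S38), (I.u (P 193)) * h * (I.u (P 151)) ∈ (dset (I.gen P S38) (I.lset P T57)) :=
  B.dc_t (le_of_eq (lv50 I B).1) (lc94 I B) (ob93 I B) (ak231 I B) (rp234 I B) (by decide +kernel)

theorem ak237 : I.AllS P (conjIn (I.gen P S38) (I.u (P 194))) (msk (mapL hd L236)) :=
  Impl.allS_conjIn (a91 I B) ((a60 I B).tb (i := 194) (by decide +kernel)) (by decide +kernel)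

theorem rp240 : BImpl.RepsOn (B := B) (I.gen P S38) (dset (I.gen P S38) (I.lset P T57)) (I.u (P 194)) (I.u (P 151)) (B.vd b41) (V.cube P C238 Q79) 0x7fffffffffffffffffffffffffffffffff :=
  B.repsOn_of_chk (a91 I B) (ad92 I B) (a60 I B) 194 151 b41 _ R239 _ (by decide +kernel)

theorem dt241 : ∀ h ∈ (I.gen P S38), (I.u (P 194)) * h * (I.u (P 151)) ∈ (dset (I.gen P S38) (I.lset P T57)) :=
  B.dc_t (le_of_eq (lv50 I B).1) (lc94 I B) (ob93 I B) (ak237 I B) (rp240 I B) (by decide +kernel)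

theorem ak243 : I.AllS P (conjIn (I.gen P S38) (I.u (P 195))) (msk (mapL hd L242)) :=
  Impl.allS_conjIn (a91 I B) ((a60 I B).tb (i := 195) (by decide +kernel)) (by decide +kernel)

theorem rp246 : BImpl.RepsOn (B := B) (I.gen P S38) (dset (I.gen P S38) (I.lset P T57)) (I.u (P 195)) (I.u (P 151)) (B.vd b41) (V.cube P C244 Q79) 0x7fffffffffffffffffffffffffffffffff :=
  B.repsOn_of_chk (a91 I B) (ad92 I B) (a60 I B) 195 151 b41 _ R245 _ (by decide +kernel)

theorem dt247 : ∀ h ∈ (I.gen P S38), (I.u (P 195)) * h * (I.u (P 151)) ∈ (dset (I.gen P S38) (I.lset P T57)) :=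
  B.dc_t (le_of_eq (lv50 I B).1) (lc94 I B) (ob93 I B) (ak243 I B) (rp246 I B) (by decide +kernel)

theorem ak249 : I.AllS P (conjIn (I.gen P S38) (I.u (P 196))) (msk (mapL hd L248)) :=
  Impl.allS_conjIn (a91 I B) ((a60 I B).tb (i := 196) (by decide +kernel)) (by decide +kernel)

theorem rp252 : BImpl.RepsOn (B := B) (I.gen P S38) (dset (I.gen P S38) (I.lset P T57)) (I.u (P 196)) (I.u (P 151)) (B.vd b41) (V.cube P C250 Q79) 0x7fffffffffffffffffffffffffffffffff :=
  B.repsOn_of_chk (a91 I B) (ad92 I B) (a60 I B) 196 151 b41 _ R251 _ (by decide +kernel)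

theorem dt253 : ∀ h ∈ (I.gen P S38), (I.u (P 196)) * h * (I.u (P 151)) ∈ (dset (I.gen P S38) (I.lset P T57)) :=
  B.dc_t (le_of_eq (lv50 I B).1) (lc94 I B) (ob93 I B) (ak249 I B) (rp252 I B) (by decide +kernel)

theorem ak255 : I.AllS P (conjIn (I.gen P S38) (I.u (P 197))) (msk (mapL hd L254)) :=
  Impl.allS_conjIn (a91 I B) ((a60 I B).tb (i := 197) (by decide +kernel)) (by decide +kernel)

theorem a258 : I.AllS P (conjIn (I.gen P S38) (I.u (P 197))) m257 :=
  (ak255 I B).ext L256 (by decide +kernel)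

theorem rp261 : BImpl.RepsOn (B := B) (I.gen P S38) (dset (I.gen P S38) (I.lset P T57)) (I.u (P 197)) (I.u (P 151)) (B.vd b41) (V.cube P C259 Q79) 0x7fffffffffffffffffffffffffffffffff :=
  B.repsOn_of_chk (a91 I B) (ad92 I B) (a60 I B) 197 151 b41 _ R260 _ (by decide +kernel)

theorem dt262 : ∀ h ∈ (I.gen P S38), (I.u (P 197)) * h * (I.u (P 151)) ∈ (dset (I.gen P S38) (I.lset P T57)) :=
  B.dc_t (le_of_eq (lv50 I B).1) (lc94 I B) (ob93 I B) (a258 I B) (rp261 I B) (by decide +kernel)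

theorem ak264 : I.AllS P (conjIn (I.gen P S38) (I.u (P 198))) (msk (mapL hd L263)) :=
  Impl.allS_conjIn (a91 I B) ((a60 I B).tb (i := 198) (by decide +kernel)) (by decide +kernel)

theorem rp267 : BImpl.RepsOn (B := B) (I.gen P S38) (dset (I.gen P S38) (I.lset P T57)) (I.u (P 198)) (I.u (P 151)) (B.vd b41) (V.cube P C265 Q79) 0x7fffffffffffffffffffffffffffffffff :=
  B.repsOn_of_chk (a91 I B) (ad92 I B) (a60 I B) 198 151 b41 _ R266 _ (by decide +kernel)

theorem dt268 : ∀ h ∈ (I.gen P S38), (I.u (P 198)) * h * (I.u (P 151)) ∈ (dset (I.gen P S38) (I.lset P T57)) :=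
  B.dc_t (le_of_eq (lv50 I B).1) (lc94 I B) (ob93 I B) (ak264 I B) (rp267 I B) (by decide +kernel)

theorem ak270 : I.AllS P (conjIn (I.gen P S38) (I.u (P 199))) (msk (mapL hd L269)) :=
  Impl.allS_conjIn (a91 I B) ((a60 I B).tb (i := 199) (by decide +kernel)) (by decide +kernel)

theorem rp273 : BImpl.RepsOn (B := B) (I.gen P S38) (dset (I.gen P S38) (I.lset P T57)) (I.u (P 199)) (I.u (P 151)) (B.vd b41) (V.cube P C271 Q79) 0x7fffffffffffffffffffffffffffffffff :=
  B.repsOn_of_chk (a91 I B) (ad92 I B) (a60 I B) 199 151 b41 _ R272 _ (by decide +kernel)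

theorem dt274 : ∀ h ∈ (I.gen P S38), (I.u (P 199)) * h * (I.u (P 151)) ∈ (dset (I.gen P S38) (I.lset P T57)) :=
  B.dc_t (le_of_eq (lv50 I B).1) (lc94 I B) (ob93 I B) (ak270 I B) (rp273 I B) (by decide +kernel)

theorem ak276 : I.AllS P (conjIn (I.gen P S38) (I.u (P 200))) (msk (mapL hd L275)) :=
  Impl.allS_conjIn (a91 I B) ((a60 I B).tb (i := 200) (by decide +kernel)) (by decide +kernel)

theorem rp279 : BImpl.RepsOn (B := B) (I.gen P S38) (dset (I.gen P S38) (I.lset P T57)) (I.u (P 200)) (I.u (P 151)) (B.vd b41) (V.cube P C277 Q79) 0x7fffffffffffffffffffffffffffffffff :=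
  B.repsOn_of_chk (a91 I B) (ad92 I B) (a60 I B) 200 151 b41 _ R278 _ (by decide +kernel)

theorem dt280 : ∀ h ∈ (I.gen P S38), (I.u (P 200)) * h * (I.u (P 151)) ∈ (dset (I.gen P S38) (I.lset P T57)) :=
  B.dc_t (le_of_eq (lv50 I B).1) (lc94 I B) (ob93 I B) (ak276 I B) (rp279 I B) (by decide +kernel)

theorem ak282 : I.AllS P (conjIn (I.gen P S38) (I.u (P 201))) (msk (mapL hd L281)) :=
  Impl.allS_conjIn (a91 I B) ((a60 I B).tb (i := 201) (by decide +kernel)) (by decide +kernel)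

theorem rp285 : BImpl.RepsOn (B := B) (I.gen P S38) (dset (I.gen P S38) (I.lset P T57)) (I.u (P 201)) (I.u (P 151)) (B.vd b41) (V.cube P C283 Q79) 0x7fffffffffffffffffffffffffffffffff :=
  B.repsOn_of_chk (a91 I B) (ad92 I B) (a60 I B) 201 151 b41 _ R284 _ (by decide +kernel)

theorem dt286 : ∀ h ∈ (I.gen P S38), (I.u (P 201)) * h * (I.u (P 151)) ∈ (dset (I.gen P S38) (I.lset P T57)) :=
  B.dc_t (le_of_eq (lv50 I B).1) (lc94 I B) (ob93 I B) (ak282 I B) (rp285 I B) (by decide +kernel)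

theorem ak288 : I.AllS P (conjIn (I.gen P S38) (I.u (P 202))) (msk (mapL hd L287)) :=
  Impl.allS_conjIn (a91 I B) ((a60 I B).tb (i := 202) (by decide +kernel)) (by decide +kernel)

theorem rp291 : BImpl.RepsOn (B := B) (I.gen P S38) (dset (I.gen P S38) (I.lset P T57)) (I.u (P 202)) (I.u (P 151)) (B.vd b41) (V.cube P C289 Q79) 0x7fffffffffffffffffffffffffffffffff :=
  B.repsOn_of_chk (a91 I B) (ad92 I B) (a60 I B) 202 151 b41 _ R290 _ (by decide +kernel)

theorem dt292 : ∀ h ∈ (I.gen P S38), (I.u (P 202)) * h * (I.u (P 151)) ∈ (dset (I.gen P S38) (I.lset P T57)) :=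
  B.dc_t (le_of_eq (lv50 I B).1) (lc94 I B) (ob93 I B) (ak288 I B) (rp291 I B) (by decide +kernel)

theorem ak294 : I.AllS P (conjIn (I.gen P S38) (I.u (P 203))) (msk (mapL hd L293)) :=
  Impl.allS_conjIn (a91 I B) ((a60 I B).tb (i := 203) (by decide +kernel)) (by decide +kernel)

theorem a297 : I.AllS P (conjIn (I.gen P S38) (I.u (P 203))) m296 :=
  (ak294 I B).ext L295 (by decide +kernel)

theorem rp300 : BImpl.RepsOn (B := B) (I.gen P S38) (dset (I.gen P S38) (I.lset P T57)) (I.u (P 203)) (I.u (P 151)) (B.vd b41) (V.cube P C298 Q79) 0x7fffffffffffffffffffffffffffffffff :=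
  B.repsOn_of_chk (a91 I B) (ad92 I B) (a60 I B) 203 151 b41 _ R299 _ (by decide +kernel)

theorem dt301 : ∀ h ∈ (I.gen P S38), (I.u (P 203)) * h * (I.u (P 151)) ∈ (dset (I.gen P S38) (I.lset P T57)) :=
  B.dc_t (le_of_eq (lv50 I B).1) (lc94 I B) (ob93 I B) (a297 I B) (rp300 I B) (by decide +kernel)

theorem ak303 : I.AllS P (conjIn (I.gen P S38) (I.u (P 204))) (msk (mapL hd L302)) :=
  Impl.allS_conjIn (a91 I B) ((a60 I B).tb (i := 204) (by decide +kernel)) (by decide +kernel)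

theorem rp306 : BImpl.RepsOn (B := B) (I.gen P S38) (dset (I.gen P S38) (I.lset P T57)) (I.u (P 204)) (I.u (P 151)) (B.vd b41) (V.cube P C304 Q79) 0x7fffffffffffffffffffffffffffffffff :=
  B.repsOn_of_chk (a91 I B) (ad92 I B) (a60 I B) 204 151 b41 _ R305 _ (by decide +kernel)

theorem dt307 : ∀ h ∈ (I.gen P S38), (I.u (P 204)) * h * (I.u (P 151)) ∈ (dset (I.gen P S38) (I.lset P T57)) :=
  B.dc_t (le_of_eq (lv50 I B).1) (lc94 I B) (ob93 I B) (ak303 I B) (rp306 I B) (by decide +kernel)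

theorem ak309 : I.AllS P (conjIn (I.gen P S38) (I.u (P 205))) (msk (mapL hd L308)) :=
  Impl.allS_conjIn (a91 I B) ((a60 I B).tb (i := 205) (by decide +kernel)) (by decide +kernel)

theorem rp312 : BImpl.RepsOn (B := B) (I.gen P S38) (dset (I.gen P S38) (I.lset P T57)) (I.u (P 205)) (I.u (P 151)) (B.vd b41) (V.cube P C310 Q79) 0x7fffffffffffffffffffffffffffffffff :=
  B.repsOn_of_chk (a91 I B) (ad92 I B) (a60 I B) 205 151 b41 _ R311 _ (by decide +kernel)

theorem dt313 : ∀ h ∈ (I.gen P S38), (I.u (P 205)) * h * (I.u (P 151)) ∈ (dset (I.gen P S38) (I.lset P T57)) :=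
  B.dc_t (le_of_eq (lv50 I B).1) (lc94 I B) (ob93 I B) (ak309 I B) (rp312 I B) (by decide +kernel)

theorem ak315 : I.AllS P (conjIn (I.gen P S38) (I.u (P 206))) (msk (mapL hd L314)) :=
  Impl.allS_conjIn (a91 I B) ((a60 I B).tb (i := 206) (by decide +kernel)) (by decide +kernel)

theorem rp318 : BImpl.RepsOn (B := B) (I.gen P S38) (dset (I.gen P S38) (I.lset P T57)) (I.u (P 206)) (I.u (P 151)) (B.vd b41) (V.cube P C316 Q79) 0x7fffffffffffffffffffffffffffffffff :=
  B.repsOn_of_chk (a91 I B) (ad92 I B) (a60 I B) 206 151 b41 _ R317 _ (by decide +kernel)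

theorem dt319 : ∀ h ∈ (I.gen P S38), (I.u (P 206)) * h * (I.u (P 151)) ∈ (dset (I.gen P S38) (I.lset P T57)) :=
  B.dc_t (le_of_eq (lv50 I B).1) (lc94 I B) (ob93 I B) (ak315 I B) (rp318 I B) (by decide +kernel)

theorem ak321 : I.AllS P (conjIn (I.gen P S38) (I.u (P 207))) (msk (mapL hd L320)) :=
  Impl.allS_conjIn (a91 I B) ((a60 I B).tb (i := 207) (by decide +kernel)) (by decide +kernel)

theorem rp324 : BImpl.RepsOn (B := B) (I.gen P S38) (dset (I.gen P S38) (I.lset P T57)) (I.u (P 207)) (I.u (P 151)) (B.vd b41) (V.cube P C322 Q79) 0x7fffffffffffffffffffffffffffffffff :=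
  B.repsOn_of_chk (a91 I B) (ad92 I B) (a60 I B) 207 151 b41 _ R323 _ (by decide +kernel)

theorem dt325 : ∀ h ∈ (I.gen P S38), (I.u (P 207)) * h * (I.u (P 151)) ∈ (dset (I.gen P S38) (I.lset P T57)) :=
  B.dc_t (le_of_eq (lv50 I B).1) (lc94 I B) (ob93 I B) (ak321 I B) (rp324 I B) (by decide +kernel)

theorem ak327 : I.AllS P (conjIn (I.gen P S38) (I.u (P 208))) (msk (mapL hd L326)) :=
  Impl.allS_conjIn (a91 I B) ((a60 I B).tb (i := 208) (by decide +kernel)) (by decide +kernel)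

theorem rp330 : BImpl.RepsOn (B := B) (I.gen P S38) (dset (I.gen P S38) (I.lset P T57)) (I.u (P 208)) (I.u (P 151)) (B.vd b41) (V.cube P C328 Q79) 0x7fffffffffffffffffffffffffffffffff :=
  B.repsOn_of_chk (a91 I B) (ad92 I B) (a60 I B) 208 151 b41 _ R329 _ (by decide +kernel)

theorem dt331 : ∀ h ∈ (I.gen P S38), (I.u (P 208)) * h * (I.u (P 151)) ∈ (dset (I.gen P S38) (I.lset P T57)) :=
  B.dc_t (le_of_eq (lv50 I B).1) (lc94 I B) (ob93 I B) (ak327 I B) (rp330 I B) (by decide +kernel)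

theorem ak333 : I.AllS P (conjIn (I.gen P S38) (I.u (P 209))) (msk (mapL hd L332)) :=
  Impl.allS_conjIn (a91 I B) ((a60 I B).tb (i := 209) (by decide +kernel)) (by decide +kernel)

theorem rp336 : BImpl.RepsOn (B := B) (I.gen P S38) (dset (I.gen P S38) (I.lset P T57)) (I.u (P 209)) (I.u (P 151)) (B.vd b41) (V.cube P C334 Q79) 0x7fffffffffffffffffffffffffffffffff :=
  B.repsOn_of_chk (a91 I B) (ad92 I B) (a60 I B) 209 151 b41 _ R335 _ (by decide +kernel)

theorem dt337 : ∀ h ∈ (I.gen P S38), (I.u (P 209)) * h * (I.u (P 151)) ∈ (dset (I.gen P S38) (I.lset P T57)) :=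
  B.dc_t (le_of_eq (lv50 I B).1) (lc94 I B) (ob93 I B) (ak333 I B) (rp336 I B) (by decide +kernel)

theorem ak339 : I.AllS P (conjIn (I.gen P S38) (I.u (P 210))) (msk (mapL hd L338)) :=
  Impl.allS_conjIn (a91 I B) ((a60 I B).tb (i := 210) (by decide +kernel)) (by decide +kernel)

theorem rp342 : BImpl.RepsOn (B := B) (I.gen P S38) (dset (I.gen P S38) (I.lset P T57)) (I.u (P 210)) (I.u (P 151)) (B.vd b41) (V.cube P C340 Q79) 0x7fffffffffffffffffffffffffffffffff :=
  B.repsOn_of_chk (a91 I B) (ad92 I B) (a60 I B) 210 151 b41 _ R341 _ (by decide +kernel)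

theorem dt343 : ∀ h ∈ (I.gen P S38), (I.u (P 210)) * h * (I.u (P 151)) ∈ (dset (I.gen P S38) (I.lset P T57)) :=
  B.dc_t (le_of_eq (lv50 I B).1) (lc94 I B) (ob93 I B) (ak339 I B) (rp342 I B) (by decide +kernel)

theorem ak345 : I.AllS P (conjIn (I.gen P S38) (I.u (P 211))) (msk (mapL hd L344)) :=
  Impl.allS_conjIn (a91 I B) ((a60 I B).tb (i := 211) (by decide +kernel)) (by decide +kernel)

theorem rp348 : BImpl.RepsOn (B := B) (I.gen P S38) (dset (I.gen P S38) (I.lset P T57)) (I.u (P 211)) (I.u (P 151)) (B.vd b41) (V.cube P C346 Q79) 0x7fffffffffffffffffffffffffffffffff :=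
  B.repsOn_of_chk (a91 I B) (ad92 I B) (a60 I B) 211 151 b41 _ R347 _ (by decide +kernel)

theorem dt349 : ∀ h ∈ (I.gen P S38), (I.u (P 211)) * h * (I.u (P 151)) ∈ (dset (I.gen P S38) (I.lset P T57)) :=
  B.dc_t (le_of_eq (lv50 I B).1) (lc94 I B) (ob93 I B) (ak345 I B) (rp348 I B) (by decide +kernel)

theorem ak351 : I.AllS P (conjIn (I.gen P S38) (I.u (P 212))) (msk (mapL hd L350)) :=
  Impl.allS_conjIn (a91 I B) ((a60 I B).tb (i := 212) (by decide +kernel)) (by decide +kernel)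

theorem rp354 : BImpl.RepsOn (B := B) (I.gen P S38) (dset (I.gen P S38) (I.lset P T57)) (I.u (P 212)) (I.u (P 151)) (B.vd b41) (V.cube P C352 Q79) 0x7fffffffffffffffffffffffffffffffff :=
  B.repsOn_of_chk (a91 I B) (ad92 I B) (a60 I B) 212 151 b41 _ R353 _ (by decide +kernel)

theorem dt355 : ∀ h ∈ (I.gen P S38), (I.u (P 212)) * h * (I.u (P 151)) ∈ (dset (I.gen P S38) (I.lset P T57)) :=
  B.dc_t (le_of_eq (lv50 I B).1) (lc94 I B) (ob93 I B) (ak351 I B) (rp354 I B) (by decide +kernel)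

theorem ak357 : I.AllS P (conjIn (I.gen P S38) (I.u (P 213))) (msk (mapL hd L356)) :=
  Impl.allS_conjIn (a91 I B) ((a60 I B).tb (i := 213) (by decide +kernel)) (by decide +kernel)

theorem rp360 : BImpl.RepsOn (B := B) (I.gen P S38) (dset (I.gen P S38) (I.lset P T57)) (I.u (P 213)) (I.u (P 151)) (B.vd b41) (V.cube P C358 Q79) 0x7fffffffffffffffffffffffffffffffff :=
  B.repsOn_of_chk (a91 I B) (ad92 I B) (a60 I B) 213 151 b41 _ R359 _ (by decide +kernel)

theorem dt361 : ∀ h ∈ (I.gen P S38), (I.u (P 213)) * h * (I.u (P 151)) ∈ (dset (I.gen P S38) (I.lset P T57)) :=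
  B.dc_t (le_of_eq (lv50 I B).1) (lc94 I B) (ob93 I B) (ak357 I B) (rp360 I B) (by decide +kernel)

theorem ak363 : I.AllS P (conjIn (I.gen P S38) (I.u (P 214))) (msk (mapL hd L362)) :=
  Impl.allS_conjIn (a91 I B) ((a60 I B).tb (i := 214) (by decide +kernel)) (by decide +kernel)

theorem rp366 : BImpl.RepsOn (B := B) (I.gen P S38) (dset (I.gen P S38) (I.lset P T57)) (I.u (P 214)) (I.u (P 151)) (B.vd b41) (V.cube P C364 Q79) 0x7fffffffffffffffffffffffffffffffff :=
  B.repsOn_of_chk (a91 I B) (ad92 I B) (a60 I B) 214 151 b41 _ R365 _ (by decide +kernel)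

theorem dt367 : ∀ h ∈ (I.gen P S38), (I.u (P 214)) * h * (I.u (P 151)) ∈ (dset (I.gen P S38) (I.lset P T57)) :=
  B.dc_t (le_of_eq (lv50 I B).1) (lc94 I B) (ob93 I B) (ak363 I B) (rp366 I B) (by decide +kernel)

theorem ak369 : I.AllS P (conjIn (I.gen P S38) (I.u (P 215))) (msk (mapL hd L368)) :=
  Impl.allS_conjIn (a91 I B) ((a60 I B).tb (i := 215) (by decide +kernel)) (by decide +kernel)

theorem rp372 : BImpl.RepsOn (B := B) (I.gen P S38) (dset (I.gen P S38) (I.lset P T57)) (I.u (P 215)) (I.u (P 151)) (B.vd b41) (V.cube P C370 Q79) 0x7fffffffffffffffffffffffffffffffff :=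
  B.repsOn_of_chk (a91 I B) (ad92 I B) (a60 I B) 215 151 b41 _ R371 _ (by decide +kernel)

theorem dt373 : ∀ h ∈ (I.gen P S38), (I.u (P 215)) * h * (I.u (P 151)) ∈ (dset (I.gen P S38) (I.lset P T57)) :=
  B.dc_t (le_of_eq (lv50 I B).1) (lc94 I B) (ob93 I B) (ak369 I B) (rp372 I B) (by decide +kernel)

theorem ak375 : I.AllS P (conjIn (I.gen P S38) (I.u (P 216))) (msk (mapL hd L374)) :=
  Impl.allS_conjIn (a91 I B) ((a60 I B).tb (i := 216) (by decide +kernel)) (by decide +kernel)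

theorem rp378 : BImpl.RepsOn (B := B) (I.gen P S38) (dset (I.gen P S38) (I.lset P T57)) (I.u (P 216)) (I.u (P 151)) (B.vd b41) (V.cube P C376 Q79) 0x7fffffffffffffffffffffffffffffffff :=
  B.repsOn_of_chk (a91 I B) (ad92 I B) (a60 I B) 216 151 b41 _ R377 _ (by decide +kernel)

theorem dt379 : ∀ h ∈ (I.gen P S38), (I.u (P 216)) * h * (I.u (P 151)) ∈ (dset (I.gen P S38) (I.lset P T57)) :=
  B.dc_t (le_of_eq (lv50 I B).1) (lc94 I B) (ob93 I B) (ak375 I B) (rp378 I B) (by decide +kernel)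

theorem ak381 : I.AllS P (conjIn (I.gen P S38) (I.u (P 217))) (msk (mapL hd L380)) :=
  Impl.allS_conjIn (a91 I B) ((a60 I B).tb (i := 217) (by decide +kernel)) (by decide +kernel)

theorem rp384 : BImpl.RepsOn (B := B) (I.gen P S38) (dset (I.gen P S38) (I.lset P T57)) (I.u (P 217)) (I.u (P 151)) (B.vd b41) (V.cube P C382 Q79) 0x7fffffffffffffffffffffffffffffffff :=
  B.repsOn_of_chk (a91 I B) (ad92 I B) (a60 I B) 217 151 b41 _ R383 _ (by decide +kernel)

theorem dt385 : ∀ h ∈ (I.gen P S38), (I.u (P 217)) * h * (I.u (P 151)) ∈ (dset (I.gen P S38) (I.lset P T57)) :=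
  B.dc_t (le_of_eq (lv50 I B).1) (lc94 I B) (ob93 I B) (ak381 I B) (rp384 I B) (by decide +kernel)

theorem ak387 : I.AllS P (conjIn (I.gen P S38) (I.u (P 218))) (msk (mapL hd L386)) :=
  Impl.allS_conjIn (a91 I B) ((a60 I B).tb (i := 218) (by decide +kernel)) (by decide +kernel)

theorem rp390 : BImpl.RepsOn (B := B) (I.gen P S38) (dset (I.gen P S38) (I.lset P T57)) (I.u (P 218)) (I.u (P 151)) (B.vd b41) (V.cube P C388 Q79) 0x7fffffffffffffffffffffffffffffffff :=
  B.repsOn_of_chk (a91 I B) (ad92 I B) (a60 I B) 218 151 b41 _ R389 _ (by decide +kernel)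

theorem dt391 : ∀ h ∈ (I.gen P S38), (I.u (P 218)) * h * (I.u (P 151)) ∈ (dset (I.gen P S38) (I.lset P T57)) :=
  B.dc_t (le_of_eq (lv50 I B).1) (lc94 I B) (ob93 I B) (ak387 I B) (rp390 I B) (by decide +kernel)

theorem ak393 : I.AllS P (conjIn (I.gen P S38) (I.u (P 219))) (msk (mapL hd L392)) :=
  Impl.allS_conjIn (a91 I B) ((a60 I B).tb (i := 219) (by decide +kernel)) (by decide +kernel)

theorem rp396 : BImpl.RepsOn (B := B) (I.gen P S38) (dset (I.gen P S38) (I.lset P T57)) (I.u (P 219)) (I.u (P 151)) (B.vd b41) (V.cube P C394 Q79) 0x7fffffffffffffffffffffffffffffffff :=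
  B.repsOn_of_chk (a91 I B) (ad92 I B) (a60 I B) 219 151 b41 _ R395 _ (by decide +kernel)

theorem dt397 : ∀ h ∈ (I.gen P S38), (I.u (P 219)) * h * (I.u (P 151)) ∈ (dset (I.gen P S38) (I.lset P T57)) :=
  B.dc_t (le_of_eq (lv50 I B).1) (lc94 I B) (ob93 I B) (ak393 I B) (rp396 I B) (by decide +kernel)

theorem ak399 : I.AllS P (conjIn (I.gen P S38) (I.u (P 220))) (msk (mapL hd L398)) :=
  Impl.allS_conjIn (a91 I B) ((a60 I B).tb (i := 220) (by decide +kernel)) (by decide +kernel)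

theorem rp402 : BImpl.RepsOn (B := B) (I.gen P S38) (dset (I.gen P S38) (I.lset P T57)) (I.u (P 220)) (I.u (P 151)) (B.vd b41) (V.cube P C400 Q79) 0x7fffffffffffffffffffffffffffffffff :=
  B.repsOn_of_chk (a91 I B) (ad92 I B) (a60 I B) 220 151 b41 _ R401 _ (by decide +kernel)

theorem dt403 : ∀ h ∈ (I.gen P S38), (I.u (P 220)) * h * (I.u (P 151)) ∈ (dset (I.gen P S38) (I.lset P T57)) :=
  B.dc_t (le_of_eq (lv50 I B).1) (lc94 I B) (ob93 I B) (ak399 I B) (rp402 I B) (by decide +kernel)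

theorem ak405 : I.AllS P (conjIn (I.gen P S38) (I.u (P 221))) (msk (mapL hd L404)) :=
  Impl.allS_conjIn (a91 I B) ((a60 I B).tb (i := 221) (by decide +kernel)) (by decide +kernel)

theorem rp408 : BImpl.RepsOn (B := B) (I.gen P S38) (dset (I.gen P S38) (I.lset P T57)) (I.u (P 221)) (I.u (P 151)) (B.vd b41) (V.cube P C406 Q79) 0x7fffffffffffffffffffffffffffffffff :=
  B.repsOn_of_chk (a91 I B) (ad92 I B) (a60 I B) 221 151 b41 _ R407 _ (by decide +kernel)

theorem dt409 : ∀ h ∈ (I.gen P S38), (I.u (P 221)) * h * (I.u (P 151)) ∈ (dset (I.gen P S38) (I.lset P T57)) :=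
  B.dc_t (le_of_eq (lv50 I B).1) (lc94 I B) (ob93 I B) (ak405 I B) (rp408 I B) (by decide +kernel)

theorem ak411 : I.AllS P (conjIn (I.gen P S38) (I.u (P 222))) (msk (mapL hd L410)) :=
  Impl.allS_conjIn (a91 I B) ((a60 I B).tb (i := 222) (by decide +kernel)) (by decide +kernel)

theorem rp414 : BImpl.RepsOn (B := B) (I.gen P S38) (dset (I.gen P S38) (I.lset P T57)) (I.u (P 222)) (I.u (P 151)) (B.vd b41) (V.cube P C412 Q79) 0x7fffffffffffffffffffffffffffffffff :=
  B.repsOn_of_chk (a91 I B) (ad92 I B) (a60 I B) 222 151 b41 _ R413 _ (by decide +kernel)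

theorem dt415 : ∀ h ∈ (I.gen P S38), (I.u (P 222)) * h * (I.u (P 151)) ∈ (dset (I.gen P S38) (I.lset P T57)) :=
  B.dc_t (le_of_eq (lv50 I B).1) (lc94 I B) (ob93 I B) (ak411 I B) (rp414 I B) (by decide +kernel)

theorem ak417 : I.AllS P (conjIn (I.gen P S38) (I.u (P 223))) (msk (mapL hd L416)) :=
  Impl.allS_conjIn (a91 I B) ((a60 I B).tb (i := 223) (by decide +kernel)) (by decide +kernel)

theorem rp420 : BImpl.RepsOn (B := B) (I.gen P S38) (dset (I.gen P S38) (I.lset P T57)) (I.u (P 223)) (I.u (P 151)) (B.vd b41) (V.cube P C418 Q79) 0x7fffffffffffffffffffffffffffffffff :=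
  B.repsOn_of_chk (a91 I B) (ad92 I B) (a60 I B) 223 151 b41 _ R419 _ (by decide +kernel)

theorem dt421 : ∀ h ∈ (I.gen P S38), (I.u (P 223)) * h * (I.u (P 151)) ∈ (dset (I.gen P S38) (I.lset P T57)) :=
  B.dc_t (le_of_eq (lv50 I B).1) (lc94 I B) (ob93 I B) (ak417 I B) (rp420 I B) (by decide +kernel)

theorem ak423 : I.AllS P (conjIn (I.gen P S38) (I.u (P 224))) (msk (mapL hd L422)) :=
  Impl.allS_conjIn (a91 I B) ((a60 I B).tb (i := 224) (by decide +kernel)) (by decide +kernel)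

theorem rp426 : BImpl.RepsOn (B := B) (I.gen P S38) (dset (I.gen P S38) (I.lset P T57)) (I.u (P 224)) (I.u (P 151)) (B.vd b41) (V.cube P C424 Q79) 0x7fffffffffffffffffffffffffffffffff :=
  B.repsOn_of_chk (a91 I B) (ad92 I B) (a60 I B) 224 151 b41 _ R425 _ (by decide +kernel)

theorem dt427 : ∀ h ∈ (I.gen P S38), (I.u (P 224)) * h * (I.u (P 151)) ∈ (dset (I.gen P S38) (I.lset P T57)) :=
  B.dc_t (le_of_eq (lv50 I B).1) (lc94 I B) (ob93 I B) (ak423 I B) (rp426 I B) (by decide +kernel)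

theorem ak429 : I.AllS P (conjIn (I.gen P S38) (I.u (P 225))) (msk (mapL hd L428)) :=
  Impl.allS_conjIn (a91 I B) ((a60 I B).tb (i := 225) (by decide +kernel)) (by decide +kernel)

theorem rp432 : BImpl.RepsOn (B := B) (I.gen P S38) (dset (I.gen P S38) (I.lset P T57)) (I.u (P 225)) (I.u (P 151)) (B.vd b41) (V.cube P C430 Q79) 0x7fffffffffffffffffffffffffffffffff :=
  B.repsOn_of_chk (a91 I B) (ad92 I B) (a60 I B) 225 151 b41 _ R431 _ (by decide +kernel)

theorem dt433 : ∀ h ∈ (I.gen P S38), (I.u (P 225)) * h * (I.u (P 151)) ∈ (dset (I.gen P S38) (I.lset P T57)) :=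
  B.dc_t (le_of_eq (lv50 I B).1) (lc94 I B) (ob93 I B) (ak429 I B) (rp432 I B) (by decide +kernel)

theorem ak435 : I.AllS P (conjIn (I.gen P S38) (I.u (P 226))) (msk (mapL hd L434)) :=
  Impl.allS_conjIn (a91 I B) ((a60 I B).tb (i := 226) (by decide +kernel)) (by decide +kernel)

theorem rp438 : BImpl.RepsOn (B := B) (I.gen P S38) (dset (I.gen P S38) (I.lset P T57)) (I.u (P 226)) (I.u (P 151)) (B.vd b41) (V.cube P C436 Q79) 0x7fffffffffffffffffffffffffffffffff :=
  B.repsOn_of_chk (a91 I B) (ad92 I B) (a60 I B) 226 151 b41 _ R437 _ (by decide +kernel)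

theorem dt439 : ∀ h ∈ (I.gen P S38), (I.u (P 226)) * h * (I.u (P 151)) ∈ (dset (I.gen P S38) (I.lset P T57)) :=
  B.dc_t (le_of_eq (lv50 I B).1) (lc94 I B) (ob93 I B) (ak435 I B) (rp438 I B) (by decide +kernel)

theorem ak441 : I.AllS P (conjIn (I.gen P S38) (I.u (P 227))) (msk (mapL hd L440)) :=
  Impl.allS_conjIn (a91 I B) ((a60 I B).tb (i := 227) (by decide +kernel)) (by decide +kernel)

theorem rp444 : BImpl.RepsOn (B := B) (I.gen P S38) (dset (I.gen P S38) (I.lset P T57)) (I.u (P 227)) (I.u (P 151)) (B.vd b41) (V.cube P C442 Q79) 0x7fffffffffffffffffffffffffffffffff :=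
  B.repsOn_of_chk (a91 I B) (ad92 I B) (a60 I B) 227 151 b41 _ R443 _ (by decide +kernel)

theorem dt445 : ∀ h ∈ (I.gen P S38), (I.u (P 227)) * h * (I.u (P 151)) ∈ (dset (I.gen P S38) (I.lset P T57)) :=
  B.dc_t (le_of_eq (lv50 I B).1) (lc94 I B) (ob93 I B) (ak441 I B) (rp444 I B) (by decide +kernel)

theorem ak447 : I.AllS P (conjIn (I.gen P S38) (I.u (P 228))) (msk (mapL hd L446)) :=
  Impl.allS_conjIn (a91 I B) ((a60 I B).tb (i := 228) (by decide +kernel)) (by decide +kernel)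

theorem rp450 : BImpl.RepsOn (B := B) (I.gen P S38) (dset (I.gen P S38) (I.lset P T57)) (I.u (P 228)) (I.u (P 151)) (B.vd b41) (V.cube P C448 Q79) 0x7fffffffffffffffffffffffffffffffff :=
  B.repsOn_of_chk (a91 I B) (ad92 I B) (a60 I B) 228 151 b41 _ R449 _ (by decide +kernel)

theorem dt451 : ∀ h ∈ (I.gen P S38), (I.u (P 228)) * h * (I.u (P 151)) ∈ (dset (I.gen P S38) (I.lset P T57)) :=
  B.dc_t (le_of_eq (lv50 I B).1) (lc94 I B) (ob93 I B) (ak447 I B) (rp450 I B) (by decide +kernel)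

theorem ak453 : I.AllS P (conjIn (I.gen P S38) (I.u (P 229))) (msk (mapL hd L452)) :=
  Impl.allS_conjIn (a91 I B) ((a60 I B).tb (i := 229) (by decide +kernel)) (by decide +kernel)

theorem rp456 : BImpl.RepsOn (B := B) (I.gen P S38) (dset (I.gen P S38) (I.lset P T57)) (I.u (P 229)) (I.u (P 151)) (B.vd b41) (V.cube P C454 Q79) 0x7fffffffffffffffffffffffffffffffff :=
  B.repsOn_of_chk (a91 I B) (ad92 I B) (a60 I B) 229 151 b41 _ R455 _ (by decide +kernel)

theorem dt457 : ∀ h ∈ (I.gen P S38), (I.u (P 229)) * h * (I.u (P 151)) ∈ (dset (I.gen P S38) (I.lset P T57)) :=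
  B.dc_t (le_of_eq (lv50 I B).1) (lc94 I B) (ob93 I B) (ak453 I B) (rp456 I B) (by decide +kernel)

theorem ak459 : I.AllS P (conjIn (I.gen P S38) (I.u (P 230))) (msk (mapL hd L458)) :=
  Impl.allS_conjIn (a91 I B) ((a60 I B).tb (i := 230) (by decide +kernel)) (by decide +kernel)

theorem rp462 : BImpl.RepsOn (B := B) (I.gen P S38) (dset (I.gen P S38) (I.lset P T57)) (I.u (P 230)) (I.u (P 151)) (B.vd b41) (V.cube P C460 Q79) 0x7fffffffffffffffffffffffffffffffff :=
  B.repsOn_of_chk (a91 I B) (ad92 I B) (a60 I B) 230 151 b41 _ R461 _ (by decide +kernel)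

theorem dt463 : ∀ h ∈ (I.gen P S38), (I.u (P 230)) * h * (I.u (P 151)) ∈ (dset (I.gen P S38) (I.lset P T57)) :=
  B.dc_t (le_of_eq (lv50 I B).1) (lc94 I B) (ob93 I B) (ak459 I B) (rp462 I B) (by decide +kernel)

theorem ak465 : I.AllS P (conjIn (I.gen P S38) (I.u (P 231))) (msk (mapL hd L464)) :=
  Impl.allS_conjIn (a91 I B) ((a60 I B).tb (i := 231) (by decide +kernel)) (by decide +kernel)

theorem rp468 : BImpl.RepsOn (B := B) (I.gen P S38) (dset (I.gen P S38) (I.lset P T57)) (I.u (P 231)) (I.u (P 151)) (B.vd b41) (V.cube P C466 Q79) 0x7fffffffffffffffffffffffffffffffff :=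
  B.repsOn_of_chk (a91 I B) (ad92 I B) (a60 I B) 231 151 b41 _ R467 _ (by decide +kernel)

theorem dt469 : ∀ h ∈ (I.gen P S38), (I.u (P 231)) * h * (I.u (P 151)) ∈ (dset (I.gen P S38) (I.lset P T57)) :=
  B.dc_t (le_of_eq (lv50 I B).1) (lc94 I B) (ob93 I B) (ak465 I B) (rp468 I B) (by decide +kernel)

theorem ak471 : I.AllS P (conjIn (I.gen P S38) (I.u (P 232))) (msk (mapL hd L470)) :=
  Impl.allS_conjIn (a91 I B) ((a60 I B).tb (i := 232) (by decide +kernel)) (by decide +kernel)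

theorem rp474 : BImpl.RepsOn (B := B) (I.gen P S38) (dset (I.gen P S38) (I.lset P T57)) (I.u (P 232)) (I.u (P 151)) (B.vd b41) (V.cube P C472 Q79) 0x7fffffffffffffffffffffffffffffffff :=
  B.repsOn_of_chk (a91 I B) (ad92 I B) (a60 I B) 232 151 b41 _ R473 _ (by decide +kernel)

theorem dt475 : ∀ h ∈ (I.gen P S38), (I.u (P 232)) * h * (I.u (P 151)) ∈ (dset (I.gen P S38) (I.lset P T57)) :=
  B.dc_t (le_of_eq (lv50 I B).1) (lc94 I B) (ob93 I B) (ak471 I B) (rp474 I B) (by decide +kernel)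

theorem ak477 : I.AllS P (conjIn (I.gen P S38) (I.u (P 233))) (msk (mapL hd L476)) :=
  Impl.allS_conjIn (a91 I B) ((a60 I B).tb (i := 233) (by decide +kernel)) (by decide +kernel)

theorem rp480 : BImpl.RepsOn (B := B) (I.gen P S38) (dset (I.gen P S38) (I.lset P T57)) (I.u (P 233)) (I.u (P 151)) (B.vd b41) (V.cube P C478 Q79) 0x7fffffffffffffffffffffffffffffffff :=
  B.repsOn_of_chk (a91 I B) (ad92 I B) (a60 I B) 233 151 b41 _ R479 _ (by decide +kernel)

theorem dt481 : ∀ h ∈ (I.gen P S38), (I.u (P 233)) * h * (I.u (P 151)) ∈ (dset (I.gen P S38) (I.lset P T57)) :=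
  B.dc_t (le_of_eq (lv50 I B).1) (lc94 I B) (ob93 I B) (ak477 I B) (rp480 I B) (by decide +kernel)

theorem ak483 : I.AllS P (conjIn (I.gen P S38) (I.u (P 234))) (msk (mapL hd L482)) :=
  Impl.allS_conjIn (a91 I B) ((a60 I B).tb (i := 234) (by decide +kernel)) (by decide +kernel)

theorem rp486 : BImpl.RepsOn (B := B) (I.gen P S38) (dset (I.gen P S38) (I.lset P T57)) (I.u (P 234)) (I.u (P 151)) (B.vd b41) (V.cube P C484 Q79) 0x7fffffffffffffffffffffffffffffffff :=
  B.repsOn_of_chk (a91 I B) (ad92 I B) (a60 I B) 234 151 b41 _ R485 _ (by decide +kernel)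

theorem dt487 : ∀ h ∈ (I.gen P S38), (I.u (P 234)) * h * (I.u (P 151)) ∈ (dset (I.gen P S38) (I.lset P T57)) :=
  B.dc_t (le_of_eq (lv50 I B).1) (lc94 I B) (ob93 I B) (ak483 I B) (rp486 I B) (by decide +kernel)

theorem ak489 : I.AllS P (conjIn (I.gen P S38) (I.u (P 235))) (msk (mapL hd L488)) :=
  Impl.allS_conjIn (a91 I B) ((a60 I B).tb (i := 235) (by decide +kernel)) (by decide +kernel)

theorem rp492 : BImpl.RepsOn (B := B) (I.gen P S38) (dset (I.gen P S38) (I.lset P T57)) (I.u (P 235)) (I.u (P 151)) (B.vd b41) (V.cube P C490 Q79) 0x7fffffffffffffffffffffffffffffffff :=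
  B.repsOn_of_chk (a91 I B) (ad92 I B) (a60 I B) 235 151 b41 _ R491 _ (by decide +kernel)

theorem dt493 : ∀ h ∈ (I.gen P S38), (I.u (P 235)) * h * (I.u (P 151)) ∈ (dset (I.gen P S38) (I.lset P T57)) :=
  B.dc_t (le_of_eq (lv50 I B).1) (lc94 I B) (ob93 I B) (ak489 I B) (rp492 I B) (by decide +kernel)

theorem ak495 : I.AllS P (conjIn (I.gen P S38) (I.u (P 236))) (msk (mapL hd L494)) :=
  Impl.allS_conjIn (a91 I B) ((a60 I B).tb (i := 236) (by decide +kernel)) (by decide +kernel)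

theorem rp498 : BImpl.RepsOn (B := B) (I.gen P S38) (dset (I.gen P S38) (I.lset P T57)) (I.u (P 236)) (I.u (P 151)) (B.vd b41) (V.cube P C496 Q79) 0x7fffffffffffffffffffffffffffffffff :=
  B.repsOn_of_chk (a91 I B) (ad92 I B) (a60 I B) 236 151 b41 _ R497 _ (by decide +kernel)

theorem dt499 : ∀ h ∈ (I.gen P S38), (I.u (P 236)) * h * (I.u (P 151)) ∈ (dset (I.gen P S38) (I.lset P T57)) :=
  B.dc_t (le_of_eq (lv50 I B).1) (lc94 I B) (ob93 I B) (ak495 I B) (rp498 I B) (by decide +kernel)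

theorem ak501 : I.AllS P (conjIn (I.gen P S38) (I.u (P 237))) (msk (mapL hd L500)) :=
  Impl.allS_conjIn (a91 I B) ((a60 I B).tb (i := 237) (by decide +kernel)) (by decide +kernel)

theorem rp504 : BImpl.RepsOn (B := B) (I.gen P S38) (dset (I.gen P S38) (I.lset P T57)) (I.u (P 237)) (I.u (P 151)) (B.vd b41) (V.cube P C502 Q79) 0x7fffffffffffffffffffffffffffffffff :=
  B.repsOn_of_chk (a91 I B) (ad92 I B) (a60 I B) 237 151 b41 _ R503 _ (by decide +kernel)

theorem dt505 : ∀ h ∈ (I.gen P S38), (I.u (P 237)) * h * (I.u (P 151)) ∈ (dset (I.gen P S38) (I.lset P T57)) :=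
  B.dc_t (le_of_eq (lv50 I B).1) (lc94 I B) (ob93 I B) (ak501 I B) (rp504 I B) (by decide +kernel)

theorem ak507 : I.AllS P (conjIn (I.gen P S38) (I.u (P 238))) (msk (mapL hd L506)) :=
  Impl.allS_conjIn (a91 I B) ((a60 I B).tb (i := 238) (by decide +kernel)) (by decide +kernel)

theorem rp510 : BImpl.RepsOn (B := B) (I.gen P S38) (dset (I.gen P S38) (I.lset P T57)) (I.u (P 238)) (I.u (P 151)) (B.vd b41) (V.cube P C508 Q79) 0x7fffffffffffffffffffffffffffffffff :=
  B.repsOn_of_chk (a91 I B) (ad92 I B) (a60 I B) 238 151 b41 _ R509 _ (by decide +kernel)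

theorem dt511 : ∀ h ∈ (I.gen P S38), (I.u (P 238)) * h * (I.u (P 151)) ∈ (dset (I.gen P S38) (I.lset P T57)) :=
  B.dc_t (le_of_eq (lv50 I B).1) (lc94 I B) (ob93 I B) (ak507 I B) (rp510 I B) (by decide +kernel)

theorem ak513 : I.AllS P (conjIn (I.gen P S38) (I.u (P 239))) (msk (mapL hd L512)) :=
  Impl.allS_conjIn (a91 I B) ((a60 I B).tb (i := 239) (by decide +kernel)) (by decide +kernel)

theorem rp516 : BImpl.RepsOn (B := B) (I.gen P S38) (dset (I.gen P S38) (I.lset P T57)) (I.u (P 239)) (I.u (P 151)) (B.vd b41) (V.cube P C514 Q79) 0x7fffffffffffffffffffffffffffffffff :=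
  B.repsOn_of_chk (a91 I B) (ad92 I B) (a60 I B) 239 151 b41 _ R515 _ (by decide +kernel)

theorem dt517 : ∀ h ∈ (I.gen P S38), (I.u (P 239)) * h * (I.u (P 151)) ∈ (dset (I.gen P S38) (I.lset P T57)) :=
  B.dc_t (le_of_eq (lv50 I B).1) (lc94 I B) (ob93 I B) (ak513 I B) (rp516 I B) (by decide +kernel)

theorem ak519 : I.AllS P (conjIn (I.gen P S38) (I.u (P 240))) (msk (mapL hd L518)) :=
  Impl.allS_conjIn (a91 I B) ((a60 I B).tb (i := 240) (by decide +kernel)) (by decide +kernel)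

theorem a522 : I.AllS P (conjIn (I.gen P S38) (I.u (P 240))) m521 :=
  (ak519 I B).ext L520 (by decide +kernel)

theorem rp525 : BImpl.RepsOn (B := B) (I.gen P S38) (dset (I.gen P S38) (I.lset P T57)) (I.u (P 240)) (I.u (P 151)) (B.vd b41) (V.cube P C523 Q79) 0x7fffffffffffffffffffffffffffffffff :=
  B.repsOn_of_chk (a91 I B) (ad92 I B) (a60 I B) 240 151 b41 _ R524 _ (by decide +kernel)

theorem dt526 : ∀ h ∈ (I.gen P S38), (I.u (P 240)) * h * (I.u (P 151)) ∈ (dset (I.gen P S38) (I.lset P T57)) :=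
  B.dc_t (le_of_eq (lv50 I B).1) (lc94 I B) (ob93 I B) (a522 I B) (rp525 I B) (by decide +kernel)

theorem ak528 : I.AllS P (conjIn (I.gen P S38) (I.u (P 241))) (msk (mapL hd L527)) :=
  Impl.allS_conjIn (a91 I B) ((a60 I B).tb (i := 241) (by decide +kernel)) (by decide +kernel)

theorem rp531 : BImpl.RepsOn (B := B) (I.gen P S38) (dset (I.gen P S38) (I.lset P T57)) (I.u (P 241)) (I.u (P 151)) (B.vd b41) (V.cube P C529 Q79) 0x7fffffffffffffffffffffffffffffffff :=
  B.repsOn_of_chk (a91 I B) (ad92 I B) (a60 I B) 241 151 b41 _ R530 _ (by decide +kernel)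

theorem dt532 : ∀ h ∈ (I.gen P S38), (I.u (P 241)) * h * (I.u (P 151)) ∈ (dset (I.gen P S38) (I.lset P T57)) :=
  B.dc_t (le_of_eq (lv50 I B).1) (lc94 I B) (ob93 I B) (ak528 I B) (rp531 I B) (by decide +kernel)

theorem ak534 : I.AllS P (conjIn (I.gen P S38) (I.u (P 242))) (msk (mapL hd L533)) :=
  Impl.allS_conjIn (a91 I B) ((a60 I B).tb (i := 242) (by decide +kernel)) (by decide +kernel)

theorem a537 : I.AllS P (conjIn (I.gen P S38) (I.u (P 242))) m536 :=
  (ak534 I B).ext L535 (by decide +kernel)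

theorem rp540 : BImpl.RepsOn (B := B) (I.gen P S38) (dset (I.gen P S38) (I.lset P T57)) (I.u (P 242)) (I.u (P 151)) (B.vd b41) (V.cube P C538 Q79) 0x7fffffffffffffffffffffffffffffffff :=
  B.repsOn_of_chk (a91 I B) (ad92 I B) (a60 I B) 242 151 b41 _ R539 _ (by decide +kernel)

theorem dt541 : ∀ h ∈ (I.gen P S38), (I.u (P 242)) * h * (I.u (P 151)) ∈ (dset (I.gen P S38) (I.lset P T57)) :=
  B.dc_t (le_of_eq (lv50 I B).1) (lc94 I B) (ob93 I B) (a537 I B) (rp540 I B) (by decide +kernel)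

theorem ak543 : I.AllS P (conjIn (I.gen P S38) (I.u (P 243))) (msk (mapL hd L542)) :=
  Impl.allS_conjIn (a91 I B) ((a60 I B).tb (i := 243) (by decide +kernel)) (by decide +kernel)

theorem a546 : I.AllS P (conjIn (I.gen P S38) (I.u (P 243))) m545 :=
  (ak543 I B).ext L544 (by decide +kernel)

theorem rp549 : BImpl.RepsOn (B := B) (I.gen P S38) (dset (I.gen P S38) (I.lset P T57)) (I.u (P 243)) (I.u (P 151)) (B.vd b41) (V.cube P C547 Q79) 0x7fffffffffffffffffffffffffffffffff :=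
  B.repsOn_of_chk (a91 I B) (ad92 I B) (a60 I B) 243 151 b41 _ R548 _ (by decide +kernel)

theorem dt550 : ∀ h ∈ (I.gen P S38), (I.u (P 243)) * h * (I.u (P 151)) ∈ (dset (I.gen P S38) (I.lset P T57)) :=
  B.dc_t (le_of_eq (lv50 I B).1) (lc94 I B) (ob93 I B) (a546 I B) (rp549 I B) (by decide +kernel)

theorem ak552 : I.AllS P (conjIn (I.gen P S38) (I.u (P 244))) (msk (mapL hd L551)) :=
  Impl.allS_conjIn (a91 I B) ((a60 I B).tb (i := 244) (by decide +kernel)) (by decide +kernel)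

theorem a555 : I.AllS P (conjIn (I.gen P S38) (I.u (P 244))) m554 :=
  (ak552 I B).ext L553 (by decide +kernel)

theorem rp558 : BImpl.RepsOn (B := B) (I.gen P S38) (dset (I.gen P S38) (I.lset P T57)) (I.u (P 244)) (I.u (P 151)) (B.vd b41) (V.cube P C556 Q79) 0x7fffffffffffffffffffffffffffffffff :=
  B.repsOn_of_chk (a91 I B) (ad92 I B) (a60 I B) 244 151 b41 _ R557 _ (by decide +kernel)

theorem dt559 : ∀ h ∈ (I.gen P S38), (I.u (P 244)) * h * (I.u (P 151)) ∈ (dset (I.gen P S38) (I.lset P T57)) :=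
  B.dc_t (le_of_eq (lv50 I B).1) (lc94 I B) (ob93 I B) (a555 I B) (rp558 I B) (by decide +kernel)

theorem cv560 : ∀ x ∈ (I.gen P S53), x ∈ (dset (I.gen P S38) (I.lset P T57)) :=
  Impl.dc_cover' (S := S38) (g := 151) List.mem_cons_self (List.forall_mem_cons.2 ⟨(dt103 I B), List.forall_mem_cons.2 ⟨(dt109 I B), List.forall_mem_cons.2 ⟨(dt115 I B), List.forall_mem_cons.2 ⟨(dt121 I B), List.forall_mem_cons.2 ⟨(dt127 I B), List.forall_mem_cons.2 ⟨(dt133 I B), List.forall_mem_cons.2 ⟨(dt139 I B), List.forall_mem_cons.2 ⟨(dt145 I B), List.forall_mem_cons.2 ⟨(dt151 I B), List.forall_mem_cons.2 ⟨(dt157 I B), List.forall_mem_cons.2 ⟨(dt166 I B), List.forall_mem_cons.2 ⟨(dt175 I B), List.forall_mem_cons.2 ⟨(dt181 I B), List.forall_mem_cons.2 ⟨(dt187 I B), List.forall_mem_cons.2 ⟨(dt193 I B), List.forall_mem_cons.2 ⟨(dt199 I B), List.forall_mem_cons.2 ⟨(dt205 I B), List.forall_mem_cons.2 ⟨(dt211 I B), List.forall_mem_cons.2 ⟨(dt217 I B), List.forall_mem_cons.2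 ⟨(dt223 I B), List.forall_mem_cons.2 ⟨(dt229 I B), List.forall_mem_cons.2 ⟨(dt235 I B), List.forall_mem_cons.2 ⟨(dt241 I B), List.forall_mem_cons.2 ⟨(dt247 I B), List.forall_mem_cons.2 ⟨(dt253 I B), List.forall_mem_cons.2 ⟨(dt262 I B), List.forall_mem_cons.2 ⟨(dt268 I B), List.forall_mem_cons.2 ⟨(dt274 I B), List.forall_mem_cons.2 ⟨(dt280 I B), List.forall_mem_cons.2 ⟨(dt286 I B), List.forall_mem_cons.2 ⟨(dt292 I B), List.forall_mem_cons.2 ⟨(dt301 I B), List.forall_mem_cons.2 ⟨(dt307 I B), List.forall_mem_cons.2 ⟨(dt313 I B), List.forall_mem_cons.2 ⟨(dt319 I B), List.forall_mem_cons.2 ⟨(dt325 I B), List.forall_mem_cons.2 ⟨(dt331 I B), List.forall_mem_cons.2 ⟨(dt337 I B), List.forall_mem_cons.2 ⟨(dt343 I B), List.forall_mem_cons.2 ⟨(dt349 I B), List.forall_mem_cons.2 ⟨(dt355 I B), List.forall_mem_cons.2 ⟨(dt361 I B), List.forall_mem_cons.2 ⟨(dt367 I B), List.forall_mem_cons.2 ⟨(dt373 I B), List.forall_mem_cons.2 ⟨(dt379 I B), List.forall_mem_cons.2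 ⟨(dt385 I B), List.forall_mem_cons.2 ⟨(dt391 I B), List.forall_mem_cons.2 ⟨(dt397 I B), List.forall_mem_cons.2 ⟨(dt403 I B), List.forall_mem_cons.2 ⟨(dt409 I B), List.forall_mem_cons.2 ⟨(dt415 I B), List.forall_mem_cons.2 ⟨(dt421 I B), List.forall_mem_cons.2 ⟨(dt427 I B), List.forall_mem_cons.2 ⟨(dt433 I B), List.forall_mem_cons.2 ⟨(dt439 I B), List.forall_mem_cons.2 ⟨(dt445 I B), List.forall_mem_cons.2 ⟨(dt451 I B), List.forall_mem_cons.2 ⟨(dt457 I B), List.forall_mem_cons.2 ⟨(dt463 I B), List.forall_mem_cons.2 ⟨(dt469 I B), List.forall_mem_cons.2 ⟨(dt475 I B), List.forall_mem_cons.2 ⟨(dt481 I B), List.forall_mem_cons.2 ⟨(dt487 I B), List.forall_mem_cons.2 ⟨(dt493 I B), List.forall_mem_cons.2 ⟨(dt499 I B), List.forall_mem_cons.2 ⟨(dt505 I B), List.forall_mem_cons.2 ⟨(dt511 I B), List.forall_mem_cons.2 ⟨(dt517 I B), List.forall_mem_cons.2 ⟨(dt526 I B), List.forall_mem_cons.2 ⟨(dt532 I B), List.forall_mem_cons.2 ⟨(dt541 I B), List.forall_mem_cons.2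 ⟨(dt550 I B), List.forall_mem_cons.2 ⟨(dt559 I B), List.forall_mem_nil _⟩⟩⟩⟩⟩⟩⟩⟩⟩⟩⟩⟩⟩⟩⟩⟩⟩⟩⟩⟩⟩⟩⟩⟩⟩⟩⟩⟩⟩⟩⟩⟩⟩⟩⟩⟩⟩⟩⟩⟩⟩⟩⟩⟩⟩⟩⟩⟩⟩⟩⟩⟩⟩⟩⟩⟩⟩⟩⟩⟩⟩⟩⟩⟩⟩⟩⟩⟩⟩⟩⟩⟩⟩)

theorem st561 : (I.gen P S53) ⊓ MulAction.stabilizer Mˣ (B.vd b56) = (I.gen P S38) :=
  B.dc_stab (S := S38) (g := 151) (a60 I B) (cv560 I B) b56 (by decide +kernel)

theorem nt615 : BImpl.Nets (B := B) (P := P) [2] Q580 69768 [N614] :=
  BImpl.Nets.cons (a60 I B) 2 N614 (by decide +kernel) (B.nets_nil Q580 69768)

theorem nt650 : BImpl.Nets (B := B) (P := P) [5, 2] Q580 69768 [N649, N614] :=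
  BImpl.Nets.cons (a60 I B) 5 N649 (by decide +kernel) (nt615 I B)

theorem nt685 : BImpl.Nets (B := B) (P := P) [14, 5, 2] Q580 69768 [N684, N649, N614] :=
  BImpl.Nets.cons (a60 I B) 14 N684 (by decide +kernel) (nt650 I B)

theorem nt720 : BImpl.Nets (B := B) (P := P) [151, 14, 5, 2] Q580 69768 [N719, N684, N649, N614] :=
  BImpl.Nets.cons (a60 I B) 151 N719 (by decide +kernel) (nt685 I B)

theorem oc721 : (MulAction.orbit (I.gen P S53) (B.vd b56)).ncard = 69768 :=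
  (nt720 I B).ncard_orbit b56 0 7 (by decide +kernel)

theorem card722 : Nat.card (I.gen P S53) = 150698880 :=
  (BImpl.card_of_stab (st561 I B) (oc721 I B) (card51 I B)).trans (by norm_num)

theorem a725 : I.AllS P (I.gen P S724) (msk S724) :=
  Impl.allS_gen (W := [359, 15, 5, 2]) (by decide +kernel)

theorem le726 : (I.gen P S38) ≤ (I.gen P S724) :=
  Impl.gen_le (a725 I B) (by decide +kernel)

theorem a730 : I.AllS P (I.gen P S724) m729 :=
  ((a725 I B).lor ((a91 I B).le (le726 I B))).ext L728 (by decide +kernel)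

theorem a733 : I.AllS P (I.gen P S38) m732 :=
  (a91 I B).ext L731 (by decide +kernel)

theorem pa734 : ∀ s ∈ S724, ∀ p, 0 ≤ p → p < 3 → I.PlainAt P (I.gen P S38) 360 3 s p :=
  Impl.plain_all (a733 I B) (a730 I B) 360 3 S724 W735 (by decide +kernel)

theorem lv736 : (I.gen P S724) ⊓ MulAction.stabilizer Mˣ (B.vd b727) = (I.gen P S38) ∧ (MulAction.orbit (I.gen P S724) (B.vd b727)).ncard = 3 ∧ Nat.card (I.gen P S724) = 3 * Nat.card (I.gen P S38) :=
  B.plain_lev (a730 I B) (a733 I B) 360 3 0 b727 (pa734 I B) (by decide +kernel)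

theorem card737 : Nat.card (I.gen P S724) = 6480 :=
  by have h := (lv736 I B).2.2; rw [(card51 I B)] at h; exact h.trans (by norm_num)

theorem a740 : I.AllS P (I.gen P S724) m739 :=
  (a730 I B).ext L738 (by decide +kernel)

theorem a743 : I.AllS P (I.gen P S724) m742 :=
  (a740 I B).ext L741 (by decide +kernel)

theorem le744 : (I.gen P S38) ≤ (I.gen P S724) :=
  Impl.gen_le (a743 I B) (by decide +kernel)

theorem mx745 : ∀ N : Subgroup Mˣ, (I.gen P S724) ≤ N → N ≤ (I.gen P S53) → N ≤ (I.gen P S724) ∨ (I.gen P S53) ≤ N :=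
  Impl.max_of_chk (S := S38) (g := 151) (le744 I B) ((a743 I B).lor ((a733 I B).le (le744 I B))) (a60 I B) (cv560 I B) [151, 0x404c0ad00216e16b0ad16700e16b0ad008061, 0x90490ae16b1670020ae16b0020020ae00400701c, 0x904d0af16c00516d0af00f00e00f0af00605a, 0x40070250b016700f0020b016600e1660b016d0021670b000400701c, 0x706b0b116716c16b0b100f16600e0b100604d, 0x400907b0b200200f00f0b203a, 0x40060370b316b0020020b316b16d16b0b300b060, 0x908e0b416716716e0b4007072, 0x40070170b516e16c16e0b516e0021670b500e00516b0b500703c, 0x80550b616e00200e0b616616b16d0b600400808c, 0x60800b70020050020b70050020020b700400701c, 0x400b0880b800f16d16e0b800216d16d0b816b0021660b8050, 0x40170b916616c0050b900f00e16e0b900902b, 0xd0150ba16616d0020ba16b00516d0ba00b05b, 0x400901f0bb16b16e16e0bb0020021660bb00400d030, 0x90230bc16c00e00e0bc00e16600e0bc00400c066, 0x70330bd16c00500f0bd1670051670bd00903e, 0x400c0860be16e00516c0be00500516b0be00605a, 0x400c08a0bf16b16d16b0bf00d061, 0x60540c000516b00f0c016d16716d0c0078,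 0x807f0c100f16700f0c1078, 0x80340c216616e00f0c200f1670020c21671660020c200400c03c, 0xb0160c316c0021670c316c00f16b0c300e1670020c300400d062, 0x400b0120c416600f1670c416e16716c0c400516d16b0c400400c03f, 0x250c516d16e1670c500903e, 0x400c02e0c600e00516c0c616c16600f0c6004006051, 0x905c0c716600e16c0c700f0050020c700e16d16e0c700400b08a, 0x40090410c800500e16c0c800400b063, 0x400b0740c916d16d16d0c916616d0050c900400804d, 0x2b0ca00e00500e0ca00e0050050ca00400c060, 0x602e0cb16e16d0050cb00e00e0020cb00903e, 0x70250cc00e00516e0cc03e, 0xc0550cd00516e0050cd00e16c1670cd16b00f0050cd00400b036, 0x604e0ce0021661670ce00f16600e0ce00400703c, 0x60930cf00f1661670cf00516c16d0cf004006095, 0x370d016c16e16e0d000400701e, 0x400c0320d116700e0050d116616e16d0d1007088, 0x400c0950d216716c00e0d216e16d1660d2008045, 0xd0820d30021670050d300f0020050d3009065, 0x400c08d0d400516d0020d400516e16c0d400b028, 0x40240d516600e1660d516700f16c0d516b16616b0d500902b, 0x90700d616716e1670d600500e0050d600c035,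 0x40070680d700e00f0050d700200f16b0d700400b078, 0x40060760d80050051660d816716700e0d800e00f00e0d8008061, 0x400b04c0d916b00f0020d916b16b1670d916616c00e0d9009024, 0x608e0da16716e0050da1670020050da004008035, 0x70690db00500216d0db078, 0x90500dc16e1661660dc16716e00e0dc00806f, 0x400b02c0dd16d0051670dd00400605c, 0x400d0310de16616e00f0de16600f16c0de00701c, 0x70190df16d16e16d0df16716c0020df00d090, 0x804c0e000e16c16e0e0009065, 0x400601c0e100516e0020e100516b16c0e100200f0050e100400804d, 0x80130e216b16e16d0e216b00516d0e2007072, 0x400704f0e300e16d16c0e3004006092, 0xc0740e400216c00f0e400400c011, 0x70670e516600f0050e500516600e0e5004008035, 0x400b0310e616e1670020e616600f16c0e600400d08e, 0x400c0520e716c16b16e0e716e16c0050e7006088, 0x902b0e816d00e16e0e800903a, 0x40060420e900516b16b0e900c060, 0x40070820ea16b0021660ea16e00216b0ea004007063, 0x400d0780eb16c16616c0eb16d16d1670eb16e16c16b0eb00c070, 0x40080180ec16600e16b0ec16616716d0ec00c043, 0xb0ed00f0051660ed00500e16b0ed00200216d0ed00b07e,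 0x80220ee16c16d16c0ee16e16716b0ee16c1671670ee009024, 0x2f0ef00216e16c0ef00500216c0ef00400b057, 0x400d0860f000f00200f0f016716b16d0f0004007022, 0x60480f116b16e16e0f100e1671670f100703c, 0x400b0880f21670051670f200b083, 0, 0] (by decide +kernel)

theorem a748 : I.AllS P (I.gen P S53) m747 :=
  (a60 I B).ext L746 (by decide +kernel)

theorem le749 : (I.gen P S724) ≤ (I.gen P S53) :=
  Impl.gen_le (a748 I B) (by decide +kernel)

theorem nm750 : ∀ N, NormalIn N (I.gen P S53) → N ≤ (I.gen P S724) ∨ (I.gen P S53) ≤ N :=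
  fun _ hN => Impl.normal_le_or (le749 I B) (a748 I B) (card737 I B) (mx745 I B) [69999, 70000, 70001, 70002, 70003, 70004, 70005, 78198] [0x2e02de097, 0x2e42e200e, 0x2e82e6005, 0x2ec2ea002] (by decide +kernel) hN

theorem a753 : I.AllS P (I.gen P S752) (msk S752) :=
  Impl.allS_gen (W := [375, 420, 421, 422, 423, 424, 425, 426, 427, 428, 429, 430, 431, 432, 433, 434, 435, 436, 393, 437, 438, 439, 440, 441, 442, 443, 444, 402, 445, 446, 405, 447, 448, 408, 449, 450, 411, 412, 413, 414, 415, 416, 417, 418, 419]) (by decide +kernel)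

theorem a756 : I.AllS P (I.gen P S53) m755 :=
  (a748 I B).ext L754 (by decide +kernel)

theorem le757 : (I.gen P S752) ≤ (I.gen P S53) :=
  Impl.gen_le (a756 I B) (by decide +kernel)

theorem a760 : I.AllS P (I.gen P S752) m759 :=
  (a753 I B).ext L758 (by decide +kernel)

theorem le761 : (I.gen P S53) ≤ (I.gen P S752) :=
  Impl.gen_le (a760 I B) (by decide +kernel)

theorem eq762 : (I.gen P S752) = (I.gen P S53) :=
  le_antisymm (le757 I B) (le761 I B)

theorem st763 : (I.gen P S752) ⊓ MulAction.stabilizer Mˣ (B.vd b56) = (I.gen P S38) :=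
  by rw [eq762 I B]; exact (st561 I B)

theorem card764 : Nat.card (I.gen P S752) = 150698880 :=
  by rw [eq762 I B]; exact (card722 I B)

theorem a767 : I.AllS P (I.gen P S766) (msk S766) :=
  Impl.allS_gen (W := [471]) (by decide +kernel)

theorem le768 : (I.gen P S1) ≤ (I.gen P S766) :=
  Impl.gen_le (a767 I B) (by decide +kernel)

theorem a772 : I.AllS P (I.gen P S766) m771 :=
  ((a767 I B).lor ((a17 I B).le (le768 I B))).ext L770 (by decide +kernel)

theorem a775 : I.AllS P (I.gen P S1) m774 :=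
  (a17 I B).ext L773 (by decide +kernel)

theorem pa776 : ∀ s ∈ S766, ∀ p, 0 ≤ p → p < 4 → I.PlainAt P (I.gen P S1) 472 4 s p :=
  Impl.plain_all (a775 I B) (a772 I B) 472 4 S766 W777 (by decide +kernel)

theorem lv778 : (I.gen P S766) ⊓ MulAction.stabilizer Mˣ (B.vd b769) = (I.gen P S1) ∧ (MulAction.orbit (I.gen P S766) (B.vd b769)).ncard = 4 ∧ Nat.card (I.gen P S766) = 4 * Nat.card (I.gen P S1) :=
  B.plain_lev (a772 I B) (a775 I B) 472 4 2 b769 (pa776 I B) (by decide +kernel)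

theorem card779 : Nat.card (I.gen P S766) = 4 :=
  by have h := (lv778 I B).2.2; rw [(card3 I B)] at h; exact h.trans (by norm_num)

theorem a782 : I.AllS P (I.gen P S781) (msk S781) :=
  Impl.allS_gen (W := [477, 471]) (by decide +kernel)

theorem le783 : (I.gen P S766) ≤ (I.gen P S781) :=
  Impl.gen_le (a782 I B) (by decide +kernel)

theorem a787 : I.AllS P (I.gen P S781) m786 :=
  ((a782 I B).lor ((a772 I B).le (le783 I B))).ext L785 (by decide +kernel)

theorem a790 : I.AllS P (I.gen P S766) m789 :=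
  (a772 I B).ext L788 (by decide +kernel)

theorem pa791 : ∀ s ∈ S781, ∀ p, 0 ≤ p → p < 24 → I.PlainAt P (I.gen P S766) 478 24 s p :=
  Impl.plain_all (a790 I B) (a787 I B) 478 24 S781 W792 (by decide +kernel)

theorem lv793 : (I.gen P S781) ⊓ MulAction.stabilizer Mˣ (B.vd b784) = (I.gen P S766) ∧ (MulAction.orbit (I.gen P S781) (B.vd b784)).ncard = 24 ∧ Nat.card (I.gen P S781) = 24 * Nat.card (I.gen P S766) :=
  B.plain_lev (a787 I B) (a790 I B) 478 24 19 b784 (pa791 I B) (by decide +kernel)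

theorem card794 : Nat.card (I.gen P S781) = 96 :=
  by have h := (lv793 I B).2.2; rw [(card779 I B)] at h; exact h.trans (by norm_num)

theorem a797 : I.AllS P (I.gen P S796) (msk S796) :=
  Impl.allS_gen (W := [503, 477, 471]) (by decide +kernel)

theorem le798 : (I.gen P S781) ≤ (I.gen P S796) :=
  Impl.gen_le (a797 I B) (by decide +kernel)

theorem a802 : I.AllS P (I.gen P S796) m801 :=
  ((a797 I B).lor ((a787 I B).le (le798 I B))).ext L800 (by decide +kernel)

theorem a805 : I.AllS P (I.gen P S781) m804 :=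
  (a787 I B).ext L803 (by decide +kernel)

theorem pa806 : ∀ s ∈ S796, ∀ p, 0 ≤ p → p < 255 → I.PlainAt P (I.gen P S781) 504 255 s p :=
  Impl.plain_all (a805 I B) (a802 I B) 504 255 S796 W807 (by decide +kernel)

theorem lv808 : (I.gen P S796) ⊓ MulAction.stabilizer Mˣ (B.vd b799) = (I.gen P S781) ∧ (MulAction.orbit (I.gen P S796) (B.vd b799)).ncard = 255 ∧ Nat.card (I.gen P S796) = 255 * Nat.card (I.gen P S781) :=
  B.plain_lev (a802 I B) (a805 I B) 504 255 0 b799 (pa806 I B) (by decide +kernel)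

theorem card809 : Nat.card (I.gen P S796) = 24480 :=
  by have h := (lv808 I B).2.2; rw [(card794 I B)] at h; exact h.trans (by norm_num)

theorem a812 : I.AllS P (I.gen P S796) m811 :=
  (a802 I B).ext L810 (by decide +kernel)

theorem a815 : I.AllS P (I.gen P S53) m814 :=
  (a756 I B).ext L813 (by decide +kernel)

theorem le816 : (I.gen P S796) ≤ (I.gen P S53) :=
  Impl.gen_le (a815 I B) (by decide +kernel)

theorem a819 : I.AllS P (I.gen P S53) m818 :=
  (a815 I B).ext L817 (by decide +kernel)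

theorem iso_sub : (fun p => B.bd (pv Qiso p)) '' Set.Iio 130815 ⊆ MulAction.orbit (I.gen P S53) (B.vd uiso) :=
  B.batch_sub_orbit (a819 I B) C841 Qiso 130815 uiso (by decide +kernel)

theorem iso_card : ((fun p => B.bd (pv Qiso p)) '' Set.Iio 130815).ncard = 130815 :=
  B.ncard_batch (by decide +kernel)

theorem wit : ∀ u ∈ Uw, ∃ k ∈ (I.gen P S53), k • B.vd b56 = B.vd u :=
  B.mem_orbit_of_chk (a819 I B) b56 Uw [0, 0x9e0a000e002, 0xa200f09d09b, 0x9800209900f098, 0x9900509e00e09d, 0x9900f09f00f, 0x9809a00e09b00e, 0x9900e002098002, 0x980a200200e002, 0x9809909c00f00f] (by decide +kernel)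

theorem card_G : Nat.card (I.gen P SG) = 150698880 :=
  (card722 I B)

theorem card_H : Nat.card (I.gen P SH) = 2160 :=
  (card51 I B)

theorem card_Z : Nat.card (I.gen P SZ) = 6480 :=
  (card737 I B)

theorem card_K : Nat.card (I.gen P SK) = 24480 :=
  (card809 I B)

theorem stab_G : I.gen P SG ⊓ MulAction.stabilizer Mˣ (B.vd v0) = I.gen P SH :=
  (st561 I B)

theorem normal_G : ∀ N, NormalIn N (I.gen P SG) → N ≤ I.gen P SZ ∨ I.gen P SG ≤ N :=
  (nm750 I B)

theorem K_le : I.gen P SK ≤ I.gen P SG :=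
  (le816 I B)

theorem all_G : I.AllS P (I.gen P SG) mG :=
  (a819 I B)

theorem all_K : I.AllS P (I.gen P SK) mK :=
  (a812 I B)

theorem le861 : (I.gen P S53) ≤ (I.gen P S752) :=
  Impl.gen_le ((a760 I B).lor ((a756 I B).le (le761 I B))) (by decide +kernel)

theorem le862 : (I.gen P S752) ≤ (I.gen P S53) :=
  Impl.gen_le (a819 I B) (by decide +kernel)

theorem O_eq : I.gen P SO = I.gen P SG :=
  le_antisymm (le862 I B) (le861 I B)

end Cfsg.Lib.Spor.J3
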