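import Cfsg.Agent.Spor.J4Phi

/-! The first enumeration: relations of the involution that belongs to a sextet. -/

set_option autoImplicit false
set_option maxRecDepth 100000
set_option Elab.async false

namespace Cfsg.Lib.Spor.J4P

open Cfsg.Lib.Spor.Bulk Cfsg.Lib.Spor.MP Cfsg.Lib.Spor.JD
open scoped Pointwise

/-- words -/
def Wa : List ℕ := [3, 1, 2, 1, 3, 1, 2, 1, 2, 1, 3, 1, 2, 1, 3, 1, 2]
/-- words -/
def Wb : List ℕ := [2, 1, 2, 1, 2, 1, 2, 2, 1, 2, 1, 2, 1, 2, 2, 1, 2, 1, 2, 1, 2, 2, 2, 1, 2, 1, 2, 1, 2, 1, 2, 1, 2, 1, 2, 2, 1, 2, 1, 2, 1]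
/-- words -/
def Wc : List ℕ := [1, 3, 1, 3, 1, 3, 3, 1, 3, 1, 3, 1, 3, 1, 3, 1, 3, 1, 3, 3]
/-- words -/
def W3 : List ℕ := [1, 3, 1, 2, 1, 2, 1, 2, 1, 2]

/-- the meaning of the first enumeration -/
noncomputable def SA : Sem (pO fixT) Cfsg.Spor.J4 :=
  pSem fixT (g0 4) tt fun _ ha h => t_comm ha.2 (fixT_spec ha h)

theorem rel_of_words {Ws : List (List ℕ)} {E : List (ℕ × ℕ)} (h : ltB 4 Ws = true)
    (h2 : derivB 5 iota R [Ws.flatMap (· ++ [4])] E = true) : SA.Rel (mapL pw Ws) := by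
  have h3 := (sat.deriv h2).rel _ List.mem_cons_self
  have hW := lt_of_ltB h
  rw [mapL_eq]
  refine ⟨fun b hb => by obtain ⟨w, -, rfl⟩ := List.mem_map.1 hb; exact pw_in w, h3 ▸ ?_⟩
  clear h h2 h3
  induction Ws with
  | nil => rfl
  | cons w Ws ih =>
    rw [List.map_cons, wv_cons, ih fun x hx => hW x (List.mem_cons_of_mem _ hx), List.flatMap_cons,
      wv_append, wv_append, ← Φ_pw (hW w List.mem_cons_self), wv_cons, wv_nil, one_mul]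
    rfl

theorem relA : SA.Rel (mapL pw [Wa, Wa, Wa]) :=
  rel_of_words (E := [(8,9)]) (by decide +kernel) (by decide +kernel)

theorem relB : SA.Rel (mapL pw [Wb, Wc, Wb, Wc]) :=
  rel_of_words (E := [(9,21)]) (by decide +kernel) (by decide +kernel)

/-- facts -/
noncomputable def CA_F0 : FT := (.node (.node (.node (.node (.leaf ⟨nat_lit 2, nat_lit 0, nat_lit 0, nat_lit 0, nat_lit 0, nat_lit 0, nat_lit 0, [nat_lit 0xbdab49ca307b9ac5a928398a418820, nat_lit 0xbdab49ca307b9ac5a928398a418820]⟩) (.leaf ⟨nat_lit 0, nat_lit 6, nat_lit 4, nat_lit 0xa5525141123b62f1818eb5d61510d3, nat_lit 0x31ed7041b2621c928eb1786825cc8a, nat_lit 0x8367602dd4291413a24963ee311a35, nat_lit 0xbdab49ca307b9ac5a928398a418820, []⟩)) (.leaf ⟨nat_lit 0, nat_lit 2, nat_lit 4, nat_lit 0xb10753a42046ed5a6d01bcc59d2a4, nat_lit 0x6a4221c5c8349965cd55a14803c2ef, nat_lit 0xbdab49ca307b9ac5a928398a418820,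 nat_lit 0xbdab49ca307b9ac5a928398a418820, []⟩)) (.node (.leaf ⟨nat_lit 0, nat_lit 1, nat_lit 2, nat_lit 0xaaaed61c8b48625a01f28206675853, nat_lit 0xa8aeb021a748e93859e691191285ca, nat_lit 0x430b3811e9888d638e8a902abbb9a1, nat_lit 0x994ceba2123a8227907105ab44b1ab, []⟩) (.leaf ⟨nat_lit 0, nat_lit 3, nat_lit 4, nat_lit 0x209e80aaed2b9348b2b35c0d201ec3, nat_lit 0x8852c41166aba0a3c9b4115f705a63, nat_lit 0x9a4cb3d6c4a2848bb58383e20704b2, nat_lit 0x6a214a94c9512563bd8175c4b88e60, []⟩))) (.node (.node (.node (.leaf ⟨nat_lit 0, nat_lit 1, nat_lit 2, nat_lit 0xaaaed61c8b48625a01f28206675853, nat_lit 0xa8aeb021a748e93859e691191285ca, nat_lit 0xbdab49ca307b9ac5a928398a418820, nat_lit 0xbdab49ca307b9ac5a928398a418820, []⟩) (.leaf ⟨nat_lit 1, nat_lit 8, nat_lit 8, nat_lit 0, nat_lit 0, nat_lit 0x13ec50b0ce221726dc605269589e70, nat_lit 0x9b10db115589a972a5e293961040e3,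 []⟩)) (.leaf ⟨nat_lit 0, nat_lit 2, nat_lit 4, nat_lit 0xb10753a42046ed5a6d01bcc59d2a4, nat_lit 0x6a4221c5c8349965cd55a14803c2ef, nat_lit 0xb5c549c6503b8cc590287b46a2d520, nat_lit 0xbd6cf64650a1c7320128718ab6882a, []⟩)) (.node (.leaf ⟨nat_lit 0, nat_lit 1, nat_lit 3, nat_lit 0x4ca3050ae76cd6f60ea435005706c8, nat_lit 0x8852675ab460deb6cee081c8854845, nat_lit 0xbdab49ca307b9ac5a928398a418820, nat_lit 0xbdab49ca307b9ac5a928398a418820, []⟩) (.leaf ⟨nat_lit 0, nat_lit 3, nat_lit 7, nat_lit 0x7aaed29c884c1cc302a30ae5488ad3, nat_lit 0xa85240146ebb68c359f092e71408ea, nat_lit 0x199a490af1629c97a2c182e93016a7, nat_lit 0x84d01010f43484b88d4e6dea5b31e9, []⟩))))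
/-- facts -/
noncomputable def CA_F1 : FT := (.node (.node (.node (.node (.leaf ⟨nat_lit 1, nat_lit 1, nat_lit 1, nat_lit 0, nat_lit 0, nat_lit 0xc5271d6e6029852384da4d0b84acf, nat_lit 0x8864730ac30290d23aa5a418b9a6ef, []⟩) (.leaf ⟨nat_lit 0, nat_lit 3, nat_lit 8, nat_lit 0x544419bad4832ed2a01278cd53a48b, nat_lit 0x6c4909a2cf3c98e05c4a1956135689, nat_lit 0xbdab49ca307b9ac5a928398a418820, nat_lit 0xbdab49ca307b9ac5a928398a418820, []⟩)) (.leaf ⟨nat_lit 0, nat_lit 2, nat_lit 4, nat_lit 0xb10753a42046ed5a6d01bcc59d2a4, nat_lit 0x6a4221c5c8349965cd55a14803c2ef, nat_lit 0xabd43599ae2422999d01bca8205985, nat_lit 0xb0aeb185253d18d012465220f9d62e, []⟩)) (.node (.leaf ⟨nat_lit 0, nat_lit 3, nat_lit 1, nat_lit 0xbdab49ca307b9ac5a928398a418820, nat_lit 0xbdab49ca307b9ac5a928398a418820, nat_lit 0x4ca3050ae76cd6f60ea435005706c8, nat_lit 0xbdab49ca307b9ac5a928398a418820,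 []⟩) (.leaf ⟨nat_lit 0, nat_lit 3, nat_lit 7, nat_lit 0x7aaed29c884c1cc302a30ae5488ad3, nat_lit 0xa85240146ebb68c359f092e71408ea, nat_lit 0x4c568bccca041e46859590ace3d065, nat_lit 0xa01688b4c1acd49608b2b9c967b870, []⟩))) (.node (.node (.node (.leaf ⟨nat_lit 1, nat_lit 2, nat_lit 2, nat_lit 0, nat_lit 0, nat_lit 0x389e19b110b0dab2900e51a578d689, nat_lit 0xca34456d352cb073eec3b46432440, []⟩) (.leaf ⟨nat_lit 0, nat_lit 4, nat_lit 8, nat_lit 0x486ac8c26e3ada5952e8b1940111e3, nat_lit 0x49eaa8ae720c1b4716e87998200ec4, nat_lit 0x605119baaf29e065a6d7189a055244, nat_lit 0x8326969c86149630d5e5b029772151, []⟩)) (.leaf ⟨nat_lit 1, nat_lit 6, nat_lit 6, nat_lit 0, nat_lit 0, nat_lit 0x25c5462dc8b44ad9552650e6f81c20, nat_lit 0x3326a90db703ad15d10238524a960f, []⟩)) (.node (.leaf ⟨nat_lit 1, nat_lit 3, nat_lit 3, nat_lit 0, nat_lit 0, nat_lit 0xa3972ab1172a54208e1669de620271,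 nat_lit 0x198b77ae8780924b4dca4464c0b415, []⟩) (.leaf ⟨nat_lit 0, nat_lit 3, nat_lit 7, nat_lit 0x7aaed29c884c1cc302a30ae5488ad3, nat_lit 0xa85240146ebb68c359f092e71408ea, nat_lit 0x2b6617d48261d4eb229235d7088d20, nat_lit 0x23d4198ca85a6d0881ac70af4a9cd2, []⟩))))
/-- facts -/
noncomputable def CA_F2 : FT := (.node (.node (.node (.node (.leaf ⟨nat_lit 0, nat_lit 1, nat_lit 0, nat_lit 0xbdab49ca307b9ac5a928398a418820, nat_lit 0xbdab49ca307b9ac5a928398a418820, nat_lit 0xbdab49ca307b9ac5a928398a418820, nat_lit 0xbdab49ca307b9ac5a928398a418820, []⟩) (.leaf ⟨nat_lit 0, nat_lit 4, nat_lit 7, nat_lit 0x9b645bd4ea58ac87c02c8928603923, nat_lit 0x9b645bd4ea58ac87c02c8928603923, nat_lit 0x3914d18109130aea3e30b05779d4d2, nat_lit 0x50db4b1c81832429a0d175eab4bca0, []⟩)) (.leaf ⟨nat_lit 0, nat_lit 2, nat_lit 4, nat_lit 0xb10753a42046ed5a6d01bcc59d2a4, nat_lit 0x6a4221c5c8349965cd55a14803c2ef,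 nat_lit 0xb90e06b9667ca6c8a828ac0b618934, nat_lit 0xbd6d42ca2352d0673c2d3b26480920, []⟩)) (.node (.leaf ⟨nat_lit 1, nat_lit 2, nat_lit 2, nat_lit 0, nat_lit 0, nat_lit 0x1b0a9a1df388836222175b6b253806, nat_lit 0x998a4bc1115d022038727d6ca4b1a7, []⟩) (.leaf ⟨nat_lit 0, nat_lit 3, nat_lit 7, nat_lit 0x7aaed29c884c1cc302a30ae5488ad3, nat_lit 0xa85240146ebb68c359f092e71408ea, nat_lit 0xbdab49ca307b9ac5a928398a418820, nat_lit 0xbdab49ca307b9ac5a928398a418820, []⟩))) (.node (.node (.node (.leaf ⟨nat_lit 0, nat_lit 1, nat_lit 2, nat_lit 0xaaaed61c8b48625a01f28206675853, nat_lit 0xa8aeb021a748e93859e691191285ca, nat_lit 0x23c4199470aa1b261c11b996a75a89, nat_lit 0x4c65485aac52cc873c5338da4286e0, []⟩) (.leaf ⟨nat_lit 0, nat_lit 8, nat_lit 4, nat_lit 0x29989500eb1daef0b48e4445094e95, nat_lit 0x6b80110cc46215584e878dae979572, nat_lit 0x3490b0a6e2a828d541932bcf12586e,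 nat_lit 0x3900d0c6f6740c91ac5554caf65248, []⟩)) (.leaf ⟨nat_lit 0, nat_lit 2, nat_lit 6, nat_lit 0x692a9888a1b22437c1d79d18651c0b, nat_lit 0x43ea63b66a5a6e500e8e1123664a01, nat_lit 0xbdab49ca307b9ac5a928398a418820, nat_lit 0xbdab49ca307b9ac5a928398a418820, []⟩)) (.node (.leaf ⟨nat_lit 0, nat_lit 1, nat_lit 3, nat_lit 0x4ca3050ae76cd6f60ea435005706c8, nat_lit 0x8852675ab460deb6cee081c8854845, nat_lit 0x822770d0092d8f2ab5d1311e353162, nat_lit 0xa2c11514cf9a444921a785aacbb861, []⟩) (.leaf ⟨nat_lit 0, nat_lit 3, nat_lit 7, nat_lit 0x7aaed29c884c1cc302a30ae5488ad3, nat_lit 0xa85240146ebb68c359f092e71408ea, nat_lit 0x25df34b0a038c32454cb5522275a0d, nat_lit 0xc5271d6e6029852384da4d0b84acf, []⟩))))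
/-- facts -/
noncomputable def CA_F3 : FT := (.node (.node (.node (.node (.leaf ⟨nat_lit 2, nat_lit 0, nat_lit 0, nat_lit 0, nat_lit 0, nat_lit 0, nat_lit 0, [nat_lit 0x951233ac0284d06b55cc511a5b862f, nat_lit 0x41c127a44e55a06bac3328e8c23635, nat_lit 0x951233ac0284d06b55cc511a5b862f, nat_lit 0x41c127a44e55a06bac3328e8c23635]⟩) (.leaf ⟨nat_lit 1, nat_lit 8, nat_lit 8, nat_lit 0, nat_lit 0, nat_lit 0x44cceb00271d08a4b1778544d79632, nat_lit 0x51d6794679d52a131a4806488acd7, []⟩)) (.leaf ⟨nat_lit 0, nat_lit 2, nat_lit 4, nat_lit 0xb10753a42046ed5a6d01bcc59d2a4, nat_lit 0x6a4221c5c8349965cd55a14803c2ef, nat_lit 0xb90e8942717b574328a0ab8364886c, nat_lit 0xca34456d352cb073eec3b46432440, []⟩)) (.node (.leaf ⟨nat_lit 1, nat_lit 3, nat_lit 3, nat_lit 0, nat_lit 0, nat_lit 0x4c82a1dea601d057bacda418b9c444, nat_lit 0x8864730ac30290d23aa5a418b9a6ef, []⟩) (.leaf ⟨nat_lit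 0, nat_lit 3, nat_lit 7, nat_lit 0x7aaed29c884c1cc302a30ae5488ad3, nat_lit 0xa85240146ebb68c359f092e71408ea, nat_lit 0x2b4c44dc41628127a2b18517370ec7, nat_lit 0x64d01328e3026e58d08d70aabb41f2, []⟩))) (.node (.node (.node (.leaf ⟨nat_lit 0, nat_lit 1, nat_lit 2, nat_lit 0xaaaed61c8b48625a01f28206675853, nat_lit 0xa8aeb021a748e93859e691191285ca, nat_lit 0xbdab49ca307b9ac5a928398a418820, nat_lit 0xbdab49ca307b9ac5a928398a418820, []⟩) (.leaf ⟨nat_lit 0, nat_lit 8, nat_lit 7, nat_lit 0x6d0a848df69d62e32ee26101250607, nat_lit 0x4c1d6791a18b2e750e7402ea692045, nat_lit 0x820759b04a33494b44f7715e092561, nat_lit 0x62162552057caa70926d1a626b01d7, []⟩)) (.leaf ⟨nat_lit 0, nat_lit 3, nat_lit 4, nat_lit 0x209e80aaed2b9348b2b35c0d201ec3, nat_lit 0x8852c41166aba0a3c9b4115f705a63, nat_lit 0x9aca93d6ef0a848b3603611d28d0c0, nat_lit 0x6a0747158a49e2b204cfadc5694260, []⟩)) (.node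 (.leaf ⟨nat_lit 0, nat_lit 2, nat_lit 3, nat_lit 0x78e0c145282ac81954e0519d6a4db7, nat_lit 0x114312e55b943471e30499edb4d88, nat_lit 0x1110aa36e0ad9211958e9c56f918f0, nat_lit 0x6a18100cc71588bbd60a4ba9279671, []⟩) (.leaf ⟨nat_lit 1, nat_lit 7, nat_lit 7, nat_lit 0, nat_lit 0, nat_lit 0x32e49aa0649b2cf2b42a71ef114280, nat_lit 0x2b4649816cb1d287d5d01063791a8a, []⟩))))
/-- facts -/
noncomputable def CA_F4 : FT := (.node (.node (.node (.node (.leaf ⟨nat_lit 0, nat_lit 0, nat_lit 1, nat_lit 0xbdab49ca307b9ac5a928398a418820, nat_lit 0xbdab49ca307b9ac5a928398a418820, nat_lit 0xbdab49ca307b9ac5a928398a418820, nat_lit 0xbdab49ca307b9ac5a928398a418820, []⟩) (.leaf ⟨nat_lit 0, nat_lit 4, nat_lit 4, nat_lit 0x9380751517a08647c6154b0cb985b6, nat_lit 0x8010f1dd495d82624cf1a164c6b855, nat_lit 0x74523accc4a59a83ade504152b844c, nat_lit 0x34d8a48db5a2c41702163c644b950f, []⟩))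 (.leaf ⟨nat_lit 0, nat_lit 4, nat_lit 2, nat_lit 0xbdab49ca307b9ac5a928398a418820, nat_lit 0xbdab49ca307b9ac5a928398a418820, nat_lit 0xb10753a42046ed5a6d01bcc59d2a4, nat_lit 0xbdab49ca307b9ac5a928398a418820, []⟩)) (.node (.leaf ⟨nat_lit 0, nat_lit 1, nat_lit 2, nat_lit 0xaaaed61c8b48625a01f28206675853, nat_lit 0xa8aeb021a748e93859e691191285ca, nat_lit 0xbdab49ca307b9ac5a928398a418820, nat_lit 0xbdab49ca307b9ac5a928398a418820, []⟩) (.leaf ⟨nat_lit 1, nat_lit 4, nat_lit 4, nat_lit 0, nat_lit 0, nat_lit 0xbd0369c966139ac8a8e84c0602bea4, nat_lit 0xbadd49c6430d5a6b2548230a7809e0, []⟩))) (.node (.node (.node (.leaf ⟨nat_lit 0, nat_lit 2, nat_lit 1, nat_lit 0xbdab49ca307b9ac5a928398a418820, nat_lit 0xbdab49ca307b9ac5a928398a418820, nat_lit 0xaaaed61c8b48625a01f28206675853, nat_lit 0xbdab49ca307b9ac5a928398a418820, []⟩) (.leaf ⟨nat_lit 0, nat_lit 4, nat_lit 8, nat_lit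 0x3490b0a6e2a828d541932bcf12586e, nat_lit 0x889ed4588a30189a2e552dce30c26e, nat_lit 0x29989500eb1daef0b48e4445094e95, nat_lit 0x8c1023064e23e8351d80bb4b65a675, []⟩)) (.leaf ⟨nat_lit 1, nat_lit 4, nat_lit 4, nat_lit 0, nat_lit 0, nat_lit 0xb5c549c6503b8cc590287b46a2d520, nat_lit 0xbd6cf64650a1c7320128718ab6882a, []⟩)) (.node (.leaf ⟨nat_lit 1, nat_lit 3, nat_lit 3, nat_lit 0, nat_lit 0, nat_lit 0x9242d2584a7190f1d2a75c260646e5, nat_lit 0xc647a54403120b536ee1cd05626cf, []⟩) (.leaf ⟨nat_lit 1, nat_lit 7, nat_lit 7, nat_lit 0, nat_lit 0, nat_lit 0x199a490af1629c97a2c182e93016a7, nat_lit 0x84d01010f43484b88d4e6dea5b31e9, []⟩))))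
/-- facts -/
noncomputable def CA_F5 : FT := (.node (.node (.node (.node (.leaf ⟨nat_lit 2, nat_lit 0, nat_lit 0, nat_lit 0, nat_lit 0, nat_lit 0, nat_lit 0, [nat_lit 0x7dc544c228b381332992a8da459c25, nat_lit 0x7dc544c228b381332992a8da459c25, nat_lit 0x7dc544c228b381332992a8da459c25]⟩) (.leaf ⟨nat_lit 0, nat_lit 3, nat_lit 8, nat_lit 0x544419bad4832ed2a01278cd53a48b, nat_lit 0x6c4909a2cf3c98e05c4a1956135689, nat_lit 0x44cceb00271d08a4b1778544d79632, nat_lit 0x51d6794679d52a131a4806488acd7, []⟩)) (.leaf ⟨nat_lit 1, nat_lit 4, nat_lit 4, nat_lit 0, nat_lit 0, nat_lit 0xabd43599ae2422999d01bca8205985, nat_lit 0xb0aeb185253d18d012465220f9d62e, []⟩)) (.node (.leaf ⟨nat_lit 0, nat_lit 1, nat_lit 3, nat_lit 0x4ca3050ae76cd6f60ea435005706c8, nat_lit 0x8852675ab460deb6cee081c8854845, nat_lit 0x4c82a1dea601d057bacda418b9c444, nat_lit 0x8864730ac30290d23aa5a418b9a6ef,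 []⟩) (.leaf ⟨nat_lit 1, nat_lit 7, nat_lit 7, nat_lit 0, nat_lit 0, nat_lit 0x4c568bccca041e46859590ace3d065, nat_lit 0xa01688b4c1acd49608b2b9c967b870, []⟩))) (.node (.node (.node (.leaf ⟨nat_lit 0, nat_lit 1, nat_lit 2, nat_lit 0xaaaed61c8b48625a01f28206675853, nat_lit 0xa8aeb021a748e93859e691191285ca, nat_lit 0x945d09bc8161daa12c16452e3a94c9, nat_lit 0x332740b47551ee923e165c64e11500, []⟩) (.leaf ⟨nat_lit 0, nat_lit 7, nat_lit 8, nat_lit 0x820759b04a33494b44f7715e092561, nat_lit 0x42e8c98d5729dd20c0564bccdac404, nat_lit 0x6d0a848df69d62e32ee26101250607, nat_lit 0xdb24b8b178517accd66120a3d162, []⟩)) (.leaf ⟨nat_lit 0, nat_lit 3, nat_lit 3, nat_lit 0xb9644500d55e6c13e26b147582647, nat_lit 0x71c926852355a0cabc53020d42aef1, nat_lit 0xa4646aadca8309644d2f18ae53802d, nat_lit 0xc64505c4b9b4f41b2ce43d50226a6, []⟩)) (.node (.leaf ⟨nat_lit 0, nat_lit 2, nat_lit 2,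 nat_lit 0x85488b84029a54ea3471b3d67918ac, nat_lit 0x99ecb78d17331402b5d4208354c251, nat_lit 0xa40c2c0e28d9136d2e45bcceac86a, nat_lit 0x2a20a9347570051a2d9638524b9a6f, []⟩) (.leaf ⟨nat_lit 0, nat_lit 3, nat_lit 7, nat_lit 0x7aaed29c884c1cc302a30ae5488ad3, nat_lit 0xa85240146ebb68c359f092e71408ea, nat_lit 0xbdab49ca307b9ac5a928398a418820, nat_lit 0xbdab49ca307b9ac5a928398a418820, []⟩))))
/-- facts -/
noncomputable def CA_F6 : FT := (.node (.node (.node (.node (.leaf ⟨nat_lit 1, nat_lit 1, nat_lit 1, nat_lit 0, nat_lit 0, nat_lit 0x60ca07c64a984f74c162692a6b21d4, nat_lit 0x60ca07c64a984f74c162692a6b21d4, []⟩) (.leaf ⟨nat_lit 0, nat_lit 7, nat_lit 4, nat_lit 0x3914d18109130aea3e30b05779d4d2, nat_lit 0x21c4b181285328e2d611b85b69bcd2, nat_lit 0x9b645bd4ea58ac87c02c8928603923, nat_lit 0x34cb45b50f11eae25c6a92431b3200, []⟩)) (.leaf ⟨nat_lit 1, nat_lit 4, nat_lit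 4, nat_lit 0, nat_lit 0, nat_lit 0xb90e06b9667ca6c8a828ac0b618934, nat_lit 0xbd6d42ca2352d0673c2d3b26480920, []⟩)) (.node (.leaf ⟨nat_lit 0, nat_lit 1, nat_lit 3, nat_lit 0x4ca3050ae76cd6f60ea435005706c8, nat_lit 0x8852675ab460deb6cee081c8854845, nat_lit 0xbdab49ca307b9ac5a928398a418820, nat_lit 0xbdab49ca307b9ac5a928398a418820, []⟩) (.leaf ⟨nat_lit 0, nat_lit 7, nat_lit 3, nat_lit 0xbdab49ca307b9ac5a928398a418820, nat_lit 0xbdab49ca307b9ac5a928398a418820, nat_lit 0x7aaed29c884c1cc302a30ae5488ad3, nat_lit 0xbdab49ca307b9ac5a928398a418820, []⟩))) (.node (.node (.node (.leaf ⟨nat_lit 0, nat_lit 1, nat_lit 2, nat_lit 0xaaaed61c8b48625a01f28206675853, nat_lit 0xa8aeb021a748e93859e691191285ca, nat_lit 0xbdab49ca307b9ac5a928398a418820, nat_lit 0xbdab49ca307b9ac5a928398a418820, []⟩) (.leaf ⟨nat_lit 0, nat_lit 8, nat_lit 4, nat_lit 0x605119baaf29e065a6d7189a055244,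 nat_lit 0x426229868d848b758d55731e039ac4, nat_lit 0x486ac8c26e3ada5952e8b1940111e3, nat_lit 0x21d45ab81748e76686829411163d66, []⟩)) (.leaf ⟨nat_lit 0, nat_lit 2, nat_lit 6, nat_lit 0x692a9888a1b22437c1d79d18651c0b, nat_lit 0x43ea63b66a5a6e500e8e1123664a01, nat_lit 0x25c5462dc8b44ad9552650e6f81c20, nat_lit 0x3326a90db703ad15d10238524a960f, []⟩)) (.node (.leaf ⟨nat_lit 0, nat_lit 1, nat_lit 3, nat_lit 0x4ca3050ae76cd6f60ea435005706c8, nat_lit 0x8852675ab460deb6cee081c8854845, nat_lit 0xbdab49ca307b9ac5a928398a418820, nat_lit 0xbdab49ca307b9ac5a928398a418820, []⟩) (.leaf ⟨nat_lit 1, nat_lit 7, nat_lit 7, nat_lit 0, nat_lit 0, nat_lit 0x25df34b0a038c32454cb5522275a0d, nat_lit 0xc5271d6e6029852384da4d0b84acf, []⟩))))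
/-- facts -/
noncomputable def CA_F7 : FT := (.node (.node (.node (.node (.leaf ⟨nat_lit 0, nat_lit 1, nat_lit 1, nat_lit 0x1c11678aea9868b4b24e280e623635, nat_lit 0x8d00d7a4369a04a64175290e3bc9c6, nat_lit 0x621aab48ee812a0898222ae93b8de9, nat_lit 0x13ed30a074224a605e503b22a7556d, []⟩) (.leaf ⟨nat_lit 0, nat_lit 3, nat_lit 8, nat_lit 0x544419bad4832ed2a01278cd53a48b, nat_lit 0x6c4909a2cf3c98e05c4a1956135689, nat_lit 0x13ec50b0ce221726dc605269589e70, nat_lit 0x9b10db115589a972a5e293961040e3, []⟩)) (.leaf ⟨nat_lit 1, nat_lit 4, nat_lit 4, nat_lit 0, nat_lit 0, nat_lit 0xb90e8942717b574328a0ab8364886c, nat_lit 0xca34456d352cb073eec3b46432440, []⟩)) (.node (.leaf ⟨nat_lit 0, nat_lit 1, nat_lit 3, nat_lit 0x4ca3050ae76cd6f60ea435005706c8, nat_lit 0x8852675ab460deb6cee081c8854845, nat_lit 0xc92a2dc4663e833c2cd438135c6a4, nat_lit 0x48653356cd0214362c45a3c8e3c6f0,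 []⟩) (.leaf ⟨nat_lit 1, nat_lit 7, nat_lit 7, nat_lit 0, nat_lit 0, nat_lit 0x2b4c44dc41628127a2b18517370ec7, nat_lit 0x64d01328e3026e58d08d70aabb41f2, []⟩))) (.node (.node (.leaf ⟨nat_lit 1, nat_lit 2, nat_lit 2, nat_lit 0, nat_lit 0, nat_lit 0x2a0669ded4955af530077045122e09, nat_lit 0x6a214a94c9512563bd8175c4b88e60, []⟩) (.leaf ⟨nat_lit 0, nat_lit 4, nat_lit 3, nat_lit 0x9aca93d6ef0a848b3603611d28d0c0, nat_lit 0x8ae42b906981547b3a8c986a6435e0, nat_lit 0x209e80aaed2b9348b2b35c0d201ec3, nat_lit 0x310f408da244ef1641f67264ba9540, []⟩)) (.node (.leaf ⟨nat_lit 0, nat_lit 3, nat_lit 2, nat_lit 0x1110aa36e0ad9211958e9c56f918f0, nat_lit 0x8b9f338cc0222492d1b5089565dd90, nat_lit 0x78e0c145282ac81954e0519d6a4db7, nat_lit 0x5b9450900919af5620f68444d93e93, []⟩) (.leaf ⟨nat_lit 0, nat_lit 4, nat_lit 6, nat_lit 0x8367602dd4291413a24963ee311a35, nat_lit 0x2d010aa437346c79350a589ee20d93,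 nat_lit 0xa5525141123b62f1818eb5d61510d3, nat_lit 0xbdab49ca307b9ac5a928398a418820, []⟩))))
/-- facts -/
noncomputable def CA_F8 : FT := (.node (.node (.node CA_F0 CA_F1) (.node CA_F2 CA_F3)) (.node (.node CA_F4 CA_F5) (.node CA_F6 CA_F7)))
/-- the enumeration -/
noncomputable def CA : Cf := ⟨pO fixT, CA_F8.get, getN 0 [nat_lit 0, nat_lit 0, nat_lit 1, nat_lit 1, nat_lit 2, nat_lit 2, nat_lit 2, nat_lit 3, nat_lit 3], getN 0 [nat_lit 0xbdab49ca307b9ac5a928398a418820, nat_lit 0xbdab49ca307b9ac5a928398a418820, nat_lit 0xaaaed61c8b48625a01f28206675853, nat_lit 0x4ca3050ae76cd6f60ea435005706c8, nat_lit 0xb10753a42046ed5a6d01bcc59d2a4, nat_lit 0x54ece0bcf421a35195776020243649, nat_lit 0x692a9888a1b22437c1d79d18651c0b, nat_lit 0x7aaed29c884c1cc302a30ae5488ad3, nat_lit 0x544419bad4832ed2a01278cd53a48b], [[pid, pid], mapL pw [Wa, Wa, Wa], mapL pw [Wb, Wc, Wb, Wc]]⟩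
theorem CA_ok0 : CA.okAll 40 [⟨nat_lit 0, nat_lit 0, nat_lit 0, nat_lit 0, []⟩,
  ⟨nat_lit 0, nat_lit 0, nat_lit 0, nat_lit 0, []⟩,
  ⟨nat_lit 1, nat_lit 1, nat_lit 0, nat_lit 0, []⟩,
  ⟨nat_lit 0, nat_lit 0, nat_lit 0, nat_lit 0, []⟩,
  ⟨nat_lit 0, nat_lit 0, nat_lit 0, nat_lit 0, []⟩,
  ⟨nat_lit 0, nat_lit 1, nat_lit 0, nat_lit 0, []⟩,
  ⟨nat_lit 0, nat_lit 2, nat_lit 0, nat_lit 0, []⟩,
  ⟨nat_lit 2, nat_lit 5, nat_lit 0, nat_lit 0x5a40d240d60a04f1d0b78aaae3c993, [nat_lit 5, nat_lit 1]⟩,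
  ⟨nat_lit 0, nat_lit 0, nat_lit 0, nat_lit 0, []⟩,
  ⟨nat_lit 1, nat_lit 8, nat_lit 0, nat_lit 0, []⟩,
  ⟨nat_lit 2, nat_lit 5, nat_lit 0, nat_lit 0x79eb309a142322b2d8721380a4dd0d, [nat_lit 6, nat_lit 8, nat_lit 8, nat_lit 15, nat_lit 6, nat_lit 8, nat_lit 8, nat_lit 8, nat_lit 6, nat_lit 8, nat_lit 8, nat_lit 6, nat_lit 8, nat_lit 8, nat_lit 17]⟩,
  ⟨nat_lit 2, nat_lit 0, nat_lit 0, nat_lit 0xbdab49ca307b9ac5a928398a418820, [nat_lit 17]⟩,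
  ⟨nat_lit 1, nat_lit 10, nat_lit 11, nat_lit 0, []⟩,
  ⟨nat_lit 2, nat_lit 6, nat_lit 0, nat_lit 0x6a18705ab418971b95f28383349944, [nat_lit 5, nat_lit 1, nat_lit 6, nat_lit 8, nat_lit 8, nat_lit 8, nat_lit 6, nat_lit 8, nat_lit 8, nat_lit 8, nat_lit 6, nat_lit 8, nat_lit 8, nat_lit 6, nat_lit 8, nat_lit 6, nat_lit 8, nat_lit 6, nat_lit 8, nat_lit 17]⟩,
  ⟨nat_lit 2, nat_lit 0, nat_lit 0, nat_lit 0xbdab49ca307b9ac5a928398a418820, [nat_lit 17]⟩,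
  ⟨nat_lit 1, nat_lit 13, nat_lit 14, nat_lit 0, []⟩,
  ⟨nat_lit 2, nat_lit 6, nat_lit 0, nat_lit 0x1ce0a05c546d571b189263828494ef, [nat_lit 6, nat_lit 8, nat_lit 8, nat_lit 8, nat_lit 6, nat_lit 8, nat_lit 8, nat_lit 6, nat_lit 8, nat_lit 8, nat_lit 8, nat_lit 15, nat_lit 8, nat_lit 6, nat_lit 8, nat_lit 8, nat_lit 6, nat_lit 8, nat_lit 6, nat_lit 15, nat_lit 6, nat_lit 8, nat_lit 8, nat_lit 6, nat_lit 8, nat_lit 8, nat_lit 6, nat_lit 8, nat_lit 8, nat_lit 8, nat_lit 6, nat_lit 8, nat_lit 6, nat_lit 8, nat_lit 6, nat_lit 8, nat_lit 17]⟩,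
  ⟨nat_lit 2, nat_lit 0, nat_lit 0, nat_lit 0xbdab49ca307b9ac5a928398a418820, [nat_lit 17]⟩,
  ⟨nat_lit 1, nat_lit 16, nat_lit 17, nat_lit 0, []⟩,
  ⟨nat_lit 0, nat_lit 0, nat_lit 0, nat_lit 0, []⟩,
  ⟨nat_lit 1, nat_lit 19, nat_lit 0, nat_lit 0, []⟩,
  ⟨nat_lit 2, nat_lit 0, nat_lit 0, nat_lit 0xbdab49ca307b9ac5a928398a418820, [nat_lit 8, nat_lit 6, nat_lit 8, nat_lit 8, nat_lit 8, nat_lit 8, nat_lit 6, nat_lit 39]⟩,
  ⟨nat_lit 1, nat_lit 19, nat_lit 21, nat_lit 0, []⟩,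
  ⟨nat_lit 2, nat_lit 5, nat_lit 0, nat_lit 0xaa853a30a1b0c0e410d1ba56f91e0d, [nat_lit 8, nat_lit 6, nat_lit 8, nat_lit 6, nat_lit 8, nat_lit 6, nat_lit 15, nat_lit 6, nat_lit 8, nat_lit 8, nat_lit 6, nat_lit 8, nat_lit 8, nat_lit 8, nat_lit 6, nat_lit 39]⟩,
  ⟨nat_lit 2, nat_lit 0, nat_lit 0, nat_lit 0xbdab49ca307b9ac5a928398a418820, [nat_lit 39]⟩,
  ⟨nat_lit 1, nat_lit 23, nat_lit 24, nat_lit 0, []⟩,
  ⟨nat_lit 2, nat_lit 5, nat_lit 0, nat_lit 0x5a40d240d60a04f1d0b78aaae3c993, [nat_lit 6, nat_lit 8, nat_lit 8, nat_lit 15, nat_lit 8, nat_lit 8, nat_lit 6, nat_lit 8, nat_lit 6, nat_lit 39]⟩,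
  ⟨nat_lit 2, nat_lit 0, nat_lit 0, nat_lit 0xbdab49ca307b9ac5a928398a418820, [nat_lit 39]⟩,
  ⟨nat_lit 1, nat_lit 26, nat_lit 27, nat_lit 0, []⟩,
  ⟨nat_lit 2, nat_lit 5, nat_lit 0, nat_lit 0xc5271d6e6029852384da4d0b84acf, [nat_lit 30, nat_lit 19, nat_lit 8, nat_lit 6, nat_lit 8, nat_lit 8, nat_lit 8, nat_lit 6, nat_lit 8, nat_lit 6, nat_lit 8, nat_lit 8, nat_lit 6, nat_lit 8, nat_lit 8, nat_lit 8, nat_lit 6, nat_lit 8, nat_lit 6, nat_lit 17]⟩,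
  ⟨nat_lit 2, nat_lit 5, nat_lit 0, nat_lit 0xc5271d6e6029852384da4d0b84acf, [nat_lit 36, nat_lit 19, nat_lit 6, nat_lit 8, nat_lit 6, nat_lit 8, nat_lit 8, nat_lit 8, nat_lit 6, nat_lit 39]⟩,
  ⟨nat_lit 1, nat_lit 30, nat_lit 0, nat_lit 0, []⟩,
  ⟨nat_lit 0, nat_lit 0, nat_lit 0, nat_lit 0, []⟩,
  ⟨nat_lit 1, nat_lit 32, nat_lit 0, nat_lit 0, []⟩,
  ⟨nat_lit 2, nat_lit 0, nat_lit 0, nat_lit 0xbdab49ca307b9ac5a928398a418820, [nat_lit 24, nat_lit 24, nat_lit 30, nat_lit 24, nat_lit 30, nat_lit 65]⟩,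
  ⟨nat_lit 1, nat_lit 32, nat_lit 34, nat_lit 0, []⟩,
  ⟨nat_lit 2, nat_lit 0, nat_lit 0, nat_lit 0xbdab49ca307b9ac5a928398a418820, [nat_lit 36, nat_lit 24, nat_lit 24, nat_lit 30, nat_lit 65]⟩,
  ⟨nat_lit 1, nat_lit 32, nat_lit 36, nat_lit 0, []⟩,
  ⟨nat_lit 2, nat_lit 0, nat_lit 0, nat_lit 0xbdab49ca307b9ac5a928398a418820, [nat_lit 24, nat_lit 65]⟩,
  ⟨nat_lit 1, nat_lit 32, nat_lit 38, nat_lit 0, []⟩] 0 = true := by decide +kernel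
theorem CA_ok40 : CA.okAll 79 [⟨nat_lit 2, nat_lit 0, nat_lit 0, nat_lit 0xbdab49ca307b9ac5a928398a418820, [nat_lit 36, nat_lit 30, nat_lit 30, nat_lit 36, nat_lit 30, nat_lit 30, nat_lit 65]⟩,
  ⟨nat_lit 1, nat_lit 32, nat_lit 40, nat_lit 0, []⟩,
  ⟨nat_lit 0, nat_lit 0, nat_lit 0, nat_lit 0, []⟩,
  ⟨nat_lit 2, nat_lit 0, nat_lit 0, nat_lit 0xbdab49ca307b9ac5a928398a418820, [nat_lit 30, nat_lit 24, nat_lit 36, nat_lit 36, nat_lit 85]⟩,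
  ⟨nat_lit 1, nat_lit 42, nat_lit 43, nat_lit 0, []⟩,
  ⟨nat_lit 2, nat_lit 5, nat_lit 0, nat_lit 0xbdab49ca307b9ac5a928398a418820, [nat_lit 50, nat_lit 44, nat_lit 56, nat_lit 56, nat_lit 63, nat_lit 30, nat_lit 30, nat_lit 61]⟩,
  ⟨nat_lit 2, nat_lit 6, nat_lit 0, nat_lit 0x2a1b54d9eb31251bb0f4180337404a, [nat_lit 50, nat_lit 41, nat_lit 8, nat_lit 17, nat_lit 30, nat_lit 65]⟩,
  ⟨nat_lit 1, nat_lit 46, nat_lit 0, nat_lit 0, []⟩,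
  ⟨nat_lit 2, nat_lit 0, nat_lit 0, nat_lit 0xbdab49ca307b9ac5a928398a418820, [nat_lit 44, nat_lit 44, nat_lit 44, nat_lit 44, nat_lit 50, nat_lit 44, nat_lit 93]⟩,
  ⟨nat_lit 1, nat_lit 46, nat_lit 48, nat_lit 0, []⟩,
  ⟨nat_lit 0, nat_lit 0, nat_lit 0, nat_lit 0, []⟩,
  ⟨nat_lit 1, nat_lit 50, nat_lit 0, nat_lit 0, []⟩,
  ⟨nat_lit 2, nat_lit 0, nat_lit 0, nat_lit 0xbdab49ca307b9ac5a928398a418820, [nat_lit 44, nat_lit 56, nat_lit 101]⟩,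
  ⟨nat_lit 1, nat_lit 50, nat_lit 52, nat_lit 0, []⟩,
  ⟨nat_lit 2, nat_lit 0, nat_lit 0, nat_lit 0xbdab49ca307b9ac5a928398a418820, [nat_lit 56, nat_lit 50, nat_lit 101]⟩,
  ⟨nat_lit 1, nat_lit 50, nat_lit 54, nat_lit 0, []⟩,
  ⟨nat_lit 2, nat_lit 0, nat_lit 0, nat_lit 0xbdab49ca307b9ac5a928398a418820, [nat_lit 56, nat_lit 50, nat_lit 44, nat_lit 50, nat_lit 101]⟩,
  ⟨nat_lit 1, nat_lit 50, nat_lit 56, nat_lit 0, []⟩,
  ⟨nat_lit 2, nat_lit 0, nat_lit 0, nat_lit 0xbdab49ca307b9ac5a928398a418820, [nat_lit 50, nat_lit 44, nat_lit 50, nat_lit 101]⟩,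
  ⟨nat_lit 1, nat_lit 50, nat_lit 58, nat_lit 0, []⟩,
  ⟨nat_lit 2, nat_lit 5, nat_lit 0, nat_lit 0x7496db1584a42f53050703c4954473, [nat_lit 56, nat_lit 91, nat_lit 101]⟩,
  ⟨nat_lit 2, nat_lit 0, nat_lit 0, nat_lit 0xbdab49ca307b9ac5a928398a418820, [nat_lit 101]⟩,
  ⟨nat_lit 1, nat_lit 60, nat_lit 61, nat_lit 0, []⟩,
  ⟨nat_lit 2, nat_lit 5, nat_lit 0, nat_lit 0x7496db1584a42f53050703c4954473, [nat_lit 67, nat_lit 85]⟩,
  ⟨nat_lit 1, nat_lit 63, nat_lit 0, nat_lit 0, []⟩,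
  ⟨nat_lit 2, nat_lit 5, nat_lit 0, nat_lit 0xc5271d6e6029852384da4d0b84acf, [nat_lit 70, nat_lit 127, nat_lit 88, nat_lit 129]⟩,
  ⟨nat_lit 2, nat_lit 5, nat_lit 0, nat_lit 0x3bef3a0d01230122d8cb1262a7560d, [nat_lit 78, nat_lit 95, nat_lit 101]⟩,
  ⟨nat_lit 1, nat_lit 66, nat_lit 0, nat_lit 0, []⟩,
  ⟨nat_lit 0, nat_lit 0, nat_lit 0, nat_lit 0, []⟩,
  ⟨nat_lit 2, nat_lit 0, nat_lit 0, nat_lit 0xbdab49ca307b9ac5a928398a418820, [nat_lit 56, nat_lit 44, nat_lit 44, nat_lit 44, nat_lit 50, nat_lit 137]⟩,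
  ⟨nat_lit 1, nat_lit 68, nat_lit 69, nat_lit 0, []⟩,
  ⟨nat_lit 2, nat_lit 0, nat_lit 0, nat_lit 0xbdab49ca307b9ac5a928398a418820, [nat_lit 50, nat_lit 44, nat_lit 44, nat_lit 56, nat_lit 44, nat_lit 44, nat_lit 56, nat_lit 56, nat_lit 44, nat_lit 137]⟩,
  ⟨nat_lit 1, nat_lit 68, nat_lit 71, nat_lit 0, []⟩,
  ⟨nat_lit 2, nat_lit 5, nat_lit 0, nat_lit 0x7496db1584a42f53050703c4954473, [nat_lit 95, nat_lit 56, nat_lit 44, nat_lit 50, nat_lit 137]⟩,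
  ⟨nat_lit 1, nat_lit 73, nat_lit 0, nat_lit 0, []⟩,
  ⟨nat_lit 2, nat_lit 5, nat_lit 0, nat_lit 0x7496db1584a42f53050703c4954473, [nat_lit 144, nat_lit 140, nat_lit 149, nat_lit 82, nat_lit 98, nat_lit 131]⟩,
  ⟨nat_lit 1, nat_lit 75, nat_lit 0, nat_lit 0, []⟩,
  ⟨nat_lit 2, nat_lit 5, nat_lit 0, nat_lit 0x110f49b970549a38bd25a991665c20, [nat_lit 110, nat_lit 114, nat_lit 110, nat_lit 135, nat_lit 74, nat_lit 153]⟩,
  ⟨nat_lit 1, nat_lit 77, nat_lit 0, nat_lit 0, []⟩] 40 = true := by decide +kernel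

theorem allA : AllH (C := CA) SA 79 :=
  have h0 : AllH (C := CA) SA 0 := AllH.zero rfl (by decide +kernel) (List.forall_mem_cons.2
    ⟨SA.rel_triv, List.forall_mem_cons.2 ⟨relA, List.forall_mem_cons.2 ⟨relB, by simp⟩⟩⟩)
  ((h0.step CA_ok0).step CA_ok40)

/-- the code of the word `W3` -/
def c3 : ℕ := nat_lit 0x942c40cda2a81cc51ae342e9179527
/-- a product of order six -/
noncomputable def yX : WX := .mul (.mul (.mul (.el cy) (.eli c3)) .u) (.el c3)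
/-- its cube -/
noncomputable def zX : WX := .mul (.mul yX yX) yX
/-- conjugation -/
noncomputable def cjX (c : ℕ) (x : WX) : WX := .mul (.mul (.el c) x) (.eli c)

/-- the involution of the elementary abelian group that belongs to a sextet -/
noncomputable def zz : Cfsg.Spor.J4 := zX.ev SA

theorem zz_eq : zz = (g0 2 * (wv g0 W3)⁻¹ * g0 4 * wv g0 W3) ^ 3 := by
  rw [← Φ_pw (W := W3) (by decide), ← Φ_cl (l := 2) (by norm_num), pow_three',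
    (by decide +kernel : pw W3 = c3)]
  rfl

/-- codes -/
def c_sg1 : ℕ := nat_lit 0x5a4b7844466a0f29bc201d2b673144
/-- codes -/
def c_sg2 : ℕ := nat_lit 0x806325a8e27cef66106e6d2a6020a9
/-- codes -/
def c_b1 : ℕ := nat_lit 0x70e8b29ed1904c9102aa4127783dac
/-- codes -/
def c_b2 : ℕ := nat_lit 0xa9c9305c2e641e534a2252d3443476
/-- codes -/
def c_b3 : ℕ := nat_lit 0x7a886aa19708d626ca768d00971e05
/-- codes -/
def c_n : ℕ := nat_lit 0xbdaa93396d7ca038aa853cd0460801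
/-- codes -/
def c_c84 : ℕ := nat_lit 0xa2ee74d8448050a799d19b0656d412

theorem zz_sq : zz * zz = 1 := (allA.goal (x := .mul zX zX) (W := [nat_lit 1, nat_lit 6, nat_lit 8, nat_lit 8, nat_lit 6, nat_lit 8, nat_lit 6, nat_lit 8, nat_lit 6, nat_lit 8, nat_lit 6, nat_lit 39, nat_lit 101, nat_lit 110, nat_lit 124, nat_lit 106, nat_lit 124, nat_lit 103, nat_lit 50, nat_lit 50, nat_lit 41, nat_lit 5]) (by decide +kernel))

theorem comm_of_cj {G : Type*} [Group G] {z a : G} (hz : z * z = 1) (h : a * z * a⁻¹ * z = 1) :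
    z * a = a * z := by
  calc z * a = a * z * a⁻¹ * z * z * a := by rw [h, one_mul]
    _ = _ := by rw [mul_assoc _ z z, hz]; group

theorem zz_sg1 : zz * Φ (toPerm c_sg1) = Φ (toPerm c_sg1) * zz := comm_of_cj zz_sq (allA.goal (x := .mul (cjX c_sg1 zX) zX) (W := [nat_lit 1, nat_lit 6, nat_lit 8, nat_lit 8, nat_lit 6, nat_lit 8, nat_lit 6, nat_lit 8, nat_lit 6, nat_lit 8, nat_lit 6, nat_lit 39, nat_lit 101, nat_lit 124, nat_lit 114, nat_lit 106, nat_lit 124, nat_lit 103, nat_lit 50, nat_lit 41, nat_lit 5]) (by decide +kernel))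

theorem zz_sg2 : zz * Φ (toPerm c_sg2) = Φ (toPerm c_sg2) * zz := comm_of_cj zz_sq (allA.goal (x := .mul (cjX c_sg2 zX) zX) (W := [nat_lit 1, nat_lit 6, nat_lit 8, nat_lit 8, nat_lit 6, nat_lit 8, nat_lit 6, nat_lit 8, nat_lit 6, nat_lit 8, nat_lit 6, nat_lit 39, nat_lit 101, nat_lit 124, nat_lit 124, nat_lit 103, nat_lit 44, nat_lit 56, nat_lit 56, nat_lit 41, nat_lit 5]) (by decide +kernel))

theorem zz_f2 : zz * Φ (toPerm c_b3) * zz * Φ (toPerm c_b2) * zz * Φ (toPerm c_b1) = 1 := (allA.goal (x := .mul (.mul (.mul (.mul (.mul zX (.el c_b3)) zX) (.el c_b2)) zX) (.el c_b1)) (W := [nat_lit 1, nat_lit 6, nat_lit 8, nat_lit 8, nat_lit 6, nat_lit 8, nat_lit 6, nat_lit 8, nat_lit 6, nat_lit 8, nat_lit 6, nat_lit 39, nat_lit 101, nat_lit 118, nat_lit 110, nat_lit 124, nat_lit 103, nat_lit 137, nat_lit 157, nat_lit 124, nat_lit 103, nat_lit 50, nat_lit 56, nat_lit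 56, nat_lit 41, nat_lit 5]) (by decide +kernel))

theorem zz_f3 : g0 4 * (Φ (toPerm c_c84) * zz * (Φ (toPerm c_c84))⁻¹) * g0 4 *
    (Φ (toPerm c_c84) * zz * (Φ (toPerm c_c84))⁻¹) * (Φ (toPerm c_n))⁻¹ = 1 := (allA.goal (x := .mul (.mul (.mul (.mul .u (cjX c_c84 zX)) .u) (cjX c_c84 zX)) (.eli c_n)) (W := [nat_lit 1, nat_lit 6, nat_lit 8, nat_lit 8, nat_lit 6, nat_lit 8, nat_lit 6, nat_lit 8, nat_lit 6, nat_lit 8, nat_lit 6, nat_lit 39, nat_lit 101, nat_lit 118, nat_lit 124, nat_lit 118, nat_lit 124, nat_lit 135, nat_lit 67, nat_lit 59, nat_lit 30, nat_lit 19, nat_lit 5]) (by decide +kernel))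

/-- a stabiliser chain -/
def certS : List Cfsg.Lib.Spor.PK.Cert :=
  [⟨0, [512, 193, 896, 129, 448, 577, 1088, 1025, 832, 1408, 1152, 1345, 1216, 1473, 960, 256, 769, 1281, 320,
    704, 640, 384, 65], [[1, 1, 0, 0, 0], [0, 1, 0, 0, 1, 0, 1, 0]]⟩,
   ⟨1, [1152, 897, 704, 1281, 768, 257, 832, 1473, 321, 1088, 128, 640, 1409, 512, 1344, 1025, 1216, 384, 448],
    [[0, 1, 1, 0, 1, 0, 0], [0, 0, 1, 0, 1, 0, 0, 1], [0, 1, 1, 1, 1, 0, 0]]⟩,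
   ⟨2, [640, 1345, 1216, 1409, 1474, 768, 321, 704, 1089, 513, 1281, 1024, 450, 385, 1152], [[1, 1, 0, 0, 1, 0],
    [1, 0, 1, 1, 0, 1, 1], [0, 1, 1, 2, 1, 1, 0]]⟩,
   ⟨3, [960, 577], [[1, 0, 2], [1, 2]]⟩,
   ⟨4, [832, 896], [[0, 1]]⟩,
   ⟨5, [1344], []⟩]

/-- the permutation fixes the sextet -/
noncomputable def fixS (p : ℕ) : Bool := frc (apM p 3213312) fun m => Nat.beq (synd m) 3370

theorem fixS_spec {p : ℕ} (hp : InSub M24 p) (h : fixS p = true) :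
    toPerm p • sextetOf (maskSet 3213312) = sextetOf (maskSet 3213312) := by
  rw [smul_sextetOf hp.2, hp.rep.smul_maskSet, sextetOf_maskSet_eq_iff (hp.rep.apM_lt _)
    (by norm_num) (by decide +kernel), beq h]
  decide +kernel

theorem gen_S : pclosure [c_sg1, c_sg2] =
    M24 ⊓ MulAction.stabilizer (Equiv.Perm GolayPt) (sextetOf (maskSet 3213312)) :=
  have h0 := sextetOf_mem_sextets (t := maskSet 3213312) (by rw [card_maskSet]; decide +kernel)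
  have h1 : InSub M24 c_sg1 := inSub_M24 (by decide +kernel)
  have h2 : InSub M24 c_sg2 := inSub_M24 (by decide +kernel)
  stab_eq (A := sextets) (fun _ => ⟨Orb.trans_sextets h0, by
      rintro ⟨g, rfl⟩; exact smul_mem_sextets g.2 h0⟩) (cert := certS)
    (List.forall_mem_cons.2 ⟨⟨h1, fixS_spec h1 (by decide +kernel)⟩,
      List.forall_mem_cons.2 ⟨⟨h2, fixS_spec h2 (by decide +kernel)⟩, by simp⟩⟩)
    (by decide +kernel) ncard_sextets (by decide +kernel)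

theorem zz_comm {σ : Equiv.Perm GolayPt} (h : σ ∈ M24)
    (h' : σ • sextetOf (maskSet 3213312) = sextetOf (maskSet 3213312)) : zz * Φ σ = Φ σ * zz :=
  Φ_comm_of_gens gen_S inf_le_left
    (List.forall_mem_cons.2 ⟨zz_sg1, List.forall_mem_cons.2 ⟨zz_sg2, by simp⟩⟩) ⟨h, h'⟩

end Cfsg.Lib.Spor.J4P
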