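import Cfsg.Agent.Spor.J4Cap
import Cfsg.Agent.Spor.J4Es
import Cfsg.Agent.Spor.WittAut

/-! The structure `2 ^ (1 + 12) . 3 . M₂₂ : 2` of the centralizer of an involution of `J₄`. -/

set_option autoImplicit false
set_option maxRecDepth 100000
set_option Elab.async false

namespace Cfsg.Lib.Spor.J4P

open Cfsg.Lib.Spor.Bulk Cfsg.Lib.Spor.MP Cfsg.Lib.Spor.JD
open scoped Pointwise

/-- the vectors -/
def wm : ℕ := nat_lit 0x2dcccce33542d8bf4caa67d02d247cb2c41cc18eb8d8f8d58a033776d1d77c5dfe665cfcc23ad36bb5d2e5b623acd6c7e87aeab7a82cbc2a774a2b5032cf07d4d69fdc1c4908ef05b2f32b472601b6b81802148e4925f613717447d1a4a0980fe53849840744d2780360bc67ec916c34486e88007fb536a6d6e57e3e33e2438704f7f80d15fa14eed6c532c8a7073cb1ccfadf006e3143578bd8ee92584e6a7b40303e17512298b8c9ed05f2a2b956f42eb286dc1d383edf4faf944e98e486b9ce695a68c39ee2b92552f180962d62076b106efb5af81aba15a4acc23b6fe9b41960640726e7e72f728c4d620164f609d0b695a8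0e89ca58700bb95e8014674f9c30066370f8b1c2a2ec182b1a142826965800c9ab53d7be984218a258e7c3cc921cc11ea6b234b04a5e263341d9205cd156a8205162ea45c15a1e2eaa0516379e3213cf17e2eef1571d30f906a82da0e4fd5dbfd806990d98f24e1d6af0812ffda43f6fc6fa12ab897c5ce2da9280fc9bbdd908eacd0a0ec6c076c1235746651fac404a6ed8415e271edaff11a53b7aecf2f795d2008078610d0438c9c47e9494a90e582d1dd94c3bd02de0447bcdc18cfc48bf9daf7127c3f9de34d42f923a7c6e50b28e73af9e023f25126d9a80d9905aa7348d756653e0378754c8a67be1ac7827835cf760edcbe226254014b2fafbe38ea1cf2b2c0e0adf971d658801dc5263954504108a0b864683d36eb0c60b7072787001fbecffd934a99686c36c4b20820a1260085e8c8aca44c8c4b021a8000d8101416fe219f23b0500fb342684b14311f6bf529666bbb5a50212441fe59a5b4f65a62cb46c25f6c2a57852860d3119f47e5ab9951e43f7e00f5593a41404f8084a1a1cbeda4b5b7c8702d71a00814f87d08b40f8558d121fc7b44e9643aeaa6e975cba82b2da03a2ae1e0445003411bb09853f0568389ba5c8212cbe0b5ef47215f78812d12b5e2608c93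c105dac2ba3ab26632ccdbce05bcd99a0094cae1ce8705dfdb2f6b47538beb491b2e55875ca85ab148a1764fcb64510f9d8718b96fc10b4d948e856f2144db289bb1bd92c27d32dea2aa1b06cfa59a660f7b8db1988fbef17c1707c18b8cace966f1c54bdf618c27b347bacc04d5642a07ca66ec4ab2a68c7159f48a67ca3a7a7b5772488149474e748227d39cc1bb524a0a06e0038c73f207d55ca592d2c6f07606c1dac93941289e8f0a15fc473b087e599004e8ada93e98d419befcedada63d9a85a9a0509321ba122844f4028e04c49e801064a70ccc7b20bc9fac080b59236fb5833653ac0cc5d2a0ff643561158f69fe0a51c3f7cd49310d030721812c48b235a8344c41130e43d2baba26df0027c621ae8b47cdbc89d54e185342f74c912db6f4e2c2bc2a6d9e00f60d413f07f89c6480f0f43a6d21b182ab25e55646242cc7ae4f6cc648d66ab30f4e4128ab695ab15495448c0b6ff08751c13b2721b020004ead2d4dd27fe40122819a7025380c2a84091078942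
/-- the octads -/
def ocB : ℕ := nat_lit 0x8081b380a88de0900bd9808181b301805e0988d0158ea003d01511c0e4218494c1e42181c28145e10641c83841a800c794c109c040d9891423cc040d80254b846245900bc1a2c281814585952c018826918a11898c48a1a23405c20c83929821bc1201a444139a44419070838d0151a88d01b0a051a0516181c843960095a96009d40063841907860721f048058320e1821253c48a11800c75a60849b004a9c75001c84303a11891838419888269b301039142318b0a05a02a23843039ea003191104da58025908607826911c012a5d22209c10929a0031d85028b982125c1201798081b82402f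
/-- a matrix -/
def mz : ℕ := nat_lit 0xaa000325df203312af79657feb60ac036f39dce332276b4fdc6380ca0b7381bba2582dfa61c806501bd868ef5b084f7af6e4ca48323e3984f7d2a378a97ffbebf3a4a40ad3e2b462e7f4b9eba8eb907d4ede53e234a169aa9317d5b00bf636ea3edaea945c0955ba77d1a4a1ab6b5308914939a306af66f7c81c36c189feaa22d8e2c3b6a026f6940d150adc27a4a5bb57b0332a9c8b378d76726a8a5f2ce1159e44805e6210195ad8192671ea8291e5619b2e4da4f823452ab4fbedb09d50d5d46517560b55df14ff3065d0b822d0dd3034fb534ad5e657815846cd34566f60948fd5380b1dc4ee0bebf04b8a8469dc2ccbe3dcaaba7cfd43b30d7c6c06aa88ba3eaa0fdfcc77999cd6833d92c2ee1c2f0fd2d193caac14a66fdfbb125131957b04205b70e076823e2a2628b82ff56781ba52ca10bb9e423357bae5675f1d674272144128fe55ccbc2f2e2709f1cc9a80d78307bd5e0807c834b8c167624fe105c3d196c86f15860fe8642ef1c75dced81ca0540c2ebbdb99c6cdcbb3544a6e2188df9bb5c104c0b50dc73bd3313e168686e8f191a2b6be1212da5a0a6b32b5d3c733b077c016916a9e7b4f2791bd9a11f8e327a9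d051135338e5d491db2a869c2e35bfdbbadd833f5a6af4ab0aae07ac9c164c4c21ddec801c0202bc1e76148bddc8616331d1fdcff4576512091624858b37eb780f8390f52da6ffe91ddb7e59326474c31adbbd978ff69829c595a2fcd5d72e3a56572bcd364696c2c08c1ed62c332f9c0252a86fed50214ab1b5962db319bc8fcd3e3b26abb3e151ac84561593d2af36a153a987de41e6b4e19f6a873b45c59b9bdcd1c6f6a6557719ec08f692dfa3c26e4a867ad128295b273a0f08eda5248194897c57b7d069e23e753d406e2e44e45568fec4cedf7161f9ce3791f4602efeb647ef9b824f005b0f71e0d66c641e0611d70f23f11521fb921bd2cdc255644015f512214c9b6a83f91a8a82aacec152ed3a46c3f0da70e4292f33ccc3067afb1de1b438fe0a35d4b6bbd0f61d749632d4ec2111362a184c4ca73a9f375916bc8e1122b20d113c21daa1a3ab4278748078a3343ac3cbc5d36a119ea5c202eacf5412397194fe3cf1f8dda0ba4286631a55cc82bbc1a9c27de8fc74eed522d0117e8dbd91f4abb9af0212d33b1cfd42b33193d4920e4434918b2f74363400ce81ba73d05e949df4a02f435e3488cd9ce039e9fa801ba880808bde707f1eb70251058d8fcb8092fa86af3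7c4468cff525a3e202b9e3c2165e9b8075a291e9501ffb5c886c50ff94270ed6a4093a12d962bd0fbf4a5caa6d1bae9316ef6dbd4422f53b57e6a5f7864b0853addb1ebf4246a6cfa889362d9db35237e4954c4eca62a69b92547cfe2055934e211c668eebfe45954da17d482e88ccf9f66aabb3a77a690e02b5d9f0d397512113dcacf3a90eb618918e61ee60064c6ec2776382ea348d368ee7a02e4d023e174cd53a4bd9a449470849344179f439381d7a407f708977e08553ccab3c08313c15cfdaf5c28bb0a0c4d65d5a23169912b5a44ced4958c92cdc219f3052258348598669ade09c6bd4f0d23b2117302007563c047bc44ff9a63802e7c5ce253167fa667bb9b0714dc4147a6dc8dbd657897ccc3d306f699e448221bb027bbcaedeb234229a8592c0cff37b0e8ae4dcb9b6fb5dd48aa3e87e586952ab8702ba64888db875a8c34e0f394c69ea36fdd102f799e9fa7feea8c383748ca094b63612ab1ef74d3fa5b7baafcdc14015a1298fd92cedceab3424300ef431e8adf217a4a4a0b8921b153d61d98b8288cdce6013f010038b0338480fc88b0a26b045afdeb68ccd3b7221c894bdfda7d439954a03a559a27f25f450e3ed4331a7718bc46a8741660498a63a36f128de892d69ec1f678cd9aa4dedf752c8171d56f0ab284e71779a0d0e7b2999055433958c33e3f81c7a925400dda0c490ef4991a7677ef693380e1cbedf1385af0cb51f85f5155f2319196ebb04ac16ba699475ee1698d1ac6b8e14451ecb11090bea2328bb26b9b2c1a499a3ad299244b20e4af4f2ec0427f23ea268a820e042d89637f8276e923322acb14f78ba01caa9f102823bde82f22790bba7f0d0b028edcca814eec6e1476e7cedb2cc4a856ebcdec68ff67efe0a77cd404c7f2a2aa80e18cb8a199e107bbc88ee69324c91e1c67a9881375fa034c3b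
/-- a generator -/
def c1 : ℕ := nat_lit 0x199af0b211a12b252d090584eb9667
/-- a generator -/
def c2 : ℕ := nat_lit 0x9262858db45404e990a07dae7a84cc
/-- an image -/
def p1 : ℕ := nat_lit 0x4eb0b2a343b9666c9287b0a410c37
/-- an image -/
def p2 : ℕ := nat_lit 0x22145c8a93c66aab1a433c76105d7
/-- an image -/
def p3 : ℕ := nat_lit 0xbb4c93ae2453ac893e8c9d4b018820
/-- an image -/
def p4 : ℕ := nat_lit 0xbd6d174a897cd0c2aa0d3996209060
/-- an element of order three -/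
def cx3 : ℕ := nat_lit 0x15ae044933238cca3c30395aa1d62b
/-- a stabiliser chain -/
def certS0 : List Cfsg.Lib.Spor.PK.Cert :=
  [⟨0, [448, 513, 257, 576, 1281, 896, 641, 1409, 960, 1025, 769, 704, 384, 1088, 1152, 1217, 65, 1345, 1473,
    129, 832, 193, 321], [[1, 0, 1, 0, 1, 0, 1, 0, 1, 1, 0], [1, 1, 0, 1, 0]]⟩,
   ⟨1, [960, 1473, 1153, 1024, 448, 1345, 384, 193, 576, 512, 128, 769, 256, 1409, 320, 833, 1088, 1216, 641],
    [[0, 1, 0, 0, 1, 0, 1, 0, 1, 0, 0, 1], [1, 1, 0], [0, 1, 0, 1]]⟩,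
   ⟨2, [768, 641, 962, 192, 321, 1217, 834, 513, 1473, 1409, 1346, 384, 1026, 449, 258], [[1, 2, 2, 0, 1, 1], [1,
    1, 2, 2, 1, 0], [0, 0, 2]]⟩,
   ⟨3, [768, 961], [[1, 2], [2, 0]]⟩,
   ⟨4, [1216, 1025, 641, 448, 512], []⟩]
/-- a stabiliser chain -/
def certC0 : List Cfsg.Lib.Spor.PK.Cert :=
  [⟨0, [1472], [[1, 0, 1, 0], [2, 0, 1]]⟩,
   ⟨1, [320, 129, 896, 1089, 192], [[1, 0, 1, 1, 0], [0, 0, 0, 1, 0, 0]]⟩,
   ⟨4, [1152, 449, 385, 1409, 832, 769, 577, 704, 1025, 1216, 960, 1281, 513, 640, 1344], [[1, 0], [0, 1, 1, 0,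
    0, 1, 1, 1]]⟩,
   ⟨2, [320, 897, 1088, 193], [[1, 1, 0, 0], [1, 0]]⟩,
   ⟨3, [320, 1089, 896], [[0, 1, 1]]⟩,
   ⟨5, [1088, 896], []⟩]
/-- a stabiliser chain -/
def certC1 : List Cfsg.Lib.Spor.PK.Cert :=
  [⟨0, [1472], [[0, 2, 0, 0, 3, 0], [0, 2, 0, 0, 1]]⟩,
   ⟨1, [128, 321, 832, 1089, 640, 1153, 1024, 897, 1217, 448, 385, 1280, 1408, 512, 577, 769, 704, 192, 960,
    1344, 257], [[0, 1, 0, 1, 0, 0, 1, 1, 0, 0, 1], [1, 0]]⟩,
   ⟨4, [769, 384, 1345, 961, 704, 1153, 1024, 641, 577, 192, 320, 1281, 513, 1088, 896, 1408, 832, 1216, 129,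
    448], [[1, 0, 1, 1, 1, 0, 1, 1, 0, 0, 1], [1, 1, 0, 1, 0, 0, 1, 1]]⟩,
   ⟨2, [1216, 449, 1152, 705, 832, 1409, 576, 385, 896, 192, 961, 1280, 513, 320, 641, 769, 1344, 1024, 1088],
    [[1, 1, 0, 1, 1, 0, 1, 0, 0], [0, 0, 1, 0, 0, 1, 0], [1, 0, 0, 0, 1, 1, 1, 0, 1]]⟩,
   ⟨3, [512, 705, 576, 385, 1346, 960, 1217, 641, 897, 321, 1088, 1154, 448, 1282, 770], [[2]]⟩,
   ⟨5, [896, 1088], []⟩]
/-- vectors -/
def vW : List (List ℕ × ℕ) := [([2], 1372), ([0, 2, 0], 1622), ([1, 2, 3], 1844), ([3, 2, 1], 2176), ([1, 0, 2, 0, 3], 10), ([3, 0, 2, 0, 1], 3372), ([0, 1, 2, 3, 0], 1861), ([1, 1, 2, 3, 3], 2618), ([0, 3, 2, 1, 0], 636), ([3, 3, 2, 1, 1], 3706), ([1, 1, 0, 2, 0, 3, 3], 461)]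
/-- elements of the kernel -/
def nW : List (List ℕ × ℕ) := [([3, 3, 3, 3, 3, 3], nat_lit 0x156d498530238ac59e2850daf35e40), ([1, 2, 3, 2, 0, 2, 0], nat_lit 0x43ebdab49ca307b9ac5a928398a418820), ([2, 0, 1, 2, 3, 2, 0], nat_lit 0x44fbdab49ca307b9ac5a928398a418820), ([2, 3, 2, 0, 2, 0, 1], nat_lit 0xf0bdab49ca307b9ac5a928398a418820), ([0, 3, 3, 3, 3, 3, 3, 0], nat_lit 0xb5c4e64a287d0d3029303b4642d42b), ([3, 0, 1, 2, 3, 0, 1, 2], nat_lit 0x7e5bdab49ca307b9ac5a928398a418820), ([2, 3, 3, 3, 3, 3, 3, 2], nat_lit 0xb64156d498530238ac59e2850daf35e40), ([3, 2, 3, 2, 0, 2, 0, 1, 1], nat_lit 0x9dbbdab49ca307b9ac5a928398a418820), ([0, 1, 0, 1, 0, 1, 0, 1, 0, 1], nat_lit 0x15ae044933238cca3c30395aa1d62b), ([3, 0, 3, 3, 3, 3, 3, 3, 0, 1], nat_lit 0xa8ae0624287adb372a50398a41da34)]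
/-- generators of the extraspecial group -/
def gq : List ℕ := [nat_lit 0x156d498530238ac59e2850daf35e40, nat_lit 0x44fbdab49ca307b9ac5a928398a418820, nat_lit 0xa8ae0624287adb372a50398a41da34, nat_lit 0xf2bbdab49ca307b9ac5a928398a418820, nat_lit 0xfaabdab49ca307b9ac5a928398a418820, nat_lit 0xaf0bdab49ca307b9ac5a928398a418820, nat_lit 0x156ce62428550b303e5020da735e2b, nat_lit 0xb5c4b4464c781b0a2833398a41d52e, nat_lit 0x156ce4464c250d001c335346f2dd2b, nat_lit 0xde5bdab49ca307b9ac5a928398a418820, nat_lit 0xb5c4e64a287d0d3029303b4642d42b, nat_lit 0x43ebdab49ca307b9ac5a928398a418820, cd pid 843]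
/-- words -/
def gW : List (List ℕ) := [[0], [2], [9], [6, 2, 0], [6, 3, 1, 0], [7, 5, 3, 1], [8, 0, 8, 8, 4], [8, 9, 8, 8], [9, 8, 8, 4, 8, 0], [7, 1], [4], [1], [1, 0, 1, 0], [8]]
/-- words -/
def cW : List (List ℕ) := [[10, 6, 0], [12, 11, 1], [7, 2], [12, 5, 1], [12, 9, 4, 3], [11, 5, 3], [8, 2], [2], [8, 7, 6], [5, 4, 1], [8, 2, 0], [1]]

/-- the octads -/
def oc (i : ℕ) : ℕ := MG.row 24 ocB i

/-- rows of a code -/
def rv (c i : ℕ) : Fin 112 → ZMod 2 := fun k => MG.bitR (ZMod 2) (MG.row 112 c i) k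

theorem rv_eq (c : ℕ) {i : ℕ} (hi : i < 112) : rv c i = IM.dec c ⟨i, hi⟩ :=
  funext fun k => MG.bitR_row k.2 c i

/-- the matrix of an element -/
noncomputable def ψm (g : Cfsg.Spor.J4) : Matrix (Fin 112) (Fin 112) (ZMod 2) := (ψ g : GL _ _)

theorem ψm_mul (g h : Cfsg.Spor.J4) : ψm (g * h) = ψm g * ψm h := by rw [ψm, map_mul]; rfl
theorem ψm_one : ψm 1 = 1 := by rw [ψm, map_one]; rfl

theorem rv_mul {g : Cfsg.Spor.J4} {a : ℕ} (h : MR g a) (c : ℕ) {i : ℕ} (hi : i < 112) :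
    Matrix.vecMul (rv c i) (ψm g) = rv (MG.mul2 112 c a) i := by
  rw [rv_eq _ hi, rv_eq _ hi, ← Matrix.mul_apply_eq_vecMul, show ψm g = _ from h]
  exact congrFun (IM.dec_mul c a).symm _

theorem rv_iff {c d i j : ℕ} : rv c i = rv d j ↔ MG.row 112 c i = MG.row 112 d j := by
  refine ⟨fun h => Nat.eq_of_testBit_eq fun k => ?_, fun h => by unfold rv; rw [h]⟩
  rcases lt_or_ge k 112 with hk | hk
  · exact MG.bitR_inj (congrFun h ⟨k, hk⟩)
  · simp [MG.testBit_row, not_lt.2 hk]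

/-- the actions on the vectors and on the octads correspond -/
def Act (g : Cfsg.Spor.J4) (σ : Equiv.Perm GolayPt) : Prop :=
  (σ ∈ M24 ∧ σ • ({none, some 0} : Finset GolayPt) = {none, some 0}) ∧ ∀ i < 77, ∃ j < 77,
    σ • maskSet (oc j) = maskSet (oc i) ∧ Matrix.vecMul (rv wm i) (ψm g) = rv wm j

theorem act_one : Act 1 1 := ⟨⟨M24.one_mem, one_smul _ _⟩, fun i hi =>
  ⟨i, hi, one_smul _ _, by rw [ψm_one, Matrix.vecMul_one]⟩⟩

theorem Act.mul {g h : Cfsg.Spor.J4} {σ τ : Equiv.Perm GolayPt} (a : Act g σ) (b : Act h τ) :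
    Act (g * h) (σ * τ) := ⟨⟨M24.mul_mem a.1.1 b.1.1, by rw [mul_smul, b.1.2, a.1.2]⟩, fun i hi => by
  obtain ⟨j, hj, e1, e2⟩ := a.2 i hi
  obtain ⟨k, hk, e3, e4⟩ := b.2 j hj
  exact ⟨k, hk, by rw [mul_smul, e3, e1], by rw [ψm_mul, ← Matrix.vecMul_vecMul, e2, e4]⟩⟩

theorem Act.inv {g : Cfsg.Spor.J4} {σ : Equiv.Perm GolayPt} (a : Act g σ) : Act g⁻¹ σ⁻¹ := by
  let S : Submonoid (Cfsg.Spor.J4 × Equiv.Perm GolayPt) :=
    ⟨⟨{p | Act p.1 p.2}, Act.mul⟩, act_one⟩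
  exact (Submonoid.powers_le.2 (show (g, σ) ∈ S from a))
    (mem_powers_iff_mem_zpowers.2 (Subgroup.inv_mem _ (Subgroup.mem_zpowers _)))

theorem Act.unique {g : Cfsg.Spor.J4} {σ τ : Equiv.Perm GolayPt} (a : Act g σ) (b : Act g τ) :
    σ = τ := by
  have h1 : ∀ i < 77, (τ * σ⁻¹) • maskSet (oc i) = maskSet (oc i) := fun i hi => by
    obtain ⟨j, hj, e1, e2⟩ := a.2 i hi
    obtain ⟨k, hk, e3, e4⟩ := b.2 i hi
    obtain rfl := (by decide +kernel : ∀ j < 77, ∀ k < 77, MG.row 112 wm j = MG.row 112 wm k → j = k)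
      j hj k hk (rv_iff.1 (e2.symm.trans e4))
    rw [mul_smul, ← e1, inv_smul_smul, e3, e1]
  refine (mul_inv_eq_one.1 (Witt.M24_eq_one_of_fix (M24_eq_setSystemAut_octads ▸
    M24.mul_mem b.1.1 (M24.inv_mem a.1.1)) (S := {none, some 0}) (by decide) fun x hx => ?_)).symm
  rcases (by decide +kernel : ∀ a < 24, ∀ b < 24, (∀ i < 77, (oc i).testBit a = (oc i).testBit b) →
    a = b ∨ a = 0 ∨ a = 23) _ (ptIdx_lt x) _ (ptIdx_lt ((τ * σ⁻¹) x)) (fun i hi => by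
      rw [Bool.eq_iff_iff, ← mem_maskSet, ← mem_maskSet]
      conv_rhs => rw [← h1 i hi, apply_mem_perm_smul_finset]) with h | h
  · rw [← idxPt_ptIdx ((τ * σ⁻¹) x), ← h, idxPt_ptIdx]
  · exact absurd h (by revert hx; revert x; decide)

/-- the check -/
noncomputable def actOK (a p π : ℕ) : Bool :=
  band (band (hok p) (Nat.beq (apM p 8388609) 8388609)) (frc (MG.mul2 112 wm a) fun c =>
    allLT 77 fun i => frc (MG.row 7 π i) fun j => band (Nat.blt j 77)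
      (band (Nat.beq (apM p (oc j)) (oc i)) (Nat.beq (MG.row 112 c i) (MG.row 112 wm j))))

theorem act_of_ok {g : Cfsg.Spor.J4} {a p π : ℕ} (hm : MR g a) (h : actOK a p π = true) :
    HV p ∧ Act g (toPerm p) := by
  simp only [actOK, frc_eq] at h
  have h1 := hv_of_ok (band_left (band_left h))
  refine ⟨h1, ⟨h1.1.2, ?_⟩, fun i hi => ?_⟩
  · rw [← (by decide +kernel : maskSet 8388609 = {none, some 0}), h1.1.rep.smul_maskSet,
      beq (band_right (band_left h))]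
  · have h2 := allLT_iff.1 (band_right h) i hi
    exact ⟨_, blt (band_left h2), by rw [h1.1.rep.smul_maskSet, beq (band_left (band_right h2))],
      (rv_mul hm _ (by omega)).trans (rv_iff.2 (beq (band_right (band_right h2))))⟩

/-- the graph -/
def AG : Subgroup (Cfsg.Spor.J4 × Cfsg.Spor.J4) where
  carrier := {p | ∃ σ, Over σ p.2 ∧ Act p.1 σ}
  mul_mem' := fun ⟨_, a, b⟩ ⟨_, c, d⟩ => ⟨_, a.mul c, b.mul d⟩
  one_mem' := ⟨1, VV.one_mem, act_one⟩
  inv_mem' := fun ⟨_, a, b⟩ => ⟨_, a.inv, b.inv⟩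

/-- the domain -/
def DD : Subgroup Cfsg.Spor.J4 where
  carrier := {g | ∃ σ, Act g σ}
  mul_mem' := fun ⟨_, b⟩ ⟨_, d⟩ => ⟨_, b.mul d⟩
  one_mem' := ⟨1, act_one⟩
  inv_mem' := fun ⟨_, b⟩ => ⟨_, b.inv⟩

theorem Pr.act {c p : ℕ} (h : Pr AG c p) : Act (hval c) (toPerm p) := by
  obtain ⟨σ, h1, h2⟩ := h.2.2
  exact h1.unique h.2.1.over ▸ h2

theorem pr_of_ok {c a p π : ℕ} (hc : HV c) (hm : MR (hval c) a) (h : actOK a p π = true) :
    Pr AG c p := ⟨hc, (act_of_ok hm h).1, _, (act_of_ok hm h).1.over, (act_of_ok hm h).2⟩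

theorem mr_inv {W : List ℕ} (h : ∀ l ∈ W, l < 5) : MR (wv g0 W)⁻¹ (mw (W.reverse.map iota)) := by
  rw [← wv_reverse_map_inv g0 fun l hl => sat.inv l (h l hl)]
  refine mr_wv fun l hl => ?_
  obtain ⟨k, hk, rfl⟩ := List.mem_map.1 hl
  exact (by decide : ∀ k < 5, iota k < 5) k (h k (List.mem_reverse.1 hk))

theorem MR.code {g : Cfsg.Spor.J4} {a b : ℕ} (h : MR g a) (e : Nat.beq a b = true) : MR g b :=
  beq e ▸ h

theorem mr_zz : MR zz mz := by
  have h := ((((mr_ml (l := 2) (by norm_num)).mul (mr_inv (W := W3) (by decide))).mul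
    (mr_ml (l := 4) (by norm_num))).mul (mr_wv (W := W3) (by decide))).pow 3
  rw [← zz_eq] at h
  exact h.code (by decide +kernel)

theorem mr_pw {W : List ℕ} {c : ℕ} (h : ∀ l ∈ W, l < 4) (e : band (Nat.beq (pw W) c)
    (Nat.beq (vp c) 0) = true) : HV c ∧ MR (hval c) (mw W) := by
  obtain ⟨h1, h2⟩ := hv_low (beq (band_left e) ▸ pw_in W) (beq (band_right e))
  rw [h2, ← beq (band_left e), Φ_pw h]
  exact ⟨beq (band_left e) ▸ h1, mr_wv fun l hl => (h l hl).trans (by norm_num)⟩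

theorem mr_dd : HV (cd pid 1372) ∧ MR (hval (cd pid 1372)) (MG.mul2 112 mz (MG.mul2 112
    (MG.mul2 112 (mw Wd) mz) (mw (Wd.reverse.map iota)))) := by
  have h0 : (maskSet 2080).card = 2 := by rw [card_maskSet]; decide +kernel
  have h := vv_synd (m := 2080) (by norm_num)
  have h2 := even_synd (m := 2080) (by norm_num) (by simp [h0])
  have h3 := du_smul M24.one_mem
  rw [(by decide +kernel : synd 2080 = 1372)] at h h2
  rw [one_smul, Φ_one, one_mul, inv_one, mul_one] at h3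
  rw [(hv_vec h2).2, h, vv_two h0, h3, dd_eq]
  exact ⟨(hv_vec h2).1, mr_zz.mul (((mr_wv (by decide)).mul mr_zz).mul (mr_inv (by decide)))⟩

theorem pr1 : Pr AG c1 p1 :=
  have h := mr_pw (W := [3, 1, 2]) (c := c1) (by decide) (by decide +kernel)
  pr_of_ok h.1 h.2 (π := nat_lit 0x4c96f64b66eed72861093b158fa5348c85ca08f21abc666e0433314ebf565d24482552a92879d383e8969c643978b545932310488871e6868c3010493200c28a0c04100) (by decide +kernel)

theorem pr2 : Pr AG c2 p2 :=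
  have h := mr_pw (W := [2, 1, 2, 1, 3, 1, 2, 1, 2, 1, 3, 1, 2, 1, 3, 1, 2, 1, 2, 1, 3, 1]) (c := c2) (by decide) (by decide +kernel)
  pr_of_ok h.1 h.2 (π := nat_lit 0x40266933f74e1bc43908dbb2aca5a198bc708092524a59221c58f1953340a45417cd973d783d1b92e05ab450c582d56093a53a78922207c4983230b14223430b0e14180) (by decide +kernel)

theorem pr3 : Pr AG (cd pid 1372) p3 := pr_of_ok mr_dd.1 mr_dd.2 (π := nat_lit 0x3a72e194478d1748869df2f4d05ec745325ca3cb154637258b08114fb648d4b1584fd2ab20ec7a05adc692662cc9312a541430708a34218e853428b830e386011008200) (by decide +kernel)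

theorem act_t : HV p4 ∧ Act (g0 4) (toPerm p4) :=
  act_of_ok (mr_ml (l := 4) (by norm_num)) (π := nat_lit 0x4b9929ac87519e2f4f0a0a67e95dc57b1d5b850764b23ed14b0886169772a98b78701f134658c8e6635b0c16690ae588840a481c8110c80f1c3650195243c1041214001) (by decide +kernel)

/-- generators -/
noncomputable def cs4 : List ℕ := [c1, c2, cd pid 1372, hinv c2]
/-- their images -/
noncomputable def ps4 : List ℕ := [p1, p2, p3, hinv p2]

theorem pr4 : List.Forall₂ (Pr AG) cs4 ps4 :=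
  .cons pr1 (.cons pr2 (.cons pr3 (.cons pr2.inv .nil)))

theorem hv4 : ∀ c ∈ cs4, InK DD c := by
  simp only [cs4, List.forall_mem_cons]
  exact ⟨⟨pr1.1, _, pr1.act⟩, ⟨pr2.1, _, pr2.act⟩, ⟨pr3.1, _, pr3.act⟩,
    ⟨pr2.inv.1, _, pr2.inv.act⟩, by simp⟩

theorem cz4 : ∀ c ∈ cs4, InK CZ c := fun c hc =>
  inK_CZ (hv4 c hc).1 (allL_iff.1 (by decide +kernel : allL czOK cs4 = true) c hc)

/-- the stabiliser of the sextet -/
noncomputable def S0 : Subgroup (Equiv.Perm GolayPt) :=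
  M24 ⊓ MulAction.stabilizer (Equiv.Perm GolayPt) (sextetOf (maskSet 8296))

theorem img_le_S0 : img CZ ≤ S0 := fun σ ⟨g, hg, h⟩ => ⟨h.1, by
  have h1 := h.conj ev0
  rw [← z0, mem_CZ.1 hg, mul_inv_cancel_right, z0,
    vv_eq_iff ev0 (by rw [card_perm_smul_finset]; exact ev0)] at h1
  show σ • sextetOf _ = _
  rw [smul_sextetOf h.1, ← sextetOf_eq_of_symmDiff_mem h1]⟩

theorem card_S0 : Nat.card S0 = 138240 := by
  have h0 := sextetOf_mem_sextets (t := maskSet 8296) (by rw [card_maskSet]; decide +kernel)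
  have h1 := Orb.card_stabilizer_M24 (A := sextets) (fun _ => ⟨Orb.trans_sextets h0, by
      rintro ⟨g, rfl⟩; exact smul_mem_sextets g.2 h0⟩)
  have h2 : S0 = (MulAction.stabilizer M24 (sextetOf (maskSet 8296))).map M24.subtype := by
    ext σ
    exact ⟨fun h => ⟨⟨σ, h.1⟩, h.2, rfl⟩, by rintro ⟨y, hy, rfl⟩; exact ⟨y.2, hy⟩⟩
  rw [h2, Subgroup.card_map_of_injective M24.subtype_injective]
  rw [ncard_sextets] at h1
  omega

theorem gen_S0 : pclosure [c1, c2] = S0 :=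
  (pk_chain_low (cert := certS0) (List.forall_mem_cons.2 ⟨⟨pr1.1.1.1, img_le_S0
    (cz4 c1 (by simp [cs4])).img.2⟩, List.forall_mem_cons.2 ⟨⟨pr2.1.1.1, img_le_S0
    (cz4 c2 (by simp [cs4])).img.2⟩, by simp⟩⟩) (by decide +kernel) (by rw [card_S0]; decide +kernel)).1

theorem VV_le_DD : VV ≤ DD := by
  have h := (low_parts hv4 (by decide +kernel : lowOK cs4 [] vW 11 = true)).2.1
  exact inf_eq_right.1 (Subgroup.eq_of_le_of_card_ge inf_le_right (by rw [card_VV]; exact h))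

theorem CZ_le_DD : CZ ≤ DD := CZ_le (fun g hg => by
  obtain ⟨σ, hσ⟩ := hg.2
  have h1 := img_le_S0 ⟨g, hg.1, hσ⟩
  obtain ⟨-, A, hA, rfl⟩ := hσ
  refine DD.mul_mem (Φ_mem_of_gens gen_S0 inf_le_left ?_ h1) (VV_le_DD (over_vv hA))
  exact List.forall_mem_cons.2 ⟨(hv_low pr1.1.1 (by decide +kernel)).2 ▸ ⟨_, pr1.act⟩,
    List.forall_mem_cons.2 ⟨(hv_low pr2.1.1 (by decide +kernel)).2 ▸ ⟨_, pr2.act⟩, by simp⟩⟩)
  ⟨_, act_t.2⟩

/-- the action of the centralizer on the 22 points -/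
noncomputable def θ : CZ →* Equiv.Perm GolayPt :=
  MonoidHom.mk' (fun c => (CZ_le_DD c.2).choose) fun a b => (CZ_le_DD (a * b).2).choose_spec.unique
    ((CZ_le_DD a.2).choose_spec.mul (CZ_le_DD b.2).choose_spec)

theorem act_θ (c : CZ) : Act c (θ c) := (CZ_le_DD c.2).choose_spec

/-- the stabiliser of the vector -/
def SW : Subgroup Cfsg.Spor.J4 where
  carrier := {g | Matrix.vecMul (rv wm 0) (ψm g) = rv wm 0}
  mul_mem' := fun {a b} h h' => by
    show Matrix.vecMul _ (ψm (a * b)) = _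
    rw [ψm_mul, ← Matrix.vecMul_vecMul, h, h']
  one_mem' := by show Matrix.vecMul _ (ψm 1) = _; rw [ψm_one, Matrix.vecMul_one]
  inv_mem' := fun {a} h => by
    show Matrix.vecMul _ (ψm a⁻¹) = _
    conv_lhs => rw [← h, Matrix.vecMul_vecMul, ← ψm_mul, mul_inv_cancel, ψm_one, Matrix.vecMul_one]

theorem mem_SW {g : Cfsg.Spor.J4} {a : ℕ} (h : MR g a) :
    g ∈ SW ↔ MG.row 112 (MG.mul2 112 wm a) 0 = MG.row 112 wm 0 := by
  rw [← rv_iff, ← rv_mul h _ (by norm_num)]; rfl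

theorem SW_eq : SW = HH :=
  (maximal (HH_le ((mem_SW (mr_ml (by norm_num))).2 (by decide +kernel))
    ((mem_SW (mr_ml (by norm_num))).2 (by decide +kernel)) ((mem_SW mr_zz).2 (by decide +kernel)))).resolve_right
    fun h => absurd ((mem_SW (mr_ml (l := 4) (by norm_num))).1 (h ▸ Subgroup.mem_top _)) (by decide +kernel)

theorem inSub_θ {K : Subgroup CZ} {g : Cfsg.Spor.J4} {p : ℕ} (hg : g ∈ CZ) (h : (⟨g, hg⟩ : CZ) ∈ K)
    (hp : HV p) (a : Act g (toPerm p)) : InSub (K.map θ) p :=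
  ⟨hp.1.1, _, h, (act_θ _).unique a⟩

theorem card_ker : Nat.card θ.ker ≤ 24576 := by
  have h1 : θ.ker ≤ HH.subgroupOf CZ := fun n hn => by
    obtain ⟨j, hj, e1, e2⟩ := (act_θ n).2 0 (by norm_num)
    rw [show θ n = 1 from hn, one_smul] at e1
    obtain rfl := (by decide +kernel : ∀ j < 77, oc j = oc 0 → j = 0) j hj
      (maskSet_injOn (MG.row_lt _ _ _) (MG.row_lt _ _ _) e1)
    exact SW_eq.le e2
  have h2 : Nat.card (HH.subgroupOf CZ) ≤ 138240 * 2048 := by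
    rw [← Subgroup.inf_subgroupOf_right, Nat.card_congr (Subgroup.subgroupOfEquivOfLe inf_le_right).toEquiv,
      card_split inf_le_left, ← card_S0, ← card_VV]
    exact Nat.mul_le_mul (Subgroup.card_le_of_le fun σ ⟨g, hg, h⟩ => img_le_S0 ⟨g, hg.2, h⟩)
      (Subgroup.card_le_of_le inf_le_right)
  have h3 := pk_le_card (H := (HH.subgroupOf CZ).map θ) (gens := [p1, p2, p3]) (cert := certC0)
    (List.forall_mem_cons.2 ⟨inSub_θ (cz4 c1 (by simp [cs4])).2 pr1.1.mem pr1.2.1 pr1.act,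
      List.forall_mem_cons.2 ⟨inSub_θ (cz4 c2 (by simp [cs4])).2 pr2.1.mem pr2.2.1 pr2.act,
      List.forall_mem_cons.2 ⟨inSub_θ (cz4 _ (by simp [cs4])).2 pr3.1.mem pr3.2.1 pr3.act, by simp⟩⟩⟩)
    (by decide +kernel)
  rw [(by decide +kernel : PK.certOrder certC0 = 11520), ← Subgroup.relIndex_ker] at h3
  have h4 := (θ.ker.subgroupOf (HH.subgroupOf CZ)).card_mul_index
  rw [Nat.card_congr (Subgroup.subgroupOfEquivOfLe h1).toEquiv] at h4
  have h5 := Nat.mul_le_mul_left (Nat.card θ.ker) h3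
  rw [Subgroup.relIndex, h4] at h5
  omega

theorem card_range : 887040 ≤ Nat.card θ.range := by
  have h3 := pk_le_card (H := (⊤ : Subgroup CZ).map θ) (gens := [p1, p2, p3, p4]) (cert := certC1)
    (List.forall_mem_cons.2 ⟨inSub_θ (cz4 c1 (by simp [cs4])).2 trivial pr1.2.1 pr1.act,
      List.forall_mem_cons.2 ⟨inSub_θ (cz4 c2 (by simp [cs4])).2 trivial pr2.2.1 pr2.act,
      List.forall_mem_cons.2 ⟨inSub_θ (cz4 _ (by simp [cs4])).2 trivial pr3.2.1 pr3.act,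
      List.forall_mem_cons.2 ⟨inSub_θ t_CZ trivial act_t.1 act_t.2, by simp⟩⟩⟩⟩)
    (by decide +kernel)
  rwa [(by decide +kernel : PK.certOrder certC1 = 887040), ← MonoidHom.range_eq_map] at h3

theorem in_ns : ∀ c ∈ nW.map Prod.snd, InK (θ.ker.map CZ.subtype) c := by
  intro c hc
  obtain ⟨w, hw', rfl⟩ := List.mem_map.1 hc
  have h := allL_iff.1 (by decide +kernel : allL (fun w => band (Nat.beq (hw cs4 w.1) w.2)
    (peq (hw ps4 w.1) pid)) nW = true) w hw'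
  have h1 := pr_hw pr4 w.1
  have h2 := inK_hw cz4 w.1
  rw [beq (band_left h)] at h1 h2
  have h3 := h1.2.1.1.rep.eq_of_peq rep_one (band_right h)
  exact ⟨h1.1, ⟨_, h2.2⟩, ((act_θ ⟨_, h2.2⟩).unique h1.act).trans h3, rfl⟩

theorem in_gq {i : ℕ} (hi : i < 14) : InK (θ.ker.map CZ.subtype) (getN cx3 gq i) :=
  beq (allLT_iff.1 (by decide +kernel : allLT 14 (fun i => Nat.beq (hw (nW.map Prod.snd) (getN [] gW i))
    (getN cx3 gq i)) = true) i hi) ▸ inK_hw in_ns _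

/-- the relations -/
noncomputable def relOK : Bool := frc (cd pid 843) fun z => frc (hinv cx3) fun x =>
  allLT 12 fun i => frc (getN cx3 gq i) fun a => band (band
    (frc (hmul a a) fun s => cnd (Nat.beq s pid) true (Nat.beq s z))
    (frc (hmul cx3 a) fun y => Nat.beq (hmul y x) (hw gq (getN [] cW i))))
    (allLT 12 fun j => frc (getN cx3 gq j) fun b => frc (hmul b a) fun y =>
      Nat.beq (hmul a b) (cnd (Nat.beq (Nat.add i j) 11) (hmul y z) y))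

theorem rel_ok : relOK = true := by decide +kernel

theorem es_part : ∃ Q : Subgroup CZ, Q.Normal ∧ Q ≤ θ.ker ∧ Nat.card Q = 2 ^ 13 ∧
    IsExtraspecial 2 Q ∧ Nat.card θ.ker = 3 * 2 ^ 13 := by
  choose g hg e using fun i : Fin 12 => (in_gq (i := i) (by omega)).2
  have hv := fun i : Fin 12 => (in_gq (i := i) (by omega)).1
  obtain ⟨vz, z, hz, ez⟩ : InK _ (cd pid 843) := in_gq (i := 12) (by norm_num)
  obtain ⟨vx, x, hx, ex⟩ : InK _ cx3 := in_gq (i := 13) (by norm_num)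
  have h0 := rel_ok
  simp only [relOK, frc_eq] at h0
  have h := fun i : Fin 12 => allLT_iff.1 h0 i i.2
  simp only [Subgroup.coe_subtype] at e ez ex
  refine ⟨_, es_final (g := g) (z := z) (x := x) ?_ (fun y => Subtype.ext ?_) (fun i => ?_)
    (fun i j => Subtype.ext ?_) rfl card_ker hz hg hx ?_ fun i => ?_⟩
  · exact orderOf_eq_prime (Subtype.ext (by simp [ez, z0_eq.2, pow_two, z0, vv_sq]))
      fun e => z0_ne (by rw [← z0_eq.2, ← ez, e]; rfl)
  · simpa [ez, z0_eq.2] using (mem_CZ.1 y.2).symm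
  · have h1 := ((hv i).mul (hv i)).2.1.symm
    rw [← e, ← Subgroup.coe_mul] at h1
    rcases cnd_beq (band_left (band_left (h i))) with ⟨h2, -⟩ | ⟨-, h2⟩
    · rw [h2, hval_pid] at h1
      exact (Subtype.ext h1 : g i * g i = 1) ▸ Subgroup.one_mem _
    · rw [beq h2, ← ez] at h1
      exact (Subtype.ext h1 : g i * g i = z) ▸ Subgroup.mem_zpowers _
  · have h1 := congrArg hval (beq (allLT_iff.1 (band_right (h i)) j j.2))
    rw [((hv i).mul (hv j)).2.1] at h1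
    split_ifs with h2
    · rw [show Nat.beq (Nat.add i j) 11 = true from by subst h2; clear h1; revert i; decide, cnd_true,
        (((hv j).mul (hv i)).1.mul vz).2.1, ((hv j).mul (hv i)).2.1, ← e, ← e, ← ez] at h1
      exact h1
    · rw [show Nat.beq (Nat.add i j) 11 = false from by clear h1; revert i j; decide, cnd_false,
        ((hv j).mul (hv i)).2.1, ← e, ← e] at h1
      simpa using h1
  · have := Fact.mk Nat.prime_three
    refine orderOf_eq_prime (Subtype.ext ?_) fun e => ?_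
    · rw [pow_three', Subgroup.coe_mul, Subgroup.coe_mul, ex, ← (vx.mul vx).2.1,
        ← ((vx.mul vx).1.mul vx).2.1, (by decide +kernel : hmul (hmul cx3 cx3) cx3 = pid), hval_pid]
      rfl
    · have h1 := vx.over
      rw [← ex, e] at h1
      exact vx.1.rep.ne_of_peq rep_one (by decide +kernel) (h1.unique VV.one_mem)
  · have h1 := (inK_hw (K := (Subgroup.closure (insert z (Set.range g))).map CZ.subtype) (cs := gq)
      (fun c hc => by
        obtain ⟨k, hk, rfl⟩ := List.getElem_of_mem hc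
        rw [← List.getD_eq_getElem _ cx3, ← getN_eq]
        rcases Nat.lt_succ_iff_lt_or_eq.1 (show k < 13 from hk) with h1 | rfl
        · exact ⟨hv ⟨k, h1⟩, _, Subgroup.subset_closure (Or.inr ⟨⟨k, h1⟩, rfl⟩), e _⟩
        · exact ⟨vz, _, Subgroup.subset_closure (Or.inl rfl), ez⟩) (getN [] cW i)).2
    rw [← beq (band_right (band_left (h i))), ((vx.mul (hv i)).1.mul vx.inv.1).2.1,
      (vx.mul (hv i)).2.1, vx.inv.2.1, ← ex, ← e] at h1
    exact (Subgroup.mem_map_iff_mem CZ.subtype_injective).1 h1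

theorem m22_quot : (Cfsg.Spor.M22.comap θ).index = 2 ∧
    IsM22 (Cfsg.Spor.M22.comap θ ⧸ θ.ker.subgroupOf (Cfsg.Spor.M22.comap θ)) :=
  m22_part θ (fun c => (act_θ c).1) (a := ⟨_, (cz4 c1 (by simp [cs4])).2⟩) (by
    rw [(act_θ ⟨_, (cz4 c1 (by simp [cs4])).2⟩).unique pr1.act, pr1.2.1.1.rep.apply]
    decide +kernel) card_range

end Cfsg.Lib.Spor.J4P
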