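import Cfsg.Agent.Spor.J4MxK
import Cfsg.Agent.S2068

/-! Words in codes for the subgroup `2 ^ 11 : M₂₄` of `J₄`. -/

set_option autoImplicit false
set_option maxRecDepth 100000
set_option Elab.async false
set_option exponentiation.threshold 20000

namespace Cfsg.Lib.Spor.J4X

open Subgroup Cfsg.Lib.Spor.Bulk Cfsg.Lib.Spor.MP Cfsg.Lib.Spor.JD Cfsg.Lib.Spor.J4P Cfsg.Lib.SporChar
  Cfsg.Lib.SporChar.J4C Cfsg.Lib.Solv

variable {K : Subgroup Cfsg.Spor.J4} {g : Cfsg.Spor.J4} {a b : ℕ}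

theorem getN_rel {R : ℕ → ℕ → Prop} {P Q : List ℕ} (h : List.Forall₂ R P Q) {d e : ℕ} (h0 : R d e)
    (i : ℕ) : R (getN d P i) (getN e Q i) := by
  induction h generalizing i with
  | nil => exact h0
  | cons h _ ih => cases i; exacts [h, ih _]

/-- the loop of `hwd` -/
noncomputable def hwd1 (P : List ℕ) (n : ℕ) : ℕ → ℕ → ℕ :=
  Nat.rec (fun _ a => a) (fun _ r V a => cnd (Nat.beq V 0) a
    (frc (getN pid P (Nat.land V 15)) fun y => frc (hmul a y) fun x =>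
      frc (Nat.shiftRight V 4) fun U => r U x)) n

/-- the code of a packed word -/
noncomputable def hwd (P : List ℕ) (W : ℕ) : ℕ :=
  frc (Nat.shiftRight W 4) fun V => frc (getN pid (pid :: P) (Nat.land W 15)) (hwd1 (pid :: P) V V)

theorem rel_wd {R : ℕ → ℕ → Prop} (h1 : R pid mone)
    (hm : ∀ a b c d, R a b → R c d → R (hmul a c) (MG.mul2 112 b d)) {P Q : List ℕ}
    (h : List.Forall₂ R P Q) (W : ℕ) : R (hwd P W) (wd Q W) := by
  have h2 := getN_rel (List.Forall₂.cons h1 h) h1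
  have key : ∀ n V a b, R a b → R (hwd1 (pid :: P) n V a) (wd1 (mone :: Q) n V b) := fun n => by
    induction n with
    | zero => exact fun _ _ _ h => h
    | succ n ih =>
      intro V a b ha
      show R (cnd (Nat.beq V 0) a _) (cnd (Nat.beq V 0) b _)
      cases Nat.beq V 0
      exacts [ih _ _ _ (hm _ _ _ _ ha (h2 _)), ha]
  exact key _ _ _ _ (h2 _)

theorem inK_hwd {P : List ℕ} (h : ∀ c ∈ P, InK K c) (W : ℕ) : InK K (hwd P W) :=
  rel_wd (R := fun a _ => InK K a) (inK_pid K) (fun _ _ _ _ => InK.mul) (List.forall₂_same.2 h) W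

theorem pr_wd {P Q : List ℕ} (h : List.Forall₂ (fun c m => InK K c ∧ MR (hval c) m) P Q) (W : ℕ) :
    InK K (hwd P W) ∧ MR (hval (hwd P W)) (wd Q W) :=
  rel_wd (R := fun c m => InK K c ∧ MR (hval c) m) ⟨inK_pid K, hval_pid ▸ mr_one⟩
    (fun _ _ _ _ a b => ⟨a.1.mul b.1, (a.1.1.mul b.1.1).2.1 ▸ a.2.mul b.2⟩) h W

theorem pr_of (W : List ℕ) (e : band (Nat.beq (hw J4T.cs W) a) (Nat.beq (J4T.mwd W) b) = true) :
    HV a ∧ MR (hval a) b :=
  beq (band_left e) ▸ ⟨(J4T.mr_mwd W).1, (J4T.mr_mwd W).2.code (band_right e)⟩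

/-- the canonical code -/
noncomputable def cnH (a : ℕ) : ℕ := Nat.mod a (Nat.pow 2 132)

theorem sm_mod (s : ℕ) : sm (s % 2 ^ 12) = sm s := by
  ext x
  have := ptIdx_lt x
  simp only [sm, mem_maskSet]
  erw [Nat.testBit_shiftLeft, Nat.testBit_shiftLeft]
  rw [Nat.testBit_mod_two_pow, decide_eq_true (by omega : ptIdx x - 12 < 12), Bool.true_and]

theorem cnH_eq (ha : HV a) (hb : HV b) (e : hval a = hval b) : cnH a = cnH b := by
  have h1 := ha.over.unique (e ▸ hb.over)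
  rw [hval_eq, hval_eq, h1, mul_right_inj, ← sm_mod, ← sm_mod (vp b)] at e
  have h2 := vv_sm_inj (Nat.mod_lt _ (by norm_num)) (Nat.mod_lt _ (by norm_num))
    ((sm_mod _).symm ▸ ha.2) ((sm_mod _).symm ▸ hb.2) e
  show a % (2 ^ 120 * 2 ^ 12) = b % (2 ^ 120 * 2 ^ 12)
  rw [Nat.mod_mul, Nat.mod_mul, ← ha.1.rep.pack_eq, ← hb.1.rep.pack_eq, h1, ← Nat.shiftRight_eq_div_pow,
    ← Nat.shiftRight_eq_div_pow]
  exact congrArg (fun x => _ + _ * x) h2

/-- the preimage -/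
def pre (H : Subgroup (Equiv.Perm GolayPt)) : Subgroup Cfsg.Spor.J4 where
  carrier := {g | ∃ π ∈ H, Over π g}
  mul_mem' := fun ⟨_, a, b⟩ ⟨_, c, d⟩ => ⟨_, H.mul_mem a c, b.mul d⟩
  one_mem' := ⟨1, H.one_mem, VV.one_mem⟩
  inv_mem' := fun ⟨_, a, b⟩ => ⟨_, H.inv_mem a, b.inv⟩

theorem pre_le (H : Subgroup (Equiv.Perm GolayPt)) : pre H ≤ HH := fun _ ⟨_, _, h⟩ => ⟨_, h⟩

theorem card_pre (H : Subgroup (Equiv.Perm GolayPt)) :
    Nat.card (pre H) ≤ Nat.card ↥(M24 ⊓ H) * 2048 := by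
  rw [card_split (pre_le H), ← card_VV]
  exact Nat.mul_le_mul (card_le_of_le fun π ⟨_, ⟨_, h1, h2⟩, h⟩ => ⟨h.1, h2.unique h ▸ h1⟩)
    (card_le_of_le inf_le_right)

theorem two_of {G : Type*} [Group G] [Finite G] {u g : G} (ho : orderOf u = 4)
    (h : g ∈ normalizer (zpowers u : Set G)) : g⁻¹ * u * g = u ∨ g⁻¹ * u * g = u⁻¹ := by
  classical
  have h1 : orderOf (g⁻¹ * u * g) = 4 := by
    simpa using ((MulAut.conj g⁻¹).orderOf_eq u).trans ho
  have h2 := (mem_normalizer_iff''.1 h u).1 (mem_zpowers u)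
  rw [mem_zpowers_iff_mem_range_orderOf, ho, Finset.mem_image] at h2
  obtain ⟨k, h2, e⟩ := h2
  have h4 : u ^ 4 = 1 := ho ▸ pow_orderOf_eq_one u
  rw [← e] at h1 ⊢
  rw [Finset.mem_range] at h2
  interval_cases k
  · simp at h1
  · simp
  · exact absurd (h1 ▸ orderOf_dvd_of_pow_eq_one (n := 2) (by rw [← pow_mul, h4])) (by norm_num)
  · exact Or.inr (eq_inv_of_mul_eq_one_left (by rw [← pow_succ, h4]))

/-- certificates along the words `L` followed by `a` -/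
noncomputable def brA (P Q : List ℕ) (p a : ℕ) (L : List ℕ) : ℕ → Bool :=
  List.rec (fun _ => true) (fun W _ r C => band (frc (wd P W) fun v => frc (MG.mul2 112 v a) fun y =>
    cnd (Nat.beq y mone) true (gen (y :: Q) [p] C)) (frc (Nat.shiftRight C 32) r)) L

theorem brA_sound {P Q L : List ℕ} {p C : ℕ} (hP : ∀ c ∈ P, In ⊤ c) (hQ : ∀ c ∈ Q, In K c)
    (ha : MR g a) (hp : p.Prime) (h0 : ¬ p ∣ Nat.card K) (e : brA P Q p a L C = true) :
    ∀ W ∈ L, el (wd P W) * g ∈ K → el (wd P W) * g = 1 := by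
  induction L generalizing C with
  | nil => simp
  | cons W L ih =>
    refine List.forall_mem_cons.2 ⟨fun h => ?_, ih (band_right e)⟩
    have h1 := (in_wd hP W).mr.mul ha
    have h2 : cnd (Nat.beq (MG.mul2 112 (wd P W) a) mone) true
      (gen (MG.mul2 112 (wd P W) a :: Q) [p] C) = true := band_left e
    revert h2
    cases e1 : Nat.beq (MG.mul2 112 (wd P W) a) mone
    · exact fun h2 => absurd (gen_sound (ps := [p]) (C := C) (List.forall_mem_cons.2 ⟨⟨_, h, h1⟩, hQ⟩) h2 p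
        (by simp) hp) h0
    · exact fun _ => eqB h1 mr_one e1

end Cfsg.Lib.Spor.J4X
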