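import Cfsg.Agent.S5582
import Cfsg.Agent.S0111
import Cfsg.Agent.Class.FieldIso

/-! Orders, simplicity and automorphisms of subgroups of `J₄`. -/

set_option autoImplicit false
set_option maxRecDepth 100000
set_option exponentiation.threshold 20000

namespace Cfsg.Lib.Spor.J4X

open Subgroup Cfsg.Lib.Spor.Bulk Cfsg.Lib.Spor.JD Cfsg.Lib.Spor.J4P Cfsg.Lib.SporChar
  Cfsg.Lib.SporChar.J4C Cfsg.Lib.SporChar.J4D Cfsg.Lib.Solv
open scoped Pointwise

section abs
variable {G : Type*} [Group G] [Finite G]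

theorem burnB_of' {M : Subgroup G} {s : G} {p c : ℕ} (h : Nat.card M ∣ 86775571046077562880)
    (hp : p.Prime) (hs : s ∈ M) (ho : orderOf s = p)
    (h2 : ¬ p ^ 2 ∣ Nat.card M) (hc : M ⊓ normalizer (zpowers s : Set G) ≤ centralizer {s})
    (hd : Nat.card ↥(M ⊓ centralizer ({s} : Set G)) ∣ p * c) : burnB (Nat.card M) p c = true := by
  refine allL_iff.2 fun x hx => ?_
  obtain ⟨a1, a2, a3⟩ := pws_spec x hx
  cases e1 : Nat.beq x.1 p
  · cases e2 : Nat.beq (Nat.mod c x.1) 0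
    · have e3 := Nat.ne_of_beq_eq_false e1
      refine Nat.beq_eq.mpr (burn hp hs ho h2 hc a1 e3 (fun e => ?_)
        (by rw [Nat.mul_div_cancel' a2]; exact h) a3)
      rcases (Nat.Prime.dvd_mul a1).1 (e.trans hd) with e4 | e4
      · exact e3 ((Nat.prime_dvd_prime_iff_eq a1 hp).1 e4)
      · exact Nat.ne_of_beq_eq_false e2 (Nat.mod_eq_zero_of_dvd e4)
    · rfl
  · rfl

theorem cent_le (s : G) : centralizer {s} ≤ normalizer (zpowers s : Set G) :=
  fun a ha => mem_norm_zp (by rw [mem_cent.1 ha]; exact mem_zpowers _)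

theorem between {A B C : Subgroup G} {p e : ℕ} (he : e.Prime) (h1 : A ≤ B) (h2 : B ≤ C)
    (hA : Nat.card A = p) (hC : Nat.card C = p * e) : B = A ∨ B = C := by
  obtain ⟨d, hd⟩ := card_dvd_of_le h1
  have h3 := card_dvd_of_le h2
  rw [hd, hC, hA, Nat.mul_dvd_mul_iff_left (hA ▸ Nat.card_pos)] at h3
  exact ((Nat.dvd_prime he).1 h3).imp (fun e => (eq_of_le_of_card_ge h1 (by rw [hd, e, mul_one])).symm)
    fun e => eq_of_le_of_card_ge h2 (by rw [hd, hC, hA, e])

/-- The orders of the normal subgroups. -/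
theorem nsub (hG : Nat.card G ∣ 86775571046077562880) {s : G} {p e : ℕ} (hp : p.Prime) (he : e.Prime)
    (ho : orderOf s = p) (h2 : ¬ p ^ 2 ∣ Nat.card G)
    (hN : Nat.card (normalizer (zpowers s : Set G)) = p * e) (hC : centralizer {s} = zpowers s)
    (N : Subgroup G) [N.Normal] : Nat.card N = Nat.card G ∨
      burnB (Nat.card N * p) p 1 = true ∧ Nat.card N * p * e ∣ Nat.card G ∨
      Nat.card N * e = Nat.card G ∧ burnB (Nat.card N) p 1 = true := by
  have := Fact.mk hp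
  have h1 : Nat.card (zpowers s) = p := by rw [Nat.card_zpowers, ho]
  have hb : ∀ M : Subgroup G, s ∈ M → M ⊓ normalizer (zpowers s : Set G) ≤ centralizer {s} →
      burnB (Nat.card M) p 1 = true := fun M a b =>
    burnB_of' (M.card_subgroup_dvd_card.trans hG) hp a ho (fun e => h2 (e.trans M.card_subgroup_dvd_card))
      b (by rw [mul_one, ← h1, ← hC]; exact card_dvd_of_le inf_le_right)
  have h3 := card_sup_mul_card_inf_of_le_normalizer (H := normalizer (zpowers s : Set G)) (N := N)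
    (normalizer_eq_top N ▸ le_top)
  by_cases hs : s ∈ N
  · have h4 := ((IsPGroup.of_card (h1.trans (pow_one p).symm)).toSylow (fun e => h2 (by
      rw [← (zpowers s).card_mul_index, h1, pow_two]; exact Nat.mul_dvd_mul_left _ e))
      ).normalizer_sup_eq_top' (N := N) (zpowers_le.2 hs)
    rw [sup_comm, show normalizer (zpowers s : Set G) ⊔ N = ⊤ from h4, card_top, hN] at h3
    rcases between he (le_inf (zpowers_le.2 hs) le_normalizer) inf_le_right h1 hN with e1 | e1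
    · rw [e1, h1, mul_comm p, ← mul_assoc] at h3
      exact Or.inr (Or.inr ⟨(Nat.eq_of_mul_eq_mul_right hp.pos h3).symm, hb N hs (e1.trans hC.symm).le⟩)
    · rw [e1, hN] at h3
      exact Or.inl (Nat.eq_of_mul_eq_mul_right (Nat.mul_pos hp.pos he.pos) h3).symm
  · have h4 : N ⊓ zpowers s = ⊥ := eq_bot_iff.2 fun a ha => by_contra fun e => hs
      (zpowers_le.2 ha.1 ((Known.SC.zpowers_eq_of_card_prime hp h1 ha.2 e).ge (mem_zpowers s)))
    have h5 : N ⊓ normalizer (zpowers s : Set G) ≤ centralizer {s} := fun a ha => mem_cent.2 (by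
      refine mul_inv_eq_one.1 (mem_bot.1 (h4.le ⟨?_, ?_⟩))
      · simpa [mul_assoc] using N.mul_mem ha.1 (Normal.conj_mem ‹_› _ (N.inv_mem ha.1) s)
      · exact (zpowers s).mul_mem ((mem_normalizer_iff.1 ha.2 s).1 (mem_zpowers s))
          ((zpowers s).inv_mem (mem_zpowers s)))
    have h6 := card_sup_of_disjoint_of_le_normalizer (normalizer_eq_top N ▸ le_top) h4
    rw [eq_bot_iff.2 ((le_inf inf_le_left (h5.trans hC.le)).trans h4.le), card_bot, mul_one, hN,
      ← mul_assoc] at h3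
    refine Or.inr (Or.inl ⟨?_, h3 ▸ card_subgroup_dvd_card _⟩)
    rw [← h1, ← h6, h1]
    refine hb _ (mem_sup_right (mem_zpowers s)) fun a ha => ?_
    obtain ⟨n, hn, z, hz, rfl⟩ := (mem_sup_of_normal_left ..).1 ha.1
    exact mul_mem (h5 ⟨hn, (mul_mem_cancel_right (le_normalizer hz)).1 ha.2⟩) (hC.ge hz)

/-- the orders of normal subgroups -/
noncomputable def simB (n p e d : ℕ) : Bool :=
  cnd (Nat.beq d 1) true (cnd (Nat.beq d 8) true (cnd (Nat.beq d n) true
    (cnd (band (Nat.beq (Nat.mod n (Nat.mul (Nat.mul d p) e)) 0) (burnB (Nat.mul d p) p 1)) false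
      (cnd (band (Nat.beq (Nat.mul d e) n) (burnB d p 1)) false true))))

theorem simple0 (hG : Nat.card G ∣ 86775571046077562880) {s t : G} {p e n : ℕ} (ho : orderOf s = p)
    (hn : Nat.card G = n) (hN : Nat.card (normalizer (zpowers s : Set G)) = p * e)
    (h1 : t ∈ normalizer (zpowers s : Set G)) (h2 : t ∉ centralizer {s}) (L : List (ℕ × ℕ))
    (h : (p.Prime ∧ e.Prime ∧ ¬ p ^ 2 ∣ n ∧ ¬ n ∣ 322560) ∧ (∀ x ∈ L, x.1.Prime) ∧
      (L.map fun x => x.1 ^ x.2).prod = n ∧ allDiv (simB n p e) L 1 = true) : IsSimpleGroup G := by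
  obtain ⟨⟨hp, he, h3, h4⟩, a1, a2, a3⟩ := h
  have hC : centralizer {s} = zpowers s := (between he (zpowers_le.2 (mem_centralizer_singleton_iff.2 rfl))
    (cent_le s) (by rw [Nat.card_zpowers, ho]) hN).resolve_right fun e => h2 (e ▸ h1)
  have key : ∀ N : Subgroup G, N.Normal → Nat.card N = 1 ∨ Nat.card N = 8 ∨ N = ⊤ := fun N hN' => by
    have h5 := allDiv_sound a1 a3 (a2.symm ▸ hn ▸ N.card_subgroup_dvd_card)
    rw [one_mul] at h5
    rcases cnd_beq h5 with ⟨e1, -⟩ | ⟨-, h5⟩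
    · exact Or.inl e1
    rcases cnd_beq h5 with ⟨e1, -⟩ | ⟨-, h5⟩
    · exact Or.inr (Or.inl e1)
    rcases cnd_beq h5 with ⟨e1, -⟩ | ⟨e1, h5⟩
    · exact Or.inr (Or.inr (eq_top_of_card_eq _ (e1.trans hn.symm)))
    rcases nsub hG hp he ho (hn ▸ h3) hN hC N with e2 | ⟨e2, e3⟩ | ⟨e2, e3⟩
    · exact absurd (e2.trans hn) e1
    · rw [show Nat.mod n (Nat.mul (Nat.mul _ p) e) = 0 from Nat.mod_eq_zero_of_dvd (hn ▸ e3),
        show burnB (Nat.mul _ p) p 1 = true from e2] at h5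
      exact absurd h5 Bool.false_ne_true
    · rw [show Nat.mul _ e = n from e2.trans hn, e3, Nat.beq_refl] at h5
      revert h5
      cases band (Nat.beq _ 0) _ <;> exact fun h => absurd h Bool.false_ne_true
  have : Nontrivial G := Finite.one_lt_card_iff_nontrivial.1 (by
    have : Nat.card G ≠ 1 := fun e => h4 (hn ▸ e ▸ one_dvd _)
    have : 0 < Nat.card G := Nat.card_pos
    omega)
  refine ⟨fun N hN' => ((key N hN').imp_left card_eq_one.1).imp_right fun e => e.resolve_left fun e1 => ?_⟩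
  classical
  have := Fintype.ofFinite N
  let f := (MulAut.toPerm N).comp (MulAut.conjNormal (H := N))
  have h5 := f.ker.card_mul_index
  obtain ⟨m, h6⟩ := index_ker f ▸ f.range.card_subgroup_dvd_card
  rw [Nat.card_perm, e1] at h6
  rcases key f.ker inferInstance with e2 | e2 | e2
  · exact h4 ⟨m * 8, by rw [← hn, ← h5, e2, one_mul, ← mul_assoc, ← h6]; rfl⟩
  · exact h4 ⟨m, by rw [← hn, ← h5, e2, mul_assoc, ← h6]; rfl⟩
  · have h7 := card_dvd_of_le (show N ≤ zpowers s from fun a ha => hC.le (cent_symm (mem_cent.2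
      (congrArg Subtype.val (Equiv.congr_fun (show f s = 1 from e2.ge (mem_top s)) ⟨a, ha⟩)))))
    rw [e1, Nat.card_zpowers, ho] at h7
    exact absurd ((Nat.dvd_prime hp).1 h7) (by rintro (e | rfl); omega; norm_num at hp)

omit [Finite G] in
theorem cent_sub {M : Subgroup G} {s : G} (hs : s ∈ M) :
    centralizer {(⟨s, hs⟩ : M)} = (centralizer {s}).subgroupOf M := by
  ext a; simp [mem_subgroupOf, mem_centralizer_singleton_iff, Subtype.ext_iff]

omit [Finite G] in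
theorem norm_sub {M : Subgroup G} {s : G} (hs : s ∈ M) : normalizer (zpowers (⟨s, hs⟩ : M) : Set M) =
    (normalizer (zpowers s : Set G)).subgroupOf M := by
  rw [subgroupOf_normalizer_eq (zpowers_le.2 hs)]
  congr 2
  ext a; exact ⟨fun ⟨i, e⟩ => ⟨i, congrArg Subtype.val e⟩, fun ⟨i, e⟩ => ⟨i, Subtype.ext e⟩⟩

/-- Sylow's count from the order of the normalizer. -/
theorem congP {M P : Subgroup G} {p k m : ℕ} (hp : p.Prime) (hP : P ≤ M) (h1 : Nat.card P = p ^ k)
    (h : Nat.card ↥(M ⊓ normalizer (P : Set G)) = m) (hm : ¬ p ^ (k + 1) ∣ m) :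
    ¬ p ^ (k + 1) ∣ Nat.card M ∧ cg (Nat.card M) m p = true := by
  have := Fact.mk hp
  have h2 : ¬ p ^ (k + 1) ∣ Nat.card M := fun e => hm (by
    have h3 := Sylow.prime_pow_dvd_card_normalizer e ((card_subgroupOf_of_le hP).trans h1)
    rwa [← subgroupOf_normalizer_eq hP, card_subOf, h] at h3)
  obtain ⟨n, a, b⟩ := cong hp hP h1 h2
  exact ⟨h2, cg_of (h ▸ b) a Nat.card_pos⟩

theorem thompson {M T D : Subgroup G} {u z : G} {k : ℕ} (h1 : D ≤ T) (h2 : T ≤ M)
    (hT : Nat.card T = 2 ^ (k + 1)) (hD : Nat.card D = 2 ^ k) (hM : ¬ 2 ^ (k + 2) ∣ Nat.card M)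
    (hu : u ∈ T) (ho : orderOf u = 2) (h : ∀ y ∈ D, orderOf y = 2 → ∃ v ∈ M, y * v = v * z)
    (hz : ∀ v ∈ M, u * v ≠ v * z) :
    ∃ K ≤ M, Nat.card K * 2 = Nat.card M ∧ ∀ x ∈ M, x ^ 2 ∈ K := by
  have h3 := (card_subgroupOf_of_le h2).trans hT
  have h5 : ∀ g ∈ M, g * u * g⁻¹ ∉ D := fun g hg e => by
    obtain ⟨v, a, b⟩ := h _ e ((orderOf_conj' g u).trans ho)
    exact hz (g⁻¹ * v) (M.mul_mem (M.inv_mem hg) a) (by rw [mul_assoc, ← b]; group)
  refine (Agent.S0111.result ((IsPGroup.of_card h3).toSylow fun e => hM (by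
    rw [← (T.subgroupOf M).card_mul_index, h3, pow_succ 2 (k + 1)]; exact Nat.mul_dvd_mul_left _ e))
    (D.subgroupOf M) (subgroupOf_mono M h1) ?_ ⟨u, h2 hu⟩ (by rw [← Subgroup.orderOf_coe, ho]) hu
    fun e => h5 1 M.one_mem (by rw [one_mul, inv_one, mul_one]; exact e)).elim (fun ⟨K, _, e, _⟩ => ⟨K.map M.subtype,
      map_subtype_le K, by rw [card_map_subtype, ← e, card_mul_index], fun x hx =>
        ⟨_, sq_mem_of_index_two e ⟨x, hx⟩, rfl⟩⟩) fun ⟨g, e⟩ => (h5 g g.2 e).elim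
  have h4 := (D.subgroupOf T).card_mul_index
  rw [card_subgroupOf_of_le h1, hD, hT, pow_succ] at h4
  exact (relIndex_subgroupOf h2).trans (Nat.eq_of_mul_eq_mul_left (by positivity) h4)

omit [Finite G] in
theorem odd_mem {M K : Subgroup G} (h : ∀ x ∈ M, x ^ 2 ∈ K) {s : G} (hs : s ∈ M) {k : ℕ}
    (ho : orderOf s = 2 * k + 1) : s ∈ K := by
  have := h _ (M.pow_mem hs (k + 1))
  rwa [← pow_mul, show (k + 1) * 2 = 2 * k + 1 + 1 by ring, pow_succ, ← ho, pow_orderOf_eq_one,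
    one_mul] at this

omit [Finite G] in
theorem card_inf_conj {M : Subgroup G} {k : G} (hk : k ∈ M) (H : Subgroup G) :
    Nat.card ↥(M ⊓ MulAut.conj k • H) = Nat.card ↥(M ⊓ H) := by
  rw [← card_conj_smul k (M ⊓ H)]
  congr 2
  ext x
  simp only [mem_inf, mem_conj_smul, M.mul_mem_cancel_right hk, M.mul_mem_cancel_left (M.inv_mem hk)]

theorem nrm_card {K M P : Subgroup G} {p k m d n : ℕ} (hp : p.Prime) (hP : P ≤ K) (h : K ≤ M)
    (h1 : Nat.card P = p ^ k) (h2 : Nat.card ↥(M ⊓ normalizer (P : Set G)) ∣ m) (hn : Nat.card K = n)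
    (e : m ≠ 0 ∧ ¬ p ^ (k + 1) ∣ n ∧ ∀ x ∈ m.divisors, cg n x p = true → x = d) :
    Nat.card ↥(K ⊓ normalizer (P : Set G)) = d := by
  obtain ⟨r, a, b⟩ := cong hp hP h1 (hn ▸ e.2.1)
  exact e.2.2 _ (Nat.mem_divisors.2 ⟨(card_dvd_of_le (inf_le_inf_right _ h)).trans h2, e.1⟩)
    (cg_of (b.trans hn) a (hn ▸ Nat.card_pos))

theorem pack {M K : Subgroup G} {r : ℕ} (h : K ≤ M) (h1 : Nat.card K * r = Nat.card M) :
    (K.subgroupOf M).index = r := by
  have := (K.subgroupOf M).card_mul_index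
  rw [card_subgroupOf_of_le h, ← h1] at this
  exact Nat.eq_of_mul_eq_mul_left Nat.card_pos this

/-- A group with a simple subgroup of index two. -/
theorem iso_aut {M K : Subgroup G} {s t : G} [IsSimpleGroup K] (h : K ≤ M)
    (h1 : Nat.card K * 2 = Nat.card M) (hs : s ∈ K) (ht : t ∈ M ⊓ normalizer (zpowers s : Set G))
    (h3 : t ^ 2 = 1) (h4 : t ∉ centralizer {s}) (h0 : ¬ (Nat.card K).Prime)
    (h5 : Odd (Nat.card ↥(K ⊓ normalizer (zpowers s : Set G)))) {L : Type*} [Group L] (e : K ≃* L)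
    (h6 : Nat.card (MulAut L) = Nat.card M) : Nonempty (M ≃* MulAut L) := by
  have h7 := pack h h1
  have hn := normal_of_index_eq_two h7
  have h2 : t ∉ K := fun e => h4 (orderOf_eq_one_iff.1 (Nat.eq_one_of_dvd_coprimes
    (Nat.coprime_two_left.2 h5) (orderOf_dvd_of_pow_eq_one h3) (orderOf_dvd_card' (mem_inf.2 ⟨e, ht.2⟩))) ▸
    one_mem _)
  have e2 := (subgroupOfEquivOfLe h).trans e
  have : Finite (MulAut L) := Nat.finite_of_card_ne_zero (h6 ▸ Nat.card_pos.ne')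
  refine ⟨Class.mulEquivOfInjectiveOfCardLe ((MulAut.congr e2).toMonoidHom.comp MulAut.conjNormal)
    ((MulAut.congr e2).injective.comp ((injective_iff_map_eq_one _).2 fun g hg => ?_)) h6.le⟩
  have h8 : ∀ k ∈ K, (g : G) * k = k * g := fun k hk => mul_inv_eq_iff_eq_mul.1
    (congrArg (fun x : K.subgroupOf M => ((x : M) : G)) (MulEquiv.congr_fun hg ⟨⟨k, h hk⟩, hk⟩))
  have h10 : ∀ x ∈ K, (∀ k ∈ K, x * k = k * x) → x = 1 := fun x hx e => by
    refine ((center K).normal_of_characteristic.eq_bot_or_eq_top).elim (fun e1 => congrArg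
      Subtype.val (mem_bot.1 (e1.le (x := ⟨x, hx⟩) (mem_center_iff.2 fun k => Subtype.ext
        (e k k.2).symm)))) fun e1 => ?_
    have : IsMulCommutative K := ⟨⟨fun a b => mem_center_iff.1 (e1.ge (mem_top b)) a⟩⟩
    exact absurd (Group.is_simple_iff_prime_card.1 ‹_›) h0
  by_cases h9 : (g : G) ∈ K
  · exact Subtype.ext (h10 _ h9 h8)
  have a1 : t * g ∈ K := (mul_mem_iff_of_index_two h7 (a := ⟨t, ht.1⟩) (b := g)).2 (iff_of_false h2 h9)
  have a2 : Commute (g : G) t := mul_right_cancel ((mul_assoc ..).trans (h8 _ a1))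
  have a3 : (g : G) ∈ centralizer {s} := mem_centralizer_singleton_iff.2 (h8 s hs)
  have a4 := orderOf_dvd_of_pow_eq_one (a2.symm.mul_pow 2 ▸ (by
    rw [h3, one_mul]
    exact h10 _ (sq_mem_of_index_two h7 g) fun k hk => (Commute.pow_left (h8 k hk) 2).eq) :
      (t * g) ^ 2 = 1)
  have a5 := orderOf_eq_one_iff.1 (Nat.eq_one_of_dvd_coprimes (Nat.coprime_two_left.2 h5) a4
    (orderOf_dvd_card' (mem_inf.2 ⟨a1, mul_mem ht.2 (cent_le s a3)⟩)))
  exact absurd (eq_inv_of_mul_eq_one_left a5 ▸ inv_mem a3) h4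

theorem burn_ker {M : Subgroup G} {s : G} {p : ℕ} (hp : p.Prime) (hs : s ∈ M) (ho : orderOf s = p)
    (h2 : ¬ p ^ 2 ∣ Nat.card M) (hc : M ⊓ normalizer (zpowers s : Set G) ≤ centralizer {s}) :
    ∃ K ≤ M, Nat.card K * p = Nat.card M ∧ (K.subgroupOf M).Normal ∧
      ∀ x ∈ M, (orderOf x).Coprime p → x ∈ K := by
  have := Fact.mk hp
  have h1 : Nat.card (zpowers (⟨s, hs⟩ : M)) = p ^ 1 := by
    rw [Nat.card_zpowers, ← Subgroup.orderOf_coe, ho, pow_one]
  let P := (IsPGroup.of_card h1).toSylow (fun e => h2 (by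
    rw [← (zpowers (⟨s, hs⟩ : M)).card_mul_index, h1, pow_one, pow_two]; exact Nat.mul_dvd_mul_left _ e))
  have hP : normalizer (P : Set M) ≤ centralizer (P : Set M) := fun a ha =>
    (Known.SC.centralizer_zpowers _).ge ((cent_sub hs).ge (hc ⟨a.2, (norm_sub hs).le ha⟩))
  have h3 := (MonoidHom.ker_transferSylow_isComplement' P hP).symm.index_eq_card.trans (h1.trans (pow_one p))
  refine ⟨_, map_subtype_le (MonoidHom.transferSylow P hP).ker, by
    rw [card_map_subtype, ← card_mul_index (MonoidHom.transferSylow P hP).ker, h3], by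
    rw [subgroupOf, comap_map_eq_self_of_injective M.subtype_injective]; infer_instance,
    fun x hx h => ⟨⟨x, hx⟩, orderOf_eq_one_iff.1 (Nat.eq_one_of_dvd_coprimes h ?_ ?_), rfl⟩⟩
  · exact (orderOf_map_dvd _ _).trans (Subgroup.orderOf_coe (⟨x, hx⟩ : M)).symm.dvd
  · exact (_root_.orderOf_dvd_natCard _).trans (h1.trans (pow_one p)).dvd

theorem Fx.arith' (h : Fx G) {M : Subgroup G} {a b : ℕ} (ha : a ∣ Nat.card M) (hb : Nat.card M ∣ b)
    (L : List (ℕ × ℕ)) (f : ℕ → Bool)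
    (e : (∀ x ∈ L, x.1.Prime) ∧ a * (L.map fun x => x.1 ^ x.2).prod = b ∧
      allDiv (fun n => cnd (f n) true (cnd (okB n) false true)) L a = true) : f (Nat.card M) = true := by
  obtain ⟨m, hm⟩ := ha
  rw [← e.2.1, hm, Nat.mul_dvd_mul_iff_left (Nat.pos_of_mul_pos_right (hm ▸ Nat.card_pos))] at hb
  have h2 := allDiv_sound e.1 e.2.2 hb
  rw [← hm, h.okB_of] at h2
  revert h2
  cases f (Nat.card M) <;> simp [cnd]

theorem eq_of_cov {M K A : Subgroup G} {ys : List G} {m : ℕ} (hK : A ≤ K) (hy : ∀ y ∈ ys, y ∈ K)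
    (hd : ys.Pairwise fun a b => a * b⁻¹ ∉ A) (hc : Nat.card K ≤ ys.length * m) (hm : m ≤ Nat.card A)
    (hM : A ≤ M) (h : ∀ y ∈ ys, y ∈ M → y = 1) : M ⊓ K = A ∧ Nat.card A = m := by
  refine ⟨le_antisymm (fun g hg => ?_) (le_inf hM hK), le_antisymm (Nat.le_of_mul_le_mul_left
    ((le_of_pw hK hy hd).trans hc) (Nat.pos_of_mul_pos_right (Nat.card_pos.trans_le hc))) hm⟩
  obtain ⟨y, h1, h2⟩ := cov_of_pw hK hy hd (hc.trans (Nat.mul_le_mul_left _ hm)) hg.2
  rwa [h y h1 ((M.mul_mem_cancel_left (hM h2)).1 (by simpa using hg.1)), inv_one, mul_one] at h2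

end abs

variable {K M : Subgroup Cfsg.Spor.J4} {g : Cfsg.Spor.J4} {a F : ℕ}

theorem not_stb (ha : MR g a) (e : neB (MG.mul2 112 F a) F = true) : g ∉ stb F := fun h => by
  rw [neB, cn_eq (b := F) (by rw [J4T.dec_mul2, ← ha]; exact h), Nat.beq_refl] at e
  exact absurd e Bool.false_ne_true

theorem ex_co (e : neB (MG.mul2 112 F mt) F = true) : ∃ M, IsCoatom M ∧ stb F ≤ M :=
  (eq_top_or_exists_le_coatom (stb F)).resolve_left fun h0 =>
    not_stb (mr_ml (l := 4) (by norm_num)) e (h0 ▸ mem_top _)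

theorem ex_coC (e : neB (MG.mul2 112 mt F) (MG.mul2 112 F mt) = true) : ∃ M, IsCoatom M ∧ stc F ≤ M :=
  (eq_top_or_exists_le_coatom (stc F)).resolve_left fun h0 => by
    have h1 : ψm (g0 4) * _ = _ * ψm _ := h0.ge (mem_top _)
    rw [show ψm _ = _ from mr_ml (l := 4) (by norm_num), ← J4T.dec_mul2, ← J4T.dec_mul2] at h1
    rw [neB, show cn (MG.mul2 112 mt F) = cn (MG.mul2 112 F mt) from cn_eq h1, Nat.beq_refl] at e
    exact absurd e Bool.false_ne_true

theorem in_stb {P : List ℕ} (h : ∀ c ∈ P, In K c) (hM : stb F ≤ M)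
    (e : allL (fun c => Nat.beq (MG.mul2 112 F c) F) P = true) : ∀ c ∈ P, In M c :=
  fun c hc => ⟨_, hM (mem_stb (h c hc).mr (allL_iff.1 e c hc)), (h c hc).mr⟩

/-- the words `L` in `P` have the values `Q` -/
noncomputable def valB (P L Q : List ℕ) : Bool :=
  allL (fun c => anyL (fun W => Nat.beq (wd P W) c) L) Q

theorem ncomm : ¬ IsMulCommutative Cfsg.Spor.J4 := fun hc => by
  have h5 := Group.is_simple_iff_prime_card.1 simple_J4
  rw [card_J4] at h5
  exact absurd h5 (by norm_num)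

theorem coatom_all {p k : ℕ} (h : p = 43 ∨ p = 37 ∨ p = 29 ∨ p = 11) {P : Subgroup Cfsg.Spor.J4}
    (h1 : Nat.card P = p ^ k) (h2 : ¬ p ^ (k + 1) ∣ 86775571046077562880) :
    IsCoatom (normalizer (P : Set Cfsg.Spor.J4)) := by
  have := simple_J4
  obtain ⟨z, hz⟩ := jankoFour
  obtain ⟨-, -, -, -, a, b, c, d⟩ := Agent.S5582.result ncomm z hz
  have : Fact p.Prime := ⟨by rcases h with rfl | rfl | rfl | rfl <;> norm_num⟩
  let U := (IsPGroup.of_card h1).toSylow fun e => h2 (by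
    rw [← card_J4, ← P.card_mul_index, h1, pow_succ]; exact Nat.mul_dvd_mul_left _ e)
  rcases h with rfl | rfl | rfl | rfl
  exacts [d U, c U, b U, a U]

/-- prime, `|N(P) : P|`, the proper divisors of it -/
def tab2 : List (ℕ × ℕ × List ℕ) :=
  [(43, 14, [1, 2, 7]), (37, 12, [1, 2, 3, 4, 6]), (29, 28, [1, 2, 4, 7, 14])]

/-- the counts in proper subgroups -/
noncomputable def ok2 (n : ℕ) : Bool := allL (fun x : ℕ × ℕ × List ℕ => cnd (Nat.beq (Nat.mod n x.1) 0)
  (cnd (Nat.beq n (Nat.mul x.1 x.2.1)) true (anyL (fun e => cg n (Nat.mul x.1 e) x.1) x.2.2)) true) tab2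

theorem ok2_of (hM : M ≠ ⊤) : ok2 (Nat.card M) = true := by
  refine allL_iff.2 fun x hx => ?_
  cases e1 : Nat.beq (Nat.mod (Nat.card M) x.1) 0
  · rfl
  obtain ⟨y, hy, a1, a2, a3, a4, a5⟩ := (by decide : ∀ x ∈ tab2, ∃ y ∈ tab, y.1 = x.1 ∧ y.2.1 = 1 ∧
    y.2.2.1 = x.2.1 ∧ (∀ e ∈ y.2.2.2, e = x.2.1 ∨ e ∈ x.2.2) ∧
    (y.1 = 43 ∨ y.1 = 37 ∨ y.1 = 29 ∨ y.1 = 11)) x hx
  obtain ⟨s, hs, ho⟩ := exists_order (a1 ▸ (tab_spec y hy).1) (Nat.dvd_of_mod_eq_zero (beq e1))
  have c1 : Nat.card (zpowers s) = y.1 ^ y.2.1 := by rw [Nat.card_zpowers, ho, a1, a2, pow_one]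
  obtain ⟨e, b1, b2, b3⟩ := fx.cong' hy (zpowers_le.2 hs) c1
  have b4 := fx.nrm y hy _ c1
  rw [a2, pow_one, a1] at b2 b3 b4
  rcases a4 e b1 with rfl | e2
  · have b5 := (eq_of_le_of_card_ge inf_le_right (b4.trans (a3 ▸ b2.symm)).le).ge.trans inf_le_left
    rw [(coatom_all a5 c1 (tab_spec y hy).2.1).le_iff_eq hM |>.1 b5, b4, a3]
    exact congrArg (cnd · true _) (Nat.beq_refl _)
  · rw [anyL_of e2 b3]
    cases Nat.beq (Nat.card M) _ <;> rfl

theorem pin (hM : M ≠ ⊤) {n : ℕ} (ha : a ∣ Nat.card M) (L : List (ℕ × ℕ)) {c : ℕ → Bool}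
    (hc : c (Nat.card M) = true) (e : (∀ x ∈ L, x.1 ∈ pws.map Prod.fst) ∧
      a * (L.map fun x => x.1 ^ x.2).prod = 86775571046077562880 ∧
      allDiv (fun m => cnd (fin n (fun m => band (c m) (ok2 m)) m) true (cnd (okB m) false true)) L a
        = true) : Nat.card M = n :=
  have := simple_J4
  (fx.fin_spec (fx.arith ha L _ e) (by rw [hc, ok2_of hM]; rfl)).resolve_right hM

theorem simple_of {s t : Cfsg.Spor.J4} {p e n : ℕ} (hs : s ∈ K) (ho : orderOf s = p)
    (hn : Nat.card K = n) (hN : Nat.card ↥(K ⊓ normalizer (zpowers s : Set Cfsg.Spor.J4)) = p * e)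
    (h1 : t ∈ K ⊓ normalizer (zpowers s : Set Cfsg.Spor.J4)) (h2 : t ∉ centralizer {s}) (L : List (ℕ × ℕ))
    (h : (p.Prime ∧ e.Prime ∧ ¬ p ^ 2 ∣ n ∧ ¬ n ∣ 322560) ∧ (∀ x ∈ L, x.1.Prime) ∧
      (L.map fun x => x.1 ^ x.2).prod = n ∧ allDiv (simB n p e) L 1 = true) : IsSimpleGroup K :=
  simple0 (fx.dvd K) (s := ⟨s, hs⟩) (t := ⟨t, h1.1⟩) (by rw [← ho, ← Subgroup.orderOf_coe]) hn
    (by rwa [norm_sub, card_subOf]) (norm_sub hs ▸ h1.2) (cent_sub hs ▸ h2) L h

theorem not_com {s : ℕ} {h : Cfsg.Spor.J4} (hs : MR h s) (ha : MR g a)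
    (e : neB (MG.mul2 112 a s) (MG.mul2 112 s a) = true) : g ∉ centralizer ({h} : Set Cfsg.Spor.J4) :=
  fun h0 => ne_of (ha.mul hs) (hs.mul ha) e (mem_centralizer_singleton_iff.1 h0)

/-- the subgroup generated by the matrices -/
noncomputable abbrev cl (P : List ℕ) : Subgroup Cfsg.Spor.J4 := closure {g | g ∈ P.map el}

theorem In.top (h : In K a) : In ⊤ a := ⟨_, trivial, h.mr⟩

theorem In.mono (h : In K a) (e : K ≤ M) : In M a := ⟨_, e h.mem, h.mr⟩

theorem cl_le' {P : List ℕ} (h : ∀ c ∈ P, In K c) : cl P ≤ K := cl_le fun c hc => (h c hc).mem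

/-- the evaluated list -/
noncomputable def frcL (f : ℕ → ℕ) (k : List ℕ → Bool) (L : List ℕ) : List ℕ → Bool :=
  List.rec k (fun W _ r A => frc (f W) fun y => r (y :: A)) L

theorem frcL_eq (f : ℕ → ℕ) (k : List ℕ → Bool) (L A : List ℕ) :
    frcL f k L A = k ((L.map f).reverse ++ A) := by
  induction L generalizing A with
  | nil => rfl
  | cons W L ih => exact (ih _).trans (by simp)

theorem of_anyL {f : ℕ → Bool} {L : List ℕ} (h : anyL f L = true) : ∃ a ∈ L, f a = true := by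
  induction L with
  | nil => exact absurd h Bool.false_ne_true
  | cons b L ih =>
    cases e : f b
    · obtain ⟨a, h1, h2⟩ := ih (by rwa [show anyL f (b :: L) = cnd (f b) true (anyL f L) from rfl, e] at h)
      exact ⟨a, List.mem_cons_of_mem _ h1, h2⟩
    · exact ⟨b, List.mem_cons_self, e⟩

/-- the words `L` give all elements of the subgroup generated by `P` -/
noncomputable def clB (P L : List ℕ) (k : List ℕ → Bool) : Bool :=
  frcL (wd P) (fun A => band (band (anyL (Nat.beq mone) A)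
    (ndp (fun y => Nat.mod (cn y) 2305843009213693951) A []))
    (band (allL (fun y => allL (fun c => frc (MG.mul2 112 y c) fun z => anyL (Nat.beq z) A) P) A)
      (k A))) L []

theorem card_cl {P L : List ℕ} {k : List ℕ → Bool} (h : ∀ c ∈ P, In ⊤ c) (e : clB P L k = true) :
    Nat.card (cl P) = L.length ∧ ∃ A, k A = true ∧ ∀ g ∈ cl P, ∃ y ∈ A, MR g y := by
  rw [clB, frcL_eq, List.append_nil] at e
  have h1 : ∀ y ∈ (L.map (wd P)).reverse, In (cl P) y := fun y hy => by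
    obtain ⟨W, -, rfl⟩ := List.mem_map.1 (List.mem_reverse.1 hy)
    exact in_wd (in_cl h) W
  have h2 : L.length = (L.map (wd P)).reverse.length := by simp
  generalize (L.map (wd P)).reverse = A at e h1 h2
  have h3 : ∀ c ∈ P, ∀ g, (∃ y ∈ A, MR g y) → ∃ y ∈ A, MR (g * el c) y := fun c hc g ⟨y, a, b⟩ => by
    obtain ⟨z, a1, a2⟩ := of_anyL (allL_iff.1 (allL_iff.1 (band_left (band_right e)) y a) c hc)
    exact ⟨z, a1, (b.mul (h c hc).mr).code a2⟩
  have h4 : ∀ g ∈ cl P, ∃ y ∈ A, MR g y := fun g hg => by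
    induction hg using closure_induction_right with
    | one =>
      obtain ⟨z, a1, a2⟩ := of_anyL (band_left (band_left e))
      exact ⟨z, a1, mr_one.code a2⟩
    | mul_right x _ y hy ih =>
      obtain ⟨c, hc, rfl⟩ := List.mem_map.1 hy
      exact h3 c hc x ih
    | mul_inv_cancel x _ y hy ih =>
      obtain ⟨c, hc, rfl⟩ := List.mem_map.1 hy
      obtain ⟨n, hn⟩ := mem_powers_iff_mem_zpowers.2 ((zpowers (el c)).inv_mem (mem_zpowers _))
      rw [← show el c ^ n = _ from hn]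
      clear hn
      induction n with
      | zero => simpa using ih
      | succ n ih => rw [pow_succ, ← mul_assoc]; exact h3 c hc _ ih
  refine ⟨h2 ▸ le_antisymm ?_ ?_, A, band_right (band_right e), h4⟩
  · classical
    refine (Set.ncard_le_ncard (s := (cl P : Set Cfsg.Spor.J4)) (t := ↑(A.map el).toFinset)
      fun g hg => ?_).trans ?_
    · obtain ⟨y, a, b⟩ := h4 g hg
      exact List.mem_toFinset.2 (List.mem_map.2 ⟨y, a, el_eq b⟩)
    · rw [Set.ncard_coe_finset, ← List.length_map el]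
      exact List.toFinset_card_le _
  · have h5 := le_of_pw bot_le (ys := A.map el) (List.forall_mem_map.2 fun y hy => (h1 y hy).mem)
      (List.pairwise_map.2 ((ndp_sound (band_right (band_left e))).2.imp_of_mem fun {a b} ha hb h6 h7 =>
        h6 (congrArg (Nat.mod · _) (cn_eq ((h1 a ha).mr.symm.trans
          (mul_inv_eq_one.1 (mem_bot.1 h7) ▸ (h1 b hb).mr))))))
    rwa [List.length_map, card_bot, mul_one] at h5

/-- the involutions are conjugate to `z` by words `L` in `P` -/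
noncomputable def fusB (z : ℕ) (P L A : List ℕ) : Bool :=
  frcL (wd P) (fun V => allL (fun y => cnd (Nat.beq y mone) true (cnd (neB (MG.mul2 112 y y) mone) true
    (anyL (fun v => Nat.beq (MG.mul2 112 y v) (MG.mul2 112 v z)) V))) A) L []

theorem fus_sound {z : ℕ} {P L : List ℕ} {h : Cfsg.Spor.J4} (hz : MR h z) (hP : ∀ c ∈ P, In M c)
    (e : ∃ A, fusB z P L A = true ∧ ∀ g ∈ K, ∃ y ∈ A, MR g y) :
    ∀ y ∈ K, orderOf y = 2 → ∃ v ∈ M, y * v = v * h := fun g hg ho => by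
  obtain ⟨A, e1, e2⟩ := e
  obtain ⟨y, a, b⟩ := e2 g hg
  rw [fusB, frcL_eq] at e1
  rcases cnd_beq (allL_iff.1 e1 y a) with ⟨e3, -⟩ | ⟨-, e3⟩
  · rw [eqB b mr_one (e3 ▸ Nat.beq_refl _), orderOf_one] at ho
    omega
  cases e4 : neB (MG.mul2 112 y y) mone
  · rw [e4] at e3
    obtain ⟨v, c1, c2⟩ := of_anyL e3
    obtain ⟨W, -, rfl⟩ := List.mem_map.1 (List.mem_reverse.1 (List.append_nil _ ▸ c1))
    exact ⟨_, (in_wd hP W).mem, eqB (b.mul (in_wd hP W).mr) ((in_wd hP W).mr.mul hz) c2⟩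
  · exact absurd (by rw [← pow_two, ← ho, pow_orderOf_eq_one]) (ne_of (b.mul b) mr_one e4)

theorem in_val {P L Q : List ℕ} (h : ∀ c ∈ P, In K c) (e : valB P L Q = true) : ∀ c ∈ Q, In K c :=
  fun c hc => let ⟨W, _, e1⟩ := of_anyL (allL_iff.1 e c hc); (in_wd h W).code e1

theorem cen11 {s t : Cfsg.Spor.J4} (hs : orderOf s = 11) (ht : orderOf t = 11)
    (h3 : 3 ∣ Nat.card (centralizer ({t} : Set Cfsg.Spor.J4))) (h : ¬ IsConj s t) :
    Nat.card (normalizer (zpowers s : Set Cfsg.Spor.J4)) ≤ 2420 := by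
  have := simple_J4
  obtain ⟨z, x, g, w, U, p, v, ρ, κ, t, -, k⟩ := J4D.exists_el jankoFour
  have h1 : ∀ a : Cfsg.Spor.J4, orderOf a = 11 → IsConj g a ∨
      Nat.card (centralizer ({a} : Set Cfsg.Spor.J4)) = 242 := fun a ha =>
    ((k.classes (IsPGroup.of_card (n := 1) (G := zpowers a) (by
      rw [Nat.card_zpowers, ha, pow_one]))).resolve_left (by rintro rfl; simp at ha)).imp_right
      fun e => (card_cent_of_conj e).trans k.cw
  obtain ⟨m, h4, h5⟩ := card_norm_zp (by norm_num) hs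
  rw [h5, (h1 s hs).resolve_left fun e => h (e.symm.trans ((h1 _ ht).resolve_right (by omega)))]
  exact Nat.mul_le_mul_left 242 (Nat.le_of_dvd (by norm_num) h4)

theorem brB_app {P Q ps : List ℕ} {gd : ℕ → Bool} {L L' : List (ℕ × ℕ)} (h : brB P Q ps gd L = true)
    (h' : brB P Q ps gd L' = true) : brB P Q ps gd (L ++ L') = true :=
  allL_iff.2 (List.forall_mem_append.2 ⟨allL_iff.1 h, allL_iff.1 h'⟩)

theorem brute1 {A : Subgroup Cfsg.Spor.J4} (hA : A ≤ K) (hM : A ≤ M) {P Q ps : List ℕ}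
    {L : List (ℕ × ℕ)} (h : ∀ c ∈ P, In K c) (hQ : ∀ c ∈ Q, In M c) {m : ℕ}
    (e1 : (∀ y ∈ (L.map Prod.fst).map fun W => el (wd P W), y ∈ K) ∧
      ((L.map Prod.fst).map fun W => el (wd P W)).Pairwise fun a b => a * b⁻¹ ∉ A)
    (e2 : brB P Q ps (fun y => Nat.beq y mone) L = true) (hc : Nat.card K ≤ L.length * m)
    (hm : m ≤ Nat.card A) (h0 : ¬ ∀ p ∈ ps, p.Prime → p ∣ Nat.card M) : M ⊓ K = A ∧ Nat.card A = m :=
  eq_of_cov hA e1.1 e1.2 (by rwa [List.length_map, List.length_map]) hm hM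
    (List.forall_mem_map.2 fun _ hW hy => mem_bot.1 ((br_one (D := ⊥) h hQ
      (fun _ h e => eqB h.mr mr_one e) e2 hW hy).resolve_right h0))

end Cfsg.Lib.Spor.J4X
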