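import Cfsg.Agent.Spor.LyCD0

/-! Generated certificate checks. -/

set_option autoImplicit false
set_option maxRecDepth 100000
set_option linter.unusedVariables false
set_option linter.unusedSectionVars false

namespace Cfsg.Lib.Spor.LyC

open Cfsg.Lib.Spor.MG Cfsg.Lib.Spor.Bulk Cfsg.Lib.Spor.LyP Cfsg.Lib.Spor.LyU

variable {M : Type} [Monoid M] [Finite M] (I : Impl CF.O M) {X : Type} [MulAction M X] (B : BImpl I V X)
include I B

theorem ah100001 : I.AllS P (I.gen LyU.P SH) (msk (mapL hd L100000)) :=
  (allH0 I B).repool L100000 (by decide +kernel)

theorem a100004 : I.AllS P (I.gen LyU.P SH) m100003 :=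
  (ah100001 I B).ext L100002 (by decide +kernel)

theorem hT : I.InS (I.gen LyU.P SH) (P iT) :=
  (a100004 I B).tb (by decide +kernel)

theorem hX : I.InS (I.gen LyU.P SH) (P iX) :=
  (a100004 I B).tb (by decide +kernel)

theorem a100007 : I.AllS P (I.gen LyU.P SH) m100006 :=
  (a100004 I B).ext L100005 (by decide +kernel)

theorem lowX : 15489 * Nat.card (Subgroup.centralizer ({⟨I.u (P 29), (hX I B).u_mem⟩} : Set (I.gen LyU.P SH))) ≤ Nat.card (I.gen LyU.P SH) :=
  B.class_low (a100007 I B) (hX I B) 0x400000000000000000000000000000000003000000000000000000000000000000000000000000000000000000000000000000000400000000000000000000000000000000001000000000000000000000000000000000010000000000000000000000000000000000100000000000000000000000000000000004000000000000000000000000000000000000000000000000000000000000000000000200000000000000000000000000000000000000000000000000000000000000000000030000000000000000000000000000000000300000000000000000000000000000000004 C100068 Q100050 15489 (by decide +kernel)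

theorem centX : Nat.card (I.gen LyU.P SH) ≤ 5859000000 → Nat.card (Subgroup.centralizer ({⟨I.u (P iX), (hX I B).u_mem⟩} : Set (I.gen LyU.P SH))) ≤ cX :=
  fun h => le_of_class ((lowX I B).trans h) (by decide +kernel)

end Cfsg.Lib.Spor.LyC
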