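import Cfsg.Agent.Spor.PresBridge
import Cfsg.Prelude.Def_Spor_Ly

set_option autoImplicit false
set_option maxRecDepth 100000

namespace Cfsg.Lib.Spor.LyP

open Cfsg.Lib.Spor.Bulk

/-- inversion of letters -/
noncomputable def iota : ℕ → ℕ := getN 0 [0,2,1,4,3,6,5,8,7,10,9,11,13,12,15,14,17,16,19,18,21,20,23,22,25,24,27,26,29,28,31,30,33,32,35,34,37,36,39,38,41,40,43,42,45,44,47,46,49,48,51,50,53,52,55,54,57,56,59,58,61,60,63,62,65,64,67,66,69,68,71,70,73,72,75,74,77,76]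

/-- the letters -/
noncomputable def D : PresData Cfsg.Spor.Ly.Gen where
  k := 78
  ι := iota
  lt := fun v => match v with
    | .a => 1
    | .b => 3
    | .c => 5
    | .d => 7
    | .z => 9
    | .e => 11
    | .a1 => 12
    | .a2 => 14
    | .a3 => 16
    | .a4 => 18
    | .c1 => 20
    | .c2 => 22
    | .c3 => 24
    | .c4 => 26
    | .c5 => 28
    | .u => 30
    | .x23 => 32
    | .x24 => 34
    | .x25 => 36
    | .x29 => 38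
    | .x47 => 40
    | .x96 => 42
    | .x129 => 44
    | .x162 => 46
    | .x163 => 48
    | .x164 => 50
    | .x165 => 52
    | .x166 => 54
    | .x167 => 56
    | .x168 => 58
    | .x169 => 60
    | .x364 => 62
    | .x365 => 64
    | .x366 => 66
    | .x367 => 68
    | .x368 => 70
    | .x369 => 72
    | .x370 => 74
    | .x371 => 76
  gn := getN .a [.a, .a, .a, .b, .b, .c, .c, .d, .d, .z, .z, .e, .a1, .a1, .a2, .a2, .a3, .a3, .a4, .a4, .c1, .c1, .c2, .c2, .c3, .c3, .c4, .c4, .c5, .c5, .u, .u, .x23, .x23, .x24, .x24, .x25, .x25, .x29, .x29, .x47, .x47, .x96, .x96, .x129, .x129, .x162, .x162, .x163, .x163, .x164, .x164, .x165, .x165, .x166, .x166, .x167, .x167, .x168, .x168, .x169, .x169, .x364, .x364, .x365, .x365, .x366, .x366, .x367, .x367, .x368, .x368, .x369, .x369, .x370, .x370, .x371, .x371]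
  exs := [(.pow (.gen 1) 8),
    (.pow (.gen 3) 5),
    (.pow (.mul (.gen 1) (.gen 3)) 4),
    (.mul (.mul (.mul (.inv (.pow (.gen 1) 2)) (.inv (.gen 3))) (.pow (.gen 1) 2)) (.gen 3)),
    (.pow (.mul (.mul (.mul (.inv (.gen 1)) (.inv (.gen 3))) (.gen 1)) (.gen 3)) 3),
    (.mul (.gen 20) (.inv (.gen 5))),
    (.mul (.gen 22) (.inv (.mul (.mul (.inv (.gen 1)) (.gen 5)) (.gen 1)))),
    (.mul (.gen 24) (.inv (.mul (.mul (.inv (.gen 3)) (.gen 5)) (.gen 3)))),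
    (.mul (.gen 26) (.inv (.mul (.mul (.inv (.inv (.gen 3))) (.gen 5)) (.inv (.gen 3))))),
    (.mul (.gen 28) (.inv (.mul (.mul (.mul (.inv (.gen 20)) (.inv (.gen 22))) (.gen 20)) (.gen 22)))),
    (.pow (.gen 20) 5),
    (.pow (.gen 28) 5),
    (.mul (.mul (.mul (.inv (.gen 20)) (.inv (.gen 28))) (.gen 20)) (.gen 28)),
    (.mul (.mul (.mul (.inv (.gen 22)) (.inv (.gen 28))) (.gen 22)) (.gen 28)),
    (.mul (.mul (.mul (.inv (.gen 24)) (.inv (.gen 28))) (.gen 24)) (.gen 28)),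
    (.mul (.mul (.mul (.inv (.gen 26)) (.inv (.gen 28))) (.gen 26)) (.gen 28)),
    (.mul (.mul (.mul (.mul (.inv (.gen 20)) (.inv (.gen 24))) (.gen 20)) (.gen 24)) (.inv (.inv (.pow (.gen 28) 2)))),
    (.mul (.mul (.mul (.mul (.inv (.gen 20)) (.inv (.gen 26))) (.gen 20)) (.gen 26)) (.inv (.pow (.gen 28) 2))),
    (.mul (.mul (.mul (.mul (.inv (.gen 22)) (.inv (.gen 24))) (.gen 22)) (.gen 24)) (.inv (.inv (.gen 28)))),
    (.mul (.mul (.mul (.inv (.gen 22)) (.inv (.gen 26))) (.gen 22)) (.gen 26)),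
    (.mul (.mul (.mul (.mul (.inv (.gen 24)) (.inv (.gen 26))) (.gen 24)) (.gen 26)) (.inv (.inv (.gen 28)))),
    (.mul (.mul (.mul (.inv (.gen 1)) (.gen 22)) (.gen 1)) (.inv (.inv (.pow (.gen 20) 2)))),
    (.mul (.mul (.mul (.inv (.gen 1)) (.gen 24)) (.gen 1)) (.inv (.mul (.mul (.inv (.pow (.gen 24) 2)) (.gen 20)) (.gen 26)))),
    (.mul (.mul (.mul (.inv (.gen 1)) (.gen 26)) (.gen 1)) (.inv (.mul (.mul (.mul (.mul (.mul (.gen 20) (.inv (.gen 22))) (.inv (.gen 24))) (.gen 26)) (.gen 20)) (.gen 26)))),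
    (.mul (.mul (.mul (.inv (.gen 1)) (.gen 28)) (.gen 1)) (.inv (.pow (.gen 28) 2))),
    (.mul (.mul (.mul (.inv (.gen 3)) (.gen 22)) (.gen 3)) (.inv (.mul (.mul (.mul (.mul (.gen 22) (.gen 24)) (.inv (.gen 26))) (.inv (.gen 20))) (.inv (.gen 26))))),
    (.mul (.mul (.mul (.inv (.gen 3)) (.gen 24)) (.gen 3)) (.inv (.mul (.mul (.pow (.gen 20) 2) (.gen 26)) (.inv (.pow (.gen 24) 2))))),
    (.mul (.mul (.mul (.inv (.gen 3)) (.gen 28)) (.gen 3)) (.inv (.gen 28))),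
    (.mul (.gen 11) (.inv (.mul (.mul (.mul (.mul (.mul (.mul (.mul (.mul (.mul (.mul (.mul (.mul (.inv (.pow (.gen 3) 2)) (.mul (.mul (.mul (.inv (.gen 1)) (.inv (.gen 20))) (.gen 1)) (.gen 20))) (.inv (.gen 1))) (.gen 20)) (.gen 1)) (.gen 7)) (.gen 20)) (.gen 3)) (.gen 1)) (.inv (.gen 3))) (.gen 7)) (.gen 20)) (.gen 7)))),
    (.pow (.gen 11) 2),
    (.mul (.mul (.mul (.inv (.gen 11)) (.gen 20)) (.gen 11)) (.inv (.mul (.mul (.mul (.gen 3) (.gen 24)) (.gen 3)) (.inv (.gen 20))))),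
    (.mul (.mul (.mul (.inv (.gen 11)) (.gen 24)) (.gen 11)) (.inv (.mul (.mul (.mul (.mul (.mul (.pow (.gen 3) 2) (.gen 1)) (.gen 22)) (.inv (.gen 20))) (.inv (.gen 26))) (.inv (.gen 1))))),
    (.mul (.mul (.mul (.inv (.gen 11)) (.gen 26)) (.gen 11)) (.inv (.mul (.mul (.pow (.gen 3) 2) (.inv (.gen 24))) (.gen 26)))),
    (.mul (.mul (.mul (.inv (.gen 11)) (.gen 28)) (.gen 11)) (.inv (.mul (.mul (.mul (.gen 20) (.inv (.gen 24))) (.gen 20)) (.inv (.gen 26))))),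
    (.mul (.mul (.mul (.gen 11) (.pow (.gen 1) 2)) (.gen 11)) (.inv (.mul (.mul (.mul (.mul (.mul (.mul (.mul (.gen 1) (.pow (.gen 3) 2)) (.gen 1)) (.inv (.gen 3))) (.gen 1)) (.gen 20)) (.gen 28)) (.inv (.gen 26))))),
    (.mul (.mul (.mul (.inv (.gen 11)) (.gen 3)) (.gen 11)) (.inv (.mul (.mul (.gen 20) (.inv (.gen 24))) (.inv (.pow (.gen 26) 2))))),
    (.mul (.mul (.mul (.mul (.mul (.mul (.mul (.gen 11) (.gen 1)) (.pow (.gen 3) 2)) (.gen 1)) (.inv (.gen 3))) (.gen 1)) (.gen 11)) (.inv (.mul (.mul (.mul (.pow (.gen 1) 2) (.gen 20)) (.gen 28)) (.inv (.gen 26))))),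
    (.mul (.mul (.mul (.mul (.mul (.mul (.mul (.mul (.mul (.gen 11) (.gen 22)) (.gen 11)) (.inv (.gen 22))) (.gen 11)) (.gen 22)) (.inv (.gen 26))) (.gen 1)) (.gen 24)) (.pow (.gen 1) 3)),
    (.mul (.gen 7) (.inv (.mul (.mul (.mul (.mul (.mul (.mul (.mul (.mul (.mul (.mul (.mul (.mul (.mul (.mul (.gen 1) (.pow (.gen 3) 2)) (.inv (.gen 1))) (.inv (.gen 3))) (.inv (.gen 20))) (.inv (.gen 26))) (.inv (.gen 28))) (.gen 1)) (.gen 11)) (.gen 1)) (.gen 11)) (.gen 1)) (.inv (.gen 22))) (.gen 3)) (.gen 11)))),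
    (.mul (.pow (.gen 7) 2) (.inv (.pow (.gen 1) 4))),
    (.mul (.mul (.mul (.inv (.gen 3)) (.inv (.gen 7))) (.gen 3)) (.gen 7)),
    (.mul (.mul (.mul (.inv (.gen 7)) (.gen 1)) (.gen 7)) (.inv (.pow (.gen 1) 3))),
    (.pow (.mul (.gen 7) (.gen 28)) 5),
    (.mul (.mul (.mul (.mul (.mul (.mul (.gen 7) (.gen 28)) (.gen 7)) (.inv (.gen 28))) (.gen 7)) (.gen 28)) (.inv (.pow (.gen 1) 2))),
    (.mul (.gen 12) (.inv (.gen 1))),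
    (.mul (.gen 14) (.inv (.mul (.mul (.inv (.inv (.gen 3))) (.gen 1)) (.inv (.gen 3))))),
    (.mul (.gen 16) (.inv (.mul (.mul (.inv (.inv (.pow (.gen 3) 2))) (.gen 1)) (.inv (.pow (.gen 3) 2))))),
    (.mul (.gen 18) (.inv (.mul (.mul (.inv (.pow (.gen 3) 2)) (.gen 1)) (.pow (.gen 3) 2)))),
    (.mul (.gen 30) (.inv (.pow (.gen 1) 2))),
    (.mul (.gen 32) (.inv (.gen 7))),
    (.mul (.gen 34) (.inv (.inv (.gen 7)))),
    (.mul (.gen 36) (.inv (.mul (.mul (.mul (.mul (.mul (.mul (.mul (.mul (.mul (.mul (.mul (.mul (.mul (.mul (.mul (.pow (.gen 3) 2) (.inv (.gen 1))) (.inv (.gen 3))) (.inv (.gen 1))) (.pow (.gen 3) 2)) (.inv (.gen 5))) (.gen 1)) (.gen 5)) (.inv (.gen 1))) (.inv (.gen 5))) (.gen 7)) (.inv (.gen 5))) (.pow (.gen 3) 2)) (.inv (.gen 1))) (.gen 5)) (.gen 3)))),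
    (.mul (.gen 38) (.inv (.mul (.mul (.mul (.mul (.mul (.mul (.mul (.mul (.mul (.mul (.mul (.mul (.mul (.mul (.mul (.mul (.mul (.mul (.gen 1) (.gen 3)) (.inv (.gen 1))) (.pow (.gen 3) 2)) (.inv (.gen 1))) (.pow (.gen 3) 2)) (.inv (.gen 5))) (.gen 1)) (.gen 5)) (.gen 3)) (.gen 5)) (.inv (.gen 3))) (.gen 7)) (.gen 5)) (.inv (.pow (.gen 3) 2))) (.gen 7)) (.gen 5)) (.gen 3)) (.gen 5)))),
    (.mul (.gen 40) (.inv (.mul (.mul (.mul (.mul (.mul (.mul (.mul (.inv (.gen 5)) (.inv (.gen 7))) (.inv (.gen 1))) (.inv (.gen 5))) (.inv (.gen 1))) (.gen 3)) (.inv (.gen 5))) (.inv (.gen 7))))),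
    (.mul (.gen 42) (.inv (.mul (.gen 3) (.gen 7)))),
    (.mul (.gen 44) (.inv (.mul (.inv (.gen 7)) (.inv (.gen 3))))),
    (.mul (.gen 46) (.inv (.mul (.mul (.mul (.mul (.mul (.mul (.mul (.mul (.mul (.inv (.gen 1)) (.inv (.gen 3))) (.inv (.gen 1))) (.gen 3)) (.inv (.gen 5))) (.inv (.gen 3))) (.gen 1)) (.inv (.gen 5))) (.gen 3)) (.gen 1)))),
    (.mul (.gen 48) (.inv (.mul (.mul (.mul (.mul (.mul (.mul (.inv (.pow (.gen 3) 2)) (.gen 1)) (.gen 5)) (.inv (.gen 1))) (.gen 3)) (.gen 5)) (.gen 3)))),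
    (.mul (.gen 50) (.inv (.mul (.mul (.mul (.mul (.mul (.mul (.inv (.gen 1)) (.inv (.gen 3))) (.inv (.gen 1))) (.gen 5)) (.gen 1)) (.gen 3)) (.gen 1)))),
    (.mul (.gen 52) (.inv (.mul (.mul (.mul (.mul (.mul (.mul (.inv (.gen 3)) (.inv (.gen 1))) (.gen 3)) (.gen 5)) (.inv (.gen 3))) (.gen 1)) (.gen 3)))),
    (.mul (.gen 54) (.inv (.mul (.mul (.mul (.mul (.mul (.mul (.mul (.mul (.pow (.gen 3) 2) (.inv (.gen 1))) (.inv (.gen 3))) (.gen 5)) (.gen 3)) (.gen 1)) (.gen 5)) (.inv (.pow (.gen 3) 2))) (.inv (.gen 5))))),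
    (.mul (.gen 56) (.inv (.inv (.pow (.gen 1) 3)))),
    (.mul (.gen 58) (.inv (.mul (.mul (.mul (.gen 3) (.inv (.gen 1))) (.inv (.gen 3))) (.inv (.pow (.gen 1) 2))))),
    (.mul (.gen 60) (.inv (.mul (.mul (.mul (.mul (.gen 1) (.pow (.gen 3) 2)) (.gen 1)) (.inv (.pow (.gen 3) 2))) (.inv (.gen 1))))),
    (.mul (.gen 62) (.inv (.mul (.mul (.mul (.mul (.mul (.mul (.mul (.mul (.mul (.mul (.mul (.mul (.mul (.mul (.mul (.mul (.mul (.mul (.inv (.gen 1)) (.gen 7)) (.inv (.gen 3))) (.inv (.gen 5))) (.inv (.gen 1))) (.gen 3)) (.inv (.gen 5))) (.inv (.gen 7))) (.gen 3)) (.inv (.gen 5))) (.inv (.gen 3))) (.inv (.gen 1))) (.inv (.gen 5))) (.gen 1)) (.inv (.gen 3))) (.gen 1)) (.gen 3)) (.gen 1)) (.inv (.gen 3))))),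
    (.mul (.gen 64) (.inv (.mul (.mul (.mul (.mul (.mul (.mul (.mul (.mul (.mul (.mul (.mul (.mul (.mul (.mul (.mul (.mul (.gen 1) (.inv (.pow (.gen 3) 2))) (.inv (.gen 1))) (.gen 5)) (.gen 3)) (.inv (.gen 5))) (.gen 3)) (.inv (.gen 1))) (.inv (.pow (.gen 5) 2))) (.gen 7)) (.gen 5)) (.gen 1)) (.gen 5)) (.inv (.gen 1))) (.gen 5)) (.inv (.gen 3))) (.inv (.gen 7))))),
    (.mul (.gen 66) (.inv (.mul (.mul (.mul (.mul (.mul (.mul (.mul (.mul (.mul (.mul (.mul (.mul (.mul (.mul (.mul (.mul (.mul (.gen 3) (.gen 1)) (.inv (.gen 3))) (.inv (.gen 1))) (.inv (.pow (.gen 3) 2))) (.inv (.gen 1))) (.inv (.gen 3))) (.gen 5)) (.pow (.gen 3) 2)) (.gen 5)) (.gen 3)) (.gen 7)) (.gen 5)) (.inv (.pow (.gen 3) 2))) (.gen 7)) (.gen 5)) (.gen 3)) (.gen 5)))),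
    (.mul (.gen 68) (.inv (.mul (.mul (.mul (.mul (.mul (.mul (.mul (.mul (.mul (.mul (.mul (.mul (.mul (.mul (.mul (.mul (.mul (.inv (.gen 5)) (.inv (.gen 3))) (.inv (.gen 5))) (.inv (.gen 7))) (.pow (.gen 3) 2)) (.inv (.gen 5))) (.inv (.gen 7))) (.inv (.gen 3))) (.inv (.gen 5))) (.inv (.pow (.gen 3) 2))) (.inv (.gen 5))) (.gen 3)) (.gen 1)) (.pow (.gen 3) 2)) (.gen 1)) (.gen 3)) (.inv (.gen 1))) (.inv (.gen 3))))),
    (.mul (.gen 70) (.inv (.mul (.mul (.mul (.mul (.mul (.mul (.mul (.mul (.mul (.mul (.mul (.mul (.mul (.mul (.mul (.mul (.mul (.inv (.gen 1)) (.inv (.gen 5))) (.inv (.gen 7))) (.gen 1)) (.inv (.gen 5))) (.inv (.gen 3))) (.gen 1)) (.inv (.gen 5))) (.inv (.gen 7))) (.inv (.gen 1))) (.inv (.gen 5))) (.gen 1)) (.gen 5)) (.inv (.pow (.gen 3) 2))) (.inv (.gen 5))) (.inv (.gen 3))) (.inv (.gen 1))) (.inv (.pow (.gen 3) 2))))),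
    (.mul (.gen 72) (.inv (.mul (.mul (.mul (.mul (.mul (.mul (.mul (.mul (.mul (.mul (.mul (.mul (.mul (.mul (.mul (.mul (.inv (.gen 1)) (.inv (.gen 5))) (.inv (.gen 7))) (.gen 3)) (.inv (.gen 1))) (.inv (.gen 3))) (.inv (.gen 5))) (.inv (.gen 7))) (.gen 3)) (.inv (.gen 1))) (.inv (.gen 3))) (.inv (.gen 5))) (.inv (.gen 3))) (.gen 1)) (.inv (.pow (.gen 3) 2))) (.gen 1)) (.inv (.gen 3))))),
    (.mul (.gen 74) (.inv (.mul (.mul (.mul (.mul (.mul (.mul (.mul (.mul (.mul (.mul (.mul (.mul (.mul (.mul (.mul (.mul (.inv (.gen 7)) (.gen 1)) (.gen 5)) (.gen 3)) (.gen 5)) (.inv (.gen 1))) (.inv (.gen 5))) (.inv (.gen 7))) (.gen 1)) (.inv (.gen 3))) (.inv (.gen 1))) (.gen 5)) (.inv (.gen 1))) (.inv (.pow (.gen 3) 2))) (.inv (.gen 1))) (.gen 3)) (.inv (.gen 1))))),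
    (.mul (.gen 76) (.inv (.mul (.mul (.mul (.mul (.mul (.mul (.mul (.mul (.mul (.mul (.mul (.mul (.mul (.mul (.mul (.inv (.gen 5)) (.inv (.gen 1))) (.gen 5)) (.gen 3)) (.inv (.gen 5))) (.inv (.gen 7))) (.gen 5)) (.inv (.gen 1))) (.gen 5)) (.gen 1)) (.gen 5)) (.inv (.gen 3))) (.inv (.gen 1))) (.inv (.gen 3))) (.inv (.gen 1))) (.gen 3)))),
    (.mul (.mul (.mul (.inv (.gen 9)) (.gen 20)) (.gen 9)) (.inv (.gen 46))),
    (.mul (.mul (.mul (.inv (.gen 9)) (.gen 22)) (.gen 9)) (.inv (.gen 48))),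
    (.mul (.mul (.mul (.inv (.gen 9)) (.gen 24)) (.gen 9)) (.inv (.gen 50))),
    (.mul (.mul (.mul (.inv (.gen 9)) (.gen 26)) (.gen 9)) (.inv (.gen 52))),
    (.mul (.mul (.mul (.inv (.gen 9)) (.gen 28)) (.gen 9)) (.inv (.gen 54))),
    (.mul (.mul (.mul (.inv (.gen 9)) (.gen 12)) (.gen 9)) (.inv (.gen 56))),
    (.mul (.mul (.mul (.inv (.gen 9)) (.gen 14)) (.gen 9)) (.inv (.gen 58))),
    (.mul (.mul (.mul (.inv (.gen 9)) (.gen 16)) (.gen 9)) (.inv (.gen 60))),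
    (.mul (.pow (.gen 9) 2) (.inv (.gen 30))),
    (.mul (.pow (.mul (.gen 18) (.gen 9)) 3) (.gen 30)),
    (.mul (.mul (.mul (.mul (.mul (.gen 40) (.gen 9)) (.gen 62)) (.gen 9)) (.gen 70)) (.gen 9)),
    (.mul (.mul (.mul (.mul (.mul (.mul (.mul (.inv (.gen 9)) (.gen 34)) (.inv (.gen 9))) (.gen 72)) (.gen 9)) (.gen 32)) (.gen 9)) (.gen 38)),
    (.mul (.mul (.mul (.mul (.mul (.mul (.mul (.gen 9) (.gen 66)) (.gen 9)) (.gen 64)) (.inv (.gen 9))) (.gen 68)) (.inv (.gen 9))) (.gen 74)),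
    (.mul (.mul (.mul (.mul (.mul (.mul (.mul (.gen 9) (.gen 42)) (.gen 9)) (.gen 36)) (.inv (.gen 9))) (.gen 44)) (.inv (.gen 9))) (.gen 76))]

set_option synthInstance.maxSize 4000 in
theorem ok : D.Ok Cfsg.Spor.Ly.edges Cfsg.Spor.Ly.extra :=
  ⟨fun v => by cases v <;> decide +kernel, by decide +kernel, by decide +kernel, by decide +kernel, rfl⟩

/-- the relators -/
def R : List (List ℕ) := [[1,1,1,1,1,1,1,1],[3,3,3,3,3],[3,1,3,1,3,1,3,1],[3,1,1,4,2,2],[3,1,4,2,3,1,4,2,3,1,4,2],[6,20],[1,6,2,22],[3,6,4,24],[4,6,3,26],[20,22,21,23,28],[20,20,20,20,20],[28,28,28,28,28],[28,20,29,21],[28,22,29,23],[28,24,29,25],[28,26,29,27],[28,28,24,20,25,21],[29,29,26,20,27,21],[28,24,22,25,23],[26,22,27,23],[28,26,24,27,25],[20,20,1,22,2],[24,24,21,27,1,24,2],[21,22,24,27,21,27,1,26,2],[29,29,1,28,2],[23,25,26,20,26,3,22,4],[21,21,27,24,24,3,24,4],[29,3,28,4],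[3,3,1,20,2,21,1,21,2,8,21,4,2,3,8,21,8,11],[4,25,4,20,11,20,11],[4,4,2,23,20,26,1,11,24,11],[4,4,24,27,11,26,11],[21,24,21,26,11,28,11],[2,4,4,2,3,2,21,29,26,11,1,1,11],[21,24,26,26,11,3,11],[2,2,21,29,26,11,1,4,1,3,3,1,11],[1,1,1,24,1,27,22,11,23,11,22,11],[2,4,4,1,3,20,26,28,2,11,2,11,2,22,4,11,7],[2,2,2,2,7,7],[7,3,8,4],[2,2,2,7,1,8],[28,7,28,7,28,7,28,7,28,7],[2,2,28,7,29,7,28,7],[2,12],[4,2,3,14],[4,4,2,3,3,16],[3,3,2,4,4,18],[2,2,30],[8,32],[7,34],[4,4,1,3,1,4,4,5,2,6,1,5,8,5,4,4,1,6,4,36],[2,4,1,4,4,1,4,4,5,2,6,4,6,3,8,6,3,3,8,6,4,6,38],[5,7,1,5,1,4,5,7,40],[4,8,42],[7,3,44],[1,3,1,4,5,3,2,5,4,2,46],[3,3,2,6,1,4,6,4,48],[1,3,1,6,2,4,2,50],[3,1,4,6,3,2,4,52],[4,4,1,3,6,4,2,6,3,3,5,54],[1,1,1,56],[4,1,3,1,1,58],[2,4,4,2,3,3,1,60],[1,8,3,5,1,4,5,7,4,5,3,1,5,2,3,2,4,2,3,62],[2,3,3,1,6,4,5,4,1,5,5,8,6,2,6,1,6,3,7,64],[4,2,3,1,3,3,1,3,6,4,4,6,4,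8,6,3,3,8,6,4,6,66],[5,3,5,7,4,4,5,7,3,5,3,3,5,4,2,4,4,2,4,1,3,68],[1,5,7,2,5,3,2,5,7,1,5,2,6,3,3,5,3,1,3,3,70],[1,5,7,4,1,3,5,7,4,1,3,5,3,2,3,3,2,3,72],[7,2,6,4,6,1,5,7,2,3,1,6,1,3,3,1,4,1,74],[5,1,6,4,5,7,6,1,6,2,6,3,1,3,1,4,76],[47,9,20,10],[49,9,22,10],[51,9,24,10],[53,9,26,10],[55,9,28,10],[57,9,12,10],[59,9,14,10],[61,9,16,10],[31,9,9],[30,9,18,9,18,9,18],[9,70,9,62,9,40],[38,9,32,9,72,10,34,10],[74,10,68,10,64,9,66,9],[76,10,44,10,36,9,42,9]]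

/-- the letters as elements of the presented group -/
noncomputable def g0 : ℕ → Cfsg.Spor.Ly := D.g0 Cfsg.Spor.Ly.edges Cfsg.Spor.Ly.extra

theorem sat : Sat g0 78 iota R := ok.sat.deriv (E := [(0,0),(1,0),(2,0),(3,0),(4,0),(5,0),(6,0),(7,0),(8,0),(9,0),(10,0),(11,0),(12,0),(13,0),(14,0),(15,0),(16,0),(17,0),(18,0),(19,0),(20,0),(21,0),(22,0),(23,0),(24,0),(25,0),(26,0),(27,0),(28,0),(30,0),(31,0),(32,0),(33,0),(34,0),(35,0),(36,0),(37,0),(38,0),(39,0),(40,0),(41,0),(42,0),(43,0),(44,0),(45,0),(46,0),(47,0),(48,0),(49,0),(50,0),(51,0),(52,0),(53,0),(54,0),(55,0),(56,0),(57,0),(58,0),(59,0),(60,0),(61,0),(62,0),(63,0),(64,0),(65,0),(66,0),(67,0),(68,0),(69,0),(70,0),(71,0),(72,0),(73,0),(74,0),(75,0),(76,0),(77,0),(78,0),(79,0),(80,0),(81,0),(82,0),(83,0),(84,0),(85,0)]) (by decide +kernel)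

theorem sat_raw {G : Type*} [Group G] {g : ℕ → G} (hg : Sat g 78 iota R) :
    Sat g D.k D.ι (D.raw Cfsg.Spor.Ly.edges) := hg.deriv (E := [(0,0),(1,0),(2,0),(3,0),(4,0),(5,0),(6,0),(7,0),(8,0),(9,0),(10,0),(11,0),(12,0),(13,0),(14,0),(15,0),(16,0),(17,0),(18,0),(19,0),(20,0),(21,0),(22,0),(23,0),(24,0),(25,0),(26,0),(27,0),(28,0),(85,0),(29,0),(30,0),(31,0),(32,0),(33,0),(34,0),(35,0),(36,0),(37,0),(38,0),(39,0),(40,0),(41,0),(42,0),(43,0),(44,0),(45,0),(46,0),(47,0),(48,0),(49,0),(50,0),(51,0),(52,0),(53,0),(54,0),(55,0),(56,0),(57,0),(58,0),(59,0),(60,0),(61,0),(62,0),(63,0),(64,0),(65,0),(66,0),(67,0),(68,0),(69,0),(70,0),(71,0),(72,0),(73,0),(74,0),(75,0),(76,0),(77,0),(78,0),(79,0),(80,0),(81,0),(82,0),(83,0),(84,0)]) (by decide +kernel)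

/-- the homomorphism defined by elements satisfying the relators -/
noncomputable def hom {G : Type*} [Group G] {g : ℕ → G} (hg : Sat g 78 iota R) : Cfsg.Spor.Ly →* G :=
  ok.hom (sat_raw hg)

theorem hom_g0 {G : Type*} [Group G] {g : ℕ → G} (hg : Sat g 78 iota R) :
    ∀ l < 78, hom hg (g0 l) = g l := ok.hom_g0 (sat_raw hg)

theorem top : gL g0 [1,2,3,4,5,6,7,8,9,10,11,12,13,14,15,16,17,18,19,20,21,22,23,24,25,26,27,28,29,30,31,32,33,34,35,36,37,38,39,40,41,42,43,44,45,46,47,48,49,50,51,52,53,54,55,56,57,58,59,60,61,62,63,64,65,66,67,68,69,70,71,72,73,74,75,76,77] = ⊤ := ok.closure_top fun v => by cases v <;> decide +kernel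

end Cfsg.Lib.Spor.LyP
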