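import Cfsg.Agent.Spor.LyUD0

/-! Generated certificate checks. -/

set_option autoImplicit false
set_option maxRecDepth 100000
set_option linter.unusedVariables false
set_option linter.unusedSectionVars false

namespace Cfsg.Lib.Spor.LyU

open Cfsg.Lib.Spor.MG Cfsg.Lib.Spor.Bulk Cfsg.Lib.Spor.LyP

variable {M : Type} [Monoid M] [Finite M] (I : Impl CF.O M) {X : Type} [MulAction M X] (B : BImpl I V X)
include I B

theorem a2 : I.AllS P (I.gen P S1) (msk S1) :=
  Impl.allS_gen (W := [3, 5, 7, 9]) (by decide +kernel)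

theorem a6 : I.AllS P (I.gen P S1) m5 :=
  (a2 I B).ext L4 (by decide +kernel)

theorem a8 : I.AllS P (I.gen P S7) (msk S7) :=
  Impl.allS_gen_of (a6 I B) (by decide +kernel)

theorem a11 : I.AllS P (I.gen P S7) m10 :=
  (a8 I B).ext L9 (by decide +kernel)

theorem a13 : I.AllS P (I.gen P S12) (msk S12) :=
  Impl.allS_gen_of (a11 I B) (by decide +kernel)

theorem lo15 : 120 * Nat.card (I.gen P S12) ≤ Nat.card (I.gen P S7) :=
  BImpl.low_lev (B := B) (a11 I B) b14 [389220, 0x64061066, 0x64061064, 96, 0, 0x61061068, 389223, 397416, 0x6106605f067, 0x5f05f063, 0x5f063062068, 0x5f06705f064, 401506, 0x64061065, 0x6206705f, 0x62061061, 0x5f067060, 0x62062061, 98, 0x5f064062, 0x61062064, 0x6305f05f, 99, 0x62065063, 0x64064062, 0x5f063062065, 0x5f062067060, 0x64064065, 0x61064061064, 389215, 409700, 0x5f062064, 397409, 0x5f062067, 426080, 101, 0x61064066, 0x61061062, 0x61066060, 0x5f063062, 104, 0x61064064, 0x5f05f06305f, 0x62062067, 389219, 397414, 0x61064061, 0x61061061,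 0x61061064066, 417891, 426083, 0x6305f060, 405599, 0x5f062068, 0x5f064062061, 393315, 0x5f05f067, 0x60063060, 0x5f06005f, 0x5f064062064, 0x5f063062061, 426079, 0x61061065, 417887, 0x5f06005f062, 0x5f067063, 0x6305f062, 0x5f06005f060, 393316, 0x5f05f067060, 0x6305f063, 0x5f060064, 397413, 0x5f060060, 0x5f06005f064, 397410, 397412, 0x62067063, 0x61062066, 0x64064066, 389218, 0x6206505f, 0x62064065, 405603, 102, 0x5f060063, 389216, 0x5f06005f067, 0x62066064, 100, 417888, 0x5f06705f, 0x64064061, 95, 97, 0x5f062061, 0x64066060, 401508, 401510, 0x5f063063, 0x5f063063062, 0x6106605f, 0x5f06305f, 0x61061064, 0x60063063, 401505, 409697, 0x61064065, 0x5f060060064, 401511, 0x5f062065, 401509, 0x61064068, 0x5f064062065, 0x5f060060063, 409702, 0x61066063, 0x60064064, 0x5f05f06705f, 0x6006305f] 120 (by decide +kernel)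

theorem a18 : I.AllS P (I.gen P S12) m17 :=
  (a13 I B).ext L16 (by decide +kernel)

theorem a20 : I.AllS P (I.gen P S19) (msk S19) :=
  Impl.allS_gen_of (a18 I B) (by decide +kernel)

theorem lo22 : 25 * Nat.card (I.gen P S19) ≤ Nat.card (I.gen P S12) :=
  BImpl.low_lev (B := B) (a18 I B) b21 [0, 442476, 106, 108, 434282, 438378, 438380, 0x6b06a06a, 107, 0x6b06c06c, 0x6a06a06d, 109, 0x6c06c06d, 434285, 442477, 0x6c06c06e, 434286, 442478, 0x6a06a06e, 110, 430188, 0x6906a06a, 105, 0x6906c06c, 430186] 25 (by decide +kernel)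

theorem a25 : I.AllS P (I.gen P S19) m24 :=
  (a20 I B).ext L23 (by decide +kernel)

theorem a27 : I.AllS P (I.gen P S26) (msk S26) :=
  Impl.allS_gen_of (a25 I B) (by decide +kernel)

theorem lo29 : 25 * Nat.card (I.gen P S26) ≤ Nat.card (I.gen P S19) :=
  BImpl.low_lev (B := B) (a25 I B) b28 [0, 487543, 120, 119, 491640, 115, 112, 475252, 454775, 114, 458872, 471159, 111, 467064, 462961, 458864, 471155, 117, 454772, 471153, 113, 116, 458868, 467057, 118] 25 (by decide +kernel)

theorem a32 : I.AllS P (I.gen P S26) m31 :=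
  (a27 I B).ext L30 (by decide +kernel)

theorem a34 : I.AllS P (I.gen P S33) (msk S33) :=
  Impl.allS_gen_of (a32 I B) (by decide +kernel)

theorem lo36 : 5 * Nat.card (I.gen P S33) ≤ Nat.card (I.gen P S26) :=
  BImpl.low_lev (B := B) (a32 I B) b35 [0, 122, 499834, 495737, 121] 5 (by decide +kernel)

theorem low37 : 375000 ≤ Nat.card (I.gen P S7) :=
  le_trans (by decide +kernel) (le_of_low (lo15 I B) (le_of_low (lo22 I B) (le_of_low (lo29 I B) (le_of_low (lo36 I B) (Nat.succ_le_of_lt Nat.card_pos)))))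

theorem le38 : (I.gen P S26) ≤ (I.gen P S19) :=
  Impl.gen_le (a25 I B) (by decide +kernel)

theorem le39 : (I.gen P S19) ≤ (I.gen P S12) :=
  Impl.gen_le (a18 I B) (by decide +kernel)

theorem le40 : (I.gen P S12) ≤ (I.gen P S7) :=
  Impl.gen_le (a11 I B) (by decide +kernel)

theorem le41 : (I.gen P S7) ≤ (I.gen P S1) :=
  Impl.gen_le (a6 I B) (by decide +kernel)

theorem a44 : I.AllS P (I.gen P S1) m43 :=
  ((a6 I B).lor (((a11 I B).lor (((a18 I B).lor (((a25 I B).lor ((a32 I B).le (le38 I B))).le (le39 I B))).le (le40 I B))).le (le41 I B))).ext L42 (by decide +kernel)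

theorem nt116 : BImpl.Nets (B := B) (P := P) [8] Q87 15624 [N115] :=
  BImpl.Nets.cons (a44 I B) 8 N115 (by decide +kernel) (B.nets_nil Q87 15624)

theorem nt145 : BImpl.Nets (B := B) (P := P) [6, 8] Q87 15624 [N144, N115] :=
  BImpl.Nets.cons (a44 I B) 6 N144 (by decide +kernel) (nt116 I B)

theorem nt174 : BImpl.Nets (B := B) (P := P) [4, 6, 8] Q87 15624 [N173, N144, N115] :=
  BImpl.Nets.cons (a44 I B) 4 N173 (by decide +kernel) (nt145 I B)

theorem nt203 : BImpl.Nets (B := B) (P := P) [2, 4, 6, 8] Q87 15624 [N202, N173, N144, N115] :=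
  BImpl.Nets.cons (a44 I B) 2 N202 (by decide +kernel) (nt174 I B)

theorem ob204 : B.Orb (I.gen P S1) (B.vd b3) Q87 15624 :=
  (nt203 I B).orb b3 3124 (by decide +kernel)

theorem oc205 : (MulAction.orbit (I.gen P S1) (B.vd b3)).ncard = 15624 :=
  (nt203 I B).ncard_orbit b3 3124 7 (by decide +kernel)

theorem satH : (∀ l < 78, I.InS Set.univ (P (ix l))) ∧ Sat (fun l => I.u (P (ix l))) 78 iota RH :=
  Impl.sat_app (Impl.sat_nil (fun l => P (ix l)) 78 iota (by decide +kernel)) RH (by decide +kernel)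

theorem genH : I.gen P SH = gL (fun l => I.u (P (ix l))) LS0 :=
  Impl.gen_eq_gL (satH I B).2 [1, 3, 5, 7] DF (by decide +kernel)

theorem ordH : OrdB 78 iota RH LS0 5859000000 :=
  (((((OrdB.nil 78 iota RH).step gA0).step gA).step gB).step gC).ext LS0 DF (by decide +kernel)

theorem cardH_le : Nat.card (I.gen P SH) ≤ 5859000000 :=
  by rw [genH I B]; exact (ordH I B _ _ (satH I B).2).2

theorem allH0 : I.AllS P (I.gen P SH) mH :=
  (a44 I B)

theorem hk206 : (I.gen P S1) ⊓ MulAction.stabilizer Mˣ (B.vd b3) ≤ (I.gen P S7) :=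
  B.stab_le_of_card (a44 I B) S7 b3 (by decide +kernel) (oc205 I B) (by norm_num) (cardH_le I B) (low37 I B)

end Cfsg.Lib.Spor.LyU
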