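import Cfsg.Agent.Spor.LyUP0
import Cfsg.Agent.Spor.LyUH

/-! Generated certificate checks. -/

set_option autoImplicit false
set_option maxRecDepth 100000
set_option linter.unusedVariables false
set_option linter.unusedSectionVars false

namespace Cfsg.Lib.Spor.LyU

open Cfsg.Lib.Spor.MG Cfsg.Lib.Spor.Bulk Cfsg.Lib.Spor.LyP

variable {M : Type} [Monoid M] [Finite M] (I : Impl CF.O M) {X : Type} [MulAction M X] (B : BImpl I V X)
  {G A Ω : Type} [Group G] [Group A] [MulAction G Ω] [MulAction A Ω] {σ : I.gen P SH →* G}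
  {S : Sem CF G A Ω} (E : Over S I σ)
include I B E

theorem ak222 : I.AllS P (LS σ S.g) (msk (mapL hd L221)) :=
  E.allS_L (allH S) P L221 (by decide +kernel)

theorem a225 : I.AllS P (LS σ S.g) m224 :=
  (ak222 I B E).ext L223 (by decide +kernel)

theorem pr226 : ∀ p, 0 ≤ p → p < 5 → I.PlainAt P (LS σ S.g) 171 5 95 p :=
  Impl.plain_range (a225 I B E) (a44 I B) 171 5 95 0 5 W227 (by decide +kernel)

theorem pr228 : ∀ p, 0 ≤ p → p < 5 → I.PlainAt P (LS σ S.g) 171 5 96 p :=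
  Impl.plain_range (a225 I B E) (a44 I B) 171 5 96 0 5 W229 (by decide +kernel)

theorem sc230 : StabCov (C := CF) I (I.gen P S1) (LS σ S.g) (B.vd b3) U220 :=
  stabCov_of (C := CF) (hk206 I B) (a44 I B) (Impl.plain_cover' (S := S7) (p0 := 0) (a225 I B E) (by decide +kernel) (List.forall_mem_cons.2 ⟨(pr226 I B E), List.forall_mem_cons.2 ⟨(pr228 I B E), List.forall_mem_nil _⟩⟩)) U220 (by decide +kernel) (by decide +kernel)

theorem ak232 : I.AllS P (KS σ (S.ω 1)) (msk (mapL hd L231)) :=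
  E.allS_K (allH S) P 1 L231 (by decide +kernel)

theorem a235 : I.AllS P (KS σ (S.ω 1)) m234 :=
  (ak232 I B E).ext L233 (by decide +kernel)

theorem a237 : I.AllS P (I.gen P S236) (msk S236) :=
  Impl.allS_gen_of (a235 I B E) (by decide +kernel)

theorem lo239 : 120 * Nat.card (I.gen P S236) ≤ Nat.card (KS σ (S.ω 1)) :=
  BImpl.low_lev (B := B) (a235 I B E) b238 [868567, 872663, 868566, 0xd20d50d3, 0, 864469, 0xd20d20d4, 211, 872659, 860375, 0xd20d20d6, 876756, 0xd20d40d6, 212, 860370, 0xd20d70d5, 868563, 860373, 210, 864471, 868562, 214, 213, 860372, 0xcb0d40d7, 0xca0d50d7, 0xca0d40d6, 0xd30d50dd, 203, 901333, 0xd20dd0d4, 819411, 872674, 864476, 0xd20dd0d6, 0xca0d60d4, 0xdd0d40d6, 823508, 860378, 0xd30e20d5, 0xc80d50da, 0xc80dc0d4, 819415, 901335, 0xc90d40dd, 823510, 819413, 930004, 0xc80d40d7, 0xc90d50d7, 0xc90d40d6, 0xd20d50db, 200, 897237, 0xd20da0d4, 220, 0xc80d50db, 864482, 0xd20da0d6, 0xc90d60d4, 0xe30d40d6, 831700, 930010, 0xd50d30dc,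 868571, 905429, 819427, 897239, 868570, 831702, 827605, 0xc80d60d5, 0xc90d40d7, 0xc80d50d7, 0xc80d40d6, 0xd50db0d4, 201, 0xc80d30d5, 0xd40d20da, 819420, 0xc80d50d3, 897238, 0xd20d70db, 0xc80d60d4, 0xc80e30d40d6, 827604, 860381, 0xd30dc0d5, 868578, 897236, 227, 876762, 0xc80d40d2, 827606, 831701, 905428, 0xca0d40d7, 0xcb0d50d7, 0xcb0d40d6, 0xd40e20d5, 202, 0xc80dc0d5, 0xd40da0d2, 219, 872667, 897250, 0xd20d70dc, 0xcb0d60d4, 0xc80d40d60d5, 819412, 876764, 0xd50db0dc, 872666, 901332, 221, 876765, 868573, 819414, 823509, 0xc80e30d4] 120 (by decide +kernel)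

theorem a242 : I.AllS P (I.gen P S236) m241 :=
  (a237 I B E).ext L240 (by decide +kernel)

theorem a244 : I.AllS P (I.gen P S243) (msk S243) :=
  Impl.allS_gen_of (a242 I B E) (by decide +kernel)

theorem lo246 : 20 * Nat.card (I.gen P S243) ≤ Nat.card (I.gen P S236) :=
  BImpl.low_lev (B := B) (a242 I B E) b245 [0, 942313, 942312, 938213, 934116, 934119, 232, 950501, 230, 231, 934120, 0xe40e50e5, 228, 934121, 229, 0xe40e80e5, 942310, 233, 934117, 938216] 20 (by decide +kernel)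

theorem a249 : I.AllS P (I.gen P S243) m248 :=
  (a244 I B E).ext L247 (by decide +kernel)

theorem a251 : I.AllS P (I.gen P S250) (msk S250) :=
  Impl.allS_gen_of (a249 I B E) (by decide +kernel)

theorem lo253 : 25 * Nat.card (I.gen P S250) ≤ Nat.card (I.gen P S243) :=
  BImpl.low_lev (B := B) (a249 I B E) b252 [0, 970991, 0xea0f00f0, 0xea0ea0eb, 958700, 235, 238, 241, 970987, 970989, 970993, 958704, 958698, 958702, 240, 236, 239, 237, 970990, 0xea0ea0f0, 987377, 983280, 0xea0ea0ec, 958699, 234] 25 (by decide +kernel)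

theorem a256 : I.AllS P (I.gen P S250) m255 :=
  (a251 I B E).ext L254 (by decide +kernel)

theorem a258 : I.AllS P (I.gen P S257) (msk S257) :=
  Impl.allS_gen_of (a256 I B E) (by decide +kernel)

theorem lo260 : 5 * Nat.card (I.gen P S257) ≤ Nat.card (I.gen P S250) :=
  BImpl.low_lev (B := B) (a256 I B E) b259 [0, 243, 244, 245, 242] 5 (by decide +kernel)

theorem low261 : 300000 ≤ Nat.card (KS σ (S.ω 1)) :=
  le_trans (by decide +kernel) (le_of_low (lo239 I B E) (le_of_low (lo246 I B E) (le_of_low (lo253 I B E) (le_of_low (lo260 I B E) (Nat.succ_le_of_lt Nat.card_pos)))))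

theorem a264 : I.AllS P (KS σ (S.ω 1)) m263 :=
  (a235 I B E).ext L262 (by decide +kernel)

theorem rp290 : CovOn (C := CF) B S σ (0 :: JN) 1 (B.vd b3) U220 (V.cube P C282 Q87) k288 :=
  Over.covOn (C := CF) B E (allH S) _ _ _ _ _ R287 _ ck289

theorem cv291 : ∀ h : (I.gen P S1), S.g • σ h • S.ω 1 ∈ DS σ S.ω (0 :: JN) :=
  (rp290 I B E).node (ob204 I B) (sc230 I B E) (a264 I B E) (by decide +kernel)

theorem ak295 : I.AllS P (KS σ (S.ω 2)) (msk (mapL hd L294)) :=
  E.allS_K (allH S) P 2 L294 (by decide +kernel)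

theorem a298 : I.AllS P (KS σ (S.ω 2)) m297 :=
  (ak295 I B E).ext L296 (by decide +kernel)

theorem a300 : I.AllS P (I.gen P S299) (msk S299) :=
  Impl.allS_gen_of (a298 I B E) (by decide +kernel)

theorem lo302 : 126 * Nat.card (I.gen P S299) ≤ Nat.card (KS σ (S.ω 2)) :=
  BImpl.low_lev (B := B) (a298 I B E) b301 [0, 0x100102, 257, 258, 256, 0x101102, 274, 0x10c102, 0x114101, 0x101109, 0x102117, 0x101111, 0x10210b, 0x100114, 0x102113, 271, 0x100119, 0x106118, 0x100113, 0x102114, 0x10010b, 0x118115, 0x100117, 0x110116, 0x104114, 0x10410c, 0x108114, 0x11010a, 0x109112, 264, 0x101105, 275, 0x104105, 281, 0x10110b, 0x10210f, 0x104111, 268, 0x107100, 0x108113, 280, 0x108101, 0x104108, 0x104117, 0x100118, 0x10010c, 0x100111, 0x11410a, 0x108117, 0x101114, 0x10110f, 0x106113, 0x10b119, 0x113102, 0x10710e, 0x101104, 0x100108, 0x102107, 0x10211a, 261, 0x10c100, 0x100112, 0x10c114, 265, 0x107112, 0x109119, 0x106106, 279, 0x106117, 0x102109, 0x104102,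 0x106108, 0x102106, 0x101108, 0x110118, 0x100105, 0x105112, 272, 0x10a100, 0x10510a, 0x101118, 0x10111a, 0x102105, 0x101107, 0x10110a, 0x100106, 0x101112, 0x10c10c, 0x100109, 0x10a103, 0x105108, 0x107111, 0x107115, 0x102112, 0x10b101, 0x101117, 0x10011a, 0x100107, 266, 262, 0x108118, 282, 0x10c101, 0x10010a, 263, 0x101106, 0x101119, 0x108115, 0x10510c, 0x101113, 267, 0x10710a, 0x107101, 0x106104, 260, 0x102118, 0x107116, 0x106111, 0x10510f, 0x107114, 0x100104, 273, 276, 0x105115, 0x10010f, 0x10a119] 126 (by decide +kernel)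

theorem a305 : I.AllS P (I.gen P S299) m304 :=
  (a300 I B E).ext L303 (by decide +kernel)

theorem a307 : I.AllS P (I.gen P S306) (msk S306) :=
  Impl.allS_gen_of (a305 I B E) (by decide +kernel)

theorem lo309 : 8 * Nat.card (I.gen P S306) ≤ Nat.card (I.gen P S299) :=
  BImpl.low_lev (B := B) (a305 I B E) b308 [0x11b11c, 284, 286, 0x11b11e, 0, 285, 283, 0x11b11b] 8 (by decide +kernel)

theorem low310 : 1008 ≤ Nat.card (KS σ (S.ω 2)) :=
  le_trans (by decide +kernel) (le_of_low (lo302 I B E) (le_of_low (lo309 I B E) (Nat.succ_le_of_lt Nat.card_pos)))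

theorem a313 : I.AllS P (KS σ (S.ω 2)) m312 :=
  (a298 I B E).ext L311 (by decide +kernel)

theorem rp351 : CovOn (C := CF) B S σ (0 :: JN) 2 (B.vd b3) U220 (V.cube P C327 Q87) k349 :=
  Over.covOn (C := CF) B E (allH S) _ _ _ _ _ R348 _ ck350

theorem cv352 : ∀ h : (I.gen P S1), S.g • σ h • S.ω 2 ∈ DS σ S.ω (0 :: JN) :=
  (rp351 I B E).node (ob204 I B) (sc230 I B E) (a313 I B E) (by decide +kernel)

theorem ak356 : I.AllS P (KS σ (S.ω 3)) (msk (mapL hd L355)) :=
  E.allS_K (allH S) P 3 L355 (by decide +kernel)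

theorem a359 : I.AllS P (KS σ (S.ω 3)) m358 :=
  (ak356 I B E).ext L357 (by decide +kernel)

theorem a361 : I.AllS P (I.gen P S360) (msk S360) :=
  Impl.allS_gen_of (a359 I B E) (by decide +kernel)

theorem lo363 : 24 * Nat.card (I.gen P S360) ≤ Nat.card (KS σ (S.ω 3)) :=
  BImpl.low_lev (B := B) (a359 I B E) b362 [0x12a12d, 303, 0x12d12f, 0x12a12d12f, 299, 0, 0x12c127, 0x12b12e, 0x12a12c, 0x12712d, 0x12e12d, 0x12a12e, 302, 0x12712d12a, 0x12b12d12f, 0x12712d12f, 298, 295, 0x12a12f, 301, 300, 0x12b12d, 0x12712e, 0x12d12a] 24 (by decide +kernel)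

theorem a366 : I.AllS P (I.gen P S360) m365 :=
  (a361 I B E).ext L364 (by decide +kernel)

theorem a368 : I.AllS P (I.gen P S367) (msk S367) :=
  Impl.allS_gen_of (a366 I B E) (by decide +kernel)

theorem lo370 : 24 * Nat.card (I.gen P S367) ≤ Nat.card (I.gen P S360) :=
  BImpl.low_lev (B := B) (a366 I B E) b369 [0x13b13a13d138, 0x13b138, 313, 0x13b13c138138, 0, 0x13913a13c, 0x139138138, 0x13b13d13b, 315, 0x13b13c138139, 0x13d139, 0x13b13a, 0x139138, 0x13b13c138, 0x13b13a13d139, 0x13d13b, 0x139138139, 0x13b13a13d, 317, 0x13913813c, 0x13b13d, 0x13b13c, 0x13913a, 0x13b13c139] 24 (by decide +kernel)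

theorem a373 : I.AllS P (I.gen P S367) m372 :=
  (a368 I B E).ext L371 (by decide +kernel)

theorem a375 : I.AllS P (I.gen P S374) (msk S374) :=
  Impl.allS_gen_of (a373 I B E) (by decide +kernel)

theorem lo377 : 5 * Nat.card (I.gen P S374) ≤ Nat.card (I.gen P S367) :=
  BImpl.low_lev (B := B) (a373 I B E) b376 [0, 321, 318, 319, 320] 5 (by decide +kernel)

theorem low378 : 2880 ≤ Nat.card (KS σ (S.ω 3)) :=
  le_trans (by decide +kernel) (le_of_low (lo363 I B E) (le_of_low (lo370 I B E) (le_of_low (lo377 I B E) (Nat.succ_le_of_lt Nat.card_pos))))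

theorem a381 : I.AllS P (KS σ (S.ω 3)) m380 :=
  (a359 I B E).ext L379 (by decide +kernel)

theorem rp417 : CovOn (C := CF) B S σ (0 :: JN) 3 (B.vd b3) U220 (V.cube P C397 Q87) k415 :=
  Over.covOn (C := CF) B E (allH S) _ _ _ _ _ R414 _ ck416

theorem cv418 : ∀ h : (I.gen P S1), S.g • σ h • S.ω 3 ∈ DS σ S.ω (0 :: JN) :=
  (rp417 I B E).node (ob204 I B) (sc230 I B E) (a381 I B E) (by decide +kernel)

theorem ak422 : I.AllS P (KS σ (S.ω 4)) (msk (mapL hd L421)) :=
  E.allS_K (allH S) P 4 L421 (by decide +kernel)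

theorem a425 : I.AllS P (KS σ (S.ω 4)) m424 :=
  (ak422 I B E).ext L423 (by decide +kernel)

theorem a427 : I.AllS P (I.gen P S426) (msk S426) :=
  Impl.allS_gen_of (a425 I B E) (by decide +kernel)

theorem a475 : I.AllS P (KS σ (S.ω 4)) m474 :=
  (a425 I B E).ext L473 (by decide +kernel)

theorem lo429 : 252 * Nat.card (I.gen P S426) ≤ Nat.card (KS σ (S.ω 4)) :=
  BImpl.low_batch B (a475 I B E) b428 C476 Q472 252 (by decide +kernel)

theorem a479 : I.AllS P (I.gen P S426) m478 :=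
  (a427 I B E).ext L477 (by decide +kernel)

theorem a481 : I.AllS P (I.gen P S480) (msk S480) :=
  Impl.allS_gen_of (a479 I B E) (by decide +kernel)

theorem lo483 : 24 * Nat.card (I.gen P S480) ≤ Nat.card (I.gen P S426) :=
  BImpl.low_lev (B := B) (a479 I B E) b482 [358, 0x16616c, 0x166165, 367, 0, 366, 0x16516d, 0x16d165166, 0x165166, 0x16616516e, 357, 0x16516d165, 0x165166165, 0x16d16c, 0x16616516d, 0x16d165, 0x16516616c, 0x16516d16c, 364, 0x165165, 0x16516f, 0x16d16516f, 0x16516e, 365] 24 (by decide +kernel)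

theorem low484 : 6048 ≤ Nat.card (KS σ (S.ω 4)) :=
  le_trans (by decide +kernel) (le_of_low (lo429 I B E) (le_of_low (lo483 I B E) (Nat.succ_le_of_lt Nat.card_pos)))

theorem a487 : I.AllS P (KS σ (S.ω 4)) m486 :=
  (a475 I B E).ext L485 (by decide +kernel)

theorem rp519 : CovOn (C := CF) B S σ (0 :: JN) 4 (B.vd b3) U220 (V.cube P C504 Q87) k517 :=
  Over.covOn (C := CF) B E (allH S) _ _ _ _ _ R516 _ ck518

theorem cv520 : ∀ h : (I.gen P S1), S.g • σ h • S.ω 4 ∈ DS σ S.ω (0 :: JN) :=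
  (rp519 I B E).node (ob204 I B) (sc230 I B E) (a487 I B E) (by decide +kernel)

theorem cov : ∀ j ∈ JN, ∀ h : (I.gen P S1), S.g • σ h • S.ω j ∈ DS σ S.ω (0 :: JN) :=
  List.forall_mem_cons.2 ⟨(cv291 I B E), List.forall_mem_cons.2 ⟨(cv352 I B E), List.forall_mem_cons.2 ⟨(cv418 I B E), List.forall_mem_cons.2 ⟨(cv520 I B E), List.forall_mem_nil _⟩⟩⟩⟩

theorem low : ∀ j ∈ JN, 5859000000 ≤ NF j * Nat.card (KS σ (S.ω j)) :=
  List.forall_mem_cons.2 ⟨le_trans (b := NF 1 * 300000) (by decide +kernel) (Nat.mul_le_mul_left _ (low261 I B E)), List.forall_mem_cons.2 ⟨le_trans (b := NF 2 * 1008) (by decide +kernel) (Nat.mul_le_mul_left _ (low310 I B E)), List.forall_mem_cons.2 ⟨le_trans (b := NF 3 * 2880) (by decide +kernel) (Nat.mul_le_mul_left _ (low378 I B E)), List.forall_mem_cons.2 ⟨le_trans (b := NF 4 * 6048) (by decide +kernel) (Nat.mul_le_mul_left _ (low484 I B E)), List.forall_mem_nil _⟩⟩⟩⟩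

end Cfsg.Lib.Spor.LyU
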