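import Cfsg.Agent.Known.Kit2
import Cfsg.Agent.Known.Label

/-! Projective solutions of relators given by packed matrices over a prime field. -/

set_option autoImplicit false

namespace Cfsg.Lib.Spor.WM

open Cfsg.Lib.Known Cfsg.Lib.Known.KM
open Cfsg.Lib.Known.PC (lall lall_iff band band_iff)

/-- The matrices `ps` (with inverses; the first is central of order `m`) solve `W` up to `α`. -/
noncomputable def matB (p n w : ℕ) (O : Ops) (ps : List (ℕ × ℕ)) (m b : ℕ) : Bool :=
  band (lall (fun e => unitChk p n w O.mul O.one e.1 e.2) ps)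
    (O.cen (ps.map Prod.fst).tail (ps.map Prod.fst).headI m b)

theorem lifts_mat {p n w : ℕ} {rv rm : ℕ → ℕ} (hp : p.Prime) (H : Red p (1 * n) w rv rm)
    {S top off cm rw md o : ℕ} (hc : okC (1 * n) w S top off cm rw md o = true) {e : ℕ × ℕ}
    {ps : List (ℕ × ℕ)} {m b : ℕ} (hm : 0 < m)
    (h1 : matB p (1 * n) w (ops p (1 * n) w rv rm S top off cm rw md o 0 0) (e :: ps) m b = true)
    {W : List (List ℕ)} {α : List ℕ}
    (h2 : (ops p (1 * n) w rv rm S top off cm rw md o 0 0).vals (ps.map Prod.fst) e.1 W α = true) :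
    Lifts (ZMod m) W (α.map Nat.cast) := by
  have := Fact.mk hp
  have fb := fBas_one (F := ZMod p) hp (ZMod.card p)
  have B := fb.bas (Equiv.refl (Fin n))
  have : Finite (AddMonoid.End (Fin n → ZMod p)) :=
    Finite.of_injective (fun f => (f : (Fin n → ZMod p) → _)) DFunLike.coe_injective
  have h := has_aut H B hc (MonoidHom.id _) Function.injective_id rfl 0
  obtain ⟨k1, k2⟩ := band_iff.1 h1
  refine h.lifts hm (fun c hc' => ?_) k2 fun g t hg ht => h.vals (fun i => hg i) ht h2
  obtain ⟨x, hx, rfl⟩ := List.mem_map.1 (show c ∈ (e :: ps).map Prod.fst from hc')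
  obtain ⟨g, -, hg⟩ := autModel_in H B hc (fb.spans _) (lall_iff.1 k1 x hx)
  exact ⟨g, trivial, hg⟩

end Cfsg.Lib.Spor.WM
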