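import Cfsg.Agent.Spor.MoVs
import Cfsg.Agent.Block.SympFix
import Mathlib.GroupTheory.SchurZassenhaus

/-!
Reality and Frobenius-Schur indicators in a principal block of defect one.
-/

set_option autoImplicit false

open scoped ComplexConjugate

namespace Cfsg.Lib.Spor.Mo

open Cfsg Cfsg.Lib.Char Cfsg.Lib.Solv Cfsg.Lib.PrimeOne Cfsg.Lib.Block.Princ Subgroup
open Cfsg.Lib.Block hiding dg dg_cast
open Cfsg.Lib.Spor.CKit

variable {G : Type*} [Group G] [Finite G] {p : ℕ} [hp : Fact p.Prime]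

theorem sylow_cnt {x : G} (hx : orderOf x = p) (h2 : ¬ p ^ 2 ∣ Nat.card G) {H : Subgroup G}
    (hH : x ∈ H) : ∃ k, Nat.card H =
      Nat.card (normalizer (zpowers x : Set G) ⊓ H : Subgroup G) * k ∧ k % p = 1 := by
  obtain ⟨P⟩ : Nonempty (Sylow p H) := inferInstance
  have h3 := zpowers_le.2 hH
  have h4 : Nat.card ((zpowers x).subgroupOf H) = p := by
    rw [card_subgroupOf_of_le h3, Nat.card_zpowers, hx]
  obtain ⟨Q, hQ⟩ := PS.exists_sylow_eq P (PS.card_sylow_eq (h4 ▸ card_subgroup_dvd_card _)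
    (fun h => h2 (h.trans (card_subgroup_dvd_card H))) P) h4
  refine ⟨Nat.card (Sylow p H), ?_, Eq.trans (card_sylow_modEq_one p H)
    (Nat.mod_eq_of_lt hp.out.one_lt)⟩
  rw [← card_subgroupOf, subgroupOf_normalizer_eq h3, ← hQ, Q.card_eq_index_normalizer]
  exact (card_mul_index _).symm

theorem sum_even {H : Type*} [Group H] [Fintype G] [Fintype H] (i : H →* G) {χ : G → ℂ}
    (hχ : IsIrrCharacter G χ) (h : fsInd χ = -1) :
    ∃ m : ℤ, ∑ g, χ (i g) = Nat.card H * (2 * m) := by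
  obtain ⟨m, hm⟩ := (hχ.isCharacter.comp i).exists_nat_classInner isCharacter_one
  obtain ⟨k, rfl⟩ := SympFix.even_of_fsInd i hχ h hm
  have h1 := card_mul_classInner (fun g => χ (i g)) fun _ => 1
  simp only [map_one, mul_one] at h1
  exact ⟨k, by rw [← h1]; erw [hm]; push_cast; ring⟩

theorem even_of_symp {K : Type*} [Group K] [Finite K] [Fintype G] (i : K →* G) {χ : G → ℂ}
    (hχ : IsIrrCharacter G χ) (h : fsInd χ = -1) {x : K} (hx : orderOf x = p)
    [hn : (zpowers x).Normal] (h2 : ¬ p ^ 2 ∣ Nat.card K) {σ : ℤ}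
    (hσ : ∀ g : K, p ∣ orderOf g → χ (i g) = σ) {t : ℕ}
    (ht : (centralizer ({x} : Set K)).index * t + 1 = p) : Even (t * σ) := by
  classical
  have := Fintype.ofFinite K
  have hP : Nat.card (zpowers x) = p := by rw [Nat.card_zpowers, hx]
  have h1 : (Nat.card (zpowers x)).Coprime (zpowers x).index := by
    rw [hP, hp.out.coprime_iff_not_dvd]
    exact fun h3 => h2 (by rw [← card_mul_index (zpowers x), hP, sq]; exact mul_dvd_mul_left p h3)
  obtain ⟨T, hT⟩ := exists_right_complement'_of_coprime h1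
  have h3 : ∀ u ∈ zpowers x, u ≠ 1 → centralizer {u} = centralizer ({x} : Set K) := fun u h3 h4 => by
    rw [PS.centralizer_singleton_eq hP h3 h4, PS.centralizer_zpowers]
  have h4 : ∀ a : T, ∑ u : zpowers x, χ (i (u * a)) = p * χ (i a) +
      if (a : K) ∈ centralizer {x} then (p - 1) * (σ - χ (i a)) else 0 := fun a => by
    split_ifs with h4
    · rw [← Finset.add_sum_erase _ _ (Finset.mem_univ 1), Finset.sum_congr rfl fun u hu => hσ _ ?_,
        Finset.sum_const, Finset.card_erase_of_mem (Finset.mem_univ _), Finset.card_univ,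
        ← Nat.card_eq_fintype_card, hP, nsmul_eq_mul, Nat.cast_sub hp.out.one_le]
      · simp only [OneMemClass.coe_one, one_mul, Nat.cast_one]
        ring
      have h5 : (u : K) ≠ 1 := by simpa using hu
      refine (dvd_of_eq ?_).trans (orderOf_pow_dvd (Nat.card T))
      rw [Commute.mul_pow (mem_centralizer_singleton_iff.1 (h3 u u.2 h5 ▸ h4)).symm,
        ← coe_pow T, pow_card_eq_one', OneMemClass.coe_one, mul_one, Nat.Coprime.orderOf_pow,
        PS.orderOf_eq_of_card hP u.2 h5]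
      rwa [PS.orderOf_eq_of_card hP u.2 h5, ← hP, ← hT.symm.index_eq_card]
    · have h5 : Function.Bijective fun u : zpowers x => (⟨u * (a * u⁻¹ * (a : K)⁻¹),
          mul_mem u.2 (hn.conj_mem _ (inv_mem u.2) a)⟩ : zpowers x) :=
        Finite.injective_iff_bijective.1 fun u w e => by
          by_contra h5
          refine h4 (h3 ((w : K)⁻¹ * u) (mul_mem (inv_mem w.2) u.2) (fun e => h5
            (Subtype.ext (inv_mul_eq_one.1 e).symm)) ▸ mem_centralizer_singleton_iff.2 ?_)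
          have h6 : (u : K) * (a * u⁻¹ * (a : K)⁻¹) = w * (a * w⁻¹ * (a : K)⁻¹) := congrArg Subtype.val e
          calc (a : K) * ((w : K)⁻¹ * u) = (w : K)⁻¹ * (w * (a * w⁻¹ * (a : K)⁻¹)) * a * u := by
                simp only [InvMemClass.coe_inv]; group
            _ = _ := by rw [← h6]; simp only [InvMemClass.coe_inv]; group
      rw [← h5.sum_comp, Finset.sum_congr rfl fun u _ => show _ = χ (i a) by
        rw [← hχ.isClassFunction.apply_conj (i a) (i u), ← map_inv, ← map_mul, ← map_mul]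
        simp only [InvMemClass.coe_inv]
        congr 2
        group, Finset.sum_const, Finset.card_univ, ← Nat.card_eq_fintype_card, hP, nsmul_eq_mul,
        add_zero]
  obtain ⟨a, ha⟩ := sum_even i hχ h
  obtain ⟨b, hb⟩ := sum_even (i.comp T.subtype) hχ h
  obtain ⟨c, hc⟩ := sum_even ((i.comp T.subtype).comp
    ((centralizer {x}).subgroupOf T).subtype) hχ h
  have h5 : (centralizer ({x} : Set K)).Normal := PS.centralizer_zpowers x ▸ inferInstance
  have h6 := card_mul_index ((centralizer ({x} : Set K)).subgroupOf T)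
  rw [← relIndex, ← relIndex_sup_left, top_unique (hT.sup_eq_top.ge.trans (sup_le_sup_right
    (zpowers_le.2 (mem_centralizer_singleton_iff.2 rfl)) T)), relIndex_top_right] at h6
  rw [← ((show Function.Bijective fun w : zpowers x × T => (w.1 : K) * w.2 from hT).sum_comp
    fun g => χ (i g)), Fintype.sum_prod_type_right, ← hT.card_mul_card, hP] at ha
  simp only [h4, Finset.sum_add_distrib, ← Finset.mul_sum, ← mem_subgroupOf,
    ← Finset.sum_filter] at ha
  rw [Finset.sum_subtype (p := (· ∈ (centralizer {x}).subgroupOf T)) (Finset.filter _ _) (by simp),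
    Finset.sum_sub_distrib, Finset.sum_const, Finset.card_univ, ← Nat.card_eq_fintype_card] at ha
  simp only [MonoidHom.comp_apply, subtype_apply] at hb hc
  rw [hb, hc, ← h6] at ha
  refine ⟨p * (a - b) + t * c, Int.cast_injective (α := ℂ) (mul_left_cancel₀ (Nat.cast_ne_zero.2
    (h6.trans_gt Nat.card_pos).ne') ?_)⟩
  rw [← ht] at ha ⊢
  simp only [nsmul_eq_mul] at ha
  push_cast at ha ⊢
  linear_combination ha

theorem exists_conj_odd {a b : G} (ha : a * a = 1) (hb : b * b = 1) (h : Odd (orderOf (a * b))) :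
    ∃ w ∈ zpowers (a * b), w * b * w⁻¹ = a := by
  obtain ⟨k, hk⟩ := h
  have h1 : b * (a * b) * b⁻¹ = (a * b)⁻¹ := by
    rw [mul_inv_rev, inv_eq_of_mul_eq_one_right ha, inv_eq_of_mul_eq_one_right hb, mul_assoc,
      mul_assoc, hb, mul_one]
  have h2 := inverts_zpowers h1 (inv_mem (npow_mem_zpowers (a * b) (k + 1)))
  refine ⟨(a * b) ^ (k + 1), npow_mem_zpowers _ _, ?_⟩
  calc _ = (a * b) ^ (k + 1) * (b * ((a * b) ^ (k + 1))⁻¹ * b⁻¹) * b := by group
    _ = (a * b) ^ (2 * k + 1) * (a * (b * b)) := by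
      rw [h2, inv_inv, ← pow_add, ← mul_assoc a, ← mul_assoc, ← pow_succ]; congr 2; ring
    _ = a := by rw [← hk, pow_orderOf_eq_one, hb, one_mul, mul_one]

/-- The value of a real character on an element of order three. -/
theorem exists_val_three {y : G} (hy : orderOf y = 3) (χ : IrrCharacter G)
    (hr : (χ : G → ℂ) y⁻¹ = (χ : G → ℂ) y) : ∃ a : ℤ, (χ : G → ℂ) y = a ∧ 3 ∣ a - deg χ := by
  have := Fintype.ofFinite (zpowers y)
  obtain ⟨m, hm⟩ := (χ.2.isCharacter.res (zpowers y)).exists_nat_classInner isCharacter_one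
  have h1 := card_mul_classInner (fun g : zpowers y => (χ : G → ℂ) g) fun _ => 1
  have h2 : y ^ 2 = y⁻¹ := by
    rw [eq_inv_iff_mul_eq_one, ← pow_succ, ← pow_orderOf_eq_one y, hy]
  simp only [map_one, mul_one, ← sum_range_pow, hy, hm, Nat.card_zpowers, Finset.sum_range_succ,
    Finset.range_zero, Finset.sum_empty, pow_zero, pow_one, h2, hr, ← deg_cast] at h1
  obtain ⟨a, ha⟩ := exists_int_of_isIntegral_of_rat (χ.2.isGeneralizedCharacter.isIntegral y)
    (q := (3 * m - deg χ) / 2) (by push_cast at h1 ⊢; linear_combination -h1 / 2)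
  refine ⟨a, ha, a - m, Int.cast_injective (α := ℂ) ?_⟩
  rw [ha] at h1
  push_cast at h1 ⊢
  linear_combination h1

theorem dvd_val_sub {x y : G} (hx : orderOf x = p) (hy : ¬ p ∣ orderOf y) (h : Commute y x)
    (χ : IrrCharacter G) {a σ : ℤ} (ha : (χ : G → ℂ) y = a)
    (hσ : ∀ g, p ∣ orderOf g → (χ : G → ℂ) g = σ) : (p : ℤ) ∣ a - σ := by
  classical
  have := Fintype.ofFinite (zpowers x)
  have hP : Nat.card (zpowers x) = p := by rw [Nat.card_zpowers, hx]
  have h1 := isIntegral_avg_char χ.2.isCharacter (x := y) (P := zpowers x)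
    (zpowers_le.2 (mem_centralizer_singleton_iff.2 h.symm))
  rw [← Finset.add_sum_erase _ _ (Finset.mem_univ 1), Finset.sum_congr rfl fun u hu => hσ _ ?_,
    Finset.sum_const, Finset.card_erase_of_mem (Finset.mem_univ _), Finset.card_univ,
    ← Nat.card_eq_fintype_card, hP, nsmul_eq_mul, Nat.cast_sub hp.out.one_le, OneMemClass.coe_one,
    mul_one, ha] at h1
  · obtain ⟨k, hk⟩ := int_dvd_of_isIntegral_div (a := a + (p - 1) * σ) (b := p)
      (Nat.cast_ne_zero.2 hp.out.ne_zero) (by simpa [div_eq_inv_mul] using h1)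
    exact ⟨k - σ, by linarith⟩
  have h5 := PS.orderOf_eq_of_card hP u.2 (by simpa using hu)
  refine (dvd_of_eq ?_).trans (orderOf_pow_dvd (orderOf y))
  obtain ⟨k, hk⟩ := u.2
  rw [(show Commute y u from hk ▸ h.zpow_right k).mul_pow, pow_orderOf_eq_one, one_mul, Nat.Coprime.orderOf_pow, h5]
  rwa [h5, hp.out.coprime_iff_not_dvd]

theorem card_invSet_dvd [Fintype G] {s y : G} (hs : s * s = 1)
    (h : Odd (Nat.card (centralizer ({y} : Set G)))) :
    (invSet s y).card = 0 ∨ (invSet s y).card ∣ Nat.card (centralizer ({y} : Set G)) := by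
  refine (invSet s y).eq_empty_or_nonempty.imp Finset.card_eq_zero.2 fun ⟨a, ha⟩ => ?_
  obtain ⟨h1, h2⟩ := mem_invSet.1 ha
  letI := MulAction.compHom G (MulAut.conj.comp (centralizer ({y} : Set G)).subtype)
  rw [← Set.ncard_coe_finset, show (invSet s y : Set G) =
    MulAction.orbit (centralizer ({y} : Set G)) a from ?_, ← MulAction.index_stabilizer]
  · exact index_dvd_card _
  ext b
  rw [Finset.mem_coe, mem_invSet]
  constructor
  · rintro ⟨h3, h4⟩
    have h5 : b * a ∈ centralizer {y} := mem_centralizer_singleton_iff.2 (by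
      calc b * a * y = b * (a * y * a⁻¹) * a := by group
        _ = (b * y * b⁻¹)⁻¹ * (b * a) := by rw [h2]; group
        _ = _ := by rw [h4, inv_inv])
    obtain ⟨w, h6, h7⟩ := exists_conj_odd (mul_self_of_isConj hs h3) (mul_self_of_isConj hs h1)
      (h.of_dvd_nat (Subgroup.orderOf_dvd_natCard _ h5))
    exact ⟨⟨w, zpowers_le.2 h5 h6⟩, h7⟩
  · rintro ⟨⟨w, hw⟩, rfl⟩
    refine ⟨h1.trans (isConj_iff.2 ⟨w, rfl⟩), ?_⟩
    have h3 : w⁻¹ * y * w = y := by
      rw [mul_assoc, ← mem_centralizer_singleton_iff.1 hw, inv_mul_cancel_left]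
    calc w * a * w⁻¹ * y * (w * a * w⁻¹)⁻¹ = w * (a * (w⁻¹ * y * w) * a⁻¹) * w⁻¹ := by group
      _ = _ := by rw [h3, h2]; nth_rw 1 [← h3]; group

namespace Blk

variable {M e c t : ℕ} {L : List (IrrCharacter G)} {Y : Finset (IrrCharacter G)}
  {θ : IrrCharacter G} {δ : IrrCharacter G → ℤ} {ε : ℤ} (h : Blk p M e c t L Y θ δ ε)
include h

theorem not_sq : ¬ p ^ 2 ∣ Nat.card G := let ⟨_, hP, _⟩ := h.syl; not_sq_dvd hP

theorem card_norm {x : G} (hx : orderOf x = p) :
    Nat.card (normalizer (zpowers x : Set G)) = p * e * c := by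
  obtain ⟨P, hP, -⟩ := h.syl
  obtain ⟨Q, hQ⟩ := PS.exists_sylow_eq P hP (H := zpowers x) (by rw [Nat.card_zpowers, hx])
  have h1 := card_mul_index (normalizer (Q : Set G))
  rw [← Q.card_eq_index_normalizer, h.num, h.card_group] at h1
  rw [← hQ]
  exact Nat.eq_of_mul_eq_mul_right (h.num ▸ Nat.card_pos) (h1.trans (by ring))

theorem fs_ne [Fintype G] (ht : Odd t) {χ : IrrCharacter G} {σ : ℤ} (hσ : σ = 1 ∨ σ = -1)
    (hv : ∀ g, p ∣ orderOf g → (χ : G → ℂ) g = σ) : fsInd (χ : G → ℂ) ≠ -1 := fun h1 => by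
  obtain ⟨x, hx⟩ := exists_prime_orderOf_dvd_card' (G := G) p
    ⟨M * e * c, by rw [h.card_group]; ring⟩
  have h2 : x ∈ normalizer (zpowers x : Set G) := le_normalizer (mem_zpowers x)
  have h3 : (zpowers (⟨x, h2⟩ : normalizer (zpowers x : Set G))).Normal := by
    rw [← comap_map_eq_self_of_injective (subtype_injective _) (zpowers _), MonoidHom.map_zpowers]
    exact normal_in_normalizer
  have h4 := card_mul_index (centralizer ({⟨x, h2⟩} : Set (normalizer (zpowers x : Set G))))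
  have h5 : centralizer ({⟨x, h2⟩} : Set (normalizer (zpowers x : Set G))) =
      (centralizer {x}).subgroupOf _ := by
    ext g
    simp only [mem_centralizer_singleton_iff, mem_subgroupOf, Subtype.ext_iff, coe_mul]
  rw [h.card_norm hx, h5, card_subgroupOf_of_le (PS.centralizer_zpowers x ▸
    centralizer_le_normalizer _), h.card_centralizer hx, ← h5, mul_right_comm p e] at h4
  have h6 := even_of_symp (Subgroup.subtype _) χ.2 h1 ((orderOf_mk x h2).trans hx)
    (fun h6 => h.not_sq (h6.trans (card_subgroup_dvd_card _)))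
    (fun g hg => hv g (by rwa [orderOf_coe])) (t := t) (by
      rw [Nat.eq_of_mul_eq_mul_left (h.card_centralizer hx ▸ Nat.card_pos) h4, h.card_eq])
  obtain ⟨k, rfl⟩ := ht
  obtain ⟨j, hj⟩ := h6
  rcases hσ with rfl | rfl <;> omega

theorem fs_rel [Fintype G] (hp2 : p ≠ 2) : t * (L.map fun χ => δ χ * fsInd (χ : G → ℂ)).sum =
    ε * ∑ ψ ∈ Y, fsInd (ψ : G → ℂ) := by
  classical
  have h1 : ∀ χ : IrrCharacter G, χ ≠ triv G → ∑ g, ((χ : G → ℂ) (g * g) - (χ : G → ℂ) g) =
      Nat.card G * fsInd (χ : G → ℂ) := fun χ hχ => by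
    have h1 := classInner_irr χ (triv G)
    have h2 := card_mul_classInner (χ : G → ℂ) (triv G)
    rw [if_neg hχ] at h1
    rw [Finset.sum_sub_distrib, fsInd, mul_inv_cancel_left₀ (Nat.cast_ne_zero.2 Nat.card_pos.ne'),
      show ∑ g, (χ : G → ℂ) g = 0 by simpa [h1] using h2.symm, sub_zero]
  have h2 : ∑ g : G, ((if p ∣ orderOf (g * g) then (p : ℂ) else 0) -
      if p ∣ orderOf g then (p : ℂ) else 0) = 0 := Finset.sum_eq_zero fun g _ => by
    rw [sub_eq_zero, ← sq]
    refine if_congr ⟨fun h => h.trans (orderOf_pow_dvd 2), fun h => ?_⟩ rfl rfl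
    refine ((Nat.coprime_primes hp.out Nat.prime_two).2 hp2).dvd_of_dvd_mul_left (h.trans ?_)
    rw [orderOf_dvd_iff_pow_eq_one, pow_mul, pow_orderOf_eq_one]
  simp only [h.ind, sub_sub_sub_comm, ← mul_sub, ← Finset.sum_sub_distrib] at h2
  rw [Finset.sum_sub_distrib, ← Finset.mul_sum, ← Finset.mul_sum, Finset.sum_comm,
    Finset.sum_comm (t := Y), Finset.sum_congr (s₁ := Y) rfl fun ψ hψ => h1 ψ (h.val_Y hψ).2.1,
    h.sum_eq, List.map_congr_left (g := fun χ => Nat.card G * (δ χ * fsInd (χ : G → ℂ)))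
      fun χ hχ => by rw [← Finset.mul_sum, h1 χ (h.val hχ).2.1, mul_left_comm],
    List.sum_map_mul_left, ← Finset.mul_sum Y] at h2
  apply mul_left_cancel₀ (Nat.cast_ne_zero.2 Nat.card_pos.ne' : (Nat.card G : ℂ) ≠ 0)
  simp only [triv_apply, sub_self, mul_zero, Finset.sum_const_zero, zero_add] at h2
  linear_combination h2

theorem exists_inverting (he : 2 ∣ e) (hc : ¬ 2 ∣ p * c) {x : G} (hx : orderOf x = p) :
    IsConj x x⁻¹ := by
  have hP : Nat.card (zpowers x) = p := by rw [Nat.card_zpowers, hx]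
  obtain ⟨⟨s, h1⟩, hs⟩ := exists_prime_orderOf_dvd_card' 2
    (h.card_norm hx ▸ (he.mul_left p).mul_right c)
  rw [orderOf_mk] at hs
  have h2 : s * x * s⁻¹ ∈ zpowers x := (mem_normalizer_iff.1 h1 x).1 (mem_zpowers x)
  have h3 : s * s = 1 := by rw [← sq, ← hs, pow_orderOf_eq_one]
  refine isConj_iff.2 ⟨s, eq_inv_of_mul_eq_one_right (not_not.1 fun h4 => hc ?_)⟩
  rw [← h.card_centralizer hx, ← hs, ← PS.centralizer_zpowers, ← PS.centralizer_singleton_eq hP
    (mul_mem (mem_zpowers x) h2) h4]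
  refine Subgroup.orderOf_dvd_natCard _ (mem_centralizer_singleton_iff.2 ?_)
  have h5 : x * (s * x * s⁻¹) = s * x * s⁻¹ * x := by
    obtain ⟨k, hk⟩ := h2
    exact hk ▸ (Commute.refl x).zpow_right k
  calc s * (x * (s * x * s⁻¹)) = s * x * s⁻¹ * (s * s) * x * s⁻¹ * 1 := by group
    _ = _ := by rw [← h3, h5]; nth_rw 1 [h3]; group

theorem mem_Y (hc : c = 1) {χ : IrrCharacter G} (h0 : deg χ % p ≠ 0) (h1 : deg χ % p ≠ 1)
    (h2 : (deg χ + 1) % p ≠ 0) : χ ∈ Y := by
  rcases h.mem_of_not_dvd hc (mt Nat.mod_eq_zero_of_dvd h0) with rfl | h3 | h3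
  · exact absurd (by rw [deg_triv, Nat.mod_eq_of_lt hp.out.one_lt]) h1
  · have h4 := h.modEq h3
    rcases (h.val h3).1 with h5 | h5 <;> rw [h5] at h4
    · exact absurd (Eq.trans (Int.natCast_modEq_iff.1 h4)
        (Nat.mod_eq_of_lt hp.out.one_lt)) h1
    · exact absurd (Nat.mod_eq_zero_of_dvd (Int.natCast_dvd_natCast.1
        (by simpa using h4.symm.dvd))) h2
  · exact h3

theorem fs_Y [Fintype G] (hc : c = 1) (he : 2 ∣ e) (hp2 : p ≠ 2) {χ : IrrCharacter G}
    (h0 : deg χ % p ≠ 0) (h1 : deg χ % p ≠ 1) (h2 : (deg χ + 1) % p ≠ 0) :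
    fsInd (χ : G → ℂ) ≠ 0 := fun h3 => by
  obtain ⟨g, hg⟩ := χ.2.fsInd_eq_zero_iff.1 h3
  refine hg (Complex.conj_eq_iff_im.1 ?_)
  by_cases h4 : p ∣ orderOf g
  · have h5 := (h.selfC hc (Nat.le_of_dvd (Nat.pos_of_ne_zero fun e => hp.out.ne_one
      (by simpa [e] using h.card_eq.symm)) he)).cent g (fun e => hp.out.ne_one
        (by simpa [e] using h4)) (h4.trans (Subgroup.orderOf_dvd_natCard _
          (mem_centralizer_singleton_iff.2 rfl)))
    rw [← χ.2.isCharacter.apply_inv, χ.2.isClassFunction.eq_of_isConj (h.exists_inverting he (by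
      rwa [hc, mul_one, Nat.prime_dvd_prime_iff_eq Nat.prime_two hp.out, eq_comm]) h5)]
  · have h5 : deg (⟨_, χ.2.conj⟩ : IrrCharacter G) = deg χ := Nat.cast_injective (R := ℂ) (by
      rw [deg_cast, ← map_natCast conj, deg_cast])
    rw [← h5] at h0 h1 h2
    exact ((h.val_Y (h.mem_Y hc h0 h1 h2)).2.2 g h4).trans
      ((h.val_Y (h.mem_Y hc (h5 ▸ h0) (h5 ▸ h1) (h5 ▸ h2))).2.2 g h4).symm

theorem mem_of_val {χ : IrrCharacter G} (h1 : χ ≠ triv G) {σ : ℤ} (h2 : σ ≠ 0)
    (h3 : ∀ g, p ∣ orderOf g → (χ : G → ℂ) g = σ) : χ ∈ L ∨ χ ∈ Y := by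
  classical
  have := Fintype.ofFinite G
  by_contra! h4
  have h5 : ∀ ψ : IrrCharacter G, ψ ≠ χ → ∑ g, (ψ : G → ℂ) g * conj ((χ : G → ℂ) g) = 0 :=
    fun ψ hψ => by rw [← card_mul_classInner, classInner_irr, if_neg hψ, mul_zero]
  have h6 : ∑ g, (if p ∣ orderOf g then (p : ℂ) else 0) * conj ((χ : G → ℂ) g) = 0 := by
    simp only [h.ind, sub_mul, mul_assoc, Finset.sum_mul, Finset.sum_sub_distrib,
      ← Finset.mul_sum]
    rw [Finset.sum_comm, Finset.sum_comm (t := Y), Finset.sum_eq_zero, Finset.sum_eq_zero]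
    · simp
    · exact fun ψ hψ => h5 ψ fun e => h4.2 (e ▸ hψ)
    · exact fun ψ hψ => by
        rw [← Finset.mul_sum, h5 ψ fun e => by simp [e, h1, h4.1] at hψ, mul_zero]
  rw [Finset.sum_congr rfl (g := fun g => if p ∣ orderOf g then (p : ℂ) * σ else 0) fun g _ => by
    split_ifs with h7 <;> simp [h3, h7], ← Finset.sum_filter, Finset.sum_const] at h6
  obtain ⟨x, hx⟩ := exists_prime_orderOf_dvd_card' (G := G) p
    ⟨M * e * c, by rw [h.card_group]; ring⟩
  simp only [nsmul_eq_mul, mul_eq_zero, Nat.cast_eq_zero, hp.out.ne_zero, Int.cast_eq_zero, h2,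
    or_false, Finset.card_eq_zero, Finset.filter_eq_empty_iff] at h6
  exact h6 (Finset.mem_univ x) hx.symm.dvd

theorem qua_odd (hp2 : p ≠ 2) (hc : Odd (p * c)) {s : G} (hs : orderOf s = 2) {n C : ℕ}
    (hn : Nat.card G = n) (hC : Nat.card (centralizer ({s} : Set G)) = C) :
    ∃ m, (m = 0 ∨ m ∣ c) ∧ ((n / C) ^ 2 * t : ℕ) * (n + quaS n (rows t (sd δ L))
      ((θ :: L).map (iv · s))) = (n * M * (p - 1) * p ^ 2 * m ^ 2 : ℕ) := by
  classical
  have := Fintype.ofFinite G
  subst hn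
  have hs2 : s * s = 1 := by rw [← sq, ← hs, pow_orderOf_eq_one]
  have hK : Nat.card G / C = (centralizer ({s} : Set G)).index := by
    rw [← card_mul_index (centralizer ({s} : Set G)), ← hC, Nat.mul_div_cancel_left _ Nat.card_pos]
  obtain ⟨I, h0⟩ := h.b0
  obtain ⟨P, hP, hc', he⟩ := h.syl
  obtain ⟨y, hyP, hy1⟩ := exists_ne_one hP
  have hy := orderOf_of_mem hP hyP hy1
  obtain ⟨m, -, hm1, -⟩ := exists_card_invSet P hP hp2 hc' he hs2 hyP hy1
  refine ⟨m, (card_invSet_dvd hs2 (h.card_centralizer hy ▸ hc)).imp (by simp [hm1, hp.out.ne_zero])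
    fun h1 => Nat.dvd_of_mul_dvd_mul_left hp.out.pos (by rwa [← hm1, ← h.card_centralizer hy]), ?_⟩
  have h1 := pairSum_singular P hP hp2 hs2 hs2 hy
  have h2 : (p : ℂ) • (fun g : G => if p ∣ orderOf g then (1 : ℂ) else 0) =
      (t : ℂ) • ∑ χ ∈ (triv G :: L).toFinset, (δ χ : ℂ) • (χ : G → ℂ) -
        (ε : ℂ) • ∑ ψ ∈ Y, (ψ : G → ℂ) := by
    funext g
    simp only [Pi.smul_apply, Pi.sub_apply, Finset.sum_apply, smul_eq_mul, ← h.ind, mul_ite,
      mul_one, mul_zero]
  rw [← pairSum_smul, h2, pairSum_sub, pairSum_smul, pairSum_smul, pairSum_sum, pairSum_sum,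
    hm1, h.num, Finset.sum_congr (s₁ := Y) rfl fun ψ hψ => by
      rw [pairSum_irr s s ψ.2, (h.val_Y hψ).2.2 s (not_dvd_two hs hp2), ← deg_cast,
        (h.val_Y hψ).1], Finset.sum_const, h.card_Y, h.sum_eq] at h1
  simp only [pairSum_smul, pairSum_irr s s (Subtype.property _), ← hK, h0.δ_triv,
    ← iv_two _ hs, ← deg_cast] at h1
  have h3 : ∀ {χ : IrrCharacter G} {u : ℤ}, u = 1 ∨ u = -1 →
      (((Nat.card G : ℤ) / (u * deg χ) : ℤ) : ℂ) = u * Nat.card G / deg χ := fun {χ u} hu => by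
    obtain ⟨k, hk⟩ := deg_dvd_card χ
    have h4 : (deg χ : ℂ) ≠ 0 := Nat.cast_ne_zero.2 (deg_pos χ).ne'
    have h5 : (deg χ : ℤ) ≠ 0 := Nat.cast_ne_zero.2 (deg_pos χ).ne'
    rw [hk]
    rcases hu with rfl | rfl <;> simp [h4, neg_div]
  have h4 : ((quaS (Nat.card G) (rows t (sd δ L)) ((θ :: L).map (iv · s)) : ℤ) : ℂ) =
      Nat.card G * (-ε * (iv θ s * iv θ s / deg θ) +
        (L.map fun χ => (δ χ : ℂ) * (iv χ s * iv χ s / deg χ)).sum) := by
    rw [rows, ← h.deg_rel, sd, List.map_map, List.map_cons, quaS, quaS_map, ← neg_mul,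
      Int.cast_add, Int.cast_mul, h3 (by rcases h.sign with h | h <;> simp [h]), mul_add,
      ← List.sum_map_mul_left, Int.cast_list_sum, List.map_map]
    congr 1
    · push_cast; ring
    · exact congrArg _ (List.map_congr_left fun χ hχ => by
        simp only [Function.comp, Int.cast_mul, h3 (h.val hχ).1]; ring)
  have h5 : iv (triv G) s = 1 := iv_eq (by simp)
  have h6 : (L.map fun χ => (δ χ : ℂ) * (((Nat.card G / C : ℕ) : ℂ) * (Nat.card G / C : ℕ) *
      (iv χ s * iv χ s / deg χ))).sum = ((Nat.card G / C : ℕ) : ℂ) ^ 2 *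
        (L.map fun χ => (δ χ : ℂ) * (iv χ s * iv χ s / deg χ)).sum := by
    rw [← List.sum_map_mul_left]
    exact congrArg _ (List.map_congr_left fun χ _ => by ring)
  rw [h5, h6, deg_triv] at h1
  apply Int.cast_injective (α := ℂ)
  rw [Int.cast_mul, Int.cast_add, h4]
  generalize Nat.card G / C = K at h1 ⊢
  simp only [Int.cast_natCast]
  simp only [nsmul_eq_mul] at h1
  push_cast [Nat.cast_sub hp.out.one_le] at h1 ⊢
  linear_combination (Nat.card G : ℂ) * h1

end Blk

end Cfsg.Lib.Spor.Mo
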