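import Cfsg.Agent.Spor.MoFast
import Cfsg.Agent.Spor.O24Cnt

/-!
Higher moments of central characters in a principal block of defect one.
-/

set_option autoImplicit false

open scoped ComplexConjugate

namespace Cfsg.Lib.Spor.Mo

open Cfsg Cfsg.Lib.Char Cfsg.Lib.Solv Cfsg.Lib.PrimeOne Cfsg.Lib.Block.Princ Subgroup
open Cfsg.Lib.Block hiding dg dg_cast
open Cfsg.Lib.Spor.CKit

section
variable {G : Type*} [Group G]

/-- A finite set closed under conjugation. -/
def CInv (U : Finset G) : Prop := ∀ g u, u ∈ U → g * u * g⁻¹ ∈ U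

theorem CInv.sum {U : Finset G} (hU : CInv U) {A : Type*} [AddCommMonoid A] (F : G → A) (x : G) :
    ∑ u ∈ U, F (x * u * x⁻¹) = ∑ u ∈ U, F u :=
  Finset.sum_nbij' (fun u => x * u * x⁻¹) (fun u => x⁻¹ * u * x⁻¹⁻¹) (hU x) (hU x⁻¹)
    (fun u _ => by group) (fun u _ => by group) fun _ _ => rfl

theorem sum_mem_of_class [Finite G] (A : AddSubmonoid ℂ) {f : G → ℂ} (hf : IsClassFunction G f)
    (U : Finset G) : CInv U → (∀ g ∈ U, ((centralizer ({g} : Set G)).index : ℂ) * f g ∈ A) →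
      ∑ g ∈ U, f g ∈ A := by
  classical
  refine Finset.strongInduction (p := fun U => CInv U → (∀ g ∈ U,
    ((centralizer ({g} : Set G)).index : ℂ) * f g ∈ A) → ∑ g ∈ U, f g ∈ A) (fun U ih hU h => ?_) U
  rcases U.eq_empty_or_nonempty with rfl | ⟨g, hg⟩
  · simp
  rw [← Finset.sum_filter_add_sum_filter_not U (IsConj g)]
  refine A.add_mem ?_ (ih _ (Finset.filter_ssubset.2 ⟨g, hg, not_not.2 (IsConj.refl g)⟩)
    (fun x u hu => ?_) fun u hu => h u (Finset.mem_filter.1 hu).1)
  · rw [Finset.sum_congr rfl fun u hu => (hf.eq_of_isConj (Finset.mem_filter.1 hu).2).symm,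
      Finset.sum_const, nsmul_eq_mul, ← Set.ncard_coe_finset,
      show ((U.filter (IsConj g) : Finset G) : Set G) = {u | IsConj g u} from ?_, O24.ncard_cls]
    · exact h g hg
    ext u
    simp only [Finset.coe_filter, Set.mem_setOf_eq, and_iff_right_iff_imp]
    rintro hu
    obtain ⟨x, rfl⟩ := isConj_iff.1 hu
    exact hU x g hg
  · obtain ⟨h1, h2⟩ := Finset.mem_filter.1 hu
    exact Finset.mem_filter.2 ⟨hU x u h1, fun h3 => h2 (h3.trans (isConj_iff.2 ⟨x, rfl⟩).symm)⟩

open Classical in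
/-- The number of `j`-tuples from `U` whose product is the inverse of `g`. -/
noncomputable def cv (U : Finset G) : ℕ → G → ℕ
  | 0 => fun g => if g = 1 then 1 else 0
  | j + 1 => fun g => ∑ u ∈ U, cv U j (g * u)

theorem CInv.cv {U : Finset G} (hU : CInv U) : ∀ (j : ℕ) (g x : G),
    cv U j (x * g * x⁻¹) = cv U j g
  | 0, g, x => by
    have h : x * g * x⁻¹ = 1 ↔ g = 1 := by rw [mul_inv_eq_one, mul_eq_left]
    exact congrArg (fun P : Prop => @ite ℕ P (Classical.propDecidable P) 1 0) (propext h)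
  | j + 1, g, x => by
    simp only [Mo.cv]
    rw [← hU.sum _ x]
    exact Finset.sum_congr rfl fun u _ => by rw [← hU.cv j (g * u) x]; congr 1; group

variable [Fintype G] {U : Finset G} (hU : CInv U) {χ : G → ℂ} (hχ : IsIrrCharacter G χ)
include hU hχ

theorem CInv.sum_mul (g : G) : ∑ u ∈ U, χ (g * u) = (∑ u ∈ U, χ u) / χ 1 * χ g := by
  have h0 : (Nat.card G : ℂ) ≠ 0 := Nat.cast_ne_zero.2 Nat.card_pos.ne'
  apply mul_left_cancel₀ h0
  calc (Nat.card G : ℂ) * ∑ u ∈ U, χ (g * u) = ∑ x : G, ∑ u ∈ U, χ (g * (x * u * x⁻¹)) := by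
        simp only [hU.sum (fun u => χ (g * u)), Finset.sum_const, Finset.card_univ, nsmul_eq_mul,
          Nat.card_eq_fintype_card]
    _ = _ := by
        rw [Finset.sum_comm]
        simp only [irr_sum_mul_conj hχ, Finset.sum_div, Finset.sum_mul, Finset.mul_sum]
        exact Finset.sum_congr rfl fun u _ => by ring

theorem CInv.sum_cv : ∀ j : ℕ,
    ∑ g, (Mo.cv U j g : ℂ) * χ g⁻¹ = ((∑ u ∈ U, χ u) / χ 1) ^ j * χ 1
  | 0 => by
    classical
    simp [Mo.cv, Finset.sum_ite_eq']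
  | j + 1 => by
    simp only [Mo.cv, Nat.cast_sum, Finset.sum_mul]
    rw [Finset.sum_comm, Finset.sum_congr rfl fun u _ => (Equiv.sum_comp (Equiv.mulRight u⁻¹)
      _).symm, Finset.sum_comm]
    simp only [Equiv.coe_mulRight, inv_mul_cancel_right, mul_inv_rev, inv_inv, ← Finset.mul_sum,
      hχ.isClassFunction.apply_mul_comm _ (_ : G)⁻¹, hU.sum_mul hχ]
    rw [pow_succ', mul_assoc, ← CInv.sum_cv j, Finset.mul_sum]
    exact Finset.sum_congr rfl fun g _ => by ring

end

def momZ (K j : ℕ) (Z : List (ℤ × ℤ)) : ℤ :=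
  (Z.map fun r => r.1 * (((K : ℤ) * r.2) / (r.1.natAbs : ℤ)) ^ j).sum

/-- One of the moments fails to be integral. -/
def momBad (n c t K u : ℕ) (Z : List (ℤ × ℤ)) : Bool :=
  [3, 2, 4].any fun j => ((if c = 1 then 1 else t : ℕ) : ℤ) *
    ((((K * u) ^ j : ℕ) : ℤ) + momZ K j Z) % ((n / c : ℕ) : ℤ) != 0

/-- The signed degrees with the values. -/
def zp (l A : List ℤ) : List (ℤ × ℤ) := (-(1 + l.sum) :: l).zip A

variable {G : Type*} [Group G] [Finite G] {p : ℕ} [hp : Fact p.Prime]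

namespace Blk

variable {M e c t : ℕ} {L : List (IrrCharacter G)} {Y : Finset (IrrCharacter G)}
  {θ : IrrCharacter G} {δ : IrrCharacter G → ℤ} {ε : ℤ} (h : Blk p M e c t L Y θ δ ε)
include h

theorem zp_eq (a : IrrCharacter G → ℤ) : zp (sd δ L) ((θ :: L).map a) =
    (-ε * deg θ, a θ) :: L.map fun χ => (δ χ * deg χ, a χ) := by
  rw [zp, ← h.deg_rel, List.map_cons, List.zip_cons_cons, sd, List.zip_map', neg_mul]

theorem ind [Fintype G] [DecidableEq (IrrCharacter G)] (g : G) :
    (if p ∣ orderOf g then (p : ℂ) else 0) =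
      t * ∑ χ ∈ (triv G :: L).toFinset, (δ χ : ℂ) * (χ : G → ℂ) g - ε * ∑ ψ ∈ Y, (ψ : G → ℂ) g := by
  obtain ⟨I, h0⟩ := h.b0
  split_ifs with h3
  · rw [h0.sum_Y g h3, Finset.sum_congr rfl fun χ hχ => by
      rw [h0.val_X χ hχ g h3, ← Int.cast_mul, h0.sign_X_mul_self hχ], Finset.sum_const,
      h0.card_X, mul_neg, ← Int.cast_mul, h0.sign_mul_self, ← h.card_eq]
    push_cast
    ring
  · rw [h0.sum_Y_regular h.mem h3, ← h0.rel θ h.mem g h3]
    ring

theorem dvd_index {g : G} (hg : p ∣ orderOf g) : M * e ∣ (centralizer ({g} : Set G)).index := by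
  have h1 := h.card_centralizer (orderOf_pow_orderOf_div (orderOf_pos g).ne' hg)
  obtain ⟨r, hr⟩ := card_dvd_of_le (show centralizer ({g} : Set G) ≤
    centralizer {g ^ (orderOf g / p)} from fun x hx => mem_centralizer_singleton_iff.2
      ((show Commute x g from mem_centralizer_singleton_iff.1 hx).pow_right _))
  have h2 := card_mul_index (centralizer ({g} : Set G))
  refine ⟨r, Nat.eq_of_mul_eq_mul_left (Nat.card_pos (α := centralizer ({g} : Set G))) ?_⟩
  rw [h2, h.card_group, mul_left_comm, ← hr, h1]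
  ring

theorem not_momBad {U : Finset G} (hU : CInv U) (hr : ∀ g ∈ U, ¬ p ∣ orderOf g) {K u : ℕ}
    (hu : U.card = K * u) {a : IrrCharacter G → ℤ}
    (ha : ∀ χ ∈ θ :: L, ∑ g ∈ U, (χ : G → ℂ) g = K * a χ ∧ (deg χ : ℤ) ∣ K * a χ) {n : ℕ}
    (hn : Nat.card G = n) : ¬ momBad n c t K u (zp (sd δ L) ((θ :: L).map a)) = true := by
  classical
  have := Fintype.ofFinite G
  subst hn
  simp only [momBad, List.any_eq_true, bne_iff_ne, not_exists, not_and, not_not]
  intro j _
  obtain ⟨I, h0⟩ := h.b0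
  have hc : 0 < c := Nat.pos_of_ne_zero fun e => by
    simpa [e] using h.card_group.symm.trans_gt Nat.card_pos
  have h1 : Nat.card G / c = p * M * e := by rw [h.card_group, Nat.mul_div_cancel _ hc]
  have h2 : ∀ χ ∈ θ :: L, ∑ g, (cv U j g : ℂ) * (χ : G → ℂ) g⁻¹ =
      (deg χ * (K * a χ / deg χ) ^ j : ℤ) := fun χ hχ => by
    rw [hU.sum_cv χ.2, (ha χ hχ).1, ← deg_cast, Int.cast_mul, Int.cast_pow,
      Int.cast_div_charZero (ha χ hχ).2]
    push_cast
    ring
  have h3 : ∀ ψ ∈ Y, ∑ g, (cv U j g : ℂ) * (ψ : G → ℂ) g⁻¹ =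
      (deg θ * (K * a θ / deg θ) ^ j : ℤ) := fun ψ hψ => by
    rw [← h2 θ List.mem_cons_self, hU.sum_cv ψ.2, hU.sum_cv θ.2, ← deg_cast, ← deg_cast,
      (h.val_Y hψ).1, Finset.sum_congr rfl fun g hg => (h.val_Y hψ).2.2 g (hr g hg)]
  have h4 : ∑ χ ∈ (triv G :: L).toFinset, (δ χ : ℂ) * ∑ g, (cv U j g : ℂ) * (χ : G → ℂ) g⁻¹ -
      ε * (deg θ * (K * a θ / deg θ) ^ j : ℤ) =
      ((((K * u) ^ j : ℕ) + momZ K j (zp (sd δ L) ((θ :: L).map a)) : ℤ) : ℂ) := by
    have h5 : (-ε * deg θ).natAbs = deg θ := by rcases h.sign with h | h <;> simp [h]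
    rw [h.sum_eq, hU.sum_cv (triv G).2, h0.δ_triv, h.zp_eq, momZ, List.map_cons, List.sum_cons,
      List.map_map, List.map_congr_left (g := fun χ => ((δ χ * deg χ * (K * a χ / deg χ) ^ j : ℤ) :
        ℂ)) fun χ hχ => by rw [h2 χ (List.mem_cons_of_mem _ hχ)]; push_cast; ring,
      List.map_congr_left (f := _ ∘ _) (g := fun χ => δ χ * deg χ * (K * a χ / deg χ) ^ j)
        fun χ hχ => by simp only [Function.comp, h.natAbs_sd hχ], h5]
    simp [hu, Int.cast_list_sum, Function.comp_def]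
    ring
  refine Int.emod_eq_zero_of_dvd ?_
  split_ifs with h5
  · subst h5
    obtain ⟨P, hP, -⟩ := h.syl
    obtain ⟨x, hxP, hx1⟩ := exists_ne_one hP
    have hx := (orderOf_of_mem hP hxP hx1).ge
    have hx := (orderOf_of_mem hP hxP hx1).symm.dvd
    have h6 := IsClassFunction.apply_eq_sum_irr (φ := fun g => (cv U j g : ℂ))
      (fun g x => by simp only [hU.cv]) x
    have h7 : (Nat.card G : ℂ) * cv U j x = ∑ χ : IrrCharacter G,
        (∑ g, (cv U j g : ℂ) * (χ : G → ℂ) g⁻¹) * (χ : G → ℂ) x := by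
      rw [h6, Finset.mul_sum]
      exact Finset.sum_congr rfl fun χ _ => by
        rw [← mul_assoc, card_mul_classInner]
        simp only [χ.2.isCharacter.apply_inv]
    rw [← Finset.sum_subset (Finset.subset_univ ((triv G :: L).toFinset ∪ Y)) fun χ _ hχ => by
      rw [apply_eq_zero_of_dvd_degree hp.out (not_sq_dvd hP) χ (by
        by_contra h8
        exact hχ (by simpa [or_assoc] using h.mem_of_not_dvd rfl h8)) hx, mul_zero],
      Finset.sum_union h0.disj, Finset.sum_congr (s₁ := Y) rfl fun ψ hψ => by rw [h3 ψ hψ],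
      ← Finset.mul_sum, h0.sum_Y x hx, Finset.sum_congr rfl fun χ hχ => by
        rw [h0.val_X χ hχ x hx, mul_comm]] at h7
    refine ⟨cv U j x, Int.cast_injective (α := ℂ) ?_⟩
    rw [Int.cast_mul, ← h4, Nat.div_one]
    push_cast at h7 ⊢
    rw [h7]
    ring
  · obtain ⟨k, hk⟩ := AddSubgroup.mem_zmultiples_iff.1 (sum_mem_of_class
      (AddSubgroup.zmultiples ((M * e : ℕ) : ℂ)).toAddSubmonoid (f := fun g => (cv U j g : ℂ))
      (fun g x => by simp only [hU.cv]) (Finset.univ.filter fun g => p ∣ orderOf g)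
      (fun x g hg => by simpa [← MulAut.conj_apply, MulEquiv.orderOf_eq] using hg) fun g hg => by
        obtain ⟨r, hr⟩ := h.dvd_index (Finset.mem_filter.1 hg).2
        exact AddSubgroup.mem_zmultiples_iff.2 ⟨(r * cv U j g : ℕ), by rw [hr]; simp; ring⟩)
    have h6 : ∑ g, (cv U j g : ℂ) * (if p ∣ orderOf g⁻¹ then (p : ℂ) else 0) =
        p * ∑ g ∈ Finset.univ.filter fun g => p ∣ orderOf g, (cv U j g : ℂ) := by
      rw [Finset.mul_sum, Finset.sum_filter]
      exact Finset.sum_congr rfl fun g _ => by rw [orderOf_inv]; split_ifs <;> ring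
    simp only [h.ind, mul_sub, Finset.sum_sub_distrib, mul_left_comm (_ : ℂ) (t : ℂ),
      mul_left_comm (_ : ℂ) (ε : ℂ), ← Finset.mul_sum, ← hk] at h6
    simp only [Finset.mul_sum] at h6
    rw [Finset.sum_comm, Finset.sum_comm (t := Y)] at h6
    simp only [mul_left_comm (cv U j _ : ℂ), ← Finset.mul_sum] at h6
    rw [Finset.sum_congr (s₁ := Y) rfl h3, Finset.sum_const, h.card_Y] at h6
    refine ⟨k, Int.cast_injective (α := ℂ) ?_⟩
    rw [Int.cast_mul, ← h4, h1]
    simp only [nsmul_eq_mul, zsmul_eq_mul] at h6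
    push_cast at h6 ⊢
    linear_combination h6

theorem not_momBad_inv (hp2 : p ≠ 2) {s : G} (hs : orderOf s = 2) {n : ℕ} (hn : Nat.card G = n) :
    ¬ momBad n c t (n / Nat.card (centralizer ({s} : Set G))) 1
      (zp (sd δ L) ((θ :: L).map (iv · s))) = true := by
  classical
  have := Fintype.ofFinite G
  have hK : n / Nat.card (centralizer ({s} : Set G)) = (centralizer ({s} : Set G)).index := by
    rw [← hn, ← card_mul_index (centralizer ({s} : Set G)), Nat.mul_div_cancel_left _ Nat.card_pos]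
  have h1 : (Finset.univ.filter (IsConj s)).card = (centralizer ({s} : Set G)).index := by
    rw [← Set.ncard_coe_finset, ← O24.ncard_cls, Finset.coe_filter]
    simp only [Finset.mem_univ, true_and]
  rw [hK]
  refine h.not_momBad (U := Finset.univ.filter (IsConj s)) (fun x u hu => ?_) (fun g hg => ?_)
    (by rw [h1, mul_one]) (fun χ _ => ⟨?_, dg_dvd_index_mul χ (iv_two χ hs).symm⟩) hn
  · simp only [Finset.mem_filter, Finset.mem_univ, true_and] at hu ⊢
    exact hu.trans (isConj_iff.2 ⟨x, rfl⟩)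
  · obtain ⟨x, rfl⟩ := isConj_iff.1 (Finset.mem_filter.1 hg).2
    rw [← MulAut.conj_apply, MulEquiv.orderOf_eq]
    exact not_dvd_two hs hp2
  · rw [Finset.sum_congr rfl fun u hu => (χ.2.isClassFunction.eq_of_isConj
      (Finset.mem_filter.1 hu).2).symm, Finset.sum_const, h1, iv_two χ hs, nsmul_eq_mul]

end Blk

/-- The sums of the characters over the elements of order `q`. -/
structure Vals (q K u b : ℕ) (U : Finset G) (a : IrrCharacter G → ℤ) : Prop where
  inv : CInv U
  ord : ∀ g ∈ U, orderOf g = q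
  card : U.card = K * u
  sum : ∀ χ : IrrCharacter G, ∑ g ∈ U, (χ : G → ℂ) g = K * a χ
  dvd : ∀ χ, (deg χ : ℤ) ∣ K * a χ
  mod : ∀ χ, (q : ℤ) ∣ a χ - u * deg χ
  zero : ∀ χ, q ∣ deg χ → a χ = 0
  nrm : ∀ S : Finset (IrrCharacter G), ∑ χ ∈ S, (a χ).natAbs ^ 2 ≤ b
  val : ∀ (χ : IrrCharacter G) (σ : ℤ), (∀ g, q ∣ orderOf g → (χ : G → ℂ) g = σ) → a χ = u * σ
  pos : 0 < K

theorem Blk.exists_vals {M e c t : ℕ} {L : List (IrrCharacter G)} {Y : Finset (IrrCharacter G)}
    {θ : IrrCharacter G} {δ : IrrCharacter G → ℤ} {ε : ℤ} (h : Blk p M e c t L Y θ δ ε) :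
    ∃ (U : Finset G) (a : IrrCharacter G → ℤ), Vals p (M * e) t (t * (p * c)) U a := by
  classical
  have := Fintype.ofFinite G
  obtain ⟨P, hP, -⟩ := h.syl
  obtain ⟨x, hxP, hx1⟩ := exists_ne_one hP
  have hx := orderOf_of_mem hP hxP hx1
  set U := Finset.univ.filter fun g : G => orderOf g = p with hUd
  have hm : ∀ g, g ∈ U ↔ orderOf g = p := fun g => by simp [hUd]
  have hU : CInv U := fun x g hg => by
    rwa [hm, ← MulAut.conj_apply, MulEquiv.orderOf_eq, ← hm]
  have h1 := h.card_eq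
  have h2 : U.card = M * e * t := by
    rw [← Fintype.card_subtype, ← Nat.card_eq_fintype_card, Known.SC.card_orderOf_eq_prime P hP,
      h.num, mul_assoc, ← h1, Nat.add_sub_cancel]
  have hK : 0 < M * e := Nat.pos_of_ne_zero fun e => by
    have := h.card_group.symm.trans_gt Nat.card_pos
    simp [mul_assoc p, e] at this
  have hK' : ((M * e : ℕ) : ℂ) ≠ 0 := Nat.cast_ne_zero.2 hK.ne'
  have ht : (t : ℂ) ≠ 0 := Nat.cast_ne_zero.2 h.t_pos.ne'
  have h3 : ∀ g ∈ U, (centralizer ({g} : Set G)).index = M * e := fun g hg => by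
    have h3 := card_mul_index (centralizer ({g} : Set G))
    rw [h.card_centralizer ((hm g).1 hg), h.card_group] at h3
    have h4 : 0 < p * c := h.card_centralizer hx ▸ Nat.card_pos
    exact Nat.eq_of_mul_eq_mul_left h4 (h3.trans (by ring))
  have key : ∀ χ : IrrCharacter G, ∃ a : ℤ, ∑ g ∈ U, (χ : G → ℂ) g = (M * e : ℕ) * a ∧
      (p : ℤ) ∣ a - t * deg χ := fun χ => by
    obtain ⟨m, hm'⟩ := (χ.2.isCharacter.res (zpowers x)).exists_nat_classInner isCharacter_one
    have h4 := card_mul_classInner (fun g : zpowers x => (χ : G → ℂ) g) fun _ => 1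
    simp only [map_one, mul_one, ← sum_range_pow, hx, hm', Nat.card_zpowers] at h4
    have h5 := sum_range_pow_eq_zero hP (x := x) (f := fun g => if orderOf g = p then
      (U.card : ℂ) * (χ : G → ℂ) g - ∑ g ∈ U, (χ : G → ℂ) g else 0) (fun g y => by
        simp only [← MulAut.conj_apply, MulEquiv.orderOf_eq]
        simp only [MulAut.conj_apply, χ.2.isClassFunction.apply_conj]) (fun g hg => if_neg hg) (by
        rw [← Finset.sum_filter, Finset.sum_sub_distrib, ← Finset.mul_sum]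
        simp [hUd]) hx
    have h6 := Finset.sum_range_succ' (fun i => (χ : G → ℂ) (x ^ i)) (e * t)
    rw [← h1, Finset.sum_range_succ', Finset.sum_congr rfl fun i hi => if_pos ((orderOf_pow_eq hx
      i.succ_pos (by have := Finset.mem_range.1 hi; omega)).trans h1.symm), pow_zero, orderOf_one,
      if_neg (h1 ▸ hp.out.one_lt.ne), Finset.sum_sub_distrib, ← Finset.mul_sum, h2] at h5
    rw [h1, ← h4, pow_zero, ← deg_cast] at h6
    simp only [Finset.sum_const, Finset.card_range, nsmul_eq_mul] at h5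
    have he : (e : ℂ) ≠ 0 := fun h7 => hK' (by simp [h7])
    have h7 : ∑ g ∈ U, (χ : G → ℂ) g = M * (p * m - deg χ) := by
      apply mul_left_cancel₀ (mul_ne_zero he ht)
      push_cast at h5
      linear_combination -h5 - M * e * t * h6
    have h8 := sum_mem_of_class (integralClosure ℤ ℂ).toSubring.toAddSubmonoid
      (χ.2.isClassFunction.mul (ψ := fun _ => ((M * e : ℕ) : ℂ)⁻¹) fun _ _ => rfl)
      U hU fun g hg => by
        rw [h3 g hg, Pi.mul_apply, mul_comm, inv_mul_cancel_right₀ hK']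
        exact IsCharacter_isIntegral χ.2.isCharacter g
    simp only [Pi.mul_apply, ← Finset.sum_mul, h7] at h8
    obtain ⟨a, ha⟩ := int_dvd_of_isIntegral_div (a := M * (p * m - deg χ)) (b := (M * e : ℕ))
      (by exact_mod_cast hK.ne') (by simpa [div_eq_mul_inv, mem_integralClosure_iff] using h8)
    refine ⟨a, by rw [h7]; exact_mod_cast ha, a - t * m, ?_⟩
    have h9 : (M : ℤ) ≠ 0 := fun h9 => hK.ne' (by simp [Int.natCast_eq_zero.1 h9])
    have h10 : (p : ℤ) * m - deg χ = e * a := mul_left_cancel₀ h9 (by rw [ha]; push_cast; ring)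
    have h11 : (e : ℤ) * t + 1 = p := by exact_mod_cast h1
    linear_combination t * h10 + a * h11
  choose a ha using key
  have h4 : ∀ (χ : IrrCharacter G) (σ : ℤ), (∀ g, p ∣ orderOf g → (χ : G → ℂ) g = σ) →
      a χ = t * σ := fun χ σ h4 => by
    have h5 := (ha χ).1
    rw [Finset.sum_congr rfl fun g hg => h4 g ((hm g).1 hg).symm.dvd, Finset.sum_const, h2,
      nsmul_eq_mul, Nat.cast_mul, mul_assoc] at h5
    exact_mod_cast (mul_left_cancel₀ hK' h5).symm
  refine ⟨U, a, hU, fun g => (hm g).1, h2, fun χ => (ha χ).1, fun χ => ?_, fun χ => (ha χ).2,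
    fun χ hχ => (h4 χ 0 fun g hg => (apply_eq_zero_of_dvd_degree hp.out (not_sq_dvd hP) χ hχ
      hg).trans Int.cast_zero.symm).trans (mul_zero _), fun S => ?_, h4, hK⟩
  · have h8 := sum_mem_of_class (integralClosure ℤ ℂ).toSubring.toAddSubmonoid
      (χ.2.isClassFunction.mul (ψ := fun _ => ((χ : G → ℂ) 1)⁻¹) fun _ _ => rfl)
      U hU fun g _ => by
        rw [Pi.mul_apply, ← mul_assoc, ← div_eq_mul_inv]
        exact irr_isIntegral_index_mul_div χ.2 g
    simp only [Pi.mul_apply, ← Finset.sum_mul, (ha χ).1, ← deg_cast] at h8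
    exact int_dvd_of_isIntegral_div (by exact_mod_cast (deg_pos χ).ne')
      (by simpa [div_eq_mul_inv, mem_integralClosure_iff] using h8)
  · have hn : (Nat.card G : ℂ) ≠ 0 := Nat.cast_ne_zero.2 Nat.card_pos.ne'
    have h5 : ∀ χ : IrrCharacter G, Nat.card G * classInner (χ : G → ℂ)
        (fun g => if g ∈ U then 1 else 0) = (M * e : ℕ) * a χ := fun χ => by
      rw [card_mul_classInner, ← (ha χ).1]
      simp [apply_ite, Finset.sum_ite_mem]
    have h6 := IsClassFunction.classInner_eq_sum_irr (φ := fun g => if g ∈ U then (1 : ℂ) else 0)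
      (fun g y => by simp only [hm, ← MulAut.conj_apply, MulEquiv.orderOf_eq])
      fun g => if g ∈ U then (1 : ℂ) else 0
    have h7 : (Nat.card G : ℂ) * (M * e * t : ℕ) = ∑ χ, ((M * e : ℕ) : ℂ) ^ 2 *
        ((a χ).natAbs ^ 2 : ℕ) := by
      have h8 := card_mul_classInner (fun g => if g ∈ U then (1 : ℂ) else 0)
        fun g => if g ∈ U then (1 : ℂ) else 0
      rw [h6] at h8
      rw [← h2, show (U.card : ℂ) = _ from Eq.trans (by simp [apply_ite, Finset.sum_ite_mem])
        h8.symm, Finset.mul_sum, Finset.mul_sum]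
      refine Finset.sum_congr rfl fun χ _ => ?_
      have h9 := congrArg conj (h5 χ)
      rw [map_mul, conj_classInner, map_mul, map_natCast, map_natCast, map_intCast] at h9
      rw [Nat.cast_pow, ← Int.cast_natCast (a χ).natAbs, ← Int.cast_pow, Int.natAbs_sq,
        Int.cast_pow]
      linear_combination (Nat.card G * classInner (χ : G → ℂ)
        (fun g => if g ∈ U then 1 else 0)) * h9 + (M * e : ℕ) * a χ * h5 χ
    rw [← Finset.mul_sum, ← Nat.cast_sum, h.card_group] at h7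
    refine (Finset.sum_le_sum_of_subset (Finset.subset_univ S)).trans_eq
      (Nat.cast_injective (R := ℂ) (mul_left_cancel₀ (pow_ne_zero 2 hK') ?_))
    rw [← h7]
    push_cast
    ring

end Cfsg.Lib.Spor.Mo
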