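import Mathlib.GroupTheory.Perm.Basic
import Mathlib.Data.Fintype.Perm
import Mathlib.Data.Fintype.Fin

namespace Cfsg.Lib.Spor.O24

theorem s5 : ∀ u : Equiv.Perm (Fin 5), (∀ i, u (u i) = i) → (∃ i, u i ≠ i) →
    (Finset.univ.filter fun g : Equiv.Perm (Fin 5) => ∀ i, g (u i) = u (g i)).card % 8 = 0 →
      ∃ g, (u * (g * u * g⁻¹)) ^ 5 = 1 ∧ u * (g * u * g⁻¹) ≠ 1 := by decide +kernel

end Cfsg.Lib.Spor.O24
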