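import Cfsg.Agent.Spor.O24Loc
import Cfsg.Agent.Spor.O24S5
import Cfsg.Agent.SporChar.HeSplit

/-! A simple group with the order and the involution centraliser orders of `M₂₄`. -/

namespace Cfsg.Lib.Spor.O24

open Subgroup Cfsg.Lib.Solv Cfsg.Lib.Known Cfsg.Lib.Local

variable {G : Type*} [Group G] [Finite G]

/-- `O₂(C(t))`. -/
abbrev Ot (t : G) : Subgroup G := (pCore 2 (centralizer ({t} : Set G))).map (Subgroup.subtype _)

omit [Finite G] in
theorem Ot_inv {t g : G} (hg : g * t = t * g) (r : G) (hr : r ∈ Ot t) : g * r * g⁻¹ ∈ Ot t := by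
  obtain ⟨r, hr, rfl⟩ := hr
  exact ⟨_, (inferInstance : (pCore 2 (centralizer ({t} : Set G))).Normal).conj_mem r hr
    ⟨g, mem_c1.2 hg⟩, rfl⟩

omit [Finite G] in
theorem Ot_le (t : G) : Ot t ≤ centralizer {t} := map_subtype_le _

omit [Finite G] in
theorem mem_Ot {t : G} (x : centralizer ({t} : Set G)) : x ∈ pCore 2 _ ↔ (x : G) ∈ Ot t :=
  (mem_map_iff_mem (subtype_injective _)).symm

theorem le_Ot {p : ℕ} [Fact p.Prime] {t x : G} {hx : x ∈ centralizer {t}}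
    (h : Tp p (⟨x, hx⟩ : centralizer ({t} : Set G))) (M : Subgroup G) (h1 : ∀ m ∈ M, m * t = t * m)
    (h2 : ∀ g, g * t = t * g → ∀ m ∈ M, g * m * g⁻¹ ∈ M) (h3 : x ∉ M) : M ≤ Ot t := fun m hm => by
  have : (M.subgroupOf (centralizer {t})).Normal := ⟨fun n hn g => h2 g (mem_c1.1 g.2) n hn⟩
  exact (mem_Ot ⟨m, mem_c1.2 (h1 m hm)⟩).1 (h.le_pCore (M := M.subgroupOf _) h3 hm)

theorem Ot_le_of {t : G} {S : Subgroup G} (hS : IsPGroup 2 S)
    (h : ¬ 2 ∣ S.relIndex (centralizer {t})) : Ot t ≤ S := by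
  rintro _ ⟨r, hr, rfl⟩
  exact pCore_le_sylow ((hS.comap_of_injective _ (subtype_injective _)).toSylow h) hr

omit [Finite G] in
theorem card_cc {t x : G} (hx : x ∈ centralizer {t}) :
    Nat.card (centralizer ({⟨x, hx⟩} : Set (centralizer ({t} : Set G)))) =
      Nat.card (centralizer {t} ⊓ centralizer {x} : Subgroup G) := by
  rw [← card_subgroupOf_of_le inf_le_left]
  congr 2
  ext g
  simp [mem_c1, mem_subgroupOf, Subtype.ext_iff]

omit [Finite G] in
theorem card_img {L : Subgroup G} {X : Type*} [Group X] (f : L →* X) {P : Subgroup G}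
    (hf : ∀ x, f x = 1 ↔ (x : G) ∈ P) {B : Subgroup G} (hB : B ≤ L) :
    Nat.card ((B.subgroupOf L).map f) * Nat.card (P ⊓ B : Subgroup G) = Nat.card B := by
  rw [← relIndex_ker, show f.ker = P.subgroupOf L from Subgroup.ext hf, relIndex_subgroupOf hB,
    card_rel]

theorem card_le_img {L : Subgroup G} {X : Type*} [Group X] [Finite X] (f : L →* X) {P : Subgroup G}
    (hf : ∀ x, f x = 1 ↔ (x : G) ∈ P) {x : X} (h4 : x ^ 4 = 1) (h2 : x * x ≠ 1)
    (h16 : ¬ 16 ∣ Nat.card X) {B : Subgroup G} (hB : B ≤ L) (h : ∀ b ∈ B, b * b = 1) :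
    Nat.card B ≤ 4 * Nat.card (P ⊓ B : Subgroup G) := by
  rw [← card_img f hf hB]
  refine Nat.mul_le_mul_right _ (card_le_four h4 h2 h16 ?_)
  rintro _ ⟨b, hb, rfl⟩
  rw [← map_mul, show b * b = 1 from Subtype.ext (h b hb), map_one]

/-- What is known about the group. -/
structure Hyp (s z₀ : G) : Prop where
  ord : orderOf s = 2
  card : Nat.card G = 244823040
  cs : Nat.card (centralizer ({s} : Set G)) = 7680
  cz : Nat.card (centralizer ({z₀} : Set G)) = 21504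
  two : ∀ i, orderOf i = 2 → IsConj i s ∨ IsConj i z₀
  five : ∀ v t : G, orderOf v = 5 → orderOf t = 2 → v ∈ centralizer {t} →
    Nat.card (centralizer {t} ⊓ centralizer {v} : Subgroup G) = 20
  four : ∀ v x : G, orderOf v = 5 → x * v = v * x → x ^ 4 = 1 → x * x = 1
  seven : ∀ v t : G, orderOf v = 7 → orderOf t = 2 → v ∈ centralizer {t} →
    Nat.card (centralizer {t} ⊓ centralizer {v} : Subgroup G) = 14

theorem exists_sylow {s : G} (hs : orderOf s = 2) (hG : Nat.card G = 244823040)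
    (hc : Nat.card (centralizer ({s} : Set G)) = 7680) : ∃ (S : Subgroup G) (z : G),
      Nat.card S = 1024 ∧ Nat.card (S ⊓ centralizer {s} : Subgroup G) = 512 ∧ s ∈ S ∧ z ∈ S ∧
      orderOf z = 2 ∧ (∀ g ∈ S, g * z = z * g) ∧ ∀ g ∈ S, g * s * g⁻¹ * s⁻¹ ∈ zpowers z := by
  have : Fact (Nat.Prime 2) := ⟨Nat.prime_two⟩
  obtain ⟨T⟩ : Nonempty (Sylow 2 (centralizer ({s} : Set G))) := inferInstance
  obtain ⟨S, hS⟩ := (T.isPGroup'.map (Subgroup.subtype _)).exists_le_sylow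
  have h1 : Nat.card S = 1024 := SC.sylow_card_eq_pow (k := 10) (m := 239085) S hG (by norm_num)
  have h2 : Nat.card T = 512 := SC.sylow_card_eq_pow (k := 9) (m := 15) T hc (by norm_num)
  have h3 : Nat.card (S ⊓ centralizer {s} : Subgroup G) = 512 := by
    have h4 := card_dvd_of_le (le_inf hS (map_subtype_le _))
    rw [card_map_of_injective (subtype_injective _), h2] at h4
    exact Nat.dvd_antisymm (Nat.dvd_gcd (h1 ▸ card_dvd_of_le inf_le_left)
      (hc ▸ card_dvd_of_le inf_le_right)) h4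
  have h4 : s ∈ (S : Subgroup G) := hS ⟨⟨s, mem_c1.2 rfl⟩, pCore_le_sylow T (Solv.le_pCore
    (normal_of_le_center (zpowers_le.2 (mem_center_iff.2 fun g => Subtype.ext (mem_c1.1 g.2))))
    (IsPGroup.of_card (n := 1) ((Nat.card_zpowers _).trans ((orderOf_mk _ _).trans hs)))
    (mem_zpowers _)), rfl⟩
  have h5 : ((centralizer ({s} : Set G)).subgroupOf S).index = 2 := by
    have := card_rel (centralizer ({s} : Set G)) S
    rw [inf_comm, h3, h1] at this
    change relIndex _ _ = 2; omega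
  have h6 : ∀ {a b}, a ∈ (S : Subgroup G) → b ∈ (S : Subgroup G) →
      (a * b ∈ centralizer {s} ↔ (a ∈ centralizer {s} ↔ b ∈ centralizer ({s} : Set G))) :=
    fun ha hb => mul_mem_iff_of_index_two h5 (a := ⟨_, ha⟩) (b := ⟨_, hb⟩)
  obtain ⟨a, ha, h7⟩ : ∃ a ∈ (S : Subgroup G), a ∉ centralizer ({s} : Set G) := by
    by_contra! h
    rw [inf_eq_left.2 h] at h3; omega
  have h8 : ∀ g ∈ centralizer ({s} : Set G), g * s * g⁻¹ = s := fun g hg => by
    rw [mem_c1.1 hg, mul_inv_cancel_right]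
  have h9 : ∀ g ∈ (S : Subgroup G), g ∉ centralizer ({s} : Set G) → g * s * g⁻¹ = a * s * a⁻¹ :=
    fun g hg h => by
      conv_rhs => rw [← h8 _ ((h6 (inv_mem ha) hg).2 (by simp [h, h7]))]
      group
  have s2 : s * s = 1 := by rw [← pow_two, ← hs, pow_orderOf_eq_one]
  have h10 : a * s * a⁻¹ * s = s * (a * s * a⁻¹) := mem_c1.1 ((h6 (mul_mem ha h4) (inv_mem ha)).2
    (by simp [h6 ha h4, h7, mem_c1]))
  have si : s⁻¹ = s := inv_eq_of_mul_eq_one_right s2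
  refine ⟨S, a * s * a⁻¹ * s⁻¹, h1, h3, h4,
    mul_mem (mul_mem (mul_mem ha h4) (inv_mem ha)) (inv_mem h4), orderOf_eq_prime ?_ fun h => h7 ?_,
    fun g hg => ?_, fun g hg => ?_⟩
  · rw [si, Commute.mul_pow h10, conj_pow, pow_two, s2]
    simp
  · exact mem_c1.2 (mul_inv_eq_iff_eq_mul.1 (mul_inv_eq_one.1 h))
  · rw [← mul_inv_eq_iff_eq_mul, show g * (a * s * a⁻¹ * s⁻¹) * g⁻¹ =
      g * a * s * (g * a)⁻¹ * (g * s * g⁻¹)⁻¹ by group]
    by_cases h : g ∈ centralizer ({s} : Set G)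
    · rw [h8 g h, h9 _ (mul_mem hg ha) (by simp [h6 hg ha, h, h7])]
    · rw [h9 g hg h, h8 _ ((h6 hg ha).2 (by simp [h, h7])), conj_inv, si, h10]
  · by_cases h : g ∈ centralizer ({s} : Set G)
    · simp [h8 g h]
    · exact h9 g hg h ▸ mem_zpowers _

namespace Hyp

variable {s z₀ : G} (h : Hyp s z₀)
include h

theorem exists_w : ∃ (w : G) (hw : w ∈ centralizer {s}), orderOf w = 5 ∧
    Tp 5 (⟨w, hw⟩ : centralizer ({s} : Set G)) ∧ Nat.card (Ot s) = 64 ∧
      ∃ π : centralizer ({s} : Set G) →* Equiv.Perm (Fin 5), Function.Surjective π ∧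
        ∀ x, π x = 1 ↔ (x : G) ∈ Ot s := by
  have : Fact (Nat.Prime 5) := ⟨Nat.prime_five⟩
  obtain ⟨⟨w, hw⟩, h1⟩ := exists_prime_orderOf_dvd_card' (G := centralizer ({s} : Set G)) 5
    (h.cs ▸ by norm_num)
  have h2 := (orderOf_mk _ _).symm.trans h1
  have h3 := (card_cc hw).trans (h.five w s h2 h.ord hw)
  obtain ⟨h4, ⟨e⟩⟩ := exists_L h1 h.cs h3
  exact ⟨w, hw, h2, ⟨h1, le_rfl, ⟨9, h.cs ▸ by norm_num⟩, h3 ▸ by norm_num⟩,
    (card_map_of_injective (subtype_injective _)).trans h4,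
    e.toMonoidHom.comp (QuotientGroup.mk' _), e.surjective.comp (QuotientGroup.mk'_surjective _),
    fun x => (e.map_eq_one_iff.trans (QuotientGroup.eq_one_iff x)).trans (mem_Ot x)⟩

theorem card_four {v : G} (hv : orderOf v = 5) (hs : v ∈ centralizer {s}) {A : Subgroup G}
    (hA : A ≤ Ot s ⊓ centralizer {v}) (hP : Nat.card (Ot s) = 64) : Nat.card A ∣ 4 :=
  Nat.dvd_gcd (h.five v s hv h.ord hs ▸ card_dvd_of_le (hA.trans (inf_le_inf_right _ (Ot_le s))))
    (hP ▸ card_dvd_of_le (hA.trans inf_le_left))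

theorem s_mem : s ∈ Ot s := by
  obtain ⟨w, hw, h1, k, -⟩ := h.exists_w
  have : Fact (Nat.Prime 5) := ⟨Nat.prime_five⟩
  refine le_Ot k (zpowers s) (fun m hm => ?_) (fun g hg m hm => (conj_zp hg hm).symm ▸ hm)
    (fun h2 => ?_) (mem_zpowers s)
  · rcases mem_zp h.ord hm with rfl | rfl <;> simp
  · have := orderOf_dvd_of_mem_zpowers h2
    rw [h.ord, h1] at this; omega

theorem cent_le (g : G) (hg : ∀ p ∈ Ot s, p * g = g * p) : g ∈ Ot s := by
  obtain ⟨w, hw, h1, k, h2, -⟩ := h.exists_w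
  have : Fact (Nat.Prime 5) := ⟨Nat.prime_five⟩
  refine le_Ot k (centralizer (Ot s)) (fun m hm => (hm s h.s_mem).symm) (fun g hg c hc r hr => ?_)
    (fun h3 => ?_) hg
  · calc r * (g * c * g⁻¹) = g * (g⁻¹ * r * g⁻¹⁻¹ * c) * g⁻¹ := by group
      _ = _ := by rw [hc _ (Ot_inv (Commute.inv_left hg) r hr)]; group
  · have := h.card_four h1 hw (A := Ot s) (le_inf le_rfl fun p hp => mem_c1.2 (h3 p hp)) h2
    rw [h2] at this; omega

theorem sq {z : G} (hz : orderOf z = 2) (h5 : ¬ 5 ∣ Nat.card (centralizer ({z} : Set G)))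
    (hc : ∀ p ∈ Ot s, p * z = z * p) : ∀ p ∈ Ot s, p * p = 1 := by
  obtain ⟨w, hw, h1, k, h2, -⟩ := h.exists_w
  have : Fact (Nat.Prime 5) := ⟨Nat.prime_five⟩
  have w5 : w ^ 5 = 1 := h1 ▸ pow_orderOf_eq_one w
  have sq2 : ∀ {t : G}, orderOf t = 2 → t * t = 1 := fun ht => by
    rw [← pow_two, ← ht, pow_orderOf_eq_one]
  let N : Subgroup G :=
    { carrier := {u | u ∈ centralizer (Ot s : Set G) ∧ u * u = 1}
      one_mem' := ⟨one_mem _, mul_one 1⟩
      mul_mem' := fun {a b} ha hb => ⟨mul_mem ha.1 hb.1, by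
        rw [mul_assoc, ← mul_assoc b, ha.1 b (h.cent_le b hb.1), mul_assoc, hb.2, mul_one, ha.2]⟩
      inv_mem' := fun {a} ha => ⟨inv_mem ha.1, by rw [← mul_inv_rev, ha.2, inv_one]⟩ }
  have hN : N ≤ Ot s := fun u hu => h.cent_le u hu.1
  have h3 := card_mod w5 (A := N) fun c hc => ⟨fun r hr => by
    calc r * (w * c * w⁻¹) = w * (w⁻¹ * r * w⁻¹⁻¹ * c) * w⁻¹ := by group
      _ = _ := by rw [hc.1 _ (Ot_inv (Commute.inv_left (mem_c1.1 hw)) r hr)]; group, by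
    rw [conj_mul, hc.2]; simp⟩
  have h4 := card_mod w5 (A := Ot s) (Ot_inv (mem_c1.1 hw))
  have h6 := h.card_four h1 hw le_rfl h2
  have h7 := h.card_four h1 hw (inf_le_inf_right _ hN) h2
  have h8 : 2 ∣ Nat.card (N ⊓ centralizer {w} : Subgroup G) := h.ord ▸ orderOf_dvd_natCard _
    ⟨⟨fun p hp => mem_c1.1 (Ot_le s hp), sq2 h.ord⟩, mem_c1.2 (mem_c1.1 hw).symm⟩
  have h9 : Nat.card (N ⊓ centralizer {w} : Subgroup G) < Nat.card N :=
    card_lt_of_lt (lt_of_le_of_ne inf_le_left fun e => h5 (h1 ▸ orderOf_dvd_natCard _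
      (mem_c1.2 (mem_c1.1 (e.ge (show z ∈ N from ⟨hc, sq2 hz⟩)).2).symm)))
  have h10 : Nat.card N ∣ 64 := h2 ▸ card_dvd_of_le hN
  rw [h2] at h4
  have h11 : Nat.card (Ot s ⊓ centralizer {w} : Subgroup G) = 4 :=
    (by decide : ∀ d ∈ Nat.divisors 4, 64 ≡ d [MOD 5] → d = 4) _ (Nat.mem_divisors.2 ⟨h6, by norm_num⟩) h4
  rcases (by decide : ∀ n ∈ Nat.divisors 64, ∀ d ∈ Nat.divisors 4, n ≡ d [MOD 5] → 2 ∣ d → d < n →
    n = 64 ∨ n = 32 ∧ d = 2) _ (Nat.mem_divisors.2 ⟨h10, by norm_num⟩) _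
      (Nat.mem_divisors.2 ⟨h7, by norm_num⟩) h3 h8 h9 with h12 | ⟨h12, h13⟩
  · exact fun p hp => ((eq_of_le_of_card_ge hN (by rw [h2, h12])).ge hp).2
  obtain ⟨e, he, h14⟩ : ∃ e ∈ Ot s ⊓ centralizer {w}, e ∉ N := by
    by_contra! h14
    have := card_le_of_le (show Ot s ⊓ centralizer {w} ≤ N ⊓ centralizer {w} from
      fun e he => ⟨h14 e he, he.2⟩)
    omega
  have h15 : e * e = 1 := h.four w e h1 (mem_c1.1 he.2) (orderOf_dvd_iff_pow_eq_one.1
    (h11 ▸ orderOf_dvd_natCard _ he))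
  have h16 : (N.subgroupOf (Ot s)).index = 2 := by
    have := card_rel N (Ot s)
    rw [inf_eq_left.2 hN, h12, h2] at this
    change relIndex _ _ = 2; omega
  intro p hp
  by_cases h17 : p ∈ N
  · exact h17.2
  have h18 : e⁻¹ * p ∈ N := (mul_mem_iff_of_index_two h16 (a := ⟨_, inv_mem he.1⟩) (b := ⟨_, hp⟩)).2
    (by simpa [mem_subgroupOf, h17] using h14)
  calc p * p = e * (e⁻¹ * p * e) * (e⁻¹ * p) := by group
    _ = e * e * (e⁻¹ * p * (e⁻¹ * p)) := by rw [← h18.1 e he.1]; group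
    _ = 1 := by rw [h15, h18.2, mul_one]

theorem fix {S : Subgroup G} (hS : IsPGroup 2 S) (hT : Nat.card (S ⊓ centralizer {s} : Subgroup G) = 512)
    (hP : Ot s ≤ S) (B : Subgroup G) (hB : B ≤ S ⊓ centralizer {s})
    (hn : ∀ g ∈ S ⊓ centralizer {s}, ∀ b ∈ B, g * b * g⁻¹ ∈ B) (h1 : ¬ B ≤ Ot s) :
    ∃ u ∈ B, Nat.card (centralizer {u} ⊓ Ot s : Subgroup G) ≤ 16 := by
  obtain ⟨-, -, -, -, h2, π, hπ, hk⟩ := h.exists_w
  have : Fact (Nat.Prime 2) := ⟨Nat.prime_two⟩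
  have hp : ∀ {A}, A ≤ S → IsPGroup 2 ((A.subgroupOf (centralizer {s})).map π) := fun hA =>
    ((hS.to_le hA).comap_of_injective _ (subtype_injective _)).map π
  obtain ⟨_, ⟨u, hu, rfl⟩, h3, -, h4⟩ := PG.exists_mem_centralizer_orderOf_eq
    (hp (inf_le_left : S ⊓ centralizer {s} ≤ S)) (hp (hB.trans inf_le_left)) (by
      rintro _ ⟨g, hg, rfl⟩
      refine mem_normalizer_fintype ?_
      rintro _ ⟨b, hb, rfl⟩
      exact ⟨g * b * g⁻¹, hn g hg b hb, by simp⟩)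
    fun h3 => h1 fun b hb => (hk ⟨b, (hB hb).2⟩).1 (mem_bot.1 (h3.le ⟨_, hb, rfl⟩))
  have h5 := card_img π hk (inf_le_right : S ⊓ centralizer {s} ≤ _)
  rw [inf_eq_left.2 (le_inf hP (Ot_le s)), h2, hT] at h5
  have h6 : 8 ∣ Nat.card (centralizer ({π u} : Set (Equiv.Perm (Fin 5)))) := by
    rw [← show Nat.card (((S ⊓ centralizer {s}).subgroupOf (centralizer {s})).map π) = 8 by omega]
    exact card_dvd_of_le fun g hg => mem_c1.2 (h3 g hg)
  obtain ⟨g, h7, h8⟩ := s5 (π u) (fun i => by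
    rw [← Equiv.Perm.mul_apply, ← pow_two, ← h4, pow_orderOf_eq_one]; rfl) (by
    by_contra! h7
    exact ne_one_of_orderOf_two h4 (Equiv.ext h7)) (by
    rw [← Fintype.card_subtype, ← Nat.card_eq_fintype_card, ← Nat.dvd_iff_mod_eq_zero]
    exact h6.trans (Nat.card_congr (Equiv.subtypeEquivRight fun g =>
      mem_c1.trans Equiv.ext_iff)).dvd)
  obtain ⟨g, rfl⟩ := hπ g
  have : Fact (Nat.Prime 5) := ⟨Nat.prime_five⟩
  have h9 : 5 ∣ orderOf (u * (g * u * g⁻¹)) :=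
    orderOf_eq_prime h7 h8 ▸ (by simpa using orderOf_map_dvd π (u * (g * u * g⁻¹)))
  have h10 := orderOf_pow_orderOf_div (orderOf_pos _).ne' h9
  rw [← orderOf_coe] at h10
  let A := centralizer {(u : G)} ⊓ Ot s
  have h11 : A.map (MulAut.conj (g : G)).toMonoidHom ≤ Ot s := by
    rintro _ ⟨a, ha, rfl⟩; exact Ot_inv (mem_c1.1 g.2) a ha.2
  have h12 := card_inf_ge (inf_le_right : A ≤ Ot s) h11
  have h13 := Nat.le_of_dvd four_pos (h.card_four h10 (Subtype.prop _)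
    (A := A ⊓ A.map (MulAut.conj (g : G)).toMonoidHom) (fun a ha => ⟨ha.1.2, mem_c1.2 (by
      obtain ⟨b, hb, e⟩ := ha.2
      refine Commute.pow_right (Commute.mul_right (mem_c1.1 ha.1.1) ?_) _
      rw [← e]
      exact (Commute.map (mem_c1.1 hb.1) (MulAut.conj (g : G)) :))⟩) h2)
  rw [card_map_of_injective (MulAut.conj (g : G)).injective, h2] at h12
  refine ⟨u, hu, ?_⟩
  change Nat.card A ≤ 16
  nlinarith

theorem equiv [IsSimpleGroup G] : Nonempty (G ≃* M24) := by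
  obtain ⟨S, z, h1, h2, h3, h4, h5, h6, h7⟩ := exists_sylow h.ord h.card h.cs
  have hS : IsPGroup 2 S := IsPGroup.of_card (n := 10) h1
  have hH : S ≤ centralizer {z} := fun g hg => mem_c1.2 (h6 g hg)
  have cz : Nat.card (centralizer ({z} : Set G)) = 21504 := by
    rcases h.two z h5 with h8 | h8
    · have := card_dvd_of_le hH
      rw [SC.card_centralizer_eq_of_isConj h8, h.cs, h1] at this; omega
    · exact (SC.card_centralizer_eq_of_isConj h8).trans h.cz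
  have : Fact (Nat.Prime 7) := ⟨Nat.prime_seven⟩
  obtain ⟨⟨y, hy⟩, h8⟩ := exists_prime_orderOf_dvd_card' (G := centralizer ({z} : Set G)) 7
    (cz ▸ by norm_num)
  have h9 := (orderOf_mk _ _).symm.trans h8
  have h10 := h.seven y z h9 h5 hy
  have h11 := (card_cc hy).trans h10
  have k : Tp 7 (⟨y, hy⟩ : centralizer ({z} : Set G)) :=
    ⟨h8, by norm_num, ⟨10, cz ▸ by norm_num⟩, h11 ▸ by norm_num⟩
  have PS : Ot s ≤ S := Ot_le_of hS (by
    have := card_rel S (centralizer {s})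
    rw [h2, h.cs] at this; omega)
  have RS : Ot z ≤ S := Ot_le_of hS (by
    have := card_rel S (centralizer {z})
    rw [inf_eq_left.2 hH, h1, cz] at this; omega)
  have sq := h.sq h5 (cz ▸ by norm_num) fun p hp => h6 p (PS hp)
  obtain ⟨-, -, -, -, cP, π, -, hk⟩ := h.exists_w
  have hR := exists_H h8 cz h11 (z := ⟨z, mem_c1.2 rfl⟩) ((orderOf_mk z _).trans h5)
    (mem_center_iff.2 fun g => Subtype.ext (mem_c1.1 g.2))
  rw [← card_map_of_injective (subtype_injective _)] at hR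
  have ker : ∀ e : _ ⧸ pCore 2 (centralizer ({z} : Set G)) ≃* Matrix.SpecialLinearGroup (Fin 3) (ZMod 2),
      ∀ x, (e.toMonoidHom.comp (QuotientGroup.mk' _)) x = 1 ↔ (x : G) ∈ Ot z := fun e x =>
    (e.map_eq_one_iff.trans (QuotientGroup.eq_one_iff x)).trans (mem_Ot x)
  suffices F : Fr s z y S (Ot s) (Ot z) by
    obtain ⟨h12, ⟨e⟩⟩ := hR.resolve_left F.ne_big
    obtain ⟨E⟩ := SporChar.He.nonempty_emb_of_two F.preLX h12 _
      (e.surjective.comp (QuotientGroup.mk'_surjective _)) (ker e) cz ⟨s, z₀, h.two⟩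
    rcases E.equiv_of_big E.big_of_simple with ⟨⟨e⟩⟩ | e | ⟨⟨e⟩⟩
    · have := SporChar.He.card_SL_lt
      rw [← Nat.card_congr e.toEquiv, h.card] at this; omega
    · exact e
    · have := Agent.S1695.result.2
      rw [← Nat.card_congr e.toEquiv, h.card] at this; omega
  refine ⟨h5, h9, h1, h6, mem_c1.1 hy, h7, fun h12 => ?_, h.s_mem,
    h.cent_le z fun p hp => h6 p (PS hp), PS, cP, sq, h.cent_le, fun h12 => ?_, h.fix hS h2 PS,
    fun B hB => card_le_img π hk (x := Equiv.swap 0 1 * Equiv.swap 1 2 * Equiv.swap 2 3) (by decide)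
      (by decide) (by rw [Nat.card_perm, Nat.card_fin]; decide) (hB.trans inf_le_right), RS,
    fun g => Ot_inv, le_Ot k, fun x hx e => ?_, hR.imp_right fun ⟨h12, ⟨e⟩⟩ => ⟨h12, ?_⟩⟩
  · rcases mem_zp h5 h12 with e | e
    · exact ne_one_of_orderOf_two h.ord e
    · have := h.cs
      rw [e, cz] at this; omega
  · rw [inf_eq_left.2 h12] at h2; omega
  · have h12 : Nat.card (S ⊓ centralizer {y} : Subgroup G) ∣ 2 :=
      Nat.dvd_gcd (h10 ▸ card_dvd_of_le (inf_le_inf_right _ hH)) (h1 ▸ card_dvd_of_le inf_le_left)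
    exact (eq_of_le_of_card_ge (K := S ⊓ centralizer {y}) (zpowers_le.2 ⟨h4, mem_c1.2 (mem_c1.1 hy).symm⟩)
      ((Nat.le_of_dvd two_pos h12).trans (by rw [Nat.card_zpowers, h5]))).ge
      ⟨RS hx, mem_c1.2 e.symm⟩
  · have := card_le_img _ (ker e) (x := ⟨!![1, 1, 0; 0, 1, 1; 0, 0, 1], by decide⟩) (by decide)
      (by decide) (by rw [l32_card]; decide) (PS.trans hH) sq
    rw [cP, inf_comm] at this; omega

end Hyp

end Cfsg.Lib.Spor.O24
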