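import Cfsg.Agent.Spor.MoFS

/-!
A faster search for the columns of involutions in a principal block.
-/

set_option autoImplicit false

namespace Cfsg.Lib.Spor.Mo

open Subgroup Cfsg.Lib.PrimeOne

/-- The numbers `± g * j` with `j ≤ k` that are congruent to `r` modulo `q`. -/
noncomputable def optsR (g q r r' k : ℕ) : List ℤ :=
  Nat.rec (Bool.rec [] [0] (Nat.beq r 0)) (fun j L =>
    Bool.rec (Bool.rec L (Int.negSucc (Nat.pred (Nat.mul g (Nat.succ j))) :: L)
        (Nat.beq (Nat.mod (Nat.mul g (Nat.succ j)) q) r'))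
      (Int.ofNat (Nat.mul g (Nat.succ j)) ::
        Bool.rec L (Int.negSucc (Nat.pred (Nat.mul g (Nat.succ j))) :: L) (Nat.beq r r'))
      (Nat.beq (Nat.mod (Nat.mul g (Nat.succ j)) q) r)) k

theorem mem_optsR {g q r r' j : ℕ} {a : ℤ} (hj : a.natAbs = g * j)
    (h1 : 0 ≤ a → a.natAbs % q = r) (h2 : a < 0 → a.natAbs % q = r') :
    ∀ {k : ℕ}, j ≤ k → a ∈ optsR g q r r' k
  | 0, hk => by
    obtain rfl : j = 0 := by omega
    obtain rfl : a = 0 := by simpa using hj
    obtain rfl : r = 0 := by simpa using (h1 le_rfl).symm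
    exact List.mem_singleton.2 rfl
  | k + 1, hk => by
    change a ∈ (Bool.rec (Bool.rec (optsR g q r r' k) (Int.negSucc (g * (k + 1) - 1) ::
      optsR g q r r' k) (Nat.beq (g * (k + 1) % q) r')) (((g * (k + 1) : ℕ) : ℤ) ::
        Bool.rec (optsR g q r r' k) (Int.negSucc (g * (k + 1) - 1) :: optsR g q r r' k)
        (Nat.beq r r')) (Nat.beq (g * (k + 1) % q) r) : List ℤ)
    rcases Nat.lt_or_eq_of_le hk with h3 | rfl
    · have := mem_optsR hj h1 h2 (Nat.lt_succ_iff.1 h3)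
      cases Nat.beq (g * (k + 1) % q) r <;> cases Nat.beq (g * (k + 1) % q) r' <;>
        cases Nat.beq r r' <;> simp [this]
    rw [← hj]
    rcases le_or_gt 0 a with h3 | h3
    · rw [h1 h3, Nat.beq_refl]
      exact List.mem_cons.2 (Or.inl (by omega))
    · rw [h2 h3, Nat.beq_refl, show Int.negSucc (a.natAbs - 1) = a by omega]
      cases h4 : Nat.beq r' r
      · simp
      · rw [Nat.eq_of_beq_eq_true h4, Nat.beq_refl]
        simp

/-- The possible values on an involution. -/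
noncomputable def optsQ (K m B d : ℕ) : List ℤ :=
  optsR (d / d.gcd K) (4 * m) (d % (4 * m)) ((4 * m - d % (4 * m)) % (4 * m))
    (min B (d - 1) / (d / d.gcd K))

theorem mem_optsQ {K m B d : ℕ} {a : ℤ} (h : Val K m d a) (hm : m % 2 = 1) (hB : a.natAbs ≤ B) :
    a ∈ optsQ K m B d := by
  obtain ⟨j, hj⟩ := h.dvd
  obtain ⟨h1, h2, -, h4⟩ := h
  obtain ⟨k, hk⟩ : ((4 * m : ℕ) : ℤ) ∣ a - d := by
    rw [Nat.cast_mul]
    exact (Nat.isCoprime_iff_coprime.2 (Nat.Coprime.pow_left 2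
      ((Nat.Prime.coprime_iff_not_dvd Nat.prime_two).2 (by omega)))).mul_dvd h1 h4
  have h5 : 0 < d.gcd K := Nat.gcd_pos_of_pos_left _ (by omega)
  have h6 : 0 < 4 * m := by omega
  refine mem_optsR hj (fun h7 => ?_) (fun h7 => ?_) ((Nat.le_div_iff_mul_le (Nat.div_pos
    (Nat.le_of_dvd (by omega) (Nat.gcd_dvd_left _ _)) h5)).2 (by rw [mul_comm, ← hj]; omega))
  · exact (Nat.modEq_iff_dvd.2 ⟨k, by rw [← hk]; omega⟩).symm
  · refine Nat.ModEq.add_right_cancel' (d % (4 * m)) ?_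
    rw [Nat.sub_add_cancel (Nat.mod_lt _ h6).le]
    refine (Nat.modEq_iff_dvd.2 ⟨k + 1 + d / (4 * m : ℕ), ?_⟩)
    have := Int.emod_add_mul_ediv (d : ℤ) (4 * m : ℕ)
    push_cast at this hk ⊢
    rw [abs_of_neg h7]
    linarith

/-- The search with the last row found from the linear relation. -/
noncomputable def colG2 (B K g D w T T' P Q i : ℕ) (σ : ℤ) (o : List ℤ) (b n : ℕ)
    (O : List (List (ℤ × ℕ × ℕ × ℕ))) (bad : ℤ → Bool) (fin : List ℤ → Bool) : Bool :=
  dfsF (fun b U W acc => quick (Nat.mod (dst U T) g) w (dst U T) b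
    (Bool.rec true (bad (W + dst U T * dst U T * P - (T' + dst U T * dst U T * Q : ℕ)) ||
      !o.contains (σ * (T - U)) || fin (acc.reverse.insertIdx i (σ * (T - U))))
      (Nat.beq (Nat.mod (Nat.mul K (dst (Nat.add W (Nat.mul (Nat.mul (dst U T) (dst U T)) P))
        (Nat.add T' (Nat.mul (Nat.mul (dst U T) (dst U T)) Q)))) D) 0))) O b 1 n []

noncomputable def colH2 (n p M e c t C B : ℕ) (op : ℤ × ℕ → List ℤ)
    (R : List (ℤ × ℕ)) (i : ℕ) (r : ℤ × ℕ) (fin : List ℤ → Bool) : Bool :=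
  0 < n / C && r.1 != 0 &&
    colG2 B ((n / C) ^ 2 * t) (r.1.natAbs / r.1.natAbs.gcd (n / C)) (n * M * (p - 1) * p ^ 2) r.2
      (R.length * B) (R.length * (B * B * n)) (n / r.1).toNat (-(n / r.1)).toNat i r.1.sign (op r)
      (C - 1) n (R.map fun r => (op r).map (optD n B (fun _ => true) r))
      (quaBad ((n / C) ^ 2 * t) (n * M * (p - 1) * p ^ 2) e c) fin

theorem Col.finQ {n p M e c t C B i : ℕ} {l A : List ℤ} {fin : List ℤ → Bool}
    (h : Col n p M e c t C l A) {op : ℤ × ℕ → List ℤ} (hop : ∀ r a,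
      Val (n / C) (if C % p = 0 then p else 1) r.1.natAbs a → a.natAbs ≤ B → a ∈ op r)
    (h1 : (C ≤ B * B && ((rows t l).any (fun r => (op r).isEmpty) || i < (rows t l).length &&
      colH2 n p M e c t C B op ((rows t l).eraseIdx i) i ((rows t l).getD i (0, 0)) fin)) = true) :
    fin A = true := by
  have h6 := h.nrm
  have h0 : C ≤ B * B → List.Forall₂ (fun r a => (a ∈ op r ∧ a.natAbs ≤ B) ∧
      r.1.natAbs / r.1.natAbs.gcd (n / C) ∣ a.natAbs) (rows t l) A := fun h2 =>
    (le_nrmS h.val (b := C) (by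
        simp only [rows, List.mem_cons, List.mem_map]
        rintro r (rfl | ⟨s, -, rfl⟩)
        exacts [h.pos, one_pos]) (by omega)).imp fun r a h8 => by
      have h9 : a.natAbs ≤ B := by nlinarith [h8.2]
      exact ⟨⟨hop r a h8.1 h9, h9⟩, h8.1.dvd⟩
  simp only [colH2, Bool.and_eq_true, decide_eq_true_eq, bne_iff_ne, Bool.or_eq_true,
    List.any_eq_true, List.isEmpty_iff] at h1
  obtain ⟨h2, ⟨r, h3, h4⟩ | ⟨h4, ⟨h3, h5⟩, h1⟩⟩ := h1
  · obtain ⟨k, hk, rfl⟩ := List.getElem_of_mem h3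
    have h5 := (List.forall₂_iff_get.1 (h0 h2)).2 k hk ((h0 h2).length_eq ▸ hk)
    simp [h4] at h5
  have hb := nrmW_true (rows t l) A
  obtain ⟨A', a, h7, ⟨⟨h8, -⟩, h10⟩, rfl, h11, h12, h13⟩ := exists_eraseIdx (n := n)
    (wt := fun _ => true) (h0 h2) i h4
  obtain ⟨U, W, h14, h15, h16⟩ := dfsF_sound (h7.imp fun _ _ h => h.1) (by omega) h1
  have h17 := h.lin
  have h18 := h.not_quaBad h3
  generalize (rows t l).getD i (0, 0) = r at *
  generalize ((rows t l).eraseIdx i).length = k at *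
  have h19 : r.1.sign * r.1.sign = 1 := by
    rcases Int.sign_trichotomy r.1 with h | h | h
    exacts [by rw [h]; rfl, absurd (Int.sign_eq_zero_iff_zero.1 h) h5, by rw [h]; rfl]
  have h20 : (k * B - U : ℤ) = r.1.sign * a := by push_cast at h14; linarith
  have h21 : dst U (k * B) = a.natAbs := by
    rw [dst_eq (u := -(r.1.sign * a)) (by push_cast; linarith), Int.natAbs_neg, Int.natAbs_mul,
      Int.natAbs_sign_of_ne_zero h5, one_mul]
  rw [h21, show Nat.mod _ _ = 0 from Nat.mod_eq_zero_of_dvd h10] at h16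
  have h22 := quick_sound h16 (by
    simp only [nrmW] at h11
    split_ifs at h11 ⊢ <;> omega)
  have h23 : (W + a.natAbs * a.natAbs * (n / r.1).toNat - (k * (B * B * n) + a.natAbs * a.natAbs *
      (-(n / r.1)).toNat : ℕ) : ℤ) = n + quaS n (rows t l) (A'.insertIdx i a) := by
    have := Int.toNat_sub_toNat_neg (n / r.1)
    rw [h13, h15]
    push_cast
    rw [abs_mul_abs_self]
    linear_combination a * a * this
  obtain ⟨m, -, -, h24⟩ := h.qua
  rw [dst_eq (u := n + quaS n (rows t l) (A'.insertIdx i a)) (by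
    rw [← h23]; simp only [Nat.add_eq, Nat.mul_eq]; push_cast; ring), show Nat.mod _ _ = 0 from
    Nat.mod_eq_zero_of_dvd ⟨m ^ 2, by
      simpa only [Int.natAbs_mul, Int.natAbs_natCast, Nat.mul_eq] using congrArg Int.natAbs h24⟩,
    h23, Nat.cast_mul k B, h20, ← mul_assoc r.1.sign, h19, one_mul] at h22
  simpa [h18, h8] using h22

/-- All columns for the pairs `(C, B)` of the list pass the test `fin`, where `C ≤ B * B`. -/
noncomputable def colAllQ (n p M e c t : ℕ) (CB : List (ℕ × ℕ)) (l : List ℤ) (w : ℕ → Bool)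
    (fin : ℕ → List ℤ → Bool) : Bool :=
  CB.all fun r => !w r.1 ||
    (fun op i => r.1 ≤ r.2 * r.2 && ((rows t l).any (fun s => (op s).isEmpty) ||
      i < (rows t l).length && colH2 n p M e c t r.1 r.2 op ((rows t l).eraseIdx i) i
        ((rows t l).getD i (0, 0)) (fin r.1)))
    (fun s : ℤ × ℕ => optsQ (n / r.1) (if r.1 % p = 0 then p else 1) r.2 s.1.natAbs)
    (argmax ((rows t l).map fun s => min r.2 s.1.natAbs /
      (s.1.natAbs / s.1.natAbs.gcd (n / r.1)))).1

variable {G : Type*} [Group G] [Finite G] {p : ℕ} [hp : Fact p.Prime] {M e c t : ℕ}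
  {L : List (IrrCharacter G)} {Y : Finset (IrrCharacter G)} {θ : IrrCharacter G}
  {δ : IrrCharacter G → ℤ} {ε : ℤ}

theorem Blk.colAllQ [IsSimpleGroup G] (h : Blk p M e c t L Y θ δ ε) (hG : ¬ IsMulCommutative G)
    (hp2 : p ≠ 2) {n : ℕ} (hn : Nat.card G = n) {s : G} (hs : orderOf s = 2) {CB : List (ℕ × ℕ)}
    (hm : Nat.card (centralizer ({s} : Set G)) ∈ CB.map Prod.fst) {w : ℕ → Bool}
    (hw : w (Nat.card (centralizer ({s} : Set G))) = true) {fin : ℕ → List ℤ → Bool}
    (hc : colAllQ n p M e c t CB (sd δ L) w fin = true) :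
    fin (Nat.card (centralizer ({s} : Set G))) ((θ :: L).map (iv · s)) = true := by
  subst hn
  obtain ⟨r, h1, h2⟩ := List.mem_map.1 hm
  have h3 := List.all_eq_true.1 hc r h1
  simp only [h2, hw, Bool.not_true, Bool.false_or] at h3
  refine (h.col hG hp2 hs rfl).finQ (fun r a h4 => mem_optsQ h4 ?_) h3
  split_ifs
  exacts [hp.out.eq_two_or_odd.resolve_left hp2, rfl]

theorem Blk.cent_ok [IsSimpleGroup G] (hG : ¬ IsMulCommutative G) {s : G} (hs : s ≠ 1) {n : ℕ}
    (hn : Nat.card G = n) : (n / Nat.card (centralizer ({s} : Set G))).factorial % (2 * n) = 0 := by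
  subst hn
  have h3 := two_mul_card_dvd_factorial hG (H := centralizer ({s} : Set G)) fun e => by
    have h3 := (center G).normal_of_characteristic.eq_bot_or_eq_top
    rw [centralizer_eq_top_iff_subset, Set.singleton_subset_iff] at e
    rcases h3 with h3 | h3
    · rw [h3] at e
      exact hs (mem_bot.1 e)
    · exact hG (center_eq_top_iff.1 h3)
  rw [← Nat.mul_div_cancel_left (centralizer ({s} : Set G)).index (Nat.card_pos
    (α := centralizer ({s} : Set G))), card_mul_index] at h3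
  exact Nat.mod_eq_zero_of_dvd h3

end Cfsg.Lib.Spor.Mo
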