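import Cfsg.Agent.Spor.O24FGen

/-! Congruences for the values of the characters of degrees 252 and 5544 on involutions. -/

set_option autoImplicit false

namespace Cfsg.Lib.Spor.O24F

open Subgroup Cfsg.Lib.Spor.Mo Cfsg.Lib.PrimeOne Cfsg.Lib.Block.Princ Cfsg.Lib.Block
open Cfsg.Lib.Spor.O7920 (instFact11 instFact5)
open Cfsg.Lib.Spor.O10200960 (instFact23)

variable {G : Type*} [Group G] [Finite G]

namespace Cong

theorem dvd_sub (φ : IrrCharacter G) {s : G} (hs : orderOf s = 2) {Q : Subgroup G}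
    (hQ : Q ≤ C1 s) (ho : Odd (Nat.card Q))
    (h : ∀ q ∈ Q, q ≠ 1 → (φ : G → ℂ) (s * q) = (φ : G → ℂ) q) :
    (2 * Nat.card Q : ℤ) ∣ deg φ - iv φ s := by
  classical
  have := Fintype.ofFinite Q
  have h2 : ((2 : ℕ) : ℤ) ∣ deg φ - iv φ s :=
    cong_mul (p := 2) hs (Commute.one_left s) φ (by rw [Int.cast_natCast, deg_cast])
      fun u hu hu1 => by
        obtain ⟨i, hi, rfl⟩ := (mem_zpowers_iff_mem_range_orderOf.1 hu |> Finset.mem_image.1)
        rw [hs, Finset.mem_range] at hi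
        interval_cases i
        · exact absurd (pow_zero s) hu1
        · rw [one_mul, pow_one, iv_two φ hs]
  have h3 := (isIntegral_avg_char φ.2.isCharacter (x := 1) (P := Q) fun g _ =>
    mem_centralizer_singleton_iff.2 (by simp)).sub (isIntegral_avg_char φ.2.isCharacter hQ)
  rw [← mul_sub, ← Finset.sum_sub_distrib, Finset.sum_eq_single 1
    (fun u _ hu => by rw [one_mul, h u u.2 (by simpa using hu), sub_self]) (by simp),
    OneMemClass.coe_one, mul_one, mul_one, ← deg_cast, ← iv_two φ hs] at h3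
  have h4 := Char.int_dvd_of_isIntegral_div (a := deg φ - iv φ s) (b := Nat.card Q)
    (Nat.cast_ne_zero.2 Nat.card_pos.ne') (by simpa [div_eq_inv_mul] using h3)
  exact IsCoprime.mul_dvd (by exact_mod_cast Nat.isCoprime_iff_coprime.2 ho.coprime_two_left) h2 h4

omit [Finite G] in
theorem exists_comm {Q : Subgroup G} {n : ℕ} (hQ : Nat.card Q = 3 ^ (n + 2)) {q : G} (hq : q ∈ Q)
    (oq : orderOf q = 3) : ∃ x ∈ Q, x * q = q * x ∧ x ∉ zpowers q := by
  have : Fact (Nat.Prime 3) := ⟨Nat.prime_three⟩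
  have : Finite Q := Nat.finite_of_card_ne_zero (by rw [hQ]; positivity)
  by_contra hx
  push Not at hx
  have : Nontrivial Q := Finite.one_lt_card_iff_nontrivial.1 (by
    rw [hQ]; exact Nat.one_lt_pow (by omega) (by norm_num))
  have := (IsPGroup.of_card hQ).center_nontrivial
  obtain ⟨z, hz⟩ := exists_ne (1 : center Q)
  have hz1 : ∀ g ∈ Q, g * z = z * g := fun g hg => congrArg Subtype.val (mem_center_iff.1 z.2 ⟨g, hg⟩)
  have h1 := hx z z.1.2 (hz1 q hq).symm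
  have h2 : q ∈ zpowers ((z : Q) : G) := by
    obtain ⟨i, hi⟩ := h1
    simp only at hi
    have h3 : q ^ (3 : ℤ) = 1 := by
      rw [show (3 : ℤ) = ((3 : ℕ) : ℤ) from rfl, zpow_natCast, ← oq, pow_orderOf_eq_one]
    have h4 : ((z : Q) : G) = q ^ (i % 3) := by
      rw [← hi, ← Int.mul_ediv_add_emod i 3, zpow_add, zpow_mul, h3, one_zpow, one_mul,
        Int.mul_ediv_add_emod]
    have h5 : i % 3 = 0 ∨ i % 3 = 1 ∨ i % 3 = 2 := by omega
    rcases h5 with h5 | h5 | h5 <;> rw [h5] at h4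
    · exact absurd (Subtype.ext (Subtype.ext (by simpa using h4))) hz
    · exact ⟨1, by simpa using h4⟩
    · exact ⟨2, by
        simp only [h4, ← zpow_mul]
        rw [show (2 * 2 : ℤ) = 3 + 1 from rfl, zpow_add, h3, one_mul, zpow_one]⟩
  have h3 : Q ≤ zpowers q := fun g hg => hx g hg (by
    obtain ⟨i, rfl⟩ := h2
    exact (show Commute g _ from hz1 g hg).zpow_right i)
  have : Finite (zpowers q) := Nat.finite_of_card_ne_zero (by rw [Nat.card_zpowers, oq]; norm_num)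
  have h4 := card_le_of_le h3
  rw [hQ, Nat.card_zpowers, oq, pow_add] at h4
  have := Nat.one_le_pow n 3 (by norm_num)
  omega

theorem isConj_of {d q : G} (od : orderOf d = 3) (hr : IsConj d d⁻¹) (oq : orderOf q = 3)
    (h : d ∈ zpowers q) : IsConj q d := by
  classical
  obtain ⟨i, hi, rfl⟩ := mem_zpowers_iff_mem_range_orderOf.1 h |> Finset.mem_image.1
  rw [oq, Finset.mem_range] at hi
  interval_cases i
  · simp at od
  · rw [pow_one]
  · have : (q ^ 2)⁻¹ = q := by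
      rw [inv_eq_iff_mul_eq_one, ← pow_succ, ← pow_orderOf_eq_one q, oq]
    rw [this] at hr
    exact hr.symm

variable {c : ℕ} {α β χ ψ ξ : IrrCharacter G} {d y : G}

theorem val_mul (h : Jt c α β χ ψ ξ d y) {θ : IrrCharacter (C1 d)} (h1 : Th d χ 1 θ)
    (h9 : deg θ = 9) (hv : ∀ s x : C1 d, ∀ k : ℕ, orderOf s = 2 → x ^ 3 ^ k = 1 →
      (x : G) ∉ zpowers d → s * x = x * s → (θ : C1 d → ℂ) s = 9)
    {s : G} (hs : orderOf s = 2) {Q : Subgroup G} (hQ : Q ≤ C1 s) {n : ℕ}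
    (hn : Nat.card Q = 3 ^ (n + 2)) {q : G} (hq : q ∈ Q) (hq1 : q ≠ 1) :
    3 ∣ orderOf q ∧ 3 ∣ orderOf (s * q) ∧ (χ : G → ℂ) (s * q) = (χ : G → ℂ) q := by
  have hc : Commute s q := (mem_centralizer_singleton_iff.1 (hQ hq)).symm
  obtain ⟨j, -, hj⟩ := (Nat.dvd_prime_pow Nat.prime_three).1 (hn ▸ orderOf_dvd_natCard Q hq)
  have hj0 : j ≠ 0 := fun e => hq1 (by rwa [e, pow_zero, orderOf_eq_one_iff] at hj)
  have o1 : orderOf (s * q) = 2 * orderOf q := by
    rw [hc.orderOf_mul_eq_mul_orderOf_of_coprime (by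
      rw [hs, hj]; exact Nat.Coprime.pow_right _ (by norm_num)), hs]
  have o2 : 3 ∣ orderOf q := hj ▸ dvd_pow_self 3 hj0
  have o3 : 3 ∣ orderOf (s * q) := o1 ▸ o2.mul_left 2
  refine ⟨o2, o3, ?_⟩
  by_cases h0 : (χ : G → ℂ) (s * q) = 0 ∧ (χ : G → ℂ) q = 0
  · rw [h0.1, h0.2]
  have s2 : s ^ 2 = 1 := by rw [← hs, pow_orderOf_eq_one]
  have d3 : d ^ 3 = 1 := by rw [← h.od, pow_orderOf_eq_one]
  have h3 : ¬ 9 ∣ orderOf q ∧ ∃ g : G, d ∈ zpowers (g * q * g⁻¹) := by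
    rcases not_and_or.1 h0 with h0 | h0
    · obtain ⟨h4, g, i, hi⟩ := h.van _ o3 h0
      refine ⟨fun e => h4 (o1 ▸ e.mul_left 2), g, 4 * i, ?_⟩
      simp only at hi ⊢
      have e4 : (s * q) ^ (4 : ℤ) = q ^ (4 : ℤ) := by
        rw [hc.mul_zpow, show (4 : ℤ) = ((2 * 2 : ℕ) : ℤ) from rfl, zpow_natCast, pow_mul, s2,
          one_pow, one_mul]
      rw [conj_zpow] at hi ⊢
      rw [zpow_mul, ← e4, ← zpow_mul, mul_comm 4 i, zpow_mul, ← conj_zpow, hi,
        show (4 : ℤ) = ((3 + 1 : ℕ) : ℤ) from rfl, zpow_natCast, pow_succ, d3, one_mul]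
    · exact h.van _ o2 h0
  have oq : orderOf q = 3 := by
    rcases j with _ | _ | j
    · exact absurd rfl hj0
    · simpa using hj
    · exact absurd (hj ▸ pow_dvd_pow 3 (show 2 ≤ j + 1 + 1 by omega)) h3.1
  obtain ⟨g', hg'⟩ := h3.2
  obtain ⟨g, hg⟩ := isConj_iff.1 ((isConj_iff.2 ⟨g', rfl⟩).trans (isConj_of h.od h.real
    (((MulAut.conj g').orderOf_eq q).trans oq) hg'))
  obtain ⟨x, hx, hxq, hx1⟩ := exists_comm hn hq oq
  have m : ∀ {u : G}, u * q = q * u → g * u * g⁻¹ ∈ C1 d := fun {u} hu =>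
    mem_centralizer_singleton_iff.2 (by rw [← hg, conj_mul, conj_mul, hu])
  have v := hv ⟨_, m hc⟩ ⟨_, m hxq⟩ (n + 2)
    ((orderOf_coe _).symm.trans (((MulAut.conj g).orderOf_eq s).trans hs))
    (Subtype.ext (by
      simp only [SubmonoidClass.mk_pow, conj_pow, OneMemClass.coe_one]
      rw [← hn, orderOf_dvd_iff_pow_eq_one.1 (orderOf_dvd_natCard Q hx), mul_one, mul_inv_cancel]))
    (fun ⟨i, hi⟩ => hx1 ⟨i, by simpa [← hg, conj_zpow] using hi⟩)
    (Subtype.ext (by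
      simp only [MulMemClass.mk_mul_mk, conj_mul]
      rw [mem_centralizer_singleton_iff.1 (hQ hx)]))
  have w1 := h1.val ⟨_, m (u := q) rfl⟩ ⟨1, (zpow_one _).trans hg⟩
  have w2 := h1.val ⟨_, m (u := s * q) (by rw [mul_assoc, ← mul_assoc q, ← hc.eq, mul_assoc])⟩
    ⟨4, by
      simp only
      rw [conj_zpow, hc.mul_zpow, show (4 : ℤ) = ((2 * 2 : ℕ) : ℤ) from rfl, zpow_natCast,
        pow_mul, s2, one_pow, one_mul, zpow_natCast, show 2 * 2 = 3 + 1 from rfl, pow_succ, ← oq,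
        pow_orderOf_eq_one, one_mul, hg]⟩
  rw [h1.ker 1 _ (by simpa using hg), ← deg_cast, h9] at w1
  rw [h1.ker ⟨_, m hc⟩ _ (by simp only; rw [← hg, conj_mul, hc.eq]), v] at w2
  simp only [χ.2.isClassFunction.apply_conj] at w1 w2
  rw [w1, w2]
  norm_num

theorem cong_of (h : Jt c α β χ ψ ξ d y) {θ : IrrCharacter (C1 d)} (h1 : Th d χ 1 θ)
    (h9 : deg θ = 9) (hv : ∀ s x : C1 d, ∀ k : ℕ, orderOf s = 2 → x ^ 3 ^ k = 1 →
      (x : G) ∉ zpowers d → s * x = x * s → (θ : C1 d → ℂ) s = 9)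
    {s : G} (hs : orderOf s = 2) {n : ℕ} (hn : 3 ^ (n + 2) ∣ Nat.card (C1 s)) :
    2 * 3 ^ (n + 2) ∣ 252 - iv ξ s ∧ 2 * 3 ^ (n + 2) ∣ 5544 - iv χ s := by
  have : Fact (Nat.Prime 3) := ⟨Nat.prime_three⟩
  obtain ⟨K, hK⟩ := Sylow.exists_subgroup_card_pow_prime 3 hn
  have hQ := (card_map_of_injective (K := K) (C1 s).subtype_injective).trans hK
  have hle := map_subtype_le K
  have ho : Odd (Nat.card (K.map (C1 s).subtype)) := hQ ▸ Odd.pow (by decide)
  have e1 := dvd_sub ξ hs hle ho fun q hq hq1 => by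
    obtain ⟨a, b, e⟩ := val_mul h h1 h9 hv hs hle hQ hq hq1
    rw [(h.sing _ a).1, (h.sing _ b).1, e]
  have e2 := dvd_sub χ hs hle ho fun q hq hq1 => (val_mul h h1 h9 hv hs hle hQ hq hq1).2.2
  rw [hQ] at e1 e2
  rw [h.dξ] at e1
  rw [h.degs.2.2.1] at e2
  exact ⟨by exact_mod_cast e1, by exact_mod_cast e2⟩

end Cong

end Cfsg.Lib.Spor.O24F
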