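import Cfsg.Agent.Spor.O24FGen

/-!
The centralizer of the defect group does not have order 17280.
-/

set_option autoImplicit false

namespace Cfsg.Lib.Spor.O24F

open Cfsg Cfsg.Lib.Char Cfsg.Lib.Solv Cfsg.Lib.PrimeOne Cfsg.Lib.Block.Princ Subgroup
open Cfsg.Lib.Block hiding dg dg_cast
open Cfsg.Lib.Spor.CKit Cfsg.Lib.Spor.Mo
open Cfsg.Lib.Spor.O7920 (instFact11 instFact5)

variable {G : Type*} [Group G] [Finite G] {α β χ ψ ξ : IrrCharacter G} {d y : G}

theorem D3.num : ∀ j : ℕ, j < 265 → momBad 244823040 12 1 14168 1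
    (zp [1771, -2024, -5544] [-9, (j : ℤ) - 132, (j : ℤ) - 132 - 17, 9]) = true := by
  decide +kernel

theorem Jt.not17280 (h : Jt 12 α β χ ψ ξ d y) (h9 : (χ : G → ℂ) d = 9) :
    Nat.card (C1 d) ≠ 17280 := by
  classical
  intro hc
  have := Fintype.ofFinite G
  have val : ∀ φ : IrrCharacter G, (φ : G → ℂ) d = iv φ d := fun φ => by
    obtain ⟨a, ha, -⟩ := exists_val_three h.od φ (φ.2.isClassFunction.eq_of_isConj h.real).symm
    rw [iv_eq ha, ha]
  have hK : (C1 d).index = 14168 := by
    have := card_mul_index (C1 d)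
    rw [hc, h.card] at this
    omega
  have h1 : (Finset.univ.filter (IsConj d)).card = 14168 := by
    rw [← hK, ← Set.ncard_coe_finset, ← O24.ncard_cls, Finset.coe_filter]
    simp only [Finset.mem_univ, true_and]
  obtain ⟨M, δ, k, hs⟩ := h.blk
  have nb := k.not_momBad (U := Finset.univ.filter (IsConj d)) (K := 14168) (u := 1)
    (a := (iv · d)) (fun x u hu => by
      simp only [Finset.mem_filter, Finset.mem_univ, true_and] at hu ⊢
      exact hu.trans (isConj_iff.2 ⟨x, rfl⟩)) (fun g hg => by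
      obtain ⟨x, rfl⟩ := isConj_iff.1 (Finset.mem_filter.1 hg).2
      rw [← MulAut.conj_apply, MulEquiv.orderOf_eq, h.od]
      decide) (by rw [h1, mul_one]) (fun φ _ => ⟨by
      rw [Finset.sum_congr rfl fun u hu => (φ.2.isClassFunction.eq_of_isConj
        (Finset.mem_filter.1 hu).2).symm, Finset.sum_const, h1, val, nsmul_eq_mul],
      by simpa only [hK] using dg_dvd_index_mul φ (val φ)⟩) h.card
  have e1 : iv χ d = 9 := iv_eq (by rw [h9]; norm_num)
  have e2 : iv ψ d = -9 := iv_eq (by rw [(h.sing d (by rw [h.od])).2, h9]; norm_num)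
  have e3 : iv β d = iv α d - 17 := Int.cast_injective (α := ℂ) (by
    have := h.reg5 (g := d) (by rw [h.od]; decide)
    rw [val α, val β, val ψ, h9, e2] at this
    push_cast at this ⊢
    linear_combination -this)
  have e4 : iv α d ^ 2 ≤ 17280 := by
    have := sum_normSq_le {α} d
    rw [Finset.sum_singleton, hc, val, Complex.norm_intCast, sq_abs] at this
    exact_mod_cast this
  have e5 : -132 ≤ iv α d ∧ iv α d ≤ 132 := by constructor <;> nlinarith
  refine nb ?_
  rw [hs]
  simp only [List.map_cons, List.map_nil, e1, e2, e3]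
  have := D3.num (iv α d + 132).toNat (by omega)
  rwa [Int.toNat_of_nonneg (by omega), add_sub_cancel_right] at this

end Cfsg.Lib.Spor.O24F
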