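import Cfsg.Agent.Spor.O24Cnt
import Cfsg.Agent.Spor.O10200960B
import Cfsg.Agent.Block.ClassFun24
import Cfsg.Agent.Spor.M24Classes

/-! A group with the order of `M₂₄` and the same numbers of elements of each order. -/

namespace Cfsg.Lib.Spor.O24

open Subgroup Cfsg.Lib.Known Cfsg.Lib.Spor.Mo Cfsg.Lib.PrimeOne
open Cfsg.Lib.Spor.O7920 (instFact11 instFact5)
open Cfsg.Lib.Spor.O443520 (instFact7)
open Cfsg.Lib.Spor.O10200960 (instFact23)

variable {G : Type*} [Group G] [Finite G]

theorem exists_ord {p : ℕ} [Fact p.Prime] {t : G} (h : p ∣ Nat.card (centralizer ({t} : Set G))) :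
    ∃ v ∈ centralizer ({t} : Set G), orderOf v = p := by
  obtain ⟨v, hv⟩ := exists_prime_orderOf_dvd_card' p h
  exact ⟨v, v.2, (orderOf_coe v).trans hv⟩

theorem equiv_of_counts [IsSimpleGroup G] (hG : Nat.card G = 244823040) (hS : SelfC G 23 11)
    (hS' : SelfC G 11 10) (n5 : Nat.card (Sylow 5 G) = 1020096) (n7 : Nat.card (Sylow 7 G) = 1943040)
    (m2 : {g : G | orderOf g = 2}.ncard = 43263) (m3 : {g : G | orderOf g = 3}.ncard % 5 = 3) :
    Nonempty (G ≃* M24) := by
  have hn : ¬ IsMulCommutative G := not_comm_of_not_prime (by rw [hG]; norm_num)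
  have hok : ∀ χ : IrrCharacter G, (modOk 23 11 (deg χ) && modOk 11 10 (deg χ)) = true := fun χ => by
    rw [hS.mod χ, hS'.mod χ]; rfl
  obtain ⟨M, e, c, t, L, Y, θ, δ, ε, h, hm⟩ := exists_blk' (G := G) (p := 5)
    (by rw [hG]; norm_num) (by rw [hG]; norm_num)
  obtain rfl : M = 1020096 := h.num.symm.trans n5
  obtain ⟨L, h, h1⟩ := (h.enumF hn hG ord hm (fun χ _ => hok χ) e5).resolve_left (by simp)
  simp only [Bool.or_eq_true, Bool.and_eq_true, beq_iff_eq] at h1
  obtain ⟨rfl, l5⟩ := h1.resolve_left fun h1 => h1.elim (h.not_tauBad hS (by norm_num))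
    (h.not_tauBad hS' (by norm_num))
  obtain rfl : c = 12 := by have := h.card_group; omega
  obtain ⟨M, e, c, t', L', Y', θ', δ', ε', k, hm⟩ := exists_blk' (G := G) (p := 7)
    (by rw [hG]; norm_num) (by rw [hG]; norm_num)
  obtain rfl : M = 1943040 := k.num.symm.trans n7
  have a7 : ∀ v : G, orderOf v = 7 → (cel v 2).ncard % 7 = 3 := fun v hv => by
    have := cnt_mod hv 2
    rw [m2, Nat.ModEq] at this; omega
  obtain ⟨y, hy⟩ := exists_prime_orderOf_dvd_card' (G := G) 7 (by rw [hG]; norm_num)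
  obtain ⟨rfl, rfl⟩ : e = 3 ∧ c = 6 := by
    have h2 := dvd_of_cel (x := y) (k := 2) (by have := a7 y hy; omega)
    have h3 := k.card_group
    have h4 := k.card_eq
    have h5 := k.two_le hn
    have h6 := k.e_lt
    rw [k.card_centralizer hy] at h2
    interval_cases e <;> omega
  have f5 := fun (v : G) (hv : orderOf v = 5) => cent_five hv (h.card_centralizer hv)
    (by have := cnt_mod hv 2; rw [m2, Nat.ModEq] at this; omega)
    (by have := cnt_mod hv 3; rw [Nat.ModEq] at this; omega)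
  have f7 := fun (v : G) (hv : orderOf v = 7) => cent_seven hv (k.card_centralizer hv) (a7 v hv)
  have sub : ∀ {t : G}, orderOf t = 2 → {g | IsConj t g} ⊆ {g : G | orderOf g = 2} := fun ht g hg => by
    obtain ⟨c, rfl⟩ := isConj_iff.1 hg
    exact ((MulAut.conj c).orderOf_eq _).trans ht
  have idx : ∀ {t : G} {C}, Nat.card (centralizer ({t} : Set G)) = C →
      {g | IsConj t g}.ncard = 244823040 / C := fun {t C} hC => by
    rw [ncard_cls, ← hG, ← card_mul_index (centralizer {t}), hC, Nat.mul_div_cancel_left _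
      (hC ▸ Nat.card_pos)]
  have key : ∀ t : G, orderOf t = 2 → ∀ C, Nat.card (centralizer ({t} : Set G)) = C →
      (C % 7 = 0 → C = 96768 ∨ C = 21504 ∨ C = 12096) ∧
        (C % 5 = 0 → C = 46080 ∨ C = 17280 ∨ C = 7680) := fun t ht C hC =>
    (by decide +kernel : ∀ C ∈ D, C % 2 = 0 → C % 11 ≠ 0 → C % 23 ≠ 0 → 244823040 / C ≤ 43263 →
      (C % 7 = 0 → 244823040 / C % 7 = 3) → (C % 5 = 0 → 244823040 / C % 5 = 3) →
      (C % 7 = 0 → C = 96768 ∨ C = 21504 ∨ C = 12096) ∧
        (C % 5 = 0 → C = 46080 ∨ C = 17280 ∨ C = 7680)) C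
      (ord.dvd C (hG ▸ hC ▸ card_subgroup_dvd_card _))
      (Nat.mod_eq_zero_of_dvd (hC ▸ ht ▸ orderOf_dvd_natCard _ (mem_c1.2 rfl)))
      (hC ▸ hS'.ne_zero ht (by simp) (by simp)) (hC ▸ hS.ne_zero ht (by simp) (by simp))
      (idx hC ▸ m2 ▸ Set.ncard_le_ncard (sub ht))
      (fun h7 => by
        obtain ⟨v, h1, h2⟩ := exists_ord (hC ▸ Nat.dvd_of_mod_eq_zero h7)
        rw [← idx hC, ncard_cls, (f7 v h2 t ht h1).2])
      fun h5 => by
        obtain ⟨v, h1, h2⟩ := exists_ord (hC ▸ Nat.dvd_of_mod_eq_zero h5)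
        rw [← idx hC, ncard_cls, ((f5 v h2).2 t ht h1).2]
  obtain ⟨s, hs, s5⟩ := h.exists_inv (by norm_num)
  obtain ⟨z, hz, z7⟩ := k.exists_inv (by norm_num)
  have ks := (key s hs _ rfl).2 (Nat.mod_eq_zero_of_dvd s5)
  have kz := (key z hz _ rfl).1 (Nat.mod_eq_zero_of_dvd z7)
  replace l5 := l5.resolve_right fun l5 => absurd (h.colAllF hn (by norm_num) hG ord hs
    (by simpa [or_assoc] using ks) (l5 ▸ c5)) (by simp)
  obtain ⟨L', k, h1⟩ := (k.enumF hn hG ord hm (fun χ _ => hok χ) e7).resolve_left (by simp)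
  simp only [Bool.or_eq_true, beq_iff_eq] at h1
  have l7 := (h1.resolve_right fun h1 => absurd (k.colAllF hn (by norm_num) hG ord hz
    (by simpa [or_assoc] using kz) h1) (by simp)).resolve_left fun h1 =>
      h1.elim (k.not_tauBad hS (by norm_num)) (k.not_tauBad hS' (by norm_num))
  have cs : Nat.card (centralizer ({s} : Set G)) = 7680 := by
    rcases ks with e | e | e
    · have h2 := h.colAllF hn (by norm_num) hG ord hs (by simp [e]) (l5 ▸ c5')
      have h3 := k.colAllF hn (by norm_num) hG ord hs (by simp [e]) (l7 ▸ c7)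
      obtain ⟨χ, h4, h5⟩ := exists_common h k (by norm_num)
      simp only [Bool.and_eq_true, List.all_eq_true, Bool.or_eq_true, beq_iff_eq,
        Bool.not_eq_true', ← Bool.not_eq_true, List.contains_iff_mem] at h2 h3
      have h6 := (h2.2 _ (h.mem_prs.2 ⟨χ, h4, rfl⟩)).resolve_left fun h6 =>
        k.not_dvd_deg h5 (Nat.dvd_of_mod_eq_zero h6)
      refine (h3.2 (List.mem_map.2 ?_)).elim
      rcases h5 with h5 | h5
      · exact ⟨χ, List.mem_cons_of_mem _ h5, h6⟩
      · exact ⟨θ', List.mem_cons_self, by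
          rw [← h6, iv, iv, (k.val_Y h5).2.2 s (not_dvd_two hs (by norm_num))]⟩
    · exact absurd (k.colAllF hn (by norm_num) hG ord hs (by simp [e]) (l7 ▸ c7)) (by simp [e])
    · exact e
  have hd : Disjoint {g | IsConj s g} {g | IsConj z g} := Set.disjoint_left.2 fun g h1 h2 => by
    have := SC.card_centralizer_eq_of_isConj (IsConj.trans h1 (IsConj.symm h2))
    omega
  have h2 := Set.ncard_le_ncard (Set.union_subset (sub hs) (sub hz))
  have h3 := Set.ncard_union_eq hd
  have cz : Nat.card (centralizer ({z} : Set G)) = 21504 := by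
    rcases kz with e | e | e
    · exact absurd (h.colAllF hn (by norm_num) hG ord hz (by simp [e]) (l5 ▸ c5')) (by simp [e])
    · exact e
    · rw [idx cs, idx e] at h3; omega
  rw [idx cs, idx cz] at h3
  have h4 := Set.eq_of_subset_of_ncard_le (Set.union_subset (sub hs) (sub hz)) (by omega)
  exact Hyp.equiv ⟨hs, hG, cs, cz, fun i hi => (h4.ge hi).imp IsConj.symm IsConj.symm,
    fun v t hv ht h1 => ((f5 v hv).2 t ht h1).1, fun v x hv => (f5 v hv).1 x,
    fun v t hv ht h1 => (f7 v hv t ht h1).1⟩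

def V : List ℕ := [0, 1, 43263, 712448, 5100480, 4080384, 20401920, 11658240, 15301440, 12241152,
  22256640, 40803840, 34974720, 32643072, 23316480, 21288960]

theorem cnt_M24 (k : ℕ) : Nat.card {g : M24 // orderOf g = k} ∈ V := by
  classical
  obtain ⟨x, ho, hc, hinj, hall⟩ := MP.isClassList_M24.exists_family (n := 26) rfl
  have h1 : Nat.card {g : M24 // orderOf g = k} = ∑ i : Fin 26,
      if (MP.reps24[i.1]).2.1 = k then 244823040 / (MP.reps24[i.1]).2.2 else 0 := by
    choose f hf using hall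
    have := Fintype.ofFinite M24
    rw [Nat.card_eq_fintype_card, Fintype.card_subtype, Finset.card_eq_sum_card_fiberwise
      (f := f) (t := Finset.univ) (by simp)]
    refine Finset.sum_congr rfl fun i _ => ?_
    have h2 : ∀ g, f g = i ↔ IsConj (x i) g := fun g =>
      ⟨fun h => h ▸ hf g, fun h => hinj _ _ ((hf g).trans h.symm)⟩
    have h3 : ∀ g, f g = i → orderOf g = (MP.reps24[i.1]).2.1 := fun g h => by
      obtain ⟨c, rfl⟩ := isConj_iff.1 ((h2 g).1 h)
      exact ((MulAut.conj c).orderOf_eq _).trans (ho i)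
    split_ifs with h4
    · rw [← Agent.S0364.result, ← card_mul_index (centralizer {x i}), hc, Nat.mul_div_cancel_left _
        (hc i ▸ Nat.card_pos), ← SC.card_isConj_eq_index_centralizer, Nat.card_eq_fintype_card,
        Fintype.card_subtype]
      congr 1
      ext g
      simp only [Finset.mem_filter, Finset.mem_univ, true_and, ← h2]
      exact and_iff_right_of_imp fun h => (h3 g h).trans h4
    · simpa using fun g h5 h6 => h4 ((h3 g h6).symm.trans h5)
  rw [h1]
  by_cases h : k < 24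
  · exact (by decide +kernel : ∀ k < 24, (∑ i : Fin 26, if (MP.reps24[i.1]).2.1 = k then
      244823040 / (MP.reps24[i.1]).2.2 else 0) ∈ V) k h
  · rw [Finset.sum_eq_zero fun i _ => if_neg (ne_of_lt (((by decide +kernel :
      ∀ i : Fin 26, (MP.reps24[i.1]).2.1 < 24) i).trans_le (not_lt.1 h)))]
    exact List.mem_cons_self

theorem equiv_of_nse (hG : Nat.card G = 244823040)
    (hV : ∀ k, {g : G | orderOf g = k}.ncard ∈ V) : Nonempty (G ≃* M24) := by
  have pr : ∀ (p : ℕ) [Fact p.Prime], p ∣ 244823040 → ∀ m, (∀ v ∈ V, p ∣ v + 1 → v = m) →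
      {g : G | orderOf g = p}.ncard = m := fun p _ h m h1 => h1 _ (hV p) (cnt_prime (hG ▸ h))
  have sy : ∀ (p : ℕ) [Fact p.Prime], p ∣ 244823040 → ¬ p ^ 2 ∣ 244823040 → ∀ m,
      (∀ v ∈ V, p ∣ v + 1 → v = m * (p - 1)) → Nat.card (Sylow p G) = m := fun p hp h h1 m h2 => by
    obtain ⟨P⟩ : Nonempty (Sylow p G) := inferInstance
    have h3 := SC.card_orderOf_eq_prime P (Block.PS.card_sylow_eq (hG ▸ h) (hG ▸ h1) P)
    exact Nat.eq_of_mul_eq_mul_right (Nat.sub_pos_of_lt hp.out.one_lt)
      (h3.symm.trans ((Nat.card_coe_set_eq _).trans (pr p h _ h2)))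
  have n23 := sy 23 (by norm_num) (by norm_num) 967680 (by decide +kernel)
  have n11 := sy 11 (by norm_num) (by norm_num) 2225664 (by decide +kernel)
  have n5 := sy 5 (by norm_num) (by norm_num) 1020096 (by decide +kernel)
  have := isSimpleGroup_of_card_sylow (p := 23) (e := 11) (m := 967680) (by norm_num) (by norm_num)
    (by norm_num) hG (by norm_num) (by norm_num) (ppOk_sound ord (by norm_num) (by decide +kernel)) n23
  have hn : ¬ IsMulCommutative G := not_comm_of_not_prime (by rw [hG]; norm_num)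
  obtain ⟨M, e, c, t, L, Y, θ, δ, ε, h⟩ := exists_blk (G := G) (p := 23)
    (by rw [hG]; norm_num) (by rw [hG]; norm_num)
  obtain rfl : M = 967680 := h.num.symm.trans n23
  obtain ⟨rfl, rfl⟩ : e = 11 ∧ c = 1 := by
    have h1 : e * c = 11 := by have := h.card_group; rw [mul_assoc] at this; omega
    have h2 := h.two_le hn
    obtain rfl := ((Nat.dvd_prime (by norm_num)).1 (Dvd.intro _ h1)).resolve_left (by omega)
    omega
  have hS := h.selfC rfl (by norm_num)
  have : Fact (Nat.Prime 2) := ⟨Nat.prime_two⟩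
  have : Fact (Nat.Prime 3) := ⟨Nat.prime_three⟩
  have m2 : {g : G | orderOf g = 2}.ncard = 43263 :=
    (by decide +kernel : ∀ v ∈ V, 2 ∣ v + 1 → 23 ∣ v → v = 43263) _ (hV 2)
      (cnt_prime (hG ▸ by norm_num)) (Nat.card_coe_set_eq _ ▸ hS.dvd_card (hG ▸ by norm_num)
        (by norm_num))
  obtain ⟨M, e5, c5, t, L, Y, θ, δ, ε, j⟩ := exists_blk (G := G) (p := 5)
    (by rw [hG]; norm_num) (by rw [hG]; norm_num)
  obtain rfl : M = 1020096 := j.num.symm.trans n5
  obtain ⟨M, e, c, t, L, Y, θ, δ, ε, k⟩ := exists_blk (G := G) (p := 11)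
    (by rw [hG]; norm_num) (by rw [hG]; norm_num)
  obtain rfl : M = 2225664 := k.num.symm.trans n11
  obtain ⟨rfl, rfl⟩ : e = 10 ∧ c = 1 := by
    have h1 : e * c = 10 := by have := k.card_group; rw [mul_assoc] at this; omega
    have h2 := k.two_le hn
    have h3 : e5 * c5 = 48 := by have := j.card_group; rw [mul_assoc] at this; omega
    have h4 : c % 5 ≠ 0 := fun h4 => by
      have := (Nat.dvd_of_mod_eq_zero (k.dvd_c j (by norm_num) h4)).mul_left e5
      omega
    have h5 : c ≠ 2 := by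
      rintro rfl
      obtain ⟨x, hx⟩ := exists_prime_orderOf_dvd_card' (G := G) 11 (by rw [hG]; norm_num)
      have h5 := sum_cel_le hx (by norm_num) (k.card_centralizer hx) {2} (by decide)
      have h6 := cel_ne_zero (x := x) (q := 2) (by rw [k.card_centralizer hx]; norm_num)
      have h7 := cnt_mod hx 2
      rw [Finset.sum_singleton] at h5
      rw [m2, Nat.ModEq] at h7; omega
    have h6 := k.e_lt
    interval_cases e <;> omega
  exact equiv_of_counts hG hS (k.selfC rfl (by norm_num)) n5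
    (sy 7 (by norm_num) (by norm_num) 1943040 (by decide +kernel)) m2
    (by rw [pr 3 (by norm_num) 712448 (by decide +kernel)])

end Cfsg.Lib.Spor.O24
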