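import Cfsg.Agent.Spor.MoFS
import Cfsg.Agent.Spor.O24Nse

/-!
A simple group of order 244823040: the data used in the proof that it is the largest Mathieu group.
-/

set_option autoImplicit false

namespace Cfsg.Lib.Spor.O24F

open Subgroup Cfsg.Lib.Spor.Mo Cfsg.Lib.PrimeOne
open Cfsg.Lib.Spor.O7920 (instFact11 instFact5)
open Cfsg.Lib.Spor.O10200960 (instFact23)

variable {G : Type*} [Group G]

/-- The centralizer of an element. -/
abbrev C1 (g : G) : Subgroup G := centralizer ({g} : Set G)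

/-- The normalizer of a cyclic subgroup. -/
abbrev N1 (g : G) : Subgroup G := normalizer (zpowers g : Set G)

/-- The three members of a 3-block with defect group generated by `d`, of order 3. -/
structure Tri (d : G) (φ φ' φ'' : IrrCharacter G) : Prop where
  od : orderOf d = 3
  ne1 : φ ≠ φ'
  ne2 : φ ≠ φ''
  ne3 : φ' ≠ φ''
  d1 : 9 ∣ deg φ' ∧ ¬ 27 ∣ deg φ'
  d2 : 9 ∣ deg φ'' ∧ ¬ 27 ∣ deg φ''
  van : ∀ g, 3 ∣ orderOf g → (φ : G → ℂ) g ≠ 0 →
    ¬ 9 ∣ orderOf g ∧ ∃ h : G, d ∈ zpowers (h * g * h⁻¹)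

/-- Inertial index 1. -/
structure TriB (φ φ' φ'' : IrrCharacter G) : Prop where
  reg : ∀ g, ¬ 3 ∣ orderOf g →
    (φ' : G → ℂ) g = (φ : G → ℂ) g ∧ (φ'' : G → ℂ) g = (φ : G → ℂ) g
  sing : ∀ g, 3 ∣ orderOf g → (φ : G → ℂ) g + (φ' : G → ℂ) g + (φ'' : G → ℂ) g = 0

/-- The values of `φ` on the section of `d` are those of a character of `C(d) / ⟨d⟩`. -/
structure Th (d : G) (φ : IrrCharacter G) (σ : ℤ) (θ : IrrCharacter (C1 d)) : Prop where
  sgn : σ = 1 ∨ σ = -1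
  ker : ∀ x y : C1 d, (y : G) = d * x → (θ : C1 d → ℂ) y = (θ : C1 d → ℂ) x
  val : ∀ x : C1 d, d ∈ zpowers (x : G) → (φ : G → ℂ) x = σ * (θ : C1 d → ℂ) x

/-- Inertial index 2. -/
structure TriA (d : G) (φ φ' φ'' : IrrCharacter G) (a' a'' : ℤ) : Prop where
  s1 : a' = 1 ∨ a' = -1
  s2 : a'' = 1 ∨ a'' = -1
  reg : ∀ g, ¬ 3 ∣ orderOf g →
    (φ : G → ℂ) g + a' * (φ' : G → ℂ) g + a'' * (φ'' : G → ℂ) g = 0
  sing : ∀ g, 3 ∣ orderOf g →
    a' * (φ' : G → ℂ) g = (φ : G → ℂ) g ∧ a'' * (φ'' : G → ℂ) g = (φ : G → ℂ) g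
  real : IsConj d d⁻¹
  th : ∃ σ θ, Th d φ σ θ

/-- The centralizer of an element `y` of order 5 has a normal Sylow 2-subgroup `T`. -/
structure L5 (c : ℕ) (y : G) (T : Subgroup G) : Prop where
  card : Nat.card G = 244823040
  oy : orderOf y = 5
  hc : c = 12 ∨ c = 192
  cC : Nat.card (C1 y) = 5 * c
  cN : Nat.card (N1 y) = 20 * c
  le : T ≤ C1 y
  cT : 3 * Nat.card T = c
  two : ∀ u ∈ C1 y, ∀ k : ℕ, u ^ 2 ^ k = 1 → u ∈ T

/-- A principal 5-block with degrees 1, 9, 8, 8. -/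
structure HD (θ η η' : IrrCharacter G) : Prop where
  dθ : deg θ = 9
  dη : deg η = 8
  dη' : deg η' = 8
  ne : η ≠ η'
  real : ∀ g, (θ : G → ℂ) g⁻¹ = (θ : G → ℂ) g
  sing : ∀ g, 5 ∣ orderOf g → (θ : G → ℂ) g = -1 ∧ (η : G → ℂ) g + (η' : G → ℂ) g = 1
  reg : ∀ g, ¬ 5 ∣ orderOf g →
    (η : G → ℂ) g = (θ : G → ℂ) g - 1 ∧ (η' : G → ℂ) g = (θ : G → ℂ) g - 1

/-- The number of rows of a given degree. -/
def cntD (t : ℕ) (l : List ℤ) (d : ℕ) : ℕ :=
  (((rows t l).filter fun r => r.1.natAbs == d).map Prod.snd).sum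

/-- Involutions centralizing `y` and a Sylow 2-subgroup of its normalizer, when `c = 192`:
the order of the centralizer and the values of the characters of degrees 252 and 5544. -/
def T192 : List (ℕ × ℤ × ℤ) :=
  [(1280, -8, 4), (3840, 12, -36), (3840, 32, -16), (3840, -28, -16), (3840, -8, 4),
    (3840, 12, 24), (7680, 52, -56), (7680, -28, 44), (7680, -8, -56), (7680, 12, -36),
    (7680, 32, -16), (7680, -28, -16), (7680, -8, 4), (7680, 12, 24), (7680, -48, 24),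
    (23040, 72, -36), (26880, 112, -56), (46080, -108, 144)]

/-- Involutions when `c = 12`: the order of the centralizer, the value of the character of degree
252 and the number of conjugates inverting `y`. -/
def T12 : List (ℕ × ℤ × ℕ) :=
  [(5376, 28, 20), (7168, 28, 15), (7680, 12, 15), (8064, 0, 15), (10752, 28, 10), (21504, 28, 5)]

/-- The elements that are conjugate to `s` and invert `y`. -/
def Inv (s y : G) : Set G := {a | IsConj s a ∧ a * y * a⁻¹ = y⁻¹}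

/-- The table `T192` applies. -/
def Tab192 (ξ χ : IrrCharacter G) (y : G) : Prop :=
  ∀ s, orderOf s = 2 → s ∈ C1 y → 1280 ∣ Nat.card (N1 y ⊓ C1 s : Subgroup G) →
    (Nat.card (C1 s), iv ξ s, iv χ s) ∈ T192

/-- The table `T12` applies. -/
def Tab12 (ξ : IrrCharacter G) (y : G) : Prop :=
  ∀ s, orderOf s = 2 → (Nat.card (C1 s), iv ξ s, (Inv s y).ncard) ∈ T12

/-- The two classes of involutions. -/
structure Two (ξ : IrrCharacter G) (s z : G) : Prop where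
  os : orderOf s = 2
  oz : orderOf z = 2
  cs : Nat.card (C1 s) = 7680
  cz : Nat.card (C1 z) = 21504
  two : ∀ i, orderOf i = 2 → IsConj s i ∨ IsConj z i
  vz : iv ξ z = 28
  m2 : {g : G | orderOf g = 2}.ncard = 43263

/-- The data used to find the normalizer of a Sylow 7-subgroup. -/
structure E12 (z d : G) : Prop where
  card : Nat.card G = 244823040
  oz : orderOf z = 2
  od : orderOf d = 3
  cz : Nat.card (C1 z) = 21504
  cd : Nat.card (C1 d) = 1080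
  inv7 : ∀ t, orderOf t = 2 → 7 ∣ Nat.card (C1 t) → IsConj z t
  three : ∀ g, orderOf g = 3 → g * z = z * g → IsConj d g
  five : ∀ g, orderOf g = 3 → 5 ∣ Nat.card (C1 g) → IsConj d g
  big : ∀ g : G, orderOf g = 3 ∨ orderOf g = 7 →
    ¬ 11 ∣ Nat.card (C1 g) ∧ ¬ 23 ∣ Nat.card (C1 g)
  s7 : ∀ v : G, orderOf v = 7 → ¬ 5 ∣ Nat.card (C1 v)
  m2 : {g : G | orderOf g = 2}.ncard = 43263

/-- The normalizer of `⟨v⟩`, of order `7 * n`, has the Sylow 3-subgroup `⟨g, d'⟩`. -/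
structure S7 (d v g d' : G) (n : ℕ) : Prop where
  ov : orderOf v = 7
  og : orderOf g = 3
  od' : orderOf d' = 3
  cN : Nat.card (N1 v) = 7 * n
  hn : n = 18 ∨ n = 144 ∨ n = 1152 ∨ n = 9216
  even : 2 ∣ Nat.card (C1 v)
  gN : g ∈ N1 v
  gC : g ∉ C1 v
  dC : d' ∈ C1 v
  comm : g * d' = d' * g
  conj : IsConj d g
  other : ∀ i : ℕ, IsConj d' (d' * g ^ i)

variable [Finite G]

/-- The principal 5-block has degrees 1, 1771, 2024, 5544, 5796. -/
structure B5 (c : ℕ) (α β χ ψ : IrrCharacter G) : Prop where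
  card : Nat.card G = 244823040
  b23 : ∃ L Y θ δ ε, Blk (G := G) 23 967680 11 1 2 L Y θ δ ε
  b11 : ∃ L Y θ δ ε, Blk (G := G) 11 2225664 10 1 1 L Y θ δ ε
  hc : c = 12 ∨ c = 192
  blk : ∃ M δ, Blk 5 M 4 c 1 [α, β, χ] {ψ} ψ δ (-1) ∧ sd δ [α, β, χ] = [1771, -2024, -5544]

/-- The characters of degrees 5544, 5796 and 252 form a 3-block with defect group `⟨d⟩`. -/
structure Jt (c : ℕ) (α β χ ψ ξ : IrrCharacter G) (d y : G) : Prop extends B5 c α β χ ψ where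
  dξ : deg ξ = 252
  od : orderOf d = 3
  oy : orderOf y = 5
  comm : d * y = y * d
  reg : ∀ g, ¬ 3 ∣ orderOf g → (ψ : G → ℂ) g = (χ : G → ℂ) g + (ξ : G → ℂ) g
  sing : ∀ g, 3 ∣ orderOf g →
    (ξ : G → ℂ) g = (χ : G → ℂ) g ∧ (ψ : G → ℂ) g = -(χ : G → ℂ) g
  van : ∀ g, 3 ∣ orderOf g → (χ : G → ℂ) g ≠ 0 →
    ¬ 9 ∣ orderOf g ∧ ∃ h : G, d ∈ zpowers (h * g * h⁻¹)
  real : IsConj d d⁻¹
  th : ∃ σ θ, Th d χ σ θ

namespace B5

variable {c : ℕ} {α β χ ψ : IrrCharacter G} (h : B5 c α β χ ψ)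
include h

theorem s23 : SelfC G 23 11 :=
  let ⟨_, _, _, _, _, k⟩ := h.b23
  k.selfC rfl (by norm_num)

theorem s11 : SelfC G 11 10 :=
  let ⟨_, _, _, _, _, k⟩ := h.b11
  k.selfC rfl (by norm_num)

theorem degs : deg α = 1771 ∧ deg β = 2024 ∧ deg χ = 5544 ∧ deg ψ = 5796 := by
  obtain ⟨M, δ, k, h1⟩ := h.blk
  have h2 := k.map_natAbs
  rw [h1] at h2
  simp at h2
  omega

theorem signs {M : ℕ} {δ : IrrCharacter G → ℤ} (h1 : sd δ [α, β, χ] = [1771, -2024, -5544]) :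
    δ α = 1 ∧ δ β = -1 ∧ δ χ = -1 := by
  obtain ⟨d1, d2, d3, -⟩ := h.degs
  simp only [sd, List.map_cons, List.map_nil, d1, d2, d3, List.cons.injEq] at h1
  have := M
  omega

/-- The values on the elements of order divisible by 5. -/
theorem sing5 {g : G} (hg : 5 ∣ orderOf g) : (α : G → ℂ) g = 1 ∧ (β : G → ℂ) g = -1 ∧
    (χ : G → ℂ) g = -1 ∧ (ψ : G → ℂ) g = 1 := by
  obtain ⟨M, δ, k, h1⟩ := h.blk
  obtain ⟨s1, s2, s3⟩ := h.signs (M := M) h1
  have h2 := k.sum_Y hg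
  refine ⟨?_, ?_, ?_, by simpa using h2⟩
  · simpa [s1] using (k.val (χ := α) (by simp)).2.2.2 g hg
  · simpa [s2] using (k.val (χ := β) (by simp)).2.2.2 g hg
  · simpa [s3] using (k.val (χ := χ) (by simp)).2.2.2 g hg

/-- The relation on the elements of order prime to 5. -/
theorem reg5 {g : G} (hg : ¬ 5 ∣ orderOf g) :
    1 + (α : G → ℂ) g - (β : G → ℂ) g - (χ : G → ℂ) g + (ψ : G → ℂ) g = 0 := by
  obtain ⟨M, δ, k, h1⟩ := h.blk
  obtain ⟨s1, s2, s3⟩ := h.signs (M := M) h1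
  have h2 := k.rel hg
  simp [s1, s2, s3] at h2
  linear_combination -h2

theorem cC {y : G} (hy : orderOf y = 5) : Nat.card (C1 y) = 5 * c :=
  let ⟨_, _, k, _⟩ := h.blk
  k.card_centralizer hy

theorem cN {y : G} (hy : orderOf y = 5) : Nat.card (N1 y) = 20 * c :=
  let ⟨_, _, k, _⟩ := h.blk
  k.card_norm hy

/-- A character with a constant nonzero value on the elements of order divisible by 5. -/
theorem mem {φ : IrrCharacter G} (h1 : deg φ ≠ 1) {σ : ℤ} (h2 : σ ≠ 0)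
    (h3 : ∀ g, 5 ∣ orderOf g → (φ : G → ℂ) g = σ) : φ = α ∨ φ = β ∨ φ = χ ∨ φ = ψ := by
  obtain ⟨M, δ, k, -⟩ := h.blk
  simpa [or_assoc] using k.mem_of_val (χ := φ) (by rintro rfl; exact h1 deg_triv) h2 h3

theorem conj5 {x y : G} (hx : orderOf x = 5) (hy : orderOf y = 5) : IsConj x y :=
  let ⟨_, _, k, _⟩ := h.blk
  k.isConj rfl hx hy

theorem int5 {y : G} (hy : orderOf y = 5) (φ : IrrCharacter G) :
    (φ : G → ℂ) y = iv φ y ∧ iv φ y ≡ deg φ [ZMOD 5] :=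
  let ⟨_, _, k, _⟩ := h.blk
  k.exists_int rfl hy φ

theorem cent {g : G} (hg : g ≠ 1) (h1 : orderOf g ≠ 11) (h2 : orderOf g ≠ 23) :
    ¬ 11 ∣ Nat.card (C1 g) ∧ ¬ 23 ∣ Nat.card (C1 g) :=
  ⟨mt (h.s11.cent g hg) h1, mt (h.s23.cent g hg) h2⟩

end B5

end Cfsg.Lib.Spor.O24F
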