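import Cfsg.Agent.Spor.O24FNum

/-!
The candidates for the principal 5-block.
-/

set_option autoImplicit false

namespace Cfsg.Lib.Spor.O24F

open Subgroup Cfsg.Lib.Spor.Mo Cfsg.Lib.PrimeOne Cfsg.Lib.Spor.O24

theorem e5c : enumF 244823040 5 R D (fun _ => true)
    (fun M e => (244823040 / (5 * M * e)).gcd 253 != 1 || M ≤ 2000000)
    (fun M e l => T5.contains (M, e, l)) = true := by
  decide +kernel

end Cfsg.Lib.Spor.O24F
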