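import Cfsg.Agent.Spor.O24FDefs

/-!
General lemmas on the principal block for a prime that divides the order of the group only once.
-/

set_option autoImplicit false

open scoped ComplexConjugate

namespace Cfsg.Lib.Spor.O24F

open Cfsg Cfsg.Lib.Char Cfsg.Lib.Solv Cfsg.Lib.PrimeOne Cfsg.Lib.Block.Princ Subgroup
open Cfsg.Lib.Block hiding dg dg_cast
open Cfsg.Lib.Spor.CKit Cfsg.Lib.Spor.Mo

variable {G : Type*} [Group G] [Finite G]
variable {p : ℕ} [hp : Fact p.Prime] {M e c t : ℕ} {L : List (IrrCharacter G)}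
  {Y : Finset (IrrCharacter G)} {θ : IrrCharacter G} {δ : IrrCharacter G → ℤ} {ε : ℤ}

theorem orth [Fintype G] (h : Blk p M e c t L Y θ δ ε) {φ : IrrCharacter G} (h1 : φ ≠ triv G)
    (h2 : φ ∉ L) (h3 : φ ∉ Y) :
    ∑ g : G, (if p ∣ orderOf g then (φ : G → ℂ) g else 0) = 0 := by
  classical
  have h5 : ∀ ψ : IrrCharacter G, ψ ≠ φ → ∑ g, (ψ : G → ℂ) g * conj ((φ : G → ℂ) g) = 0 :=
    fun ψ hψ => by rw [← card_mul_classInner, classInner_irr, if_neg hψ, mul_zero]
  have h6 : ∑ g, (if p ∣ orderOf g then (p : ℂ) else 0) * conj ((φ : G → ℂ) g) = 0 := by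
    simp only [h.ind, sub_mul, mul_assoc, Finset.sum_mul, Finset.sum_sub_distrib,
      ← Finset.mul_sum]
    rw [Finset.sum_comm, Finset.sum_comm (t := Y), Finset.sum_eq_zero, Finset.sum_eq_zero]
    · simp
    · exact fun ψ hψ => h5 ψ fun e => h3 (e ▸ hψ)
    · exact fun ψ hψ => by
        rw [← Finset.mul_sum, h5 ψ fun e => by simp [e, h1, h2] at hψ, mul_zero]
  apply mul_left_cancel₀ (Nat.cast_ne_zero.2 hp.out.ne_zero : (p : ℂ) ≠ 0)
  replace h6 := congrArg conj h6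
  rw [map_zero, map_sum] at h6
  rw [mul_zero, Finset.mul_sum]
  exact (Finset.sum_congr rfl fun g _ => by split_ifs <;> simp).trans h6

theorem qua_inv (h : Blk p M e c t L Y θ δ ε) (hp2 : p ≠ 2) {s y : G} (hs : orderOf s = 2)
    (hy : orderOf y = p) : ∃ m ≤ c, (Inv s y).ncard = p * m ∧
      (((C1 s).index ^ 2 * t : ℕ) : ℤ) * (Nat.card G + quaS (Nat.card G) (rows t (sd δ L))
        ((θ :: L).map (iv · s))) = (Nat.card G * M * (p - 1) * p ^ 2 * m ^ 2 : ℕ) := by
  classical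
  have := Fintype.ofFinite G
  have hs2 : s * s = 1 := by rw [← sq, ← hs, pow_orderOf_eq_one]
  obtain ⟨I, h0⟩ := h.b0
  obtain ⟨P, hP, hc', he⟩ := h.syl
  obtain ⟨y', hyP, hy1⟩ := exists_ne_one hP
  obtain ⟨m, hm, hm1, -⟩ := exists_card_invSet P hP hp2 hc' he hs2 hyP hy1
  rw [card_invSet_eq P hP s (orderOf_of_mem hP hyP hy1) hy] at hm1
  refine ⟨m, hm, ?_, ?_⟩
  · rw [← hm1, ← Set.ncard_coe_finset]
    exact congrArg _ (Set.ext fun a => by rw [Finset.mem_coe, mem_invSet]; rfl)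
  have h1 := pairSum_singular P hP hp2 hs2 hs2 hy
  have h2 : (p : ℂ) • (fun g : G => if p ∣ orderOf g then (1 : ℂ) else 0) =
      (t : ℂ) • ∑ χ ∈ (triv G :: L).toFinset, (δ χ : ℂ) • (χ : G → ℂ) -
        (ε : ℂ) • ∑ ψ ∈ Y, (ψ : G → ℂ) := by
    funext g
    simp only [Pi.smul_apply, Pi.sub_apply, Finset.sum_apply, smul_eq_mul, ← h.ind, mul_ite,
      mul_one, mul_zero]
  rw [← pairSum_smul, h2, pairSum_sub, pairSum_smul, pairSum_smul, pairSum_sum, pairSum_sum,
    hm1, h.num, Finset.sum_congr (s₁ := Y) rfl fun ψ hψ => by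
      rw [pairSum_irr s s ψ.2, (h.val_Y hψ).2.2 s (not_dvd_two hs hp2), ← deg_cast,
        (h.val_Y hψ).1], Finset.sum_const, h.card_Y, h.sum_eq] at h1
  simp only [pairSum_smul, pairSum_irr s s (Subtype.property _), h0.δ_triv,
    ← iv_two _ hs, ← deg_cast] at h1
  have h3 : ∀ {χ : IrrCharacter G} {u : ℤ}, u = 1 ∨ u = -1 →
      (((Nat.card G : ℤ) / (u * deg χ) : ℤ) : ℂ) = u * Nat.card G / deg χ := fun {χ u} hu => by
    obtain ⟨k, hk⟩ := deg_dvd_card χ
    have h4 : (deg χ : ℂ) ≠ 0 := Nat.cast_ne_zero.2 (deg_pos χ).ne'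
    have h5 : (deg χ : ℤ) ≠ 0 := Nat.cast_ne_zero.2 (deg_pos χ).ne'
    rw [hk]
    rcases hu with rfl | rfl <;> simp [h4, neg_div]
  have h4 : ((quaS (Nat.card G) (rows t (sd δ L)) ((θ :: L).map (iv · s)) : ℤ) : ℂ) =
      Nat.card G * (-ε * (iv θ s * iv θ s / deg θ) +
        (L.map fun χ => (δ χ : ℂ) * (iv χ s * iv χ s / deg χ)).sum) := by
    rw [rows, ← h.deg_rel, sd, List.map_map, List.map_cons, quaS, quaS_map, ← neg_mul,
      Int.cast_add, Int.cast_mul, h3 (by rcases h.sign with h | h <;> simp [h]), mul_add,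
      ← List.sum_map_mul_left, Int.cast_list_sum, List.map_map]
    congr 1
    · push_cast; ring
    · exact congrArg _ (List.map_congr_left fun χ hχ => by
        simp only [Function.comp, Int.cast_mul, h3 (h.val hχ).1]; ring)
  have h5 : iv (triv G) s = 1 := iv_eq (by simp)
  have h6 : (L.map fun χ => (δ χ : ℂ) * (((C1 s).index : ℂ) * (C1 s).index *
      (iv χ s * iv χ s / deg χ))).sum = ((C1 s).index : ℂ) ^ 2 *
        (L.map fun χ => (δ χ : ℂ) * (iv χ s * iv χ s / deg χ)).sum := by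
    rw [← List.sum_map_mul_left]
    exact congrArg _ (List.map_congr_left fun χ _ => by ring)
  rw [h5, h6, deg_triv] at h1
  apply Int.cast_injective (α := ℂ)
  rw [Int.cast_mul, Int.cast_add, h4]
  generalize (C1 s).index = K at h1 ⊢
  simp only [Int.cast_natCast]
  simp only [nsmul_eq_mul] at h1
  push_cast [Nat.cast_sub hp.out.one_le] at h1 ⊢
  linear_combination (Nat.card G : ℂ) * h1


theorem syl (h : Blk p M e c t L Y θ δ ε) {x s : G} (hx : orderOf x = p) (hs : s ≠ 1)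
    (hr : ¬ p ∣ orderOf s) (hc : s ∈ C1 x) : ∃ j k, Nat.card (N1 x ⊓ C1 s : Subgroup G) = p * j ∧
      j ∣ e * c ∧ Nat.card (C1 s) = p * j * k ∧ k % p = 1 ∧ e * c ≤ j * (c - 1) := by
  have h1 : x ∈ C1 s := mem_centralizer_singleton_iff.2 (mem_centralizer_singleton_iff.1 hc).symm
  obtain ⟨k, hk, hk1⟩ := sylow_cnt hx h.not_sq h1
  obtain ⟨j, hj⟩ : p ∣ Nat.card (N1 x ⊓ C1 s : Subgroup G) :=
    hx ▸ orderOf_dvd_natCard _ (mem_inf.2 ⟨le_normalizer (mem_zpowers x), h1⟩)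
  have h2 := card_mul_index ((C1 s).subgroupOf (N1 x))
  rw [card_subgroupOf, inf_comm, hj, h.card_norm hx, mul_assoc, mul_assoc] at h2
  replace h2 := Nat.eq_of_mul_eq_mul_left hp.out.pos h2
  refine ⟨j, k, hj, ⟨_, h2.symm⟩, hj ▸ hk, hk1, ?_⟩
  have h3 : ¬ p ∣ c := fun ⟨a, ha⟩ => h.not_sq ⟨M * e * a, by rw [h.card_group, ha]; ring⟩
  have h4 := O24.ncard_reg_le hx h3 (h.card_centralizer hx)
  have h5 : (C1 s).relIndex (N1 x) ≤ ({g | ¬ p ∣ orderOf g ∧ x * g = g * x} \ {1} : Set G).ncard :=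
    O24.rel_le fun g hg => ⟨⟨by rwa [show g * s * g⁻¹ = MulAut.conj g s from rfl,
      MulEquiv.orderOf_eq], by
        obtain ⟨i, hi⟩ := (mem_normalizer_iff''.1 hg x).1 (mem_zpowers x)
        have := (show Commute s x from mem_centralizer_singleton_iff.1 hc).zpow_right i
        simp only at hi
        rw [hi] at this
        calc x * (g * s * g⁻¹) = g * (g⁻¹ * x * g * s) * g⁻¹ := by group
          _ = _ := by rw [← this.eq]; group⟩, by simpa using hs⟩
  rw [Set.ncard_diff_singleton_of_mem (by simp [hp.out.one_lt.ne'])] at h5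
  rw [← h2]
  exact Nat.mul_le_mul_left _ (h5.trans (Nat.sub_le_sub_right h4 1))

theorem cong_mul {x y : G} (hx : orderOf x = p) (h : Commute y x) (χ : IrrCharacter G) {a b : ℤ}
    (ha : (χ : G → ℂ) y = a) (hb : ∀ u ∈ zpowers x, u ≠ 1 → (χ : G → ℂ) (y * u) = b) :
    (p : ℤ) ∣ a - b := by
  classical
  have := Fintype.ofFinite (zpowers x)
  have hP : Nat.card (zpowers x) = p := by rw [Nat.card_zpowers, hx]
  have h1 := isIntegral_avg_char χ.2.isCharacter (x := y) (P := zpowers x)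
    (zpowers_le.2 (mem_centralizer_singleton_iff.2 h.symm))
  rw [← Finset.add_sum_erase _ _ (Finset.mem_univ 1), Finset.sum_congr rfl fun u hu =>
    hb _ u.2 (by simpa using hu),
    Finset.sum_const, Finset.card_erase_of_mem (Finset.mem_univ _), Finset.card_univ,
    ← Nat.card_eq_fintype_card, hP, nsmul_eq_mul, Nat.cast_sub hp.out.one_le, OneMemClass.coe_one,
    mul_one, ha] at h1
  obtain ⟨k, hk⟩ := int_dvd_of_isIntegral_div (a := a + (p - 1) * b) (b := p)
    (Nat.cast_ne_zero.2 hp.out.ne_zero) (by simpa [div_eq_inv_mul] using h1)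
  exact ⟨k - b, by linarith⟩

end Cfsg.Lib.Spor.O24F
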