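import Cfsg.Agent.Spor.O24FGen

/-!
The principal 11-block, when it contains two characters of degree 5796 and two of degree 252.
-/

set_option autoImplicit false

namespace Cfsg.Lib.Spor.O24F

open Subgroup Cfsg.Lib.Spor.Mo Cfsg.Lib.PrimeOne Cfsg.Lib.Block.Princ
open Cfsg.Lib.Spor.O7920 (instFact11 instFact5)
open Cfsg.Lib.Spor.O10200960 (instFact23)
open Cfsg.Lib.Spor.O24 (R D ord)

variable {G : Type*} [Group G] [Finite G] {c : ℕ} {α β χ ψ : IrrCharacter G}

/-- The candidates for the principal 11-block. -/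
def L11 : List (List ℤ) :=
  [[45, 45, 45, -230, 4830, 7360, -5796, -252, -252], [23, 45, 45, 3312, 3840, 4830, -5796, -252, -252],
    [23, -736, 1288, 3840, 3840, 3840, -5796, -252, -252],
    [-230, -483, 1288, 3840, 3840, 3840, -5796, -252, -252],
    [12, 23, 540, 3840, 3840, 3840, -5796, -252, -252],
    [23, 276, 276, 3840, 3840, 3840, -5796, -252, -252]]

namespace IIa

theorem num : srchF (fun b U l => quick (dst U 132095) 0 0 b (tauBad 23 11 l ||
    R.any (bt1Bad (11 * 1) l) || bad 244823040 11 2225664 10 1 1 (R.map Prod.fst) l ||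
      L11.contains l)) 6
    (((cand 11 (10 * 2225664) (modOk 23 11) D).filter fun s => s.natAbs ^ 2 ≤ 108803910).map
      fun s => (s, (s + 20000).toNat, s.natAbs ^ 2)) 108803910 0 [-5796, -252, -252] = true := by
  decide +kernel

omit [Finite G] in
theorem eq_of_mem {L : List (IrrCharacter G)} {Y : Finset (IrrCharacter G)}
    {θ φ : IrrCharacter G} {δ : IrrCharacter G → ℤ} {ε : ℤ}
    (k : Blk 11 2225664 10 1 1 L Y θ δ ε) (h : φ ∈ Y) : φ = θ :=
  Finset.card_le_one.1 k.card_Y.le _ h _ k.mem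

theorem exists_blk (h : B5 c α β χ ψ) :
    ∃ L Y δ ε, Blk (G := G) 11 2225664 10 1 1 L Y ψ δ ε := by
  obtain ⟨L, Y, θ, δ, ε, k⟩ := h.b11
  have d := h.degs.2.2.2
  rcases k.mem_of_not_dvd (χ := ψ) rfl (by rw [d]; norm_num) with e | e | e
  · rw [e, deg_triv] at d; omega
  · obtain ⟨L', δ', -, k'⟩ := k.swap rfl e
    exact ⟨_, _, _, _, k'⟩
  · exact ⟨L, Y, δ, ε, eq_of_mem k e ▸ k⟩

theorem mem {L : List (IrrCharacter G)} {Y : Finset (IrrCharacter G)}
    {θ φ : IrrCharacter G} {δ : IrrCharacter G → ℤ} {ε : ℤ}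
    (k : Blk 11 2225664 10 1 1 L Y θ δ ε) (h : φ ≠ θ) (h1 : deg φ % 11 = 10) :
    φ ∈ L ∧ δ φ = -1 := by
  rcases k.mem_of_not_dvd (χ := φ) rfl (by omega) with e | e | e
  · rw [e, deg_triv] at h1; omega
  · have h2 := (k.modEq e).dvd
    exact ⟨e, (k.val e).1.resolve_left fun h3 => by rw [h3] at h2; omega⟩
  · exact absurd (eq_of_mem k e) h

end IIa

open IIa

theorem B5.rest11 [IsSimpleGroup G] (h : B5 c α β χ ψ) {χ' ψ' ξ ξ' : IrrCharacter G} (h1 : χ' ≠ χ)
    (h2 : ψ' ≠ ψ) (h3 : ξ ≠ ξ') (d1 : deg χ' = 5544) (d2 : deg ψ' = 5796) (d3 : deg ξ = 252)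
    (d4 : deg ξ' = 252) :
    ∃ L Y θ δ ε, Blk (G := G) 11 2225664 10 1 1 L Y θ δ ε ∧ sd δ L ∈ L11 := by
  classical
  have hn : ¬ IsMulCommutative G := not_comm_of_not_prime (by rw [h.card]; norm_num)
  obtain ⟨dα, dβ, dχ, dψ⟩ := h.degs
  obtain ⟨L, Y, δ, ε, k⟩ := exists_blk h
  obtain ⟨m1, s1⟩ := IIa.mem k h2 (by rw [d2])
  obtain ⟨m2, s2⟩ := IIa.mem k (φ := ξ) (by rintro rfl; omega) (by rw [d3])
  obtain ⟨m3, s3⟩ := IIa.mem k (φ := ξ') (by rintro rfl; omega) (by rw [d4])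
  obtain ⟨S1, e1⟩ := Multiset.exists_cons_of_mem (Multiset.mem_coe.2 m1)
  obtain ⟨S2, rfl⟩ := Multiset.exists_cons_of_mem ((Multiset.mem_cons.1
    (e1 ▸ Multiset.mem_coe.2 m2)).resolve_left (by rintro rfl; omega))
  obtain ⟨S3, rfl⟩ := Multiset.exists_cons_of_mem ((Multiset.mem_cons.1 ((Multiset.mem_cons.1
    (e1 ▸ Multiset.mem_coe.2 m3)).resolve_left (by rintro rfl; omega))).resolve_left h3.symm)
  induction S3 using Quot.inductionOn with | _ Q => ?_
  replace k := k.of_eq (L' := ψ' :: ξ :: ξ' :: Q) e1.symm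
  clear e1 m1 m2 m3
  have e2 : sd δ (ψ' :: ξ :: ξ' :: Q) = -5796 :: -252 :: -252 :: sd δ Q := by
    simp [sd, s1, s2, s3, d2, d3, d4]
  have g := k.good hn
  have hε : ε = 1 := k.sign.resolve_right fun e => by
    have := k.modEq_Y.dvd
    rw [e, dψ] at this
    omega
  have e3 := k.deg_rel
  rw [hε, dψ, e2] at e3
  simp only [List.sum_cons] at e3
  have e4 : ([ψ, χ, χ', α, β] ++ triv G :: ψ' :: ξ :: ξ' :: Q).Nodup := by
    refine List.nodup_append.2 ⟨nodup_of_deg (by simp [dα, dβ, dχ, dψ, d1, h1.symm]), k.nodup, ?_⟩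
    rintro a ha b hb rfl
    rcases List.mem_cons.1 hb with rfl | hb
    · simp only [List.mem_cons, List.not_mem_nil, or_false] at ha
      rcases ha with e | e | e | e | e <;> replace e := congrArg deg e <;> rw [deg_triv] at e <;>
        omega
    · have := k.not_dvd_deg (.inl hb)
      simp only [List.mem_cons, List.not_mem_nil, or_false] at ha
      rcases ha with rfl | rfl | rfl | rfl | rfl
      exacts [(k.val hb).2.2.1 k.mem, by omega, by omega, by omega, by omega]
  have e5 : ((sd δ Q).map fun s => s.natAbs ^ 2).sum ≤ 108803910 := by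
    have e5 := (Finset.sum_le_sum_of_subset (f := fun φ : IrrCharacter G => deg φ ^ 2)
      (Finset.subset_univ ([ψ, χ, χ', α, β] ++ triv G :: ψ' :: ξ :: ξ' :: Q).toFinset)).trans_eq
      sum_deg_sq
    rw [List.sum_toFinset _ e4, h.card] at e5
    rw [sd, List.map_map, List.map_congr_left (g := fun φ => deg φ ^ 2) fun φ hφ => by
      simp only [Function.comp, k.natAbs_sd (χ := φ) (by simp [hφ])]]
    simp only [List.cons_append, List.nil_append, List.map_cons, List.sum_cons, dα, dβ, dχ, dψ,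
      d1, d2, d3, d4, deg_triv] at e5
    omega
  have e6 : ∀ s ∈ (sd δ Q : Multiset ℤ), s.natAbs ^ 2 ≤ 108803910 := fun s hs =>
    (List.single_le_sum (fun _ _ => Nat.zero_le _) _
      (List.mem_map_of_mem (f := fun s : ℤ => s.natAbs ^ 2) hs)).trans e5
  have e7 : (sd δ Q).length = 6 := by
    have := g.card
    rw [e2] at this
    simpa using this
  obtain ⟨l, hl, hb⟩ := srchF_sound _ _ _ _ _ num (sd δ Q) e7 (fun s hs => by
    have h4 : s ∈ (sd δ (ψ' :: ξ :: ξ' :: Q) : Multiset ℤ) := by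
      rw [e2]; simp [Multiset.mem_coe.1 hs]
    have h9 := g.dvd s (Multiset.mem_cons_of_mem h4)
    refine List.mem_filter.2 ⟨mem_cand (by norm_num) (g.one_lt s (Multiset.mem_cons_of_mem h4))
      h9 (g.modEq s h4) ?_ (ord.dvd _ (h9.trans (by norm_num))), by simpa using e6 s hs⟩
    obtain ⟨φ, hφ, rfl⟩ := List.mem_map.1 h4
    rw [k.natAbs_sd hφ, h.s23.mod]) e5
  rw [dst_eq (u := 0) (by
    rw [Nat.cast_add, Nat.cast_multiset_sum, Multiset.map_map, Multiset.map_congr rfl
      (g := fun s => s + (20000 : ℤ)) fun s hs => by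
        have := e6 s hs
        exact Int.toNat_of_nonneg (by
          have : s.natAbs ≤ 20000 := by nlinarith
          omega), Multiset.sum_map_add]
    simp [e7]
    omega)] at hb
  replace hb := quick_sound hb (by simp)
  obtain ⟨L', h9, rfl⟩ := exists_list_of_map_eq (fun φ => δ φ * deg φ) l (ψ' :: ξ :: ξ' :: Q) (by
    rw [hl, ← sd, e2, add_comm]; rfl)
  have k' := k.of_eq h9
  refine ⟨L', Y, ψ, δ, ε, k', ?_⟩
  simp only [Bool.or_eq_true, List.any_eq_true, List.contains_iff_mem] at hb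
  rcases hb with ((hb | ⟨r, hr, hb⟩) | hb) | hb
  · exact absurd hb (k'.not_tauBad h.s23 (by norm_num))
  · exact absurd hb (k'.not_bt1Bad (ord.prime r hr) (h.card ▸ ord.fac r hr))
  · exact absurd hb (h.card ▸ (k'.good hn).not_bad fun q hq => by
      obtain ⟨r, hr, rfl⟩ := List.mem_map.1 hq
      exact ord.prime r hr)
  · exact hb

end Cfsg.Lib.Spor.O24F
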