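import Cfsg.Agent.Spor.O24FOut

/-! The characters of degrees 5544 and 5796 in the same 3-block. -/

set_option autoImplicit false

namespace Cfsg.Lib.Spor.O24F

open Subgroup Cfsg.Lib.Spor.Mo Cfsg.Lib.PrimeOne Cfsg.Lib.Block.Princ

variable {G : Type*} [Group G] [Finite G] {c : ℕ} {α β χ ψ : IrrCharacter G}

omit [Finite G] in
theorem Tri.swap {d : G} {φ φ' φ'' : IrrCharacter G} (k : Tri d φ φ' φ'') : Tri d φ φ'' φ' :=
  ⟨k.od, k.ne2, k.ne1, k.ne3.symm, k.d2, k.d1, k.van⟩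

omit [Finite G] in
theorem TriA.swap {d : G} {φ φ' φ'' : IrrCharacter G} {a' a'' : ℤ} (k : TriA d φ φ' φ'' a' a'') :
    TriA d φ φ'' φ' a'' a' :=
  ⟨k.s2, k.s1, fun g hg => by linear_combination k.reg g hg, fun g hg => (k.sing g hg).symm,
    k.real, k.th⟩

omit [Finite G] in
theorem TriB.degs {φ φ' φ'' : IrrCharacter G} (k : TriB φ φ' φ'') :
    deg φ' = deg φ ∧ deg φ'' = deg φ := by
  have := k.reg 1 (by simp)
  simpa only [← deg_cast, Nat.cast_inj] using this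

theorem B5.n1_pos (h : B5 c α β χ ψ) : {g : G | 5 ∣ orderOf g ∧ ¬ 3 ∣ orderOf g}.ncard ≠ 0 := by
  have : Fact (Nat.Prime 5) := ⟨Nat.prime_five⟩
  obtain ⟨y, hy⟩ := exists_prime_orderOf_dvd_card' (G := G) 5 (by rw [h.card]; norm_num)
  exact Set.ncard_ne_zero_of_mem (a := y) (by simp [hy])

theorem B5.joint0 (h : B5 c α β χ ψ) {d : G} {ξ : IrrCharacter G} {a' a'' : ℤ} (k : Tri d χ ξ ψ)
    (kA : TriA d χ ξ ψ a' a'') : ∃ y, Jt c α β χ ψ ξ d y := by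
  have := Fintype.ofFinite G
  obtain ⟨-, -, d1, d2⟩ := h.degs
  have h1 := kA.reg 1 (by simp)
  simp only [← deg_cast, d1, d2] at h1
  have h2 : (5544 : ℤ) + a' * deg ξ + a'' * 5796 = 0 := by exact_mod_cast h1
  have h3 := k.d1.2
  obtain ⟨rfl, rfl, dξ⟩ : a' = 1 ∧ a'' = -1 ∧ deg ξ = 252 := by
    rcases kA.s1 with rfl | rfl <;> rcases kA.s2 with rfl | rfl <;> omega
  have reg : ∀ g, ¬ 3 ∣ orderOf g → (ψ : G → ℂ) g = (χ : G → ℂ) g + (ξ : G → ℂ) g := fun g hg => by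
    have := kA.reg g hg
    push_cast at this
    linear_combination -this
  have sing : ∀ g, 3 ∣ orderOf g →
      (ξ : G → ℂ) g = (χ : G → ℂ) g ∧ (ψ : G → ℂ) g = -(χ : G → ℂ) g := fun g hg => by
    have := kA.sing g hg
    push_cast at this
    exact ⟨by linear_combination this.1, by linear_combination -this.2⟩
  have h4 := h.orth5 k.d1.1 ⟨k.ne1.symm, k.ne3⟩
  rw [Out.sum_two (a := -1) (b := 2) (fun g h5 hg => (sing g hg).1.trans (h.sing5 h5).2.2.1)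
    fun g h5 hg => by linear_combination (h.sing5 h5).2.2.2 - (h.sing5 h5).2.2.1 - reg g hg] at h4
  obtain ⟨g, g5, g3⟩ : {g : G | 5 ∣ orderOf g ∧ 3 ∣ orderOf g}.Nonempty :=
    Set.nonempty_of_ncard_ne_zero fun e => h.n1_pos (by simpa [e] using h4)
  obtain ⟨-, u, i, rfl⟩ := k.van g g3 (by simp [(h.sing5 g5).2.2.1])
  rw [← (MulAut.conj u).orderOf_eq, MulAut.conj_apply] at g5
  exact ⟨_, h, dξ, k.od, orderOf_pow_orderOf_div (orderOf_pos _).ne' g5,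
    ((Commute.refl _).zpow_left i).pow_right _, reg, sing, k.van, kA.real, kA.th⟩

theorem B5.joint (h : B5 c α β χ ψ) {d : G} {φ' φ'' : IrrCharacter G} (k : Tri d χ φ' φ'')
    (k' : TriB χ φ' φ'' ∨ ∃ a' a'', TriA d χ φ' φ'' a' a'') (h1 : φ' = ψ ∨ φ'' = ψ) :
    ∃ ξ y, Jt c α β χ ψ ξ d y := by
  obtain ⟨-, -, d1, d2⟩ := h.degs
  rcases k' with kB | ⟨a', a'', kA⟩
  · have := kB.degs
    rcases h1 with rfl | rfl <;> omega
  · rcases h1 with rfl | rfl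
    exacts [⟨_, h.joint0 k.swap kA.swap⟩, ⟨_, h.joint0 k kA⟩]

end Cfsg.Lib.Spor.O24F
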