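import Cfsg.Agent.Spor.O24FDefs
import Cfsg.Agent.Char.IndChar
import Cfsg.Agent.Char.Irr

/-!
A subgroup of order prime to `p` has index larger than the degree of some negative row of the
principal block.
-/

set_option autoImplicit false

namespace Cfsg.Lib.Spor.O24F

open Subgroup Cfsg.Lib.Spor.Mo Cfsg.Lib.PrimeOne Cfsg.Lib.Block.Princ Cfsg.Lib.Char
open Cfsg.Lib.Spor.CKit

variable {G : Type*} [Group G] [Finite G]

theorem Kt.lt_index (H : Subgroup G) [Fintype H] {χ : IrrCharacter G} (h1 : χ ≠ triv G)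
    (h2 : ∑ h : H, (χ : G → ℂ) h ≠ 0) : deg χ < H.index := by
  have := Fintype.ofFinite G
  have k1 := (isCharacter_indFun_one H).sub_of_classInner_ne_zero isIrrCharacter_one
    (by rw [classInner_indFun_one_one]; exact one_ne_zero)
  have k2 := k1.degree_le_of_classInner_ne_zero χ.2 (by
    rw [classInner_sub_left, isIrrCharacter_one.classInner_of_ne χ.2
      (fun e => h1 (Subtype.ext e.symm)), sub_zero, classInner_indFun_left _ _ χ.2.isClassFunction,
      Ne, classInner_eq_zero_comm, classInner_one_right]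
    exact mul_ne_zero (inv_ne_zero (card_ne_zero H)) h2)
  rw [← deg_cast, Pi.sub_apply, indFun_one] at k2
  simp only [Complex.natCast_re, mul_one, Complex.sub_re, Complex.one_re] at k2
  have : (deg χ : ℝ) < H.index := by linarith
  exact_mod_cast this

variable {p : ℕ} [Fact p.Prime] {M e c t : ℕ} {L : List (IrrCharacter G)}
  {Y : Finset (IrrCharacter G)} {θ : IrrCharacter G} {δ : IrrCharacter G → ℤ} {ε : ℤ}

theorem ktest (h : Blk p M e c t L Y θ δ ε) (H : Subgroup G) (hH : ¬ p ∣ Nat.card H) :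
    ∃ s ∈ -(1 + (sd δ L).sum) :: sd δ L, s < 0 ∧ s.natAbs < H.index := by
  have := Fintype.ofFinite H
  choose n hn using fun χ : IrrCharacter G => exists_nat_sum χ.2.isCharacter H
  have c0 := card_ne_zero H
  have k : ∀ χ, χ ≠ triv G → n χ ≠ 0 → deg χ < H.index := fun χ h1 h2 =>
    Kt.lt_index H h1 (by rw [hn]; exact mul_ne_zero (Nat.cast_ne_zero.2 h2) c0)
  have s : ∀ l : List (IrrCharacter G), ∑ g : H, (l.map fun χ => (δ χ : ℂ) * (χ : G → ℂ) g).sum =
      ((l.map fun χ => δ χ * n χ).sum : ℤ) * (Nat.card H : ℂ) := fun l => by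
    induction l with
    | nil => simp
    | cons a l ih =>
      simp only [List.map_cons, List.sum_cons, Finset.sum_add_distrib, ih, ← Finset.mul_sum, hn]
      push_cast; ring
  have e1 := Finset.sum_congr (s₁ := Finset.univ) rfl fun (g : H) _ =>
    h.rel (g := g) fun d => hH (d.trans (orderOf_dvd_natCard H g.2))
  rw [← Finset.mul_sum, hn, Finset.sum_add_distrib, s, Finset.sum_const, Finset.card_univ,
    ← Nat.card_eq_fintype_card, nsmul_eq_mul, mul_one] at e1
  have e2 : ε * n θ = 1 + (L.map fun χ => δ χ * n χ).sum := by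
    have : ((ε * n θ : ℤ) : ℂ) = (1 + (L.map fun χ => δ χ * n χ).sum : ℤ) :=
      mul_right_cancel₀ c0 (by rw [Int.cast_mul, Int.cast_add]; push_cast at e1 ⊢; linear_combination e1)
    exact_mod_cast this
  by_cases hL : ∀ χ ∈ L, 0 ≤ δ χ * n χ
  · have h1 : 0 ≤ (L.map fun χ => δ χ * n χ).sum := List.sum_nonneg (List.forall_mem_map.2 hL)
    have h2 := deg_pos θ
    have h3 := h.deg_rel
    have h4 : n θ ≠ 0 := fun e => by rw [e] at e2; simp at e2; omega
    refine ⟨_, List.mem_cons_self, ?_, ?_⟩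
    · rcases h.sign with rfl | rfl <;> omega
    · rw [Int.natAbs_neg, h.natAbs_eq]
      exact k θ (h.val_Y h.mem).2.1 h4
  · push Not at hL
    obtain ⟨χ, h1, h2⟩ := hL
    have h3 := deg_pos χ
    refine ⟨_, List.mem_cons_of_mem _ (List.mem_map.2 ⟨χ, h1, rfl⟩), ?_, ?_⟩
    · rcases (h.val h1).1 with e | e <;> rw [e] at h2 ⊢ <;> omega
    · rw [h.natAbs_sd h1]
      exact k χ (h.val h1).2.1 fun e => by rw [e] at h2; simp at h2

end Cfsg.Lib.Spor.O24F
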