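import Cfsg.Agent.Spor.O24FGen

/-! A principal 5-block with degrees 1, 9, 8, 8: the order of the group and the involutions. -/

set_option autoImplicit false

namespace Cfsg.Lib.Spor.O24F

open Subgroup Cfsg.Lib.Spor.Mo Cfsg.Lib.PrimeOne Cfsg.Lib.Block.Princ
open Cfsg.Lib.Spor.O7920 (instFact11 instFact5)
open Cfsg.Lib.Spor.O10200960 (instFact23)

variable {G : Type*} [Group G] [Finite G]

namespace Lda

variable {θ η η' : IrrCharacter G}

theorem exists_five (h : HD θ η η') : ∃ y : G, orderOf y = 5 := by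
  by_contra! k
  have h1 : ∀ g : G, ¬ 5 ∣ orderOf g := fun g hg =>
    k _ (orderOf_pow_orderOf_div (orderOf_pos g).ne' hg)
  exact h.ne (Subtype.ext (funext fun g => (h.reg g (h1 g)).1.trans (h.reg g (h1 g)).2.symm))

theorem blk (h : HD θ η η') {M e c t : ℕ} {L : List (IrrCharacter G)} {Y : Finset (IrrCharacter G)}
    {θ₀ : IrrCharacter G} {δ : IrrCharacter G → ℤ} {ε : ℤ} (k : Blk 5 M e c t L Y θ₀ δ ε) :
    t = 2 ∧ e = 2 ∧ L = [θ] ∧ δ θ = -1 ∧ η ∈ Y := by
  classical
  have := Fintype.ofFinite G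
  obtain ⟨I, h0⟩ := k.b0
  have coef : ∀ φ : IrrCharacter G, (t * (if φ ∈ (triv G :: L).toFinset then δ φ else 0) -
      ε * (if φ ∈ Y then 1 else 0) - (2 * (if φ = triv G then 1 else 0) -
        2 * (if φ = θ then 1 else 0) + (if φ = η then 1 else 0) + (if φ = η' then 1 else 0)) : ℤ) = 0 := by
    intro φ
    rw [← Int.cast_inj (α := ℂ), Int.cast_zero]
    refine Fintype.linearIndependent_iff.1 (Cfsg.Lib.Char.linearIndependent_irr (G := G))
      (fun φ => ((t * (if φ ∈ (triv G :: L).toFinset then δ φ else 0) -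
      ε * (if φ ∈ Y then 1 else 0) - (2 * (if φ = triv G then 1 else 0) -
        2 * (if φ = θ then 1 else 0) + (if φ = η then 1 else 0) + (if φ = η' then 1 else 0)) : ℤ) : ℂ))
      (funext fun g => ?_) φ
    have h1 := k.ind g
    have h2 : (if 5 ∣ orderOf g then ((5 : ℕ) : ℂ) else 0) =
        2 - 2 * (θ : G → ℂ) g + (η : G → ℂ) g + (η' : G → ℂ) g := by
      split_ifs with h3
      · obtain ⟨a, b⟩ := h.sing g h3
        push_cast
        linear_combination 2 * a - b
      · obtain ⟨a, b⟩ := h.reg g h3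
        linear_combination -a - b
    have h3 : (triv G : G → ℂ) g = 1 := rfl
    simp only [Finset.sum_apply, Pi.smul_apply, smul_eq_mul, Pi.zero_apply, Int.cast_sub, Int.cast_add,
      Int.cast_mul, Int.cast_ite, Int.cast_zero, Int.cast_one, Int.cast_natCast, Int.cast_ofNat,
      sub_mul, add_mul, mul_assoc, ite_mul, zero_mul, one_mul, Finset.sum_sub_distrib,
      Finset.sum_add_distrib, ← Finset.mul_sum, Finset.sum_ite_mem, Finset.univ_inter,
      Finset.sum_ite_eq', Finset.mem_univ, if_true, h3]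
    linear_combination h2 - h1
  have d1 := h.dθ
  have d2 := h.dη
  have d3 := h.dη'
  have d0 : deg (triv G) = 1 := deg_triv
  have n1 : triv G ≠ θ := fun e => by rw [e] at d0; omega
  have n2 : triv G ≠ η := fun e => by rw [e] at d0; omega
  have n3 : triv G ≠ η' := fun e => by rw [e] at d0; omega
  have n4 : θ ≠ η := fun e => by rw [e] at d1; omega
  have n5 : θ ≠ η' := fun e => by rw [e] at d1; omega
  have hd := Finset.disjoint_left.1 h0.disj
  have t2 : t = 2 := by
    have h1 := coef (triv G)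
    simp only [h0.triv_mem, h0.δ_triv, hd h0.triv_mem, n1, n2, n3, if_true, if_false] at h1
    omega
  have e2 : e = 2 := by have := k.card_eq; subst t2; omega
  subst t2 e2
  have hs := k.sign
  have hθ : θ ∈ (triv G :: L).toFinset ∧ δ θ = -1 := by
    have h1 := coef θ
    by_cases h2 : θ ∈ (triv G :: L).toFinset
    · simp only [h2, hd h2, n1.symm, n4, n5, if_true, if_false] at h1
      exact ⟨h2, by omega⟩
    · simp only [h2, n1.symm, n4, n5, if_true, if_false] at h1
      split_ifs at h1 <;> omega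
  have hη : η ∈ Y := by
    have h1 := coef η
    by_contra h2
    simp only [h2, n2.symm, n4.symm, h.ne, if_true, if_false] at h1
    omega
  refine ⟨rfl, rfl, ?_, hθ.2, hη⟩
  have h1 := h0.card_X
  rw [List.toFinset_card_of_nodup k.nodup, List.length_cons] at h1
  obtain ⟨a, rfl⟩ := List.length_eq_one_iff.1 (show L.length = 1 by omega)
  have h2 := hθ.1
  simp only [List.toFinset_cons, List.toFinset_nil, Finset.mem_insert, n1.symm, false_or,
    Finset.notMem_empty, or_false] at h2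
  rw [h2]

end Lda

theorem HD.count {θ η η' : IrrCharacter G} (h : HD θ η η') (h25 : ¬ 25 ∣ Nat.card G) :
    ∃ r u : ℕ, Nat.card G = 10 * r * u ∧ r % 5 = 1 ∧ 36 ∣ r ∧ (∃ y : G, orderOf y = 5) ∧
      (∀ y : G, orderOf y = 5 → Nat.card (C1 y) = 5 * u) ∧ ∀ s : G, orderOf s = 2 →
        ∃ m ≤ u, ((C1 s).index : ℤ) ^ 2 * (iv θ s - 9) ^ 2 = 3600 * r * m ^ 2 := by
  obtain ⟨y, hy⟩ := Lda.exists_five h
  obtain ⟨M, e, c, t, L, Y, θ₀, δ, ε, k⟩ :=
    exists_blk (G := G) (p := 5) (hy ▸ orderOf_dvd_natCard y) h25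
  obtain ⟨rfl, rfl, rfl, hδ, hη⟩ := Lda.blk h k
  have hG := k.card_group
  have hC := k.card_centralizer hy
  have hc : 0 < c := Nat.pos_of_ne_zero fun e => by
    have := Nat.card_pos (α := G)
    rw [hG, e] at this
    omega
  have hI : (C1 y).index = 2 * M := by
    have h1 := card_mul_index (C1 y)
    rw [hC, hG] at h1
    exact Nat.eq_of_mul_eq_mul_left (show 0 < 5 * c by omega) (by rw [h1]; ring)
  obtain ⟨s1, s2⟩ := h.sing y hy.symm.dvd
  have h9 : 9 ∣ M := by
    have h1 := deg_dvd_index_of_sign θ (g := y) (s := -1) (Or.inr rfl) (by rw [s1]; simp)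
    rw [h.dθ, hI] at h1
    omega
  have h4 : 4 ∣ M := by
    have h1 := (Cfsg.Lib.Char.irr_isIntegral_index_mul_div η.2 y).add
      (Cfsg.Lib.Char.irr_isIntegral_index_mul_div η'.2 y)
    rw [← deg_cast, ← deg_cast, h.dη, h.dη', ← add_div, ← mul_add, s2, mul_one, hI] at h1
    have h2 : (8 : ℤ) ∣ (2 * M : ℕ) :=
      Cfsg.Lib.Char.int_dvd_of_isIntegral_div (by norm_num) (by push_cast at h1 ⊢; exact h1)
    omega
  have h36 : 36 ∣ M := by omega
  refine ⟨M, c, by rw [hG]; ring, ?_, h36, ⟨y, hy⟩, fun y hy => k.card_centralizer hy, fun s hs => ?_⟩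
  · rw [← k.num]
    exact card_sylow_modEq_one 5 G
  obtain ⟨m, hm, -, h1⟩ := qua_inv k (by norm_num) hs hy
  refine ⟨m, hm, ?_⟩
  have h5 : ¬ 5 ∣ orderOf s := by rw [hs]; norm_num
  have h2 : iv θ₀ s = iv θ s - 1 := iv_eq (by
    rw [← (k.val_Y hη).2.2 s h5, (h.reg s h5).1, ← iv_two θ hs]
    push_cast
    rfl)
  obtain ⟨M', rfl⟩ := h36
  have h3 : ((Nat.card G : ℕ) : ℤ) / 8 = 45 * (M' * c) := by
    rw [hG]
    push_cast
    rw [show (5 * (36 * M') * 2 * c : ℤ) = 8 * (45 * (M' * c)) by ring]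
    exact Int.mul_ediv_cancel_left _ (by norm_num)
  have h6 : ((Nat.card G : ℕ) : ℤ) / (-9) = -(40 * (M' * c)) := by
    rw [hG]
    push_cast
    rw [show (5 * (36 * M') * 2 * c : ℤ) = -9 * (-(40 * (M' * c))) by ring]
    exact Int.mul_ediv_cancel_left _ (by norm_num)
  have h7 : rows 2 (sd δ [θ]) = [(8, 2), (-9, 1)] := by
    simp [rows, sd, hδ, h.dθ]
  rw [h7] at h1
  simp only [List.map_cons, List.map_nil, quaS, h2, h3, h6] at h1
  rw [hG] at h1
  have h8 : (0 : ℤ) < M' * c := by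
    have := Nat.card_pos (α := G)
    rw [hG] at this
    have h9 : 0 < M' * c := Nat.pos_of_ne_zero fun e => by
      rw [show 5 * (36 * M') * 2 * c = 360 * (M' * c) by ring, e] at this
      omega
    exact_mod_cast h9
  refine mul_left_cancel₀ (show (10 * (M' * c) : ℤ) ≠ 0 by positivity) ?_
  push_cast at h1 ⊢
  linear_combination h1

end Cfsg.Lib.Spor.O24F
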