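import Cfsg.Agent.Spor.O24FDefs
import Cfsg.Agent.Spor.CharKit2

/-!
A faithful principal 5-block with degrees 1, 9, 8, 8: the centralizer of an element of order 5.
-/

set_option autoImplicit false

open scoped ComplexConjugate

namespace Cfsg.Lib.Spor.O24F

open Subgroup Cfsg.Lib.Spor.Mo Cfsg.Lib.PrimeOne Cfsg.Lib.Block.Princ Cfsg.Lib.Char
open Cfsg.Lib.Spor.CKit
open Cfsg.Lib.Spor.O7920 (instFact11 instFact5)

variable {G : Type*} [Group G] [Finite G] {θ η η' : IrrCharacter G} {y : G}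

theorem HD.one (h : HD θ η η') : (θ : G → ℂ) 1 = 9 := by rw [← deg_cast, h.dθ]; norm_num

theorem HD.odd (h : HD θ η η') (hf : ∀ g, (θ : G → ℂ) g = 9 → g = 1) {s : G} (hs : orderOf s = 2) :
    iv θ s % 2 = 1 ∧ -9 ≤ iv θ s ∧ iv θ s < 9 := by
  have h1 := iv_two θ hs
  obtain ⟨n, hn⟩ := exists_nat_sum_pow θ.2.isCharacter hs
  rw [Finset.sum_range_succ, Finset.sum_range_one, pow_zero, pow_one, h.one, ← h1] at hn
  have h2 : 9 + iv θ s = n * 2 := by exact_mod_cast hn
  have h3 := abs_le.1 (abs_le_dg θ h1.symm)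
  rw [show dg θ = 9 from h.dθ] at h3
  have h4 : iv θ s ≠ 9 := fun e => by
    rw [hf s (by rw [← h1, e]; norm_num), orderOf_one] at hs
    omega
  omega

theorem HD.inv (h : HD θ η η') (hf : ∀ g, (θ : G → ℂ) g = 9 → g = 1) (hy : orderOf y = 5) {s : G}
    (hs : orderOf s = 2) (hc : s ∈ C1 y) : (θ : G → ℂ) s = -1 := by
  have h1 := iv_two θ hs
  have h2 := h.odd hf hs
  have h3 := dvd_val_sub (p := 5) hy (by rw [hs]; decide) (mem_centralizer_singleton_iff.1 hc) θ
    h1.symm (σ := -1) fun g hg => by simpa using (h.sing g hg).1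
  rw [← h1, show iv θ s = -1 by omega]
  simp

/-- A character that is real on an element of order four. -/
theorem Ldb.four {χ : G → ℂ} (hχ : IsCharacter G χ) {v : G} (hv : orderOf v = 4)
    (hr : χ v⁻¹ = χ v) : ∃ n : ℕ, χ 1 - χ (v * v) = 4 * n := by
  let g : Multiplicative (ZMod 4) := Multiplicative.ofAdd 1
  have hg : ∀ a, a ∈ zpowers g := fun a => by
    obtain ⟨k, rfl⟩ := (by decide : ∀ a, ∃ k : Fin 4, a = g ^ k.val) a
    exact npow_mem_zpowers g k
  have og : orderOf g = 4 := by simp [g]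
  let i : ℂˣ := Units.mk0 Complex.I Complex.I_ne_zero
  have oi : orderOf i ∣ orderOf g := by
    rw [og]
    exact orderOf_dvd_of_pow_eq_one (Units.ext (by simp [i]))
  let f := monoidHomOfForallMemZpowers hg (og.trans hv.symm ▸ dvd_refl _ : orderOf v ∣ orderOf g)
  have f1 : f g = v := monoidHomOfForallMemZpowers_apply_gen _ _
  let l := monoidHomOfForallMemZpowers hg oi
  have l1 : l g = i := monoidHomOfForallMemZpowers_apply_gen _ _
  obtain ⟨n, hn⟩ := (hχ.comp f).exists_nat_classInner (isIrrCharacter_monoidHom l).isCharacter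
  have e := card_mul_classInner (fun a => χ (f a)) fun a => (l a : ℂ)
  rw [hn, show (Finset.univ : Finset (Multiplicative (ZMod 4))) = {1, g, g * g, g⁻¹} by decide,
    Finset.sum_insert (by decide), Finset.sum_insert (by decide), Finset.sum_pair (by decide)] at e
  simp only [map_one, map_mul, map_inv, f1, l1, hr, i, Units.val_one, Units.val_mul, Units.val_mk0,
    Units.val_inv_eq_inv_val, Complex.inv_I, Complex.conj_I, map_neg, Nat.card_eq_fintype_card,
    Fintype.card_multiplicative, ZMod.card] at e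
  refine ⟨n, ?_⟩
  push_cast at e
  linear_combination -e - χ (v * v) * Complex.I_mul_I

theorem HD.not_four (h : HD θ η η') (hf : ∀ g, (θ : G → ℂ) g = 9 → g = 1) (hy : orderOf y = 5) :
    ¬ 4 ∣ Nat.card (C1 y) := fun h4 => by
  obtain ⟨K, hK⟩ := Sylow.exists_subgroup_card_pow_prime (G := C1 y) 2 (n := 2) h4
  let U := K.map (C1 y).subtype
  have cU : Nat.card U = 4 := by rw [card_map_of_injective (subtype_injective _), hK]; rfl
  have hU : U ≤ C1 y := map_subtype_le _
  have o2 : ∀ v : G, v ≠ 1 → v * v = 1 → orderOf v = 2 := fun v h1 h2 =>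
    orderOf_eq_prime (by rwa [sq]) h1
  by_cases hv : ∀ v ∈ U, v * v = 1
  · have := Fintype.ofFinite U
    obtain ⟨n, hn⟩ := exists_nat_sum θ.2.isCharacter U
    rw [sum_eq_of_const _ U fun v h1 h2 => h.inv hf hy (o2 v h2 (hv v h1)) (hU h1), h.one, cU] at hn
    have : (6 : ℂ) = n * 4 := by push_cast at hn; linear_combination hn
    have : 6 = n * 4 := by exact_mod_cast this
    omega
  · push Not at hv
    obtain ⟨v, h1, h2⟩ := hv
    have h3 : v ^ 2 ^ (1 + 1) = 1 := orderOf_dvd_iff_pow_eq_one.1 ((orderOf_dvd_natCard U h1).trans cU.dvd)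
    have h5 := orderOf_eq_prime_pow (p := 2) (n := 1) (by rwa [pow_one, sq]) h3
    obtain ⟨n, hn⟩ := Ldb.four θ.2.isCharacter h5 (h.real v)
    rw [h.one, h.inv hf hy (o2 _ h2 (by rw [← h3]; norm_num [pow_succ, mul_assoc]))
      (hU (mul_mem h1 h1))] at hn
    have : (10 : ℂ) = 4 * n := by linear_combination hn
    have : 10 = 4 * n := by exact_mod_cast this
    omega

end Cfsg.Lib.Spor.O24F
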