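import Cfsg.Agent.Spor.O24FLda
import Cfsg.Agent.Spor.O24FLdb
import Cfsg.Agent.Spor.O24FGen

/-!
A faithful principal 5-block with degrees 1, 9, 8, 8 excludes elements of order 6.
-/

set_option autoImplicit false

namespace Cfsg.Lib.Spor.O24F

open Subgroup Cfsg.Lib.Spor.Mo Cfsg.Lib.PrimeOne Cfsg.Lib.Block.Princ Cfsg.Lib.Char
open Cfsg.Lib.Spor.CKit

variable {G : Type*} [Group G] [Finite G] {θ η η' : IrrCharacter G}

theorem Ldc.central (h2 : 2 ∣ Nat.card G) : ∃ z : G, orderOf z = 2 ∧ ¬ 2 ∣ (C1 z).index := by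
  obtain ⟨P⟩ : Nonempty (Sylow 2 G) := inferInstance
  have : Nontrivial P := (P : Subgroup G).nontrivial_iff_ne_bot.2 (P.ne_bot_of_dvd_card h2)
  have := P.2.center_nontrivial
  obtain ⟨n, hn⟩ := IsPGroup.iff_card.1 (P.2.to_subgroup (center P))
  obtain ⟨z, hz⟩ := exists_prime_orderOf_dvd_card' (G := center P) 2 (hn ▸ dvd_pow_self 2 (by
    rintro rfl
    exact Finite.one_lt_card.ne' hn))
  refine ⟨z.1.1, by rw [orderOf_coe, orderOf_coe, hz], fun e => P.not_dvd_index (e.trans ?_)⟩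
  exact index_dvd_of_le fun g hg => mem_centralizer_singleton_iff.2
    (congrArg Subtype.val (mem_center_iff.1 z.2 ⟨g, hg⟩))

theorem HD.norm (h : HD θ η η') {s : G} (hs : orderOf s = 2) :
    1 + iv θ s ^ 2 + 2 * (iv θ s - 1) ^ 2 ≤ Nat.card (C1 s) := by
  classical
  have k := sum_normSq_le {triv G, θ, η, η'} s
  have n : ∀ {φ ψ : IrrCharacter G} {a b : ℕ}, deg φ = a → deg ψ = b → a ≠ b → φ ≠ ψ :=
    fun e e' hab f => hab (by rw [← e, ← e', f])
  have r := h.reg s (by rw [hs]; decide)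
  rw [Finset.sum_insert (by
      simp [n deg_triv h.dθ (by decide), n deg_triv h.dη (by decide), n deg_triv h.dη' (by decide)]),
    Finset.sum_insert (by simp [n h.dθ h.dη (by decide), n h.dθ h.dη' (by decide)]),
    Finset.sum_pair h.ne, r.1, r.2, ← iv_two θ hs, triv_apply, norm_one,
    show (iv θ s : ℂ) - 1 = (iv θ s - 1 : ℤ) by push_cast; rfl, Complex.norm_intCast,
    Complex.norm_intCast, sq_abs, sq_abs] at k
  have : ((1 + iv θ s ^ 2 + 2 * (iv θ s - 1) ^ 2 : ℤ) : ℝ) ≤ (Nat.card (C1 s) : ℤ) := by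
    push_cast at k ⊢
    linarith
  exact_mod_cast this

theorem HD.false (h : HD θ η η') (hf : ∀ g, (θ : G → ℂ) g = 9 → g = 1)
    (hX : Nat.card G ∣ 5760) {s x : G} (hs : orderOf s = 2) (hx : orderOf x = 3)
    (hc : s * x = x * s) : False := by
  obtain ⟨r, u, h1, h2, ⟨k, rfl⟩, ⟨y, hy⟩, h3, h4⟩ := h.count fun e => absurd (e.trans hX) (by decide)
  have h5 : k * u ∣ 16 := Nat.dvd_of_mul_dvd_mul_left (k := 360) (by decide) (by
    rw [h1] at hX
    convert hX using 1
    ring)
  have sq : ∀ {K a b : ℤ}, 0 ≤ K → a < 9 → 0 ≤ b → K ^ 2 * (a - 9) ^ 2 = b ^ 2 → K * (9 - a) = b :=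
    fun h0 h1 h2 e => (pow_left_inj₀ (mul_nonneg h0 (by omega)) h2 two_ne_zero).1 (by
      rw [← e]; ring)
  have hk : k = 1 ∨ k = 16 := by
    have := Nat.le_of_dvd (by decide) (Dvd.dvd.trans (Dvd.intro _ rfl) h5)
    have := Dvd.dvd.trans (Dvd.intro _ rfl) h5
    interval_cases k <;> omega
  rcases hk with rfl | rfl
  · rw [one_mul] at h5
    have h6 := h.not_four hf hy
    rw [h3 y hy] at h6
    have hu : u = 1 ∨ u = 2 := by
      have := Nat.le_of_dvd (by decide) h5
      interval_cases u <;> omega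
    obtain ⟨m, -, e⟩ := h4 s hs
    have e1 := sq (K := (C1 s).index) (b := 360 * m) (by positivity) (h.odd hf hs).2.2 (by positivity) (by
      rw [e]; push_cast; ring)
    have : Fact (Nat.Prime 3) := ⟨Nat.prime_three⟩
    have h7 := cong_mul (p := 3) hx hc θ (iv_two θ hs).symm (b := 0) fun v hv v1 => by
      rw [Int.cast_zero]
      refine apply_eq_zero θ Nat.prime_three h.dθ (t := 40 * u) (by omega) (by omega) ?_
      have o : orderOf v = 3 := ((Nat.dvd_prime Nat.prime_three).1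
        (hx ▸ orderOf_dvd_of_mem_zpowers hv)).resolve_left (mt orderOf_eq_one_iff.1 v1)
      obtain ⟨j, rfl⟩ := hv
      rw [(Commute.zpow_right hc j).orderOf_mul_eq_mul_orderOf_of_coprime (by rw [hs, o]; decide), o]
      exact dvd_mul_left _ _
    have h8 := h.odd hf hs
    have h9 := h.norm hs
    have h10 : ((C1 s).index : ℤ) * Nat.card (C1 s) = 360 * u := by
      have := (C1 s).index_mul_card
      rw [h1] at this
      exact_mod_cast this
    have h11 : (0 : ℤ) < (C1 s).index := by exact_mod_cast Nat.pos_of_ne_zero index_ne_zero_of_finite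
    have h12 : 0 < m := Nat.pos_of_ne_zero fun e => by
      have := mul_pos h11 (sub_pos.2 h8.2.2)
      rw [e1, e] at this
      simp at this
    have h13 : (m : ℤ) * Nat.card (C1 s) = u * (9 - iv θ s) := mul_left_cancel₀ (a := 360) (by decide) (by
      linear_combination (9 - iv θ s) * h10 - (Nat.card (C1 s) : ℤ) * e1)
    have ha : iv θ s = 3 ∨ iv θ s = -3 ∨ iv θ s = -9 := by omega
    have h14 : (Nat.card (C1 s) : ℤ) ≤ m * Nat.card (C1 s) := by
      exact_mod_cast Nat.le_mul_of_pos_left _ h12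
    rw [h13] at h14
    rcases ha with a | a | a <;> rw [a] at h9 h14 <;> rcases hu with rfl | rfl <;> omega
  · obtain rfl : u = 1 := by
      have := Nat.le_of_dvd (by decide) h5
      have : u ≠ 0 := by rintro rfl; simp at h5
      omega
    obtain ⟨z, hz, h6⟩ := Ldc.central (G := G) (by omega)
    obtain ⟨m, hm, e⟩ := h4 z hz
    have h8 := h.odd hf hz
    have e1 := sq (K := (C1 z).index) (b := 1440 * m) (by positivity) h8.2.2 (by positivity) (by
      rw [e]; push_cast; ring)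
    have h9 : (2 : ℤ) ^ 5 ∣ 9 - iv θ z := by
      refine IsCoprime.dvd_of_dvd_mul_left (y := ((C1 z).index : ℤ)) (IsCoprime.pow_left ?_)
        ⟨45 * m, by rw [e1]; ring⟩
      exact_mod_cast Nat.isCoprime_iff_coprime.2 (Nat.prime_two.coprime_iff_not_dvd.2 h6)
    omega

end Cfsg.Lib.Spor.O24F
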