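import Cfsg.Agent.Spor.O24FGen
import Cfsg.Agent.Spor.O24FCol

/-!
Tests used in the searches for a simple group of order 244823040.
-/

set_option autoImplicit false

namespace Cfsg.Lib.Spor.O24F

open Subgroup Cfsg.Lib.Spor.Mo Cfsg.Lib.PrimeOne Cfsg.Lib.Spor.O24

/-- The Sylow count in a centralizer of order `C`. -/
noncomputable def sylB (p e c C m : ℕ) (J : List ℕ) : Bool :=
  List.rec false (fun j _ r => Bool.rec r
    ((j % m == 0 && C % (p * j) == 0 && C / (p * j) % p == 1 && e * c ≤ j * (c - 1)) || r)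
    (Nat.beq (Nat.mod (Nat.mul e c) j) 0)) J

theorem sylB_of_mem {p e c C m j : ℕ} (h1 : j ∣ e * c) (h2 : (j % m == 0 && C % (p * j) == 0 &&
    C / (p * j) % p == 1 && e * c ≤ j * (c - 1)) = true) :
    ∀ {J : List ℕ}, j ∈ J → sylB p e c C m J = true
  | i :: J, h => by
    change Bool.rec (sylB p e c C m J) (_ || sylB p e c C m J) (Nat.beq (e * c % i) 0) = true
    rcases List.mem_cons.1 h with rfl | h
    · rw [Nat.mod_eq_zero_of_dvd h1]
      exact Bool.or_eq_true_iff.2 (Or.inl h2)
    · rw [sylB_of_mem h1 h2 h]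
      cases Nat.beq (e * c % i) 0 <;> simp

/-- Some moment is negative or fails to be integral. -/
def momN (n c t K : ℕ) (l A : List ℤ) : Bool :=
  momBad n c t K 1 (zp l A) || [3, 2, 4].any fun j => ((K ^ j : ℕ) : ℤ) + momZ K j (zp l A) < 0

/-- No involution has a centralizer whose order is in the list and passes the test `w`. -/
noncomputable def noInv (p M e : ℕ) (CB : List (ℕ × ℕ)) (l : List ℤ) (w : ℕ → Bool) : Bool :=
  colAllQ 244823040 p M e (244823040 / (p * M * e)) ((p - 1) / e) CB l w fun C =>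
    momN 244823040 (244823040 / (p * M * e)) ((p - 1) / e) (244823040 / C) l

/-- A negative row is smaller than `K`. -/
def kt (l : List ℤ) (K : ℕ) : Bool := (-(1 + l.sum) :: l).any fun s => s < 0 && s.natAbs < K

/-- The candidates for the principal 5-block. -/
def T5 : List (ℕ × ℕ × List ℤ) :=
  [(6120576, 2, [21]), (6120576, 4, [-24, 276, 6831]), (6120576, 4, [21, 231, 6831]),
    (6120576, 4, [161, -414, -5544]), (6120576, 4, [-24, 736, 1771]),
    (6120576, 4, [-24, 276, 1771]), (6120576, 4, [21, 231, 1771]), (6120576, 4, [21, 896, 1386]),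
    (6120576, 4, [231, 736, 1056]), (6120576, 4, [56, 231, 1056]), (6120576, 4, [231, 896, 896]),
    (6120576, 4, [231, -644, -644]), (6120576, 4, [-24, -69, -644]),
    (6120576, 4, [21, -414, -504]), (6120576, 4, [21, -184, -414]),
    (6120576, 4, [-24, 176, 231]), (6120576, 4, [-24, -64, -189]), (6120576, 4, [21, -64, -189]),
    (6120576, 4, [-24, -69, -184]), (6120576, 4, [21, -69, -184]), (6120576, 4, [126, 126, 161]),
    (6120576, 4, [21, -24, -64]), (6120576, 4, [-54, -54, -54]), (2720256, 2, [21]),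
    (1748736, 2, [-24]), (1748736, 4, [-24, 46, 736]), (1748736, 4, [11, 11, 736]),
    (1748736, 4, [-24, 276, 506]), (1748736, 4, [11, -24, -264]), (1748736, 4, [-24, -69, -184]),
    (1748736, 4, [11, -24, -54]), (1020096, 2, [21]), (1020096, 4, [231, 1056, 5796]),
    (1020096, 4, [-69, 896, 5796]), (1020096, 4, [1771, -2024, -5544]),
    (1020096, 4, [161, -414, -5544]), (1020096, 4, [-69, -184, -5544]),
    (1020096, 4, [-99, -154, -5544]), (1020096, 4, [736, 1771, 3036]),
    (1020096, 4, [-24, 276, 1771]), (1020096, 4, [21, 231, 1771]),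
    (1020096, 4, [126, 126, 1771]), (1020096, 4, [21, 896, 1386]),
    (1020096, 4, [231, 736, 1056]), (1020096, 4, [56, 231, 1056]), (1020096, 4, [231, 896, 896]),
    (1020096, 4, [-184, 736, 896]), (1020096, 4, [-24, 736, 736]),
    (1020096, 4, [231, -644, -644]), (1020096, 4, [-24, -69, -644]),
    (1020096, 4, [21, -414, -504]), (1020096, 4, [21, -184, -414]),
    (1020096, 4, [-24, -99, -384]), (1020096, 4, [-24, 161, 276]), (1020096, 4, [-24, 176, 231]),
    (1020096, 4, [21, 161, 231]), (1020096, 4, [-24, -69, -184]), (1020096, 4, [21, -69, -184]),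
    (1020096, 4, [126, 126, 161]), (1020096, 4, [-24, -99, -154]), (1020096, 4, [21, -99, -154]),
    (1020096, 4, [-24, -64, -144]), (1020096, 4, [-99, 126, 126]), (1020096, 4, [-69, 126, 126]),
    (1020096, 4, [-24, 56, 66]), (1020096, 4, [21, -24, -64]), (1020096, 4, [-24, 36, 56]),
    (382536, 2, [21]), (382536, 4, [-24, 276, 6831]), (382536, 4, [21, 231, 6831]),
    (382536, 4, [161, -414, -5544]), (382536, 4, [-24, 736, 1771]),
    (382536, 4, [-24, 276, 1771]), (382536, 4, [21, 231, 1771]), (382536, 4, [231, 736, 1056]),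
    (382536, 4, [231, -644, -644]), (382536, 4, [-24, -69, -644]), (382536, 4, [-24, -69, -184]),
    (382536, 4, [21, -69, -184]), (382536, 4, [126, 126, 161]), (382536, 4, [-54, -54, -54]),
    (291456, 2, [-24]), (291456, 4, [-24, 46, 736]), (291456, 4, [11, 11, 736]),
    (291456, 4, [-24, 276, 506]), (291456, 4, [-24, -99, -384]), (291456, 4, [11, -24, -384]),
    (291456, 4, [11, -24, -264]), (291456, 4, [-24, -69, -184]), (170016, 2, [21]),
    (170016, 4, [-24, 276, 1771]), (170016, 4, [21, 231, 1771]), (170016, 4, [231, 736, 1056]),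
    (170016, 4, [56, 231, 1056]), (170016, 4, [231, 896, 896]), (170016, 4, [231, -644, -644]),
    (170016, 4, [-24, -69, -644]), (170016, 4, [-24, 176, 231]), (170016, 4, [-24, -69, -184]),
    (170016, 4, [21, -69, -184]), (170016, 4, [21, -24, -64]), (109296, 2, [-24]),
    (109296, 4, [-24, 46, 736]), (109296, 4, [11, 11, 736]), (109296, 4, [-24, 276, 506]),
    (109296, 4, [11, -24, -264]), (109296, 4, [-24, -69, -184]), (109296, 4, [11, -24, -54]),
    (63756, 2, [21]), (63756, 4, [1771, -2024, -5544]), (63756, 4, [161, -414, -5544]),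
    (63756, 4, [-69, -184, -5544]), (63756, 4, [-99, -154, -5544]), (63756, 4, [-24, 276, 1771]),
    (63756, 4, [21, 231, 1771]), (63756, 4, [126, 126, 1771]), (63756, 4, [-24, 161, 276]),
    (63756, 4, [21, 161, 231]), (63756, 4, [-24, -69, -184]), (63756, 4, [21, -69, -184]),
    (63756, 4, [126, 126, 161]), (63756, 4, [-24, -99, -154]), (63756, 4, [21, -99, -154]),
    (63756, 4, [-99, 126, 126]), (63756, 4, [-69, 126, 126]), (63756, 4, [-24, 56, 66]),
    (63756, 4, [-24, 36, 56]), (48576, 2, [-24]), (48576, 4, [-24, 46, 736]),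
    (48576, 4, [11, 11, 736]), (48576, 4, [-24, 276, 506]), (48576, 4, [11, -24, -264]),
    (48576, 4, [-24, -69, -184]), (18216, 2, [-24]), (18216, 4, [-24, 46, 736]),
    (18216, 4, [11, 11, 736]), (18216, 4, [-24, 276, 506]), (18216, 4, [11, -24, -264]),
    (18216, 4, [-24, -69, -184]), (10626, 2, [21]), (10626, 4, [-24, 276, 1771]),
    (10626, 4, [21, 231, 1771]), (10626, 4, [-24, -69, -184]), (10626, 4, [21, -69, -184]),
    (3036, 2, [-24]), (3036, 4, [-24, 276, 506]), (3036, 4, [11, -24, -264]),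
    (3036, 4, [-24, -69, -184])]

/-- Centralizers of involutions that commute with a subgroup of order 253. -/
def C23 : List (ℕ × ℕ) :=
  [(506, 23), (1012, 32), (1518, 39), (2024, 45), (3036, 56), (4048, 64), (4554, 68),
    (6072, 78), (8096, 90), (9108, 96), (12144, 111), (13662, 117), (16192, 128), (18216, 135),
    (24288, 156), (27324, 166), (32384, 180), (35420, 189), (36432, 191), (48576, 221),
    (54648, 234), (64768, 255), (70840, 267), (72864, 270), (97152, 312), (106260, 326),
    (109296, 331), (129536, 360), (141680, 377), (145728, 382), (194304, 441), (212520, 461),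
    (218592, 468), (283360, 533), (291456, 540), (318780, 565), (388608, 624), (425040, 652),
    (437184, 662), (566720, 753), (582912, 764), (637560, 799), (777216, 882), (850080, 922),
    (874368, 936), (956340, 978), (1133440, 1065), (1165824, 1080), (1275120, 1130),
    (1700160, 1304), (1748736, 1323), (1912680, 1383), (2266880, 1506), (2331648, 1527),
    (2550240, 1597), (3400320, 1844), (3497472, 1871), (3825360, 1956), (4533760, 2130),
    (5100480, 2259), (6800640, 2608), (6994944, 2645), (7650720, 2766), (9067520, 3012),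
    (10200960, 3194)]

/-- The divisors of 64512. -/
def DS : List ℕ :=
  [1, 2, 3, 4, 6, 7, 8, 9, 12, 14, 16, 18, 21, 24, 28, 32, 36, 42, 48, 56, 63, 64, 72, 84, 96,
    112, 126, 128, 144, 168, 192, 224, 252, 256, 288, 336, 384, 448, 504, 512, 576, 672, 768,
    896, 1008, 1024, 1152, 1344, 1536, 1792, 2016, 2304, 2688, 3072, 3584, 4032, 4608, 5376,
    7168, 8064, 9216, 10752, 16128, 21504, 32256, 64512]

/-- A row is too small for an element of order `p * q`. -/
def ratB (p q c t : ℕ) (l : List ℤ) : Bool :=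
  c % q == 0 && l.any fun s => cntD t l s.natAbs * s.natAbs < p * (q - 1)

/-- The Sylow count for the prime 5. -/
noncomputable def syl5 (e c C : ℕ) : Bool :=
  c % 2 == 0 && (64512 % (e * c) != 0 || sylB 5 e c C 2 DS)

/-- No involution commutes with a subgroup of order 253. -/
noncomputable def n23 (r : ℕ × ℕ × List ℤ) : Bool :=
  ratB 5 7 (244823040 / (5 * r.1 * r.2.1)) (4 / r.2.1) r.2.2 ||
    noInv 5 r.1 r.2.1 C23 r.2.2 fun C =>
      if C % 5 = 0 then syl5 r.2.1 (244823040 / (5 * r.1 * r.2.1)) C else kt r.2.2 (244823040 / C)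

/-- The index is too small. -/
def small (C : ℕ) : Bool := 244823040 / C ≤ 24 && (244823040 / C).factorial % (2 * 244823040) != 0

theorem mem_DS : ∀ j ∈ D, 64512 % j = 0 → j ∈ DS := by decide +kernel

theorem all_step {α : Type*} {l : List α} {f : α → Bool} {i k : ℕ}
    (h1 : ((l.drop i).take k).all f = true) (h2 : (l.drop (i + k)).all f = true) :
    (l.drop i).all f = true := by
  rw [← List.take_append_drop k (l.drop i), List.all_append, h1, List.drop_drop, h2]
  rfl

variable {G : Type*} [Group G] [Finite G] {p : ℕ} [hp : Fact p.Prime] {M e c t : ℕ}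
  {L : List (IrrCharacter G)} {Y : Finset (IrrCharacter G)} {θ : IrrCharacter G}
  {δ : IrrCharacter G → ℤ} {ε : ℤ} (h : Blk p M e c t L Y θ δ ε) (hG : Nat.card G = 244823040)
include h hG

theorem mem_D {j : ℕ} (hj : j ∣ e * c) : j ∈ D :=
  ord.dvd j (hj.trans ⟨p * M, by rw [← hG, h.card_group]; ring⟩)

omit hG in
theorem sylB_of {x s : G} (hx : orderOf x = p) (hs : s ≠ 1) (hr : ¬ p ∣ orderOf s)
    (hc : s ∈ C1 x) {m : ℕ} (hm : p * m ∣ Nat.card (N1 x ⊓ C1 s : Subgroup G)) {J : List ℕ}
    (hJ : ∀ j, j ∣ e * c → j ∈ J) : sylB p e c (Nat.card (C1 s)) m J = true := by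
  obtain ⟨j, k, h1, h2, h3, h4, h5⟩ := syl h hx hs hr hc
  have h6 : 0 < p * j := h1 ▸ Nat.card_pos
  refine sylB_of_mem h2 ?_ (hJ j h2)
  rw [h1] at hm
  simp [h3, Nat.mul_div_cancel_left _ h6, h4, h5,
    Nat.mod_eq_zero_of_dvd (Nat.dvd_of_mul_dvd_mul_left hp.out.pos hm)]

theorem not_momN (hp2 : p ≠ 2) {s : G} (hs : orderOf s = 2) :
    ¬ momN 244823040 c t (244823040 / Nat.card (C1 s)) (sd δ L) ((θ :: L).map (iv · s)) = true :=
  fun h2 => by
  rcases Bool.or_eq_true_iff.1 h2 with h2 | h2
  · exact h.not_momBad_inv hp2 hs hG h2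
  · obtain ⟨j, -, h2⟩ := List.any_eq_true.1 h2
    exact (h.mom_nonneg hp2 hs hG j).not_gt (of_decide_eq_true h2)

omit h in
theorem nc [IsSimpleGroup G] : ¬ IsMulCommutative G :=
  not_comm_of_not_prime (by rw [hG]; norm_num)

omit h in
theorem not_small [IsSimpleGroup G] {s : G} (hs : s ≠ 1) : small (Nat.card (C1 s)) = false := by
  simp only [small, Blk.cent_ok (nc hG) hs hG, bne_self_eq_false, Bool.and_false]

theorem not_noInv [IsSimpleGroup G] (hp2 : p ≠ 2) {s : G} (hs : orderOf s = 2)
    {CB : List (ℕ × ℕ)} (hm : Nat.card (C1 s) ∈ CB.map Prod.fst) {w : ℕ → Bool}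
    (hw : w (Nat.card (C1 s)) = true) : ¬ noInv p M e CB (sd δ L) w = true := fun h1 => by
  have h3 := h.c_eq
  rw [hG] at h3
  rw [noInv, h3, h.t_eq] at h1
  exact not_momN h hG hp2 hs (h.colAllQ (nc hG) hp2 hG hs hm hw h1)

end Cfsg.Lib.Spor.O24F
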