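import Cfsg.Agent.Spor.O24FGen

/-! The partners of the characters of degrees 5544 and 5796 in their 3-blocks. -/

set_option autoImplicit false

open scoped ComplexConjugate

namespace Cfsg.Lib.Spor.O24F

open Cfsg.Lib.Char Subgroup Cfsg.Lib.Spor.Mo Cfsg.Lib.PrimeOne Cfsg.Lib.Block.Princ
open Cfsg.Lib.Spor.O7920 (instFact5)

variable {G : Type*} [Group G] [Finite G] {c : ℕ} {α β χ ψ : IrrCharacter G}

omit [Finite G] in
theorem Out.sum_two [Fintype G] {f : G → ℂ} {a b : ℂ}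
    (ha : ∀ g, 5 ∣ orderOf g → 3 ∣ orderOf g → f g = a)
    (hb : ∀ g, 5 ∣ orderOf g → ¬ 3 ∣ orderOf g → f g = b) :
    ∑ g, (if 5 ∣ orderOf g then f g else 0) = a * {g : G | 5 ∣ orderOf g ∧ 3 ∣ orderOf g}.ncard +
      b * {g : G | 5 ∣ orderOf g ∧ ¬ 3 ∣ orderOf g}.ncard := by
  have e : ∀ (P : G → Prop) [DecidablePred P],
      ({g | P g}.ncard : ℂ) = ∑ g, if P g then 1 else 0 := fun P _ => by
    rw [Finset.sum_boole, ← Set.ncard_coe_finset, Finset.coe_filter_univ]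
  rw [e, e, Finset.mul_sum, Finset.mul_sum, ← Finset.sum_add_distrib]
  refine Finset.sum_congr rfl fun g _ => ?_
  by_cases h5 : 5 ∣ orderOf g <;> by_cases h3 : 3 ∣ orderOf g <;> simp [h5, h3, ha, hb]

theorem B5.orth5 [Fintype G] (h : B5 c α β χ ψ) {ω : IrrCharacter G} (h9 : 9 ∣ deg ω)
    (h1 : ω ≠ χ ∧ ω ≠ ψ) : ∑ g, (if 5 ∣ orderOf g then (ω : G → ℂ) g else 0) = 0 := by
  obtain ⟨d1, d2, -⟩ := h.degs
  obtain ⟨M, δ, k, -⟩ := h.blk
  refine orth k ?_ ?_ (by simpa using h1.2)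
  · rintro rfl
    rw [deg_triv] at h9
    omega
  · simp only [List.mem_cons, List.not_mem_nil, or_false]
    rintro (rfl | rfl | rfl)
    exacts [by omega, by omega, h1.1 rfl]

theorem B5.out_cnt (h : B5 c α β χ ψ) {d : G} {φ φ' φ'' : IrrCharacter G} (hφ : φ = χ ∨ φ = ψ)
    (k : Tri d φ φ' φ'') (h1 : φ' ≠ χ ∧ φ' ≠ ψ) (h2 : φ'' ≠ χ ∧ φ'' ≠ ψ) :
    (TriB φ φ' φ'' → {g : G | 5 ∣ orderOf g ∧ 3 ∣ orderOf g}.ncard =
      2 * {g : G | 5 ∣ orderOf g ∧ ¬ 3 ∣ orderOf g}.ncard) ∧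
    ∀ a' a'', TriA d φ φ' φ'' a' a'' → {g : G | 5 ∣ orderOf g ∧ ¬ 3 ∣ orderOf g}.ncard =
      2 * {g : G | 5 ∣ orderOf g ∧ 3 ∣ orderOf g}.ncard := by
  have := Fintype.ofFinite G
  obtain ⟨σ, s0, hs⟩ : ∃ σ : ℂ, σ ≠ 0 ∧ ∀ g, 5 ∣ orderOf g → (φ : G → ℂ) g = σ := by
    rcases hφ with rfl | rfl
    exacts [⟨-1, by simp, fun g hg => (h.sing5 hg).2.2.1⟩,
      ⟨1, by simp, fun g hg => (h.sing5 hg).2.2.2⟩]
  have h3 : ∀ a b : ℂ, ∑ g, (if 5 ∣ orderOf g then a * (φ' : G → ℂ) g + b * (φ'' : G → ℂ) g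
      else 0) = 0 := fun a b => by
    have := congrArg₂ (fun x y => a * x + b * y) (h.orth5 k.d1.1 h1) (h.orth5 k.d2.1 h2)
    simp only [Finset.mul_sum, ← Finset.sum_add_distrib, mul_zero, add_zero] at this
    exact (Finset.sum_congr rfl fun g _ => by split_ifs <;> simp).trans this
  refine ⟨fun kB => ?_, fun a' a'' kA => ?_⟩
  · have h4 := h3 1 1
    rw [Out.sum_two (a := -σ) (b := 2 * σ) (fun g h5 hg => by
      linear_combination kB.sing g hg - hs g h5) fun g h5 hg => by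
      linear_combination (kB.reg g hg).1 + (kB.reg g hg).2 + 2 * hs g h5] at h4
    apply Nat.cast_injective (R := ℂ)
    apply mul_left_cancel₀ s0
    push_cast
    linear_combination -h4
  · have h4 := h3 a' a''
    rw [Out.sum_two (a := 2 * σ) (b := -σ) (fun g h5 hg => by
      linear_combination (kA.sing g hg).1 + (kA.sing g hg).2 + 2 * hs g h5) fun g h5 hg => by
      linear_combination kA.reg g hg - hs g h5] at h4
    apply Nat.cast_injective (R := ℂ)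
    apply mul_left_cancel₀ s0
    push_cast
    linear_combination -h4

omit [Finite G] in
theorem Tri.sing_orth [Fintype G] {d : G} {φ φ' φ'' ω : IrrCharacter G} (k : Tri d φ φ' φ'')
    (h : TriB φ φ' φ'' ∨ ∃ a' a'', TriA d φ φ' φ'' a' a'') :
    (∃ g, 3 ∣ orderOf g ∧ (φ : G → ℂ) g ≠ 0) ∧ (ω ≠ φ → ω ≠ φ' → ω ≠ φ'' →
      ∑ g : G, (if 3 ∣ orderOf g then (φ : G → ℂ) g * star ((ω : G → ℂ) g) else 0) = 0) := by
  classical
  obtain ⟨x, y, z, x0, hf⟩ : ∃ x y z : ℂ, x ≠ 0 ∧ ∀ g, x * (φ : G → ℂ) g + y * (φ' : G → ℂ) g +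
      z * (φ'' : G → ℂ) g = if 3 ∣ orderOf g then 3 * (φ : G → ℂ) g else 0 := by
    rcases h with kB | ⟨a', a'', kA⟩
    · refine ⟨2, -1, -1, two_ne_zero, fun g => ?_⟩
      split_ifs with hg
      · linear_combination -kB.sing g hg
      · linear_combination -(kB.reg g hg).1 - (kB.reg g hg).2
    · refine ⟨1, a', a'', one_ne_zero, fun g => ?_⟩
      split_ifs with hg
      · linear_combination (kA.sing g hg).1 + (kA.sing g hg).2
      · linear_combination kA.reg g hg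
  have h5 : ∀ a b : IrrCharacter G, ∑ g, (a : G → ℂ) g * conj ((b : G → ℂ) g) =
      if a = b then (Nat.card G : ℂ) else 0 := fun a b => by
    rw [← card_mul_classInner, classInner_irr]
    split_ifs <;> simp
  have h6 : ∀ b : IrrCharacter G, 3 * ∑ g : G, (if 3 ∣ orderOf g then
      (φ : G → ℂ) g * star ((b : G → ℂ) g) else 0) = x * (if φ = b then (Nat.card G : ℂ) else 0) +
      y * (if φ' = b then (Nat.card G : ℂ) else 0) +
      z * (if φ'' = b then (Nat.card G : ℂ) else 0) := fun b => by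
    simp only [← h5, Finset.mul_sum, ← Finset.sum_add_distrib, ← mul_assoc, ← add_mul, hf]
    exact Finset.sum_congr rfl fun g _ => by split_ifs <;> simp [mul_assoc]
  refine ⟨?_, fun h1 h2 h3 => ?_⟩
  · by_contra! c
    have h7 := h6 φ
    rw [Finset.sum_eq_zero fun g _ => by split_ifs with hg <;> simp [c g, *]] at h7
    simp [k.ne1.symm, k.ne2.symm, x0] at h7
  · simpa [h1.symm, h2.symm, h3.symm] using h6 ω

end Cfsg.Lib.Spor.O24F
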