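import Cfsg.Agent.Spor.O24FDefs

/-!
A lower bound for the number of nonexceptional characters of a given degree in the principal
block, from the action of the Galois group.
-/

set_option autoImplicit false

namespace Cfsg.Lib.Spor.O24F

open Cfsg Cfsg.Lib.Char Cfsg.Lib.PrimeOne Cfsg.Lib.Block.Princ Subgroup
open Cfsg.Lib.Block hiding dg dg_cast
open Cfsg.Lib.Spor.CKit Cfsg.Lib.Spor.Mo

variable {G : Type*} [Group G] [Finite G]
variable {p : ℕ} [hp : Fact p.Prime] {M e c t : ℕ} {L : List (IrrCharacter G)}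
  {Y : Finset (IrrCharacter G)} {θ : IrrCharacter G} {δ : IrrCharacter G → ℤ} {ε : ℤ}

namespace Ratx

theorem dvd_sub {x y : G} (hx : orderOf x = p) (hy : ¬ p ∣ orderOf y) (h : Commute y x)
    {Ψ : G → ℂ} (hΨ : IsCharacter G Ψ) {a σ : ℤ} (ha : Ψ y = a)
    (hσ : ∀ g, p ∣ orderOf g → Ψ g = σ) : (p : ℤ) ∣ a - σ := by
  classical
  have := Fintype.ofFinite (zpowers x)
  have hP : Nat.card (zpowers x) = p := by rw [Nat.card_zpowers, hx]
  have h1 := isIntegral_avg_char hΨ (x := y) (P := zpowers x)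
    (zpowers_le.2 (mem_centralizer_singleton_iff.2 h.symm))
  rw [← Finset.add_sum_erase _ _ (Finset.mem_univ 1), Finset.sum_congr rfl fun u hu => hσ _ ?_,
    Finset.sum_const, Finset.card_erase_of_mem (Finset.mem_univ _), Finset.card_univ,
    ← Nat.card_eq_fintype_card, hP, nsmul_eq_mul, Nat.cast_sub hp.out.one_le, OneMemClass.coe_one,
    mul_one, ha] at h1
  · obtain ⟨k, hk⟩ := int_dvd_of_isIntegral_div (a := a + (p - 1) * σ) (b := p)
      (Nat.cast_ne_zero.2 hp.out.ne_zero) (by simpa [div_eq_inv_mul] using h1)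
    exact ⟨k - σ, by linarith⟩
  have h5 := PS.orderOf_eq_of_card hP u.2 (by simpa using hu)
  refine (dvd_of_eq ?_).trans (orderOf_pow_dvd (orderOf y))
  obtain ⟨k, hk⟩ := u.2
  rw [(show Commute y u from hk ▸ h.zpow_right k).mul_pow, pow_orderOf_eq_one, one_mul,
    Nat.Coprime.orderOf_pow, h5]
  rwa [h5, hp.out.coprime_iff_not_dvd]

omit hp [Finite G] in
theorem cnt_list (L : List (IrrCharacter G)) (hL : ∀ χ ∈ L, (δ χ * deg χ).natAbs = deg χ)
    (d : ℕ) : ((((sd δ L).map fun s => (s, 1)).filter fun r : ℤ × ℕ => r.1.natAbs == d).map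
      Prod.snd).sum = (L.filter fun χ => deg χ == d).length := by
  induction L with
  | nil => rfl
  | cons a L ih =>
    have h1 := ih fun χ hχ => hL χ (List.mem_cons_of_mem _ hχ)
    have h2 := hL a List.mem_cons_self
    simp only [sd, List.map_cons, List.filter_cons, h2] at h1 ⊢
    split_ifs
    · rw [List.map_cons, List.sum_cons, h1, List.length_cons, add_comm]
    · exact h1

omit hp [Finite G] in
theorem card_le (h : Blk p M e c t L Y θ δ ε) {S : Finset (IrrCharacter G)} {d : ℕ}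
    (hS : ∀ φ ∈ S, deg φ = d ∧ (φ ∈ L ∨ φ ∈ Y)) : S.card ≤ cntD t (sd δ L) d := by
  classical
  have h1 := cnt_list L (fun χ hχ => h.natAbs_sd hχ) d
  have h2 : ∀ T : Finset (IrrCharacter G), (∀ φ ∈ S, φ ∈ Y → φ ∈ T) →
      S.card ≤ T.card + (L.filter fun χ => deg χ == d).length := fun T hT => by
    refine le_trans (Finset.card_le_card (t := T ∪ (L.filter fun χ => deg χ == d).toFinset)
      fun φ hφ => ?_) ((Finset.card_union_le _ _).trans
        (Nat.add_le_add_left (List.toFinset_card_le _) _))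
    obtain ⟨h3, h4 | h4⟩ := hS φ hφ
    · simp [h3, h4]
    · simp [hT φ hφ h4]
  rw [cntD, rows, List.filter_cons, Int.natAbs_neg, h.natAbs_eq]
  split_ifs with h3
  · rw [List.map_cons, List.sum_cons, h1, ← h.card_Y]
    exact h2 Y fun _ _ h => h
  · rw [h1]
    simpa using h2 ∅ fun φ hφ h4 => absurd (by
      rw [← (h.val_Y h4).1, (hS φ hφ).1]; simp) h3

end Ratx

theorem rat [IsSimpleGroup G] (h : Blk p M e c t L Y θ δ ε) {q : ℕ} (hq : q.Prime) (hc : q ∣ c)
    {χ : IrrCharacter G} (hχ : χ ∈ L) : p * (q - 1) ≤ cntD t (sd δ L) (deg χ) * deg χ := by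
  classical
  have : Fact q.Prime := ⟨hq⟩
  obtain ⟨x, hx⟩ := exists_prime_orderOf_dvd_card' (G := G) p
    ⟨M * e * c, by rw [h.card_group]; ring⟩
  have hpq : p ≠ q := by
    rintro rfl
    obtain ⟨a, ha⟩ := hc
    exact h.not_sq ⟨M * e * a, by rw [h.card_group, ha]; ring⟩
  obtain ⟨⟨u, hux⟩, hu⟩ := exists_prime_orderOf_dvd_card' (G := centralizer ({x} : Set G)) q
    (h.card_centralizer hx ▸ hc.mul_left p)
  rw [orderOf_mk] at hu
  have hu1 : u ≠ 1 := fun e => hq.one_lt.ne (by rw [← hu, e, orderOf_one])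
  obtain ⟨s1, s2, -, s4⟩ := h.val hχ
  set S : Finset (IrrCharacter G) := Finset.univ.filter fun φ => φ ≠ triv G ∧ deg φ = deg χ ∧
    ∀ g, p ∣ orderOf g → (φ : G → ℂ) g = δ χ with hS
  have hm : ∀ φ, φ ∈ S ↔ φ ≠ triv G ∧ deg φ = deg χ ∧
      ∀ g, p ∣ orderOf g → (φ : G → ℂ) g = δ χ := fun φ => by simp [hS]
  have hχS : χ ∈ S := (hm χ).2 ⟨s2, rfl, s4⟩
  have h1 : S.card ≤ cntD t (sd δ L) (deg χ) := Ratx.card_le h fun φ hφ =>
    let ⟨a, b, c⟩ := (hm φ).1 hφ
    ⟨b, h.mem_of_val a (by omega) c⟩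
  have hΨ : IsCharacter G (∑ φ ∈ S, (φ : G → ℂ)) :=
    isCharacter_sum S fun φ _ => φ.2.isCharacter
  have hg : ∀ (σ : ℂ ≃+* ℂ) φ, φ ∈ S → galoisPerm G σ φ ∈ S := fun σ φ hφ => by
    obtain ⟨a, b, c⟩ := (hm φ).1 hφ
    refine (hm _).2 ⟨fun e => a (Subtype.ext (funext fun g => σ.injective ?_)), ?_, fun g hg => ?_⟩
    · have := congrFun (congrArg Subtype.val e) g
      simpa using this
    · apply Nat.cast_injective (R := ℂ)
      rw [deg_cast, galoisPerm_apply, ← deg_cast, map_natCast, b]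
    · rw [galoisPerm_apply, c g hg, map_intCast]
  have hfix : ∀ (σ : ℂ ≃+* ℂ) g, σ ((∑ φ ∈ S, (φ : G → ℂ)) g) = (∑ φ ∈ S, (φ : G → ℂ)) g :=
    fun σ g => by
      rw [Finset.sum_apply, map_sum]
      refine Finset.sum_bij (fun φ _ => galoisPerm G σ φ) (fun φ hφ => hg σ φ hφ)
        (fun a _ b _ e => (galoisPerm G σ).injective e) (fun φ hφ => ?_) fun φ _ => rfl
      exact ⟨galoisPerm G σ.symm φ, hg _ _ hφ,
        Subtype.ext (funext fun g => σ.apply_symm_apply _)⟩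
  have hlt : ((∑ φ ∈ S, (φ : G → ℂ)) u).re < ((∑ φ ∈ S, (φ : G → ℂ)) 1).re := by
    rw [Finset.sum_apply, Finset.sum_apply, Complex.re_sum, Complex.re_sum]
    exact Finset.sum_lt_sum (fun φ _ => φ.2.isCharacter.re_le_re u) ⟨χ, hχS,
      χ.2.isCharacter.re_lt_re_of_ne fun e => hu1
        (χ.2.eq_one_of_apply_eq_of_isSimpleGroup (fun e => s2 (eq_triv_iff.2 e)) e)⟩
  have hD : (∑ φ ∈ S, (φ : G → ℂ)) 1 = ((S.card * deg χ : ℕ) : ℤ) := by
    rw [Finset.sum_apply, Finset.sum_congr rfl (g := fun _ => (deg χ : ℂ)) fun φ hφ => by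
      rw [← deg_cast, ((hm φ).1 hφ).2.1], Finset.sum_const]
    simp
  have hs : ∀ g, p ∣ orderOf g → (∑ φ ∈ S, (φ : G → ℂ)) g = ((S.card * δ χ : ℤ) : ℂ) :=
    fun g hg => by
      rw [Finset.sum_apply, Finset.sum_congr rfl (g := fun _ => (δ χ : ℂ)) fun φ hφ =>
        ((hm φ).1 hφ).2.2 g hg, Finset.sum_const]
      simp
  generalize (∑ φ ∈ S, (φ : G → ℂ)) = Ψ at hΨ hfix hlt hD hs
  obtain ⟨a, ha⟩ := exists_int_of_forall_ringEquiv
    (hΨ.isGeneralizedCharacter.isIntegral u) (hfix · u)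
  have := Fintype.ofFinite (zpowers u)
  obtain ⟨n, hn⟩ := exists_nat_sum hΨ (zpowers u)
  rw [sum_eq_of_const Ψ (zpowers u) (k := a) fun w hw hw1 => ?_, Nat.card_zpowers, hu, hD] at hn
  swap
  · obtain ⟨m, rfl⟩ := (mem_powers_iff_mem_zpowers.2 hw : w ∈ Submonoid.powers u)
    obtain ⟨σ, hσ⟩ := exists_ringEquiv_apply_pow u (m := m) (by
      rw [hu, Nat.coprime_comm, hq.coprime_iff_not_dvd, ← hu, orderOf_dvd_iff_pow_eq_one]
      exact hw1)
    rw [← hσ Ψ hΨ.isGeneralizedCharacter, hfix, ha]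
  have k1 := Ratx.dvd_sub hx (y := 1) (by simp [hp.out.one_lt.ne']) (Commute.one_left x) hΨ hD hs
  have k2 := Ratx.dvd_sub hx (y := u) (by
    rwa [hu, Nat.prime_dvd_prime_iff_eq hp.out hq]) (mem_centralizer_singleton_iff.1 hux) hΨ ha hs
  rw [ha, hD, Complex.intCast_re, Complex.intCast_re, Int.cast_lt] at hlt
  refine le_trans ?_ (Nat.mul_le_mul_right _ h1)
  generalize S.card * deg χ = D at *
  have k3 : (D : ℤ) + a * (q - 1) = n * q := by exact_mod_cast hn
  have k4 : (p : ℤ) * q ∣ D - a := IsCoprime.mul_dvd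
    (Nat.isCoprime_iff_coprime.2 ((Nat.coprime_primes hp.out hq).2 hpq))
    (by simpa using dvd_sub k1 k2) ⟨n - a, by linear_combination k3⟩
  have k5 := Int.le_of_dvd (by omega) k4
  have k6 : (1 : ℤ) ≤ q := by exact_mod_cast hq.one_le
  have k7 : (q : ℤ) * (p * (q - 1)) ≤ q * D := by
    have : (0 : ℤ) ≤ n * q := by positivity
    nlinarith [mul_le_mul_of_nonneg_left k5 (sub_nonneg.2 k6)]
  have k8 := le_of_mul_le_mul_left k7 (by omega)
  zify [hq.one_le]
  exact k8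

end Cfsg.Lib.Spor.O24F
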