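import Cfsg.Agent.Spor.O24FE5a
import Cfsg.Agent.Spor.O24FE5b
import Cfsg.Agent.Spor.O24FE5c
import Cfsg.Agent.Spor.O24FKt
import Cfsg.Agent.Spor.O24FLc
import Cfsg.Agent.Spor.O24FRat

/-!
First facts on the Sylow subgroups of prime order of a simple group of order 244823040.
-/

set_option autoImplicit false

namespace Cfsg.Lib.Spor.O24F

open Subgroup Cfsg.Lib.Spor.Mo Cfsg.Lib.PrimeOne Cfsg.Lib.Spor.O24 Cfsg.Lib.Known
open Cfsg.Lib.Spor.O7920 (instFact11 instFact5)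
open Cfsg.Lib.Spor.O10200960 (instFact23)

theorem e23two : enumF 244823040 23 R D (fun _ => true) (fun _ e => e != 2)
    (fun _ _ _ => false) = true := by
  decide +kernel

theorem e11two : enumF 244823040 11 R D (fun _ => true) (fun _ e => e != 2)
    (fun M e l => ratB 11 7 (244823040 / (11 * M * e)) (10 / e) l) = true := by
  decide +kernel

variable {G : Type*} [Group G] [Finite G]

omit [Finite G] in
theorem comm_mem {g x : G} (h : g * x = x * g) : g ∈ C1 x := mem_centralizer_singleton_iff.2 h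

omit [Finite G] in
theorem of_mem {g x : G} (h : g ∈ C1 x) : g * x = x * g := mem_centralizer_singleton_iff.1 h

omit [Finite G] in
theorem mem_symm {g x : G} (h : g ∈ C1 x) : x ∈ C1 g := comm_mem (of_mem h).symm

omit [Finite G] in
theorem C1_le (x : G) : C1 x ≤ N1 x := fun g hg =>
  centralizer_le_normalizer _ (mem_centralizer_iff.2 fun u ⟨k, hk⟩ =>
    hk ▸ ((show Commute g x from of_mem hg).zpow_right k).symm)

omit [Finite G] in
theorem conj_mem {a x g : G} (ha : a ∈ N1 x) (hg : g ∈ C1 x) : a * g * a⁻¹ ∈ C1 x := by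
  obtain ⟨i, hi⟩ := (mem_normalizer_iff''.1 ha x).1 (mem_zpowers x)
  have := ((show Commute g x from of_mem hg).zpow_right i).eq
  simp only at hi
  rw [hi] at this
  refine comm_mem ?_
  calc a * g * a⁻¹ * x = a * (g * (a⁻¹ * x * a)) * a⁻¹ := by group
    _ = _ := by rw [this]; group

theorem ord_dvd {H : Subgroup G} {g : G} {k : ℕ} (hg : orderOf g = k) (h : g ∈ H) :
    k ∣ Nat.card H := hg ▸ orderOf_dvd_natCard _ h

/-- `lemC` with the exponent given. -/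
theorem lemC' {p : ℕ} [Fact p.Prime] {a : G} (ha : orderOf a = p) {X : Subgroup G}
    (hn : ∀ x ∈ X, a * x * a⁻¹ ∈ X) (hX : ¬ p ∣ Nat.card X) {r k : ℕ} (hr : r.Prime)
    (h1 : r ∣ Nat.card X) (h2 : ¬ r ^ (k + 1) ∣ Nat.card X)
    (h3 : ∀ i ≤ k, 0 < i → r ^ i % p ≠ 1) : ∃ u ∈ X, orderOf u = r ∧ u * a = a * u :=
  lemC ha hn hX hr (h3 _ (by
    rw [hr.pow_dvd_iff_le_factorization Nat.card_pos.ne'] at h2; omega)
    (hr.factorization_pos_of_dvd Nat.card_pos.ne' h1))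

section
variable {p : ℕ} [hp : Fact p.Prime] {M e c t : ℕ} {L : List (IrrCharacter G)}
  {Y : Finset (IrrCharacter G)} {θ : IrrCharacter G} {δ : IrrCharacter G → ℤ} {ε : ℤ}
  (h : Blk p M e c t L Y θ δ ε)
include h

theorem exists_x : ∃ x : G, orderOf x = p :=
  exists_prime_orderOf_dvd_card' p ⟨M * e * c, by rw [h.card_group]; ring⟩

theorem exists_a {q : ℕ} [Fact q.Prime] (hq : q ∣ e) {x : G} (hx : orderOf x = p) :
    ∃ a ∈ N1 x, orderOf a = q := by
  obtain ⟨a, ha⟩ := exists_prime_orderOf_dvd_card' (G := N1 x) q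
    (h.card_norm hx ▸ (hq.mul_left p).mul_right c)
  exact ⟨a, a.2, (orderOf_coe a).trans ha⟩

theorem dvd_c {q : ℕ} (hq : q.Coprime p) {x u : G} (hx : orderOf x = p) (hu : orderOf u = q)
    (hc : u * x = x * u) : q ∣ c :=
  hq.dvd_of_dvd_mul_left (h.card_centralizer hx ▸ ord_dvd hu (comm_mem hc))

theorem dvd_c_symm {q M' e' c' t' : ℕ} [hq : Fact q.Prime] {L' : List (IrrCharacter G)}
    {Y' : Finset (IrrCharacter G)} {θ' : IrrCharacter G} {δ' : IrrCharacter G → ℤ} {ε' : ℤ}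
    (k : Blk q M' e' c' t' L' Y' θ' δ' ε') (hne : p ≠ q) (h1 : q ∣ c) : p ∣ c' := by
  obtain ⟨x, hx⟩ := exists_x h
  obtain ⟨u, h2, h3⟩ := exists_ord (t := x) (h.card_centralizer hx ▸ h1.mul_left p)
  exact dvd_c k ((Nat.coprime_primes hp.out hq.out).2 hne) h3 hx (of_mem h2).symm

theorem M_mem (hG : Nat.card G = 244823040) : M ∈ D ∧ M % p = 1 ∧ c = 244823040 / (p * M * e) ∧
    244823040 % (p * M * e) = 0 := by
  refine ⟨ord.dvd M ⟨p * e * c, by rw [← hG, h.card_group]; ring⟩, ?_, hG ▸ h.c_eq.symm,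
    Nat.mod_eq_zero_of_dvd ⟨c, hG ▸ h.card_group⟩⟩
  exact h.num ▸ Eq.trans (card_sylow_modEq_one p G) (Nat.mod_eq_of_lt hp.out.one_lt)

theorem not_ratB [IsSimpleGroup G] {q : ℕ} (hq : q.Prime) :
    ¬ ratB p q c t (sd δ L) = true := fun h1 => by
  simp only [ratB, Bool.and_eq_true, beq_iff_eq, List.any_eq_true, decide_eq_true_eq] at h1
  obtain ⟨h1, s, h2, h3⟩ := h1
  obtain ⟨χ, hχ, rfl⟩ := List.mem_map.1 h2
  rw [h.natAbs_sd hχ] at h3
  exact (rat h hq (Nat.dvd_of_mod_eq_zero h1) hχ).not_gt h3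

end

theorem syl5_of {M e c t : ℕ} {L : List (IrrCharacter G)}
    {Y : Finset (IrrCharacter G)} {θ : IrrCharacter G} {δ : IrrCharacter G → ℤ} {ε : ℤ}
    (h : Blk 5 M e c t L Y θ δ ε) (hG : Nat.card G = 244823040) {s y : G} (os : orderOf s = 2)
    (oy : orderOf y = 5) (hy : y ∈ C1 s) : syl5 e c (Nat.card (C1 s)) = true := by
  rw [syl5, Nat.mod_eq_zero_of_dvd (dvd_c h (by norm_num) oy os (of_mem hy).symm)]
  by_cases h1 : 64512 % (e * c) = 0
  · rw [sylB_of h oy (fun e => by simp [e] at os) (by rw [os]; norm_num) (mem_symm hy)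
      (Nat.Coprime.mul_dvd_of_dvd_of_dvd (by norm_num)
        (ord_dvd oy ⟨le_normalizer (mem_zpowers y), hy⟩)
        (ord_dvd os ⟨C1_le y (mem_symm hy), comm_mem rfl⟩)) fun j hj => mem_DS j (mem_D h hG hj)
        (Nat.mod_eq_zero_of_dvd (hj.trans (Nat.dvd_of_mod_eq_zero h1)))]
    simp
  · simp [h1]

variable [IsSimpleGroup G] (hG : Nat.card G = 244823040)
include hG

theorem exists23 : ∃ M e c t L Y θ δ ε, Blk (G := G) 23 M e c t L Y θ δ ε ∧ (e = 11 ∨ e = 22) := by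
  obtain ⟨M, e, c, t, L, Y, θ, δ, ε, h, hm⟩ := exists_blk' (G := G) (p := 23)
    (by rw [hG]; norm_num) (by rw [hG]; norm_num)
  refine ⟨M, e, c, t, L, Y, θ, δ, ε, h, ?_⟩
  have h1 := (h.enumF (nc hG) hG ord hm (fun _ _ => rfl) e23two).resolve_right (by simp)
  have h2 : e ∣ 22 := ⟨t, by have := h.card_eq; omega⟩
  have h3 := h.two_le (nc hG)
  have h4 := h.e_lt
  simp only [bne_iff_ne] at h1
  interval_cases e <;> omega

theorem exists11 : ∃ M e c t L Y θ δ ε, Blk (G := G) 11 M e c t L Y θ δ ε ∧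
    (t = 1 → ∀ χ ∈ L, deg χ ≤ deg θ) ∧ (e = 5 ∨ e = 10) := by
  obtain ⟨M, e, c, t, L, Y, θ, δ, ε, h, hm⟩ := exists_blk' (G := G) (p := 11)
    (by rw [hG]; norm_num) (by rw [hG]; norm_num)
  refine ⟨M, e, c, t, L, Y, θ, δ, ε, h, hm, ?_⟩
  have h1 := (h.enumF (nc hG) hG ord hm (fun _ _ => rfl) e11two).resolve_right
    fun ⟨L', k, h1⟩ => not_ratB k (q := 7) (by norm_num) (by
      rwa [← (M_mem h hG).2.2.1, show 10 / e = t from h.t_eq] at h1)
  have h2 : e ∣ 10 := ⟨t, by have := h.card_eq; omega⟩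
  have h3 := h.two_le (nc hG)
  have h4 := h.e_lt
  simp only [bne_iff_ne] at h1
  interval_cases e <;> omega

theorem exists5 : ∃ M e c t L Y θ δ ε, Blk (G := G) 5 M e c t L Y θ δ ε ∧
    (¬ 11 ∣ c → ¬ 23 ∣ c → (M, e, sd δ L) ∈ T5) := by
  obtain ⟨M, e, c, t, L, Y, θ, δ, ε, h, hm⟩ := exists_blk' (G := G) (p := 5)
    (by rw [hG]; norm_num) (by rw [hG]; norm_num)
  by_cases h1 : 11 ∣ c ∨ 23 ∣ c
  · exact ⟨M, e, c, t, L, Y, θ, δ, ε, h, fun h2 h3 => (h1.elim h2 h3).elim⟩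
  have h2 : c.gcd 253 = 1 := Nat.Coprime.symm (Nat.Coprime.mul_left (m := 11) (n := 23)
    ((Nat.Prime.coprime_iff_not_dvd (by norm_num)).2 fun h => h1 (Or.inl h))
    ((Nat.Prime.coprime_iff_not_dvd (by norm_num)).2 fun h => h1 (Or.inr h)))
  have ha := h.enumF (nc hG) hG ord hm (fun _ _ => rfl) e5a
  have hb := h.enumF (nc hG) hG ord hm (fun _ _ => rfl) e5b
  have hc := h.enumF (nc hG) hG ord hm (fun _ _ => rfl) e5c
  simp only [← (M_mem h hG).2.2.1, h2, bne_self_eq_false, Bool.false_or, Bool.or_eq_true,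
    decide_eq_true_eq, List.contains_iff_mem] at ha hb hc
  obtain ⟨L', k, h3⟩ : ∃ L', Blk 5 M e c t L' Y θ δ ε ∧ (M, e, sd δ L') ∈ T5 :=
    ha.elim (fun ha => hb.elim (fun hb => hc.resolve_left (by omega)) id) id
  exact ⟨M, e, c, t, L', Y, θ, δ, ε, k, fun _ _ => h3⟩

end Cfsg.Lib.Spor.O24F
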