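import Cfsg.Agent.Spor.O24FNum

/-!
No involution commutes with a subgroup of order 253.
-/

set_option autoImplicit false

namespace Cfsg.Lib.Spor.O24F

theorem s23_0 : ((T5.drop 0).take 13).all n23 = true := by
  decide +kernel

theorem s23_13 : ((T5.drop 13).take 6).all n23 = true := by
  decide +kernel

theorem s23_19 : ((T5.drop 19).take 25).all n23 = true := by
  decide +kernel

theorem s23_44 : ((T5.drop 44).take 8).all n23 = true := by
  decide +kernel

theorem s23_52 : ((T5.drop 52).take 9).all n23 = true := by
  decide +kernel

theorem s23_61 : ((T5.drop 61).take 5).all n23 = true := by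
  decide +kernel

theorem s23_66 : ((T5.drop 66).take 14).all n23 = true := by
  decide +kernel

theorem s23_80 : ((T5.drop 80).take 16).all n23 = true := by
  decide +kernel

theorem s23_96 : ((T5.drop 96).take 21).all n23 = true := by
  decide +kernel

theorem s23_117 : ((T5.drop 117).take 9).all n23 = true := by
  decide +kernel

theorem s23_126 : ((T5.drop 126).take 22).all n23 = true := by
  decide +kernel

theorem s23 : (T5.drop 0).all n23 = true :=
  all_step s23_0 <| all_step s23_13 <| all_step s23_19 <| all_step s23_44 <| all_step s23_52 <|
  all_step s23_61 <| all_step s23_66 <| all_step s23_80 <| all_step s23_96 <| all_step s23_117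
  <| all_step s23_126 <| rfl

end Cfsg.Lib.Spor.O24F
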