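import Cfsg.Agent.Spor.O24FDefs

/-! Tools for the study of the normalizer of a Sylow 7-subgroup. -/

set_option autoImplicit false

namespace Cfsg.Lib.Spor.O24F

open Subgroup Cfsg.Lib.Spor.Mo Cfsg.Lib.Spor.O24 Cfsg.Lib.Known Cfsg.Lib.Solv

variable {G : Type*} [Group G] [Finite G]

namespace S70

theorem syl_cnt {p : ℕ} [Fact p.Prime] {x : G} (hx : orderOf x = p) {H : Subgroup G}
    (h2 : ¬ p ^ 2 ∣ Nat.card H) (hH : x ∈ H) :
    ∃ k, Nat.card H = Nat.card (N1 x ⊓ H : Subgroup G) * k ∧ k % p = 1 := by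
  obtain ⟨k, h1, h3⟩ := sylow_cnt (x := (⟨x, hH⟩ : H)) ((orderOf_mk x hH).trans hx) h2 (mem_top _)
  refine ⟨k, ?_, h3⟩
  rw [card_top, inf_top_eq] at h1
  have e : zpowers (⟨x, hH⟩ : H) = (zpowers x).subgroupOf H := by
    ext y
    simp only [mem_zpowers_iff, mem_subgroupOf, Subtype.ext_iff, coe_zpow]
  rw [h1, e, ← subgroupOf_normalizer_eq (zpowers_le.2 hH), card_subgroupOf]

omit [Finite G] in
theorem c_le_n (x : G) : C1 x ≤ N1 x := fun g hg => by
  have : g ∈ centralizer (zpowers x : Set G) := by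
    rintro _ ⟨k, rfl⟩
    exact ((Commute.zpow_right (mem_c1.1 hg) k).symm :)
  exact centralizer_le_normalizer _ this

omit [Finite G] in
theorem conj_mem {x g : G} (hg : g ∈ N1 x) : g * x * g⁻¹ ∈ zpowers x :=
  (mem_normalizer_iff.1 hg x).1 (mem_zpowers x)

omit [Finite G] in
theorem n_conj {x g u : G} (hg : g ∈ N1 x) (hu : u ∈ C1 x) : g * u * g⁻¹ ∈ C1 x := by
  obtain ⟨k, hk⟩ := conj_mem (inv_mem hg)
  have := (Commute.zpow_right (mem_c1.1 hu) k).eq
  simp only at hk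
  rw [hk] at this
  rw [mem_c1]
  calc _ = g * (u * (g⁻¹ * x * g⁻¹⁻¹)) * g⁻¹ := by group
    _ = _ := by rw [this]; group

theorem nc {p : ℕ} [hp : Fact p.Prime] {x : G} (hx : orderOf x = p) : ∃ e, e ∣ p - 1 ∧
    e * Nat.card (C1 x) = Nat.card (N1 x) ∧ ∀ g ∈ N1 x, g ^ e ∈ C1 x := by
  have e1 : centralizer (zpowers x : Set G) = C1 x := by
    rw [zpowers_eq_closure, centralizer_closure]
  refine ⟨(zpowers x).normalizerMonoidHom.ker.index, ?_, ?_, fun g hg => ?_⟩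
  · rw [index_ker]
    refine (card_subgroup_dvd_card _).trans ?_
    rw [IsCyclic.card_mulAut, Nat.card_zpowers, hx, Nat.totient_prime hp.out]
  · rw [normalizerMonoidHom_ker, e1, ← index_mul_card ((C1 x).subgroupOf (N1 x)),
      card_subgroupOf_of_le (c_le_n x)]
  · have := pow_index_mem (H := (zpowers x).normalizerMonoidHom.ker) ⟨g, hg⟩
    rw [normalizerMonoidHom_ker, e1] at this ⊢
    exact this

theorem exists_nine {a b : G} (ha : orderOf a = 3) (hb : orderOf b = 3) (hc : a * b = b * a)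
    (hn : b ∉ zpowers a) : ∃ A : Subgroup G, Nat.card A = 9 ∧
      ∀ x, x ∈ A ↔ ∃ i < 3, ∃ j < 3, x = a ^ i * b ^ j := by
  have : Fact (Nat.Prime 3) := ⟨Nat.prime_three⟩
  have cm : ∀ (u : zpowers a) (v : zpowers b),
      Commute ((zpowers a).subtype u) ((zpowers b).subtype v) := by
    rintro ⟨_, i, rfl⟩ ⟨_, j, rfl⟩
    exact Commute.zpow_zpow hc i j
  have dj : Disjoint (zpowers a) (zpowers b) := by
    rw [disjoint_iff]
    rcases (Nat.dvd_prime Nat.prime_three).1 (hb ▸ Nat.card_zpowers b ▸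
      card_dvd_of_le (inf_le_right : zpowers a ⊓ zpowers b ≤ _)) with k | k
    · exact eq_bot_of_card_eq _ k
    · exact (hn (inf_le_left (a := zpowers a) (b := zpowers b) ((eq_of_le_of_card_ge inf_le_right
        (by rw [k, Nat.card_zpowers, hb])).ge (mem_zpowers b)))).elim
  refine ⟨(MonoidHom.noncommCoprod _ _ cm).range, ?_, fun x => ⟨?_, ?_⟩⟩
  · rw [← Nat.card_congr (MonoidHom.ofInjective (mul_injective_of_disjoint dj)).toEquiv,
      Nat.card_prod, Nat.card_zpowers, Nat.card_zpowers, ha, hb]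
  · rintro ⟨⟨⟨u, hu⟩, ⟨v, hv⟩⟩, rfl⟩
    obtain ⟨i, rfl⟩ := mem_powers_iff_mem_zpowers.2 hu
    obtain ⟨j, rfl⟩ := mem_powers_iff_mem_zpowers.2 hv
    refine ⟨i % 3, Nat.mod_lt _ (by omega), j % 3, Nat.mod_lt _ (by omega), ?_⟩
    rw [← ha, pow_mod_orderOf, ha, ← hb, pow_mod_orderOf]
    rfl
  · rintro ⟨i, -, j, -, rfl⟩
    exact ⟨(⟨_, pow_mem (mem_zpowers a) i⟩, ⟨_, pow_mem (mem_zpowers b) j⟩), rfl⟩

omit [Finite G] in
theorem dvd_c {x y : G} {k : ℕ} (hx : orderOf x = k) (h : x * y = y * x) : k ∣ Nat.card (C1 y) :=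
  hx ▸ orderOf_dvd_natCard _ (mem_c1.2 h)

end S70

open S70

variable {z d v g d' : G} {n : ℕ}

theorem E12.c1080 (h : E12 z d) {q : G} (hq : IsConj d q) : Nat.card (C1 q) = 1080 :=
  (SC.card_centralizer_eq_of_isConj hq).symm.trans h.cd

omit [Finite G] in
/-- An element of order 3 that commutes with an involution of `C(v)` is conjugate to `d`. -/
theorem E12.tr (h : E12 z d) (hv : orderOf v = 7) {t q : G} (ht : orderOf t = 2) (tv : t ∈ C1 v)
    (hq : orderOf q = 3) (hc : q * t = t * q) : IsConj d q := by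
  obtain ⟨c, rfl⟩ := isConj_iff.1 (h.inv7 t ht (dvd_c hv (mem_c1.1 tv).symm))
  refine (h.three (c⁻¹ * q * c) ?_ ?_).trans (isConj_iff.2 ⟨c, by group⟩)
  · simpa using ((MulAut.conj c⁻¹).orderOf_eq q).trans hq
  · calc _ = c⁻¹ * (q * (c * z * c⁻¹)) * c := by group
      _ = _ := by rw [hc]; group

/-- The conjugates of `d'` centralize no involution of `C(v)`. -/
theorem E12.fpf (h : E12 z d) (k : S7 d v g d' n) {t q : G} (ht : orderOf t = 2) (tv : t ∈ C1 v)
    (hq : IsConj d' q) : q * t ≠ t * q := fun hc => by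
  have h1 := dvd_c k.ov (mem_c1.1 k.dC).symm
  have h2 : orderOf q = 3 := by
    obtain ⟨c, rfl⟩ := isConj_iff.1 hq
    exact ((MulAut.conj c).orderOf_eq d').trans k.od'
  rw [SC.card_centralizer_eq_of_isConj hq, h.c1080 (h.tr k.ov ht tv h2 hc)] at h1
  omega

end Cfsg.Lib.Spor.O24F
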