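import Cfsg.Agent.Spor.O24FS70

/-! The normalizer of a Sylow 7-subgroup and its Sylow 3-subgroup. -/

set_option autoImplicit false

namespace Cfsg.Lib.Spor.O24F

open Subgroup Cfsg.Lib.Spor.Mo Cfsg.Lib.Spor.O24 Cfsg.Lib.Known Cfsg.Lib.Solv S70

variable {G : Type*} [Group G] [Finite G] {d : G}

/-- Fusion in a subgroup of order 27 that does not centralize `a`. -/
theorem S70.fus {a b : G} (ha : orderOf a = 3) (hb : orderOf b = 3) (hc : a * b = b * a)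
    (hn : b ∉ zpowers a) (h1 : 27 ∣ Nat.card G) (h2 : ¬ 27 ∣ Nat.card (C1 a)) :
    ∃ ζ, (∀ k, IsConj a (a * ζ ^ k)) ∧ ζ ^ 3 = 1 ∧ Commute a ζ ∧
      ∃ i < 3, ∃ j, b = a ^ i * ζ ^ j := by
  have : Fact (Nat.Prime 3) := ⟨Nat.prime_three⟩
  have a3 : a ^ 3 = 1 := ha ▸ pow_orderOf_eq_one a
  obtain ⟨Q, Q9, hQ⟩ := exists_nine ha hb hc hn
  obtain ⟨K, K27, QK⟩ := Sylow.exists_subgroup_card_pow_succ (p := 3) (n := 2) h1 Q9
  have aQ : a ∈ Q := (hQ a).2 ⟨1, by omega, 0, by omega, by simp⟩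
  have QC : Q ≤ C1 a := fun x hx => by
    obtain ⟨i, -, j, -, rfl⟩ := (hQ x).1 hx
    exact mul_mem (pow_mem (mem_c1.2 rfl) i) (pow_mem (mem_c1.2 hc.symm) j)
  have KC : ¬ K ≤ C1 a := fun c => h2 (by simpa [K27] using card_dvd_of_le c)
  have e : Q = C1 a ⊓ K := by
    refine eq_of_le_of_card_ge (le_inf QC QK) ?_
    obtain ⟨i, hi, h3⟩ := (Nat.dvd_prime_pow Nat.prime_three).1
      (K27 ▸ card_dvd_of_le (inf_le_right : C1 a ⊓ K ≤ K))
    have h4 := card_dvd_of_le (inf_le_left : C1 a ⊓ K ≤ _)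
    rw [h3] at h4 ⊢
    interval_cases i <;> omega
  have : Nontrivial K := Finite.one_lt_card_iff_nontrivial.1 (by omega)
  have := (IsPGroup.of_card K27).center_nontrivial
  obtain ⟨⟨⟨ζ, ζK⟩, hζ⟩, ζ1⟩ := exists_ne (1 : center K)
  have cz : ∀ x ∈ K, Commute x ζ := fun x hx =>
    congrArg Subtype.val (mem_center_iff.1 hζ ⟨x, hx⟩)
  have ca := cz a (QK aQ)
  have ζQ : ζ ∈ Q := e ▸ ⟨mem_c1.2 ca.symm, ζK⟩
  have z3 : ζ ^ 3 = 1 := by
    obtain ⟨i, -, j, -, rfl⟩ := (hQ ζ).1 ζQ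
    rw [(Commute.pow_pow hc i j).mul_pow, ← pow_mul, ← pow_mul, mul_comm i, mul_comm j, pow_mul,
      pow_mul, a3, ← hb, pow_orderOf_eq_one, one_pow, one_pow, one_mul]
  have oz : orderOf ζ = 3 := orderOf_eq_prime z3 fun c => ζ1 (Subtype.ext (Subtype.ext c))
  have az : a ∉ zpowers ζ := by
    rintro ⟨k, rfl⟩
    exact KC fun x hx => mem_c1.2 ((cz x hx).zpow_right k)
  obtain ⟨A, A9, hA⟩ := exists_nine oz ha ca.symm az
  have eA : A = Q := eq_of_le_of_card_ge (fun x hx => by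
    obtain ⟨i, -, j, -, rfl⟩ := (hA x).1 hx
    exact mul_mem (pow_mem ζQ i) (pow_mem aQ j)) (by omega)
  subst eA
  have hN : (A.subgroupOf K).Normal := normal_of_index_eq_minFac_card (by
    have := index_mul_card (A.subgroupOf K)
    rw [card_subgroupOf_of_le QK, K27, A9] at this
    rw [K27, show (A.subgroupOf K).index = 3 by omega]
    norm_num)
  obtain ⟨x, xK, xC⟩ := SetLike.not_le_iff_exists.1 KC
  obtain ⟨j, hj, i, hi, hx⟩ := (hA (x * a * x⁻¹)).1 (hN.conj_mem ⟨a, QK aQ⟩ aQ ⟨x, xK⟩)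
  have cx : ∀ k : ℕ, x * ζ ^ k * x⁻¹ = ζ ^ k := fun k => by
    rw [((cz x xK).pow_right k).eq, mul_inv_cancel_right]
  have i1 : i = 1 := by
    interval_cases i
    · refine (az ?_).elim
      rw [pow_zero, mul_one, ← cx j, mul_left_inj, mul_right_inj] at hx
      exact hx ▸ pow_mem (mem_zpowers ζ) j
    · rfl
    · have h3 : x ^ 2 ∈ C1 a := mem_c1.2 (by
        have h4 : x * (x * a * x⁻¹) * x⁻¹ = x * ζ ^ j * x⁻¹ * (x * a * x⁻¹) ^ 2 := by
          conv_lhs => rw [hx]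
          simp only [pow_two]
          group
        have h5 : ζ ^ j * (x * a * x⁻¹) ^ 2 = a := by
          rw [hx, (ca.symm.pow_pow j 2).mul_pow, ← pow_mul, ← pow_mul, ← mul_assoc, ← pow_add,
            show j + j * 2 = 3 * j by ring, pow_mul ζ, z3, pow_succ a 3, a3]
          simp
        rw [cx, h5] at h4
        rw [← mul_inv_eq_iff_eq_mul]
        simpa [pow_two, mul_assoc] using h4)
      have h4 : x ^ 27 = 1 := by
        simpa [K27, Subtype.ext_iff] using pow_card_eq_one' (x := (⟨x, xK⟩ : K))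
      exact (xC (by simpa [← pow_mul, pow_succ x 27, h4] using pow_mem h3 14)).elim
  subst i1
  have h3 : ∀ k, IsConj a (a * ζ ^ (j * k)) := fun k => by
    induction k with
    | zero => simpa using ⟨1, by simp⟩
    | succ k ih =>
      refine ih.trans (isConj_iff.2 ⟨x, ?_⟩)
      rw [show x * (a * ζ ^ (j * k)) * x⁻¹ = x * a * x⁻¹ * (x * ζ ^ (j * k) * x⁻¹) by group, cx, hx,
        pow_one, ← (ca.pow_right j).eq, mul_assoc, ← pow_add, mul_add, mul_one, add_comm]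
  obtain ⟨t, -, s, hs, hb⟩ := (hA b).1 ((hQ b).2 ⟨0, by omega, 1, by omega, by simp⟩)
  refine ⟨ζ, fun k => ?_, z3, ca, s, hs, t, hb.trans (ca.pow_pow s t).eq.symm⟩
  have h4 := h3 (j * k)
  interval_cases j
  · exact (xC (mem_c1.2 (mul_inv_eq_iff_eq_mul.1 (by simpa using hx)))).elim
  · simpa using h4
  · simpa [← mul_assoc, pow_mul, pow_succ ζ 3, z3] using h4

theorem E12.exists_S7 {z : G} (h : E12 z d) : ∃ v g d' n, S7 d v g d' n := by
  have : Fact (Nat.Prime 7) := ⟨Nat.prime_seven⟩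
  have : Fact (Nat.Prime 3) := ⟨Nat.prime_three⟩
  have dv : ∀ H : Subgroup G, Nat.card H ∣ 244823040 := fun H => h.card ▸ card_subgroup_dvd_card H
  obtain ⟨⟨v, vz⟩, ov⟩ := exists_prime_orderOf_dvd_card' (G := C1 z) 7 (by rw [h.cz]; norm_num)
  rw [orderOf_mk] at ov
  have h49 : ¬ 7 ^ 2 ∣ Nat.card G := by rw [h.card]; norm_num
  obtain ⟨M, hM, M1⟩ := sylow_cnt ov h49 (mem_top v)
  obtain ⟨k, hk, k1⟩ := sylow_cnt ov h49 vz
  rw [card_top, inf_top_eq, h.card] at hM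
  rw [h.cz] at hk
  have h3 : 3 ∣ Nat.card (N1 v ⊓ C1 z : Subgroup G) := by
    refine (Nat.prime_three.dvd_mul.1 (by rw [← hk]; norm_num)).resolve_right ?_
    have k2 : k ∣ 21504 := Dvd.intro_left _ hk.symm
    exact (by decide +kernel : ∀ k ∈ D, k ∣ 21504 → k % 7 = 1 → ¬ 3 ∣ k) k
      (ord.dvd _ (k2.trans (by norm_num))) k2 k1
  obtain ⟨⟨g, hg⟩, og⟩ := exists_prime_orderOf_dvd_card' 3 h3
  rw [orderOf_mk] at og
  obtain ⟨gN, gz⟩ := mem_inf.1 hg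
  have dg := h.three g og (mem_c1.1 gz)
  have g7 : ¬ 7 ∣ Nat.card (C1 g) := by rw [h.c1080 dg]; norm_num
  have gC : g ∉ C1 v := fun c => g7 (dvd_c ov (mem_c1.1 c).symm)
  obtain ⟨e, e1, e2, -⟩ := nc ov
  have nd : ∀ p, p.Prime → ¬ p ∣ 6 → ¬ p ∣ Nat.card (C1 v) → ¬ p ∣ Nat.card (N1 v) :=
    fun p hp h1 h2 c => (hp.dvd_mul.1 (e2 ▸ c)).elim (fun c => h1 (c.trans e1)) h2
  have hb := h.big v (Or.inr ov)
  have hn := (by decide +kernel : ∀ n ∈ D, 3 ∣ n → 7 ∣ n → ¬ 5 ∣ n → ¬ 11 ∣ n → ¬ 23 ∣ n →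
    244823040 / n % 7 = 1 → n / 7 = 18 ∨ n / 7 = 144 ∨ n / 7 = 1152 ∨ n / 7 = 9216) _
    (ord.dvd _ (dv (N1 v))) (h3.trans (card_dvd_of_le inf_le_left))
    ((dvd_c ov rfl).trans (card_dvd_of_le (c_le_n v))) (nd 5 (by norm_num) (by norm_num) (h.s7 v ov))
    (nd 11 (by norm_num) (by norm_num) hb.1) (nd 23 (by norm_num) (by norm_num) hb.2)
    (by rw [hM, Nat.mul_div_cancel_left _ Nat.card_pos, M1])
  have cN := (Nat.mul_div_cancel' ((dvd_c ov rfl).trans (card_dvd_of_le (c_le_n v)))).symm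
  generalize Nat.card (N1 v) / 7 = n at hn cN
  have c3 : 3 ∣ Nat.card (C1 v) := by
    have := Nat.le_of_dvd (by omega) e1
    interval_cases e <;> omega
  obtain ⟨d', ⟨dC, od⟩, cm⟩ : {s ∈ {s ∈ (C1 v : Set G) | orderOf s = 3} |
      g * s = s * g}.Nonempty := by
    have h1 := ncard_mod (og ▸ pow_orderOf_eq_one g : g ^ 3 = 1)
      (S := {s ∈ (C1 v : Set G) | orderOf s = 3}) fun s hs =>
      ⟨n_conj gN hs.1, ((MulAut.conj g).orderOf_eq s).trans hs.2⟩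
    have h2 := cnt_prime c3
    rw [← Set.ncard_image_of_injective _ (C1 v).subtype_injective,
      show (C1 v).subtype '' {g | orderOf g = 3} = {s ∈ (C1 v : Set G) | orderOf s = 3} from
        Set.ext fun s => ⟨by rintro ⟨s, hs, rfl⟩; exact ⟨s.2, (orderOf_coe s).trans hs⟩,
          fun hs => ⟨⟨s, hs.1⟩, (orderOf_mk s hs.1).trans hs.2, rfl⟩⟩] at h2
    refine Set.nonempty_of_ncard_ne_zero fun c => ?_
    rw [c] at h1
    unfold Nat.ModEq at h1
    omega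
  have d7 := dvd_c ov (mem_c1.1 dC).symm
  have gd : g ∉ zpowers d' := fun c => gC (zpowers_le.2 dC c)
  have h27 : ¬ 27 ∣ Nat.card (C1 d') := fun c => by
    obtain ⟨m, hm, m1⟩ := sylow_cnt ov h49 (H := C1 d') (mem_c1.2 (mem_c1.1 dC).symm)
    obtain ⟨A, A9, hA⟩ := exists_nine od og cm.symm gd
    have h9 : 9 ∣ Nat.card (N1 v ⊓ C1 d' : Subgroup G) := A9 ▸ card_dvd_of_le fun x hx => by
      obtain ⟨i, -, j, -, rfl⟩ := (hA x).1 hx
      exact mul_mem (pow_mem (mem_inf.2 ⟨c_le_n v dC, mem_c1.2 rfl⟩) i)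
        (pow_mem (mem_inf.2 ⟨gN, mem_c1.2 cm⟩) j)
    have h1 : m ∣ Nat.card (C1 d') := Dvd.intro_left _ hm.symm
    have h2 := h.big d' (Or.inl od)
    refine (by decide +kernel : ∀ m ∈ D, 3 ∣ m → ¬ 9 ∣ m → ¬ 5 ∣ m → ¬ 11 ∣ m → ¬ 23 ∣ m →
      m % 7 ≠ 1) m (ord.dvd _ (h1.trans (dv _))) ?_ (fun c => ?_) (fun c => ?_)
      (fun c => h2.1 (c.trans h1)) (fun c => h2.2 (c.trans h1)) m1
    · by_contra c'
      rw [hm] at c
      have := ((Nat.Coprime.pow_left 3 ((Nat.Prime.coprime_iff_not_dvd Nat.prime_three).2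
        c')).dvd_of_dvd_mul_right c).trans (card_dvd_of_le inf_le_left)
      rw [cN] at this
      omega
    · exact absurd ((mul_dvd_mul h9 c).trans (hm ▸ dv _)) (by norm_num)
    · rw [h.c1080 (h.five d' od (c.trans h1))] at d7
      omega
  clear hg
  obtain ⟨ζ, h1, z3, cz, i, hi, j, hg⟩ := fus od og cm.symm gd (by rw [h.card]; norm_num) h27
  have h2 : ∀ t s, g ≠ (d' * ζ ^ t) ^ s := fun t s c => g7 (by
    rw [SC.card_centralizer_eq_of_isConj (h1 t)] at d7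
    exact d7.trans (card_dvd_of_le fun x hx => mem_c1.2 (c ▸ Commute.pow_right (mem_c1.1 hx) s)))
  refine ⟨v, g, d', n, ov, og, od, cN, hn, dvd_c h.oz (mem_c1.1 vz).symm, gN, gC, dC, cm, dg,
    fun k => ?_⟩
  interval_cases i
  · simpa [hg, pow_mul] using h1 (j * k)
  · exact (h2 j 1 (by simpa using hg)).elim
  · refine (h2 (2 * j) 2 ?_).elim
    rw [(cz.pow_right _).mul_pow, hg, ← pow_mul, show 2 * j * 2 = 3 * j + j by ring, pow_add,
      pow_mul, z3, one_pow, one_mul]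

end Cfsg.Lib.Spor.O24F
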