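import Cfsg.Agent.Spor.O24FPre
import Cfsg.Agent.Spor.O24FS23

/-!
A Sylow 23-subgroup of a simple group of order 244823040 is self-centralizing.
-/

set_option autoImplicit false

namespace Cfsg.Lib.Spor.O24F

open Subgroup Cfsg.Lib.Spor.Mo Cfsg.Lib.PrimeOne Cfsg.Lib.Spor.O24 Cfsg.Lib.Known
open Cfsg.Lib.Spor.O7920 (instFact11 instFact5)
open Cfsg.Lib.Spor.O10200960 (instFact23)

theorem opt23 : ∀ M ∈ D, ∀ e ∈ [11, 22], M % 23 = 1 → 244823040 % (23 * M * e) = 0 →
    244823040 / (23 * M * e) % 5 ≠ 0 → (M = 967680 ∧ e = 11) ∨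
      (e, 244823040 / (23 * M * e)) ∈
        [(11, 13824), (22, 6912), (11, 576), (22, 288), (11, 24), (22, 12)] := by
  decide +kernel

theorem cen23 : (D.all fun C => C % 506 != 0 || small C || (C23.map Prod.fst).contains C ||
    [(11, 13824), (22, 6912), (11, 576), (22, 288), (11, 24), (22, 12)].all fun r =>
      !sylB 23 r.1 r.2 C 22 D) = true := by
  decide +kernel

variable {G : Type*} [Group G] [Finite G] [IsSimpleGroup G] (hG : Nat.card G = 244823040)
include hG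

theorem sc23 : ∃ L Y θ δ ε, Blk (G := G) 23 967680 11 1 2 L Y θ δ ε := by
  obtain ⟨M, e, c, t, L, Y, θ, δ, ε, h, he⟩ := exists23 hG
  obtain ⟨M', e', c', t', L', Y', θ', δ', ε', k, -, he'⟩ := exists11 hG
  obtain ⟨M5, e5, c5, t5, L5, Y5, θ5, δ5, ε5, j, hj⟩ := exists5 hG
  obtain ⟨x, hx⟩ := exists_x h
  obtain ⟨w, hw, ow⟩ := exists_a h (q := 11) (by omega) hx
  have n1 := h.card_group
  have n2 := k.card_group
  rw [hG] at n1 n2
  have h1 : ¬ 5 ∣ c' := fun ⟨a, ha⟩ => by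
    have : 25 ∣ 11 * M' * e' * c' := by
      rcases he' with rfl | rfl
      exacts [⟨11 * M' * a, by rw [ha]; ring⟩, ⟨22 * M' * a, by rw [ha]; ring⟩]
    omega
  have h2 : ¬ 11 ∣ Nat.card (C1 x) := by
    rw [h.card_centralizer hx, Nat.Coprime.dvd_mul_left (by norm_num)]
    rintro ⟨a, ha⟩
    have : 121 ∣ 23 * M * e * c := by
      rcases he with rfl | rfl
      exacts [⟨23 * M * a, by rw [ha]; ring⟩, ⟨46 * M * a, by rw [ha]; ring⟩]
    omega
  have h3 : ¬ 5 ∣ c := fun h3 => by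
    obtain ⟨u, -, h4, h5⟩ := lemC' ow (fun g => conj_mem hw) h2 (r := 5) (k := 1) (by norm_num)
      (h.card_centralizer hx ▸ h3.mul_left _)
      (fun h4 => absurd (hG ▸ h4.trans (card_subgroup_dvd_card _)) (by norm_num))
      fun i _ _ => by interval_cases i; norm_num
    exact h1 (dvd_c k (by norm_num) ow h4 h5)
  replace hj := hj (fun h4 => h1 (dvd_c_symm j k (by norm_num) h4))
    fun h4 => h3 (dvd_c_symm j h (by norm_num) h4)
  obtain ⟨m1, m2, m3, m4⟩ := M_mem h hG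
  rcases opt23 M m1 e (by simpa using he) m2 m4 (by omega) with ⟨rfl, rfl⟩ | h4
  · obtain rfl : c = 1 := m3
    obtain rfl : t = 2 := by have := h.card_eq; omega
    exact ⟨_, _, _, _, _, h⟩
  rw [← m3] at h4
  obtain ⟨s, hs, os, h5⟩ := lemC' ow (fun g => conj_mem hw) h2 (r := 2) (k := 9) (by norm_num)
    (by rw [h.card_centralizer hx]; simp at h4; omega)
    (by rw [h.card_centralizer hx]; simp at h4; omega) (by decide)
  have s1 : s ≠ 1 := fun e => by simp [e] at os
  have h6 : 23 * 22 ∣ Nat.card (N1 x ⊓ C1 s : Subgroup G) :=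
    Nat.Coprime.mul_dvd_of_dvd_of_dvd (by norm_num)
      (ord_dvd hx ⟨le_normalizer (mem_zpowers x), mem_symm hs⟩)
      (Nat.Coprime.mul_dvd_of_dvd_of_dvd (m := 11) (n := 2) (by norm_num)
        (ord_dvd ow ⟨hw, comm_mem h5.symm⟩) (ord_dvd os ⟨C1_le x hs, comm_mem rfl⟩))
  have h7 := sylB_of h hx s1 (by rw [os]; norm_num) hs h6 fun _ => mem_D h hG
  have h8 := Nat.mod_eq_zero_of_dvd (h6.trans (card_dvd_of_le inf_le_right))
  have h9 := List.all_eq_true.1 cen23 _ (ord.dvd _ (hG ▸ card_subgroup_dvd_card (C1 s)))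
  simp only [h8, bne_self_eq_false, not_small hG s1, Bool.false_or, Bool.or_eq_true,
    List.all_eq_true, List.contains_iff_mem] at h9
  replace h9 := h9.resolve_right fun h9 => by simpa [h7] using h9 _ h4
  have h10 := List.all_eq_true.1 s23 _ hj
  simp only [n23, ← (M_mem j hG).2.2.1, show 4 / e5 = t5 from j.t_eq] at h10
  refine ((Bool.or_eq_true_iff.1 h10).elim (not_ratB j (by norm_num))
    (not_noInv j hG (by norm_num) os h9 ?_)).elim
  split_ifs with h11
  · obtain ⟨y, hy, oy⟩ := exists_ord (p := 5) (Nat.dvd_of_mod_eq_zero h11)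
    exact syl5_of j hG os oy hy
  · obtain ⟨a, h12, h13, h14⟩ := ktest j (C1 s) (mt Nat.mod_eq_zero_of_dvd h11)
    rw [← hG, ← card_mul_index (C1 s), Nat.mul_div_cancel_left _ Nat.card_pos]
    exact List.any_eq_true.2 ⟨a, h12, by simp [h13, h14]⟩

end Cfsg.Lib.Spor.O24F
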