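import Cfsg.Agent.Spor.O24FDefs

/-! A subgroup with six Sylow 5-subgroups normalizes the Sylow 2-subgroup of `C(y)`. -/

set_option autoImplicit false

namespace Cfsg.Lib.Spor.O24F

open Subgroup Cfsg.Lib.Spor.Mo Cfsg.Lib.PrimeOne Cfsg.Lib.Block.Princ
open Cfsg.Lib.Spor.O7920 (instFact11 instFact5)
open Cfsg.Lib.Spor.O10200960 (instFact23)

variable {G : Type*} [Group G] [Finite G]

namespace Six

/-- The number of Sylow subgroups of prime order of a subgroup. -/
theorem card_eq_mul_sylow {p : ℕ} [hp : Fact p.Prime] {x : G} (hx : orderOf x = p)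
    (h2 : ¬ p ^ 2 ∣ Nat.card G) {H : Subgroup G} (hH : x ∈ H) :
    Nat.card H = Nat.card (N1 x ⊓ H : Subgroup G) * Nat.card (Sylow p H) := by
  obtain ⟨P⟩ : Nonempty (Sylow p H) := inferInstance
  have h3 := zpowers_le.2 hH
  have h4 : Nat.card ((zpowers x).subgroupOf H) = p := by
    rw [Cfsg.Lib.Solv.card_subgroupOf_of_le h3, Nat.card_zpowers, hx]
  obtain ⟨Q, hQ⟩ := Cfsg.Lib.Block.PS.exists_sylow_eq P (Cfsg.Lib.Block.PS.card_sylow_eq (h4 ▸ card_subgroup_dvd_card _)
    (fun h => h2 (h.trans (card_subgroup_dvd_card H))) P) h4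
  rw [← Cfsg.Lib.Solv.card_subgroupOf, subgroupOf_normalizer_eq h3, ← hQ, Q.card_eq_index_normalizer]
  exact (card_mul_index _).symm

section

variable {p : ℕ} [hp : Fact p.Prime]

omit [Finite G] hp in
theorem mem_of_smul {x : G} (hx : orderOf x = p) {P : Sylow p G} (h : x • P = P) :
    x ∈ (P : Subgroup G) := by
  have h1 : IsPGroup p (zpowers x) := IsPGroup.of_card (n := 1) (by rw [Nat.card_zpowers, hx, pow_one])
  have h2 := h1.inf_normalizer_sylow P
  exact (h2.le ⟨mem_zpowers x, Sylow.smul_eq_iff_mem_normalizer.1 h⟩).2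

omit hp in
theorem eq_zpowers (hP : ∀ P : Sylow p G, Nat.card P = p) {x : G} (hx : orderOf x = p)
    {P : Sylow p G} (h : x ∈ (P : Subgroup G)) : (P : Subgroup G) = zpowers x := by
  symm
  refine eq_of_le_of_card_ge (zpowers_le.2 h) ?_
  rw [Nat.card_zpowers, hx]
  exact (hP P).le

omit [Finite G] in
theorem order_of_mem (hP : ∀ P : Sylow p G, Nat.card P = p) {x : G} (hx : x ≠ 1)
    {P : Sylow p G} (h : x ∈ (P : Subgroup G)) : orderOf x = p := by
  have h1 : orderOf x ∣ p := by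
    rw [← hP P]
    exact orderOf_dvd_natCard _ h
  rcases (Nat.dvd_prime hp.out).1 h1 with h2 | h2
  · exact absurd (orderOf_eq_one_iff.1 h2) hx
  · exact h2

omit [Finite G] hp in
theorem exists_sylow {x : G} (hx : orderOf x = p) : ∃ P : Sylow p G, x ∈ (P : Subgroup G) := by
  have h1 : IsPGroup p (zpowers x) := IsPGroup.of_card (n := 1) (by rw [Nat.card_zpowers, hx, pow_one])
  obtain ⟨P, hP⟩ := h1.exists_le_sylow
  exact ⟨P, hP (mem_zpowers x)⟩

/-- An element that normalizes all Sylow subgroups centralizes them. -/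
theorem comm_of_fix (hP : ∀ P : Sylow p G, Nat.card P = p) (h1 : 1 < Nat.card (Sylow p G)) {k x : G}
    (hk : ∀ P : Sylow p G, k • P = P) (hx : orderOf x = p) : k * x = x * k := by
  obtain ⟨P, hxP⟩ := exists_sylow hx
  by_contra hne
  have hc : k * x * k⁻¹ * x⁻¹ ≠ 1 := fun h => hne (by
    rw [mul_inv_eq_one, mul_inv_eq_iff_eq_mul] at h
    exact h)
  have h2 : k * x * k⁻¹ * x⁻¹ ∈ (P : Subgroup G) :=
    mul_mem ((mem_normalizer_iff.1 (Sylow.smul_eq_iff_mem_normalizer.1 (hk P)) x).1 hxP) (inv_mem hxP)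
  have h3 := order_of_mem hP hc h2
  have h4 : ∀ Q : Sylow p G, (k * x * k⁻¹ * x⁻¹) • Q = Q := fun Q => by
    have h5 : k⁻¹ • x⁻¹ • Q = x⁻¹ • Q := by
      rw [inv_smul_eq_iff]
      exact (hk _).symm
    rw [mul_smul, mul_smul, mul_smul, h5, smul_inv_smul, hk]
  obtain ⟨Q, hQ⟩ : ∃ Q : Sylow p G, Q ≠ P := by
    have := Finite.one_lt_card_iff_nontrivial.1 h1
    exact exists_ne P
  exact hQ (Sylow.ext ((eq_zpowers hP h3 (mem_of_smul h3 (h4 Q))).trans (eq_zpowers hP h3 h2).symm))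

end

/-- A 2-element that centralizes an element of order 5 fixes all six Sylow 5-subgroups. -/
theorem fix_all (hP : ∀ P : Sylow 5 G, Nat.card P = 5) (h6 : Nat.card (Sylow 5 G) = 6) {y u : G}
    (hy : orderOf y = 5) (hc : u * y = y * u) {k : ℕ} (hu : u ^ 2 ^ k = 1) (P : Sylow 5 G) :
    u • P = P := by
  classical
  obtain ⟨P0, h0⟩ := exists_sylow hy
  have e0 := eq_zpowers hP hy h0
  have hcomm : ∀ g ∈ zpowers y, u * g = g * u := by
    rintro _ ⟨i, rfl⟩
    exact (Commute.zpow_right hc i).eq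
  have u0 : u • P0 = P0 := by
    rw [Sylow.smul_eq_iff_mem_normalizer]
    refine centralizer_le_normalizer _ ?_
    exact fun g hg => (hcomm g (e0.le hg)).symm
  have hU : IsPGroup 2 (zpowers u) := by
    obtain ⟨j, -, hj⟩ := (Nat.dvd_prime_pow Nat.prime_two).1 (orderOf_dvd_of_pow_eq_one hu)
    exact IsPGroup.of_card (n := j) (by rw [Nat.card_zpowers, hj])
  have hfix : ∀ Q : Sylow 5 G, Q ∈ MulAction.fixedPoints (zpowers u) (Sylow 5 G) ↔ u • Q = Q := by
    intro Q
    constructor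
    · exact fun h => h ⟨u, mem_zpowers u⟩
    · rintro h ⟨g, hg⟩
      exact (zpowers_le (H := MulAction.stabilizer G Q)).2 h hg
  obtain ⟨P1, h1, hne⟩ := hU.exists_fixed_point_of_prime_dvd_card_of_fixed_point (Sylow 5 G)
    (by rw [h6]; norm_num) ((hfix P0).2 u0)
  rw [hfix] at h1
  let f : zpowers y → Sylow 5 G := fun g => (g : G) • P1
  have hf : Function.Injective f := by
    intro a b hab
    by_contra hn
    have h2 : ((b : G)⁻¹ * a) • P1 = P1 := by
      rw [mul_smul, inv_smul_eq_iff]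
      exact hab
    have h3 : (b : G)⁻¹ * a ∈ (P0 : Subgroup G) := e0.ge (mul_mem (inv_mem b.2) a.2)
    have h4 : (b : G)⁻¹ * a ≠ 1 := fun h => hn (Subtype.ext (inv_mul_eq_one.1 h).symm)
    have h5 := order_of_mem hP h4 h3
    exact hne (Sylow.ext ((eq_zpowers hP h5 h3).trans (eq_zpowers hP h5 (mem_of_smul h5 h2)).symm))
  have h7 : P0 ∉ Set.range f := by
    rintro ⟨g, hg⟩
    have h2 : (g : G) • P0 = P0 := by
      rw [Sylow.smul_eq_iff_mem_normalizer]
      exact le_normalizer (H := (P0 : Subgroup G)) (e0.ge g.2)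
    exact hne (by
      have h3 : (g : G) • P1 = (g : G) • P0 := hg.trans h2.symm
      exact (smul_left_cancel _ h3).symm)
  have h8 : insert P0 (Set.range f) = Set.univ := by
    refine Set.eq_of_subset_of_ncard_le (Set.subset_univ _) ?_
    rw [Set.ncard_univ, h6, Set.ncard_insert_of_notMem h7, Set.ncard_range_of_injective hf,
      Nat.card_zpowers, hy]
  have h9 : P ∈ insert P0 (Set.range f) := h8 ▸ Set.mem_univ P
  rcases h9 with rfl | ⟨g, rfl⟩
  · exact u0
  · show u • (g : G) • P1 = (g : G) • P1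
    rw [← mul_smul, hcomm g g.2, mul_smul, h1]

end Six

variable {c : ℕ} {y : G} {T : Subgroup G}

omit [Finite G] in
theorem Six.not25 (h : L5 c y T) : ¬ 5 ^ 2 ∣ Nat.card G := by
  rw [h.card]
  norm_num

omit [Finite G] in
theorem Six.pow_eq (h : L5 c y T) {u : G} (hu : u ∈ T) : u ^ 2 ^ 6 = 1 := by
  have h1 : orderOf u ∣ Nat.card T := orderOf_dvd_natCard _ hu
  have h2 := h.cT
  refine orderOf_dvd_iff_pow_eq_one.1 (h1.trans ?_)
  rcases h.hc with h3 | h3
  · rw [show Nat.card T = 4 by omega]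
    norm_num
  · rw [show Nat.card T = 64 by omega]
    norm_num

theorem L5.six (h : L5 c y T) {H : Subgroup G} (hT : T ≤ H) (hy : y ∈ H)
    (h6 : Nat.card H = 6 * Nat.card (N1 y ⊓ H : Subgroup G)) :
    (∀ g ∈ H, ∀ u ∈ T, g * u * g⁻¹ ∈ T) ∧
      ∃ y' : G, orderOf y' = 5 ∧ y' ∉ zpowers y ∧ T ≤ C1 y' := by
  have h1 := Six.card_eq_mul_sylow h.oy (Six.not25 h) hy
  have hS : Nat.card (Sylow 5 H) = 6 := by
    rw [h6, mul_comm] at h1
    exact (Nat.eq_of_mul_eq_mul_left Nat.card_pos h1).symm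
  have oy : orderOf (⟨y, hy⟩ : H) = 5 := by rw [← Subgroup.orderOf_coe]; exact h.oy
  have hP : ∀ P : Sylow 5 H, Nat.card P = 5 := Cfsg.Lib.Block.PS.card_sylow_eq (oy ▸ orderOf_dvd_natCard _)
    (fun k => (Six.not25 h) (k.trans (card_subgroup_dvd_card H)))
  have hK : ∀ u (hu : u ∈ T) (P : Sylow 5 H), (⟨u, hT hu⟩ : H) • P = P := fun u hu P =>
    Six.fix_all hP hS oy (Subtype.ext (mem_centralizer_singleton_iff.1 (h.le hu))) (k := 6)
      (Subtype.ext (Six.pow_eq h hu)) P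
  have hS1 : 1 < Nat.card (Sylow 5 H) := by omega
  refine ⟨fun g hg u hu => ?_, ?_⟩
  · have h2 : ∀ P : Sylow 5 H, (⟨g, hg⟩ * ⟨u, hT hu⟩ * (⟨g, hg⟩ : H)⁻¹) • P = P := fun P => by
      rw [mul_smul, mul_smul, hK u hu, smul_inv_smul]
    have h3 := congrArg Subtype.val (Six.comm_of_fix hP hS1 h2 oy)
    refine h.two _ (mem_centralizer_singleton_iff.2 h3) 6 ?_
    rw [conj_pow, Six.pow_eq h hu, mul_one, mul_inv_cancel]
  · obtain ⟨P0, h0⟩ := Six.exists_sylow oy
    obtain ⟨Q, hQ⟩ : ∃ Q : Sylow 5 H, Q ≠ P0 := by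
      have := Finite.one_lt_card_iff_nontrivial.1 hS1
      exact exists_ne P0
    obtain ⟨x, hx⟩ := exists_prime_orderOf_dvd_card' (G := Q) 5 (by rw [hP Q])
    have ox : orderOf (x : H) = 5 := by rw [Subgroup.orderOf_coe]; exact hx
    refine ⟨((x : H) : G), by rw [Subgroup.orderOf_coe]; exact ox, ?_, fun u hu => ?_⟩
    · rintro ⟨i, hi⟩
      have h2 : (x : H) ∈ (P0 : Subgroup H) := by
        have h3 : (x : H) = (⟨y, hy⟩ : H) ^ i := Subtype.ext hi.symm
        rw [h3]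
        exact zpow_mem h0 i
      exact hQ (Sylow.ext ((Six.eq_zpowers hP ox x.2).trans (Six.eq_zpowers hP ox h2).symm))
    · exact mem_centralizer_singleton_iff.2
        (congrArg Subtype.val (Six.comm_of_fix hP hS1 (hK u hu) ox))

end Cfsg.Lib.Spor.O24F
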