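import Cfsg.Agent.Spor.O24Gen
import Cfsg.Agent.Solv.PGroupNormal
import Cfsg.Agent.SporChar.LargeX

/-! The interplay of an elementary group of order `64` and an element of order seven. -/

namespace Cfsg.Lib.Spor.O24

open Subgroup Cfsg.Lib.Solv Cfsg.Lib.Known Cfsg.Lib.Local
open scoped Pointwise

variable {G : Type*} [Group G]

theorem mem_c1 {g x : G} : g ∈ centralizer ({x} : Set G) ↔ g * x = x * g :=
  mem_centralizer_singleton_iff

theorem card_rel (A B : Subgroup G) : A.relIndex B * Nat.card (A ⊓ B : Subgroup G) = Nat.card B := by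
  rw [← inf_relIndex_right, ← card_subgroupOf_of_le inf_le_right, relIndex, index_mul_card]

theorem conj_zp {g z c : G} (hg : g * z = z * g) (hc : c ∈ zpowers z) : g * c * g⁻¹ = c := by
  obtain ⟨n, rfl⟩ := hc
  rw [mul_inv_eq_iff_eq_mul]
  exact Commute.zpow_right hg n

theorem comm_of_sq {P : Subgroup G} (h : ∀ p ∈ P, p * p = 1) {a b : G} (ha : a ∈ P) (hb : b ∈ P) :
    a * b = b * a := by
  rw [← inv_eq_of_mul_eq_one_right (h _ (mul_mem ha hb)), mul_inv_rev,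
    inv_eq_of_mul_eq_one_right (h a ha), inv_eq_of_mul_eq_one_right (h b hb)]

/-- The elements of `C(z)` that centralise `N` modulo `z`. -/
def cm (N : Subgroup G) (z : G) : Subgroup G where
  carrier := {g | g * z = z * g ∧ ∀ n ∈ N, g * n * g⁻¹ * n⁻¹ ∈ zpowers z}
  one_mem' := ⟨by simp, fun n _ => by simp⟩
  mul_mem' := fun {a b} ha hb => ⟨Commute.mul_left ha.1 hb.1, fun n hn => by
    have := mul_mem ((conj_zp ha.1 (hb.2 n hn)).symm ▸ hb.2 n hn) (ha.2 n hn)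
    convert this using 1; group⟩
  inv_mem' := fun {a} ha => ⟨Commute.inv_left ha.1, fun n hn => by
    have h1 := inv_mem (ha.2 n hn)
    have := (conj_zp (Commute.inv_left ha.1) h1).symm ▸ h1
    convert this using 1; group⟩

theorem cm_inv {N : Subgroup G} {z g x : G} (hg : g * z = z * g)
    (hN : ∀ n ∈ N, g⁻¹ * n * g⁻¹⁻¹ ∈ N) (hx : x ∈ cm N z) : g * x * g⁻¹ ∈ cm N z :=
  ⟨(Commute.mul_left hg hx.1).mul_left (Commute.inv_left hg), fun n hn => by
    have h1 := hx.2 _ (hN n hn)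
    have := (conj_zp hg h1).symm ▸ h1
    convert this using 1; group⟩

variable [Finite G]

theorem card_inf_ge {A B J : Subgroup G} (hA : A ≤ J) (hB : B ≤ J) :
    Nat.card A * Nat.card B ≤ Nat.card (A ⊓ B : Subgroup G) * Nat.card J := by
  have h1 := card_rel A J
  rw [inf_eq_left.2 hA] at h1
  rw [← card_rel A B, ← h1]
  have := relIndex_le_of_le_right (H := A) hB index_ne_zero_of_finite
  calc _ = A.relIndex B * (Nat.card A * Nat.card (A ⊓ B : Subgroup G)) := by ring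
    _ ≤ A.relIndex J * (Nat.card A * Nat.card (A ⊓ B : Subgroup G)) := Nat.mul_le_mul_right _ this
    _ = _ := by ring

theorem card_le_two {A B : Subgroup G} {z : G} (hz : orderOf z = 2) (f : G → G)
    (hf : ∀ b ∈ B, f b ∈ zpowers z) (h : ∀ a ∈ B, ∀ b ∈ B, f a = f b → a⁻¹ * b ∈ A) :
    Nat.card B ≤ 2 * Nat.card (A ⊓ B : Subgroup G) := by
  rw [← card_rel A B, ← hz, ← Nat.card_zpowers]
  refine Nat.mul_le_mul_right _ (Nat.card_le_card_of_injective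
    (fun q : B ⧸ A.subgroupOf B => (⟨f q.out, hf _ q.out.2⟩ : zpowers z)) fun a b e => ?_)
  rw [← a.out_eq, ← b.out_eq]
  exact QuotientGroup.eq.2 (h _ a.out.2 _ b.out.2 (Subtype.mk.inj e))

theorem card_le_cent {B : Subgroup G} {z u : G} (hz : orderOf z = 2) (hu : u ∈ cm B z) :
    Nat.card B ≤ 2 * Nat.card (centralizer {u} ⊓ B : Subgroup G) :=
  card_le_two hz (fun b => u * b * u⁻¹ * b⁻¹) hu.2 fun a _ b _ e => mem_c1.2 (by
    have : a⁻¹ * b * u = a⁻¹ * (u * b * u⁻¹ * b⁻¹)⁻¹ * u * b := by group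
    rw [this, ← show u * a * u⁻¹ * a⁻¹ = u * b * u⁻¹ * b⁻¹ from e]; group)

theorem mem_zp {z c : G} (hz : orderOf z = 2) (hc : c ∈ zpowers z) : c = 1 ∨ c = z := by
  obtain ⟨n, rfl⟩ := (mem_powers_iff_mem_zpowers).2 hc
  rw [show (fun x => z ^ x) n = z ^ (n % 2) from hz ▸ (pow_mod_orderOf z n).symm]
  rcases Nat.mod_two_eq_zero_or_one n with h | h <;> simp [h]

theorem card_le_four {X : Type*} [Group X] [Finite X] {x : X} (h4 : x ^ 4 = 1) (h2 : x * x ≠ 1)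
    (h16 : ¬ 16 ∣ Nat.card X) {B : Subgroup X} (hB : ∀ b ∈ B, b * b = 1) : Nat.card B ≤ 4 := by
  have hp : IsPGroup 2 B := fun b => ⟨1, Subtype.ext (by simpa [pow_two] using hB b b.2)⟩
  obtain ⟨k, hk⟩ := hp.exists_card_eq
  have h1 := card_mul_index B
  by_contra h
  have h3 : ¬ 2 ∣ B.index := fun ⟨m, hm⟩ => h16 (by
    obtain ⟨j, rfl⟩ : ∃ j, k = j + 3 := by
      refine ⟨k - 3, ?_⟩
      by_contra h5
      have : k ≤ 2 := by omega
      interval_cases k <;> omega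
    rw [← h1, hk, hm]; exact ⟨2 ^ j * m, by ring⟩)
  obtain ⟨Q, hQ⟩ := (show IsPGroup 2 (zpowers x) from fun g => ⟨2, Subtype.ext (by
    obtain ⟨n, hn⟩ := g.2
    simp only [SubgroupClass.coe_pow, ← hn, OneMemClass.coe_one]
    rw [← zpow_natCast, ← zpow_mul, mul_comm, zpow_mul, zpow_natCast, show 2 ^ 2 = 4 from rfl, h4,
      one_zpow])⟩).exists_le_sylow
  obtain ⟨g, rfl⟩ := MulAction.exists_smul_eq X (hp.toSylow h3) Q
  obtain ⟨b, hb, rfl⟩ := hQ (mem_zpowers x)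
  exact h2 (((MulAut.conj g).map_mul b b).symm.trans (by rw [hB b hb, map_one]))

/-- The data of the configuration. -/
structure Fr (s z y : G) (S P R : Subgroup G) : Prop where
  oz : orderOf z = 2
  oy : orderOf y = 7
  cS : Nat.card S = 1024
  SH : ∀ g ∈ S, g * z = z * g
  yH : y * z = z * y
  sS : ∀ g ∈ S, g * s * g⁻¹ * s⁻¹ ∈ zpowers z
  sz : s ∉ zpowers z
  sP : s ∈ P
  zP : z ∈ P
  PS : P ≤ S
  cP : Nat.card P = 64
  sq : ∀ p ∈ P, p * p = 1
  CP : ∀ g, (∀ p ∈ P, p * g = g * p) → g ∈ P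
  nT : ¬ S ≤ centralizer {s}
  c : ∀ B ≤ S ⊓ centralizer {s}, (∀ g ∈ S ⊓ centralizer {s}, ∀ b ∈ B, g * b * g⁻¹ ∈ B) → ¬ B ≤ P →
    ∃ u ∈ B, Nat.card (centralizer {u} ⊓ P : Subgroup G) ≤ 16
  d : ∀ B ≤ S ⊓ centralizer {s}, (∀ b ∈ B, b * b = 1) →
    Nat.card B ≤ 4 * Nat.card (P ⊓ B : Subgroup G)
  RS : R ≤ S
  Rn : ∀ g, g * z = z * g → ∀ r ∈ R, g * r * g⁻¹ ∈ R
  f : ∀ M : Subgroup G, (∀ m ∈ M, m * z = z * m) → (∀ g, g * z = z * g → ∀ m ∈ M, g * m * g⁻¹ ∈ M) →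
    y ∉ M → M ≤ R
  g : ∀ x ∈ R, y * x = x * y → x ∈ zpowers z
  h : Nat.card R = 1024 ∨ (Nat.card R = 128 ∧ 16 ≤ Nat.card (P ⊓ R : Subgroup G))

namespace Fr

variable {s z y : G} {S P R : Subgroup G} (F : Fr s z y S P R)
include F

theorem zR : z ∈ R := by
  refine F.f (zpowers z) (fun m hm => ?_) (fun g hg m hm => (conj_zp hg hm).symm ▸ hm)
    (fun h => ?_) (mem_zpowers z)
  · rcases mem_zp F.oz hm with rfl | rfl <;> simp
  · have := orderOf_dvd_of_mem_zpowers h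
    rw [F.oz, F.oy] at this; omega

theorem modS {X : Set G} (hX : X ⊆ R) (hy : ∀ x ∈ X, y * x * y⁻¹ ∈ X) (h1 : 1 ∈ X) (hz : z ∈ X) :
    X.ncard % 7 = 2 := by
  have : Fact (Nat.Prime 7) := ⟨Nat.prime_seven⟩
  have h := ncard_mod (F.oy ▸ pow_orderOf_eq_one y) hy
  have e : {x ∈ X | y * x = x * y} = {1, z} := by
    refine Set.ext fun x => ⟨fun hx => mem_zp F.oz (F.g x (hX hx.1) hx.2), ?_⟩
    rintro (rfl | rfl)
    exacts [⟨h1, by simp⟩, ⟨hz, F.yH⟩]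
  rwa [e, Set.ncard_pair (ne_one_of_orderOf_two F.oz).symm] at h

theorem modA {A : Subgroup G} (hA : A ≤ R) (hy : ∀ x ∈ A, y * x * y⁻¹ ∈ A) (hz : z ∈ A) :
    Nat.card A = 2 ∨ Nat.card A = 16 ∨ Nat.card A = 128 ∨ Nat.card A = 1024 := by
  have h := F.modS (X := A) hA hy (one_mem A) hz
  rw [← Nat.card_coe_set_eq] at h
  obtain ⟨k, hk, e⟩ := (Nat.dvd_prime_pow Nat.prime_two (m := 10)).1
    (F.cS ▸ card_dvd_of_le (hA.trans F.RS) : Nat.card A ∣ 1024)
  change Nat.card A % 7 = 2 at h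
  rw [e] at h ⊢
  interval_cases k <;> simp at h ⊢

theorem cm_le {N : Subgroup G} (hN : N ≤ R) (hn : ∀ g, g * z = z * g → ∀ m ∈ N, g * m * g⁻¹ ∈ N)
    (h : ¬ N ≤ zpowers z) : cm N z ≤ R := by
  refine F.f _ (fun m hm => hm.1) (fun g hg m => cm_inv hg (hn _ (Commute.inv_left hg))) fun hy =>
    h fun n hn => F.g n (hN hn) ?_
  have h1 := hy.2 n hn
  have h2 : y * y * n = n * (y * y) := by
    have h3 : y * y * n = (y * (y * n * y⁻¹ * n⁻¹) * y⁻¹) * (y * n * y⁻¹ * n⁻¹) * (n * (y * y)) := by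
      group
    rw [h3, conj_zp F.yH h1]
    rcases mem_zp F.oz h1 with h | h <;> rw [h]
    · simp
    · rw [← pow_two, ← F.oz, pow_orderOf_eq_one, one_mul]
  have h3 : y = (y * y) ^ 4 := by
    rw [← pow_two, ← pow_mul, show 2 * 4 = 7 + 1 from rfl, pow_succ, ← F.oy, pow_orderOf_eq_one,
      one_mul]
  rw [h3]
  exact Commute.pow_left h2 4

theorem ab {J A : Subgroup G} (hJ : J ≤ R) (hy : ∀ x ∈ J, y * x * y⁻¹ ∈ J) (hA : A ≤ J)
    (hz : z ∈ A) (hc : ∀ a ∈ A, ∀ b ∈ A, a * b = b * a) (h2 : Nat.card J ≤ 2 * Nat.card A) :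
    ∀ a ∈ J, ∀ b ∈ J, a * b = b * a := by
  have h1 := F.modA hJ hy (hA hz)
  have h3 := card_le_of_le hA
  by_cases h : ∀ x ∈ A, y * x * y⁻¹ ∈ A
  · have := F.modA (hA.trans hJ) h hz
    exact eq_of_le_of_card_ge hA (by omega) ▸ hc
  have hA' : A.map (MulAut.conj y).toMonoidHom ≤ J := by
    rintro _ ⟨a, ha, rfl⟩; exact hy a (hA ha)
  have h4 : A ⊔ A.map (MulAut.conj y).toMonoidHom = J := by
    refine eq_of_le_of_card_ge (sup_le hA hA') (h2.trans ?_)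
    obtain ⟨k, hk⟩ := card_dvd_of_le (le_sup_left : A ≤ A ⊔ A.map (MulAut.conj y).toMonoidHom)
    have h5 : k ≠ 1 := fun h5 => h fun x hx =>
      (eq_of_le_of_card_ge le_sup_left (by rw [hk, h5, mul_one])).ge
        (mem_sup_right (mem_map_of_mem (MulAut.conj y).toMonoidHom hx))
    have h6 : k ≠ 0 := fun h6 => Nat.card_pos.ne' (by rw [hk, h6, mul_zero])
    rw [hk, mul_comm]
    exact Nat.mul_le_mul_left _ (by omega)
  have h5 : A ⊓ A.map (MulAut.conj y).toMonoidHom ≤ J ⊓ centralizer J := fun c hc' =>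
    ⟨hA hc'.1, fun j hj => mem_c1.1 ((h4.ge.trans (sup_le (fun a ha => mem_c1.2 (hc a ha c hc'.1)) (by
      rintro _ ⟨a, ha, rfl⟩
      obtain ⟨b, hb, rfl⟩ := hc'.2
      exact mem_c1.2 (by rw [← map_mul, ← map_mul, hc a ha b hb])))) hj)⟩
  have h6 := card_inf_ge hA hA'
  rw [card_map_of_injective (MulAut.conj y).injective] at h6
  have h7 := card_le_of_le h5
  have h8 := F.modA (A := J ⊓ centralizer J) (inf_le_left.trans hJ) (fun x hx => ⟨hy x hx.1,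
    fun j hj => by
      have h9 : y⁻¹ * j * y ∈ J := by
        have : ∀ n, y ^ n * j * (y ^ n)⁻¹ ∈ J := fun n => by
          induction n with
          | zero => simpa using hj
          | succ n ih => convert hy _ ih using 1; rw [pow_succ']; group
        have h10 : y ^ 6 = y⁻¹ := eq_inv_of_mul_eq_one_left (by
          rw [← pow_succ, ← show orderOf y = 6 + 1 from F.oy, pow_orderOf_eq_one])
        simpa [h10] using this 6
      calc j * (y * x * y⁻¹) = y * (y⁻¹ * j * y * x) * y⁻¹ := by group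
        _ = _ := by rw [hx.2 _ h9]; group⟩)
    ⟨hA hz, fun j hj => F.SH j (F.RS (hJ hj))⟩
  have h9 : Nat.card J ≤ 4 * Nat.card (J ⊓ centralizer J : Subgroup G) := by
    refine Nat.le_of_mul_le_mul_right ?_ (Nat.card_pos (α := J))
    nlinarith
  have h10 := card_le_of_le (inf_le_left : J ⊓ centralizer J ≤ J)
  have h11 : J ⊓ centralizer J = J := eq_of_le_of_card_ge inf_le_left (by omega)
  exact fun a ha b hb => (h11.ge hb).2 a ha

theorem cR : 128 ≤ Nat.card R := by rcases F.h with h | h <;> omega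

theorem nab : ¬ R ≤ zpowers z := fun h => by
  have := card_le_of_le h
  have := F.cR
  rw [Nat.card_zpowers, F.oz] at *; omega

theorem UR : cm R z ≤ R := F.cm_le le_rfl F.Rn F.nab

theorem sU : s ∈ cm R z := ⟨comm_of_sq F.sq F.sP F.zP, fun r hr => by
  convert inv_mem (F.sS r (F.RS hr)) using 1; group⟩

theorem zU : z ∈ cm R z := ⟨rfl, fun r hr => by rw [← F.SH r (F.RS hr)]; simp⟩

theorem Un (g : G) (hg : g * z = z * g) (u : G) (hu : u ∈ cm R z) : g * u * g⁻¹ ∈ cm R z :=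
  cm_inv hg (F.Rn _ (Commute.inv_left hg)) hu

theorem not_ab {J : Subgroup G} (hJ : J ≤ R) (hy : ∀ x ∈ J, y * x * y⁻¹ ∈ J) (hP : P ≤ J)
    (h : Nat.card J = 128) : False := by
  have h1 := F.ab hJ hy hP F.zP (fun a ha b hb => comm_of_sq F.sq ha hb) (by rw [h, F.cP])
  have := card_le_of_le (show J ≤ P from fun j hj => F.CP j fun p hp => h1 p (hP hp) j hj)
  rw [h, F.cP] at this; omega

theorem ne_big : Nat.card R ≠ 1024 := fun h => by
  obtain rfl : R = S := eq_of_le_of_card_ge F.RS (by rw [h, F.cS])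
  have h1 : centralizer {s} ⊓ cm R z ≤ P := by
    by_contra h1
    obtain ⟨u, hu, h2⟩ := F.c (centralizer {s} ⊓ cm R z) (fun x hx => ⟨F.UR hx.2, hx.1⟩) (fun g hg b hb =>
      ⟨Subgroup.mul_mem _ (Subgroup.mul_mem _ hg.2 hb.1) (Subgroup.inv_mem _ hg.2), F.Un g (F.SH g hg.1) b hb.2⟩) h1
    have := card_le_cent (B := P) F.oz ⟨hu.2.1, fun p hp => hu.2.2 p (F.PS hp)⟩
    rw [F.cP] at this; omega
  have h2 := F.ab F.UR (F.Un y F.yH) inf_le_right ⟨mem_c1.2 F.sU.1.symm, F.zU⟩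
    (fun a ha b hb => comm_of_sq F.sq (h1 ha) (h1 hb))
    (card_le_cent F.oz ⟨F.sU.1, fun u hu => F.sU.2 u (F.UR hu)⟩)
  have h3 : cm R z ≤ P := fun u hu => h1 ⟨mem_c1.2 (h2 u hu s F.sU), hu⟩
  have h4 : P ≤ R ⊓ centralizer (cm R z) := fun p hp =>
    ⟨F.PS hp, fun u hu => comm_of_sq F.sq (h3 hu) hp⟩
  have h5 : ∀ x ∈ R ⊓ centralizer (cm R z), y * x * y⁻¹ ∈ R ⊓ centralizer (cm R z : Set G) :=
    fun x hx => ⟨F.Rn y F.yH x hx.1, fun u hu => by
      calc u * (y * x * y⁻¹) = y * (y⁻¹ * u * y⁻¹⁻¹ * x) * y⁻¹ := by group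
        _ = _ := by rw [hx.2 _ (F.Un _ (Commute.inv_left F.yH) u hu)]; group⟩
  have h6 := card_le_of_le h4
  rw [F.cP] at h6
  rcases F.modA inf_le_left h5 (h4 F.zP) with h7 | h7 | h7 | h7
  · omega
  · omega
  · exact F.not_ab inf_le_left h5 h4 h7
  · have h8 : R ⊓ centralizer (cm R z) = R := eq_of_le_of_card_ge inf_le_left (by rw [h7, h])
    exact F.nT fun g hg => mem_c1.2 ((h8.ge hg).2 s F.sU).symm

theorem small : Nat.card R = 128 ∧ 16 ≤ Nat.card (P ⊓ R : Subgroup G) := F.h.resolve_left F.ne_big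

theorem big {N : Subgroup G} (hN : N ≤ R) (hn : ∀ g, g * z = z * g → ∀ m ∈ N, g * m * g⁻¹ ∈ N)
    (hz : z ∈ N) (h : Nat.card N ≠ 2) : ¬ N ≤ zpowers z ∧ 16 ∣ Nat.card N := by
  have h1 := F.modA hN (hn y F.yH) hz
  refine ⟨fun h2 => ?_, by omega⟩
  have := card_le_of_le h2
  rw [Nat.card_zpowers, F.oz] at this; omega

theorem ne_two {N : Subgroup G} (hz : z ∈ N) {x : G} (hx : x ∈ N) (h : x ∉ zpowers z) :
    Nat.card N ≠ 2 := fun h1 =>
  h ((eq_of_le_of_card_ge (zpowers_le.2 hz) (by rw [h1, Nat.card_zpowers, F.oz])).ge hx)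

theorem full {N : Subgroup G} (hN : N ≤ R) (hn : ∀ g, g * z = z * g → ∀ m ∈ N, g * m * g⁻¹ ∈ N)
    (hz : z ∈ N) (h : Nat.card N ≠ 2) {X : Set G} (hX : X ⊆ R) (hy : ∀ x ∈ X, y * x * y⁻¹ ∈ X)
    (hm : ∀ x ∈ X, ∀ n ∈ N, x * n ∈ X) (hA : ∀ p ∈ P, p ∈ R → p ∈ X) : ∀ r ∈ R, r ∈ X := by
  obtain ⟨h1, h2⟩ := F.big hN hn hz h
  obtain ⟨h3, h4⟩ := F.small
  have h5 : (N : Set G) ⊆ X := fun n hn => one_mul n ▸ hm 1 (hA 1 (one_mem _) (one_mem _)) n hn
  have h6 := F.modS hX hy (h5 (one_mem N)) (h5 hz)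
  have h7 : Nat.card N ∣ X.ncard := by
    have e : X * (N : Set G) = X := Set.Subset.antisymm
      (by rintro _ ⟨x, hx, n, hn, rfl⟩; exact hm x hx n hn) fun x hx => ⟨x, hx, 1, one_mem N, mul_one x⟩
    rw [← Nat.card_coe_set_eq, ← e, card_mul_eq_card_subgroup_mul_card_quotient]
    exact dvd_mul_right _ _
  have h8 : (R : Set G).ncard = 128 := (Nat.card_coe_set_eq _).symm.trans h3
  have h9 := Set.ncard_le_ncard hX
  by_cases h10 : X.ncard = 128
  · exact fun r hr => (Set.eq_of_subset_of_ncard_le hX (by omega)).ge hr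
  have h11 : X.ncard = 16 := by have := h2.trans h7; omega
  have h12 : ((P ⊓ R : Subgroup G) : Set G) = X :=
    Set.eq_of_subset_of_ncard_le (fun p hp => hA p hp.1 hp.2) (h11.le.trans h4)
  exact (F.not_ab le_rfl (F.Rn y F.yH) (fun p hp => F.cm_le hN hn h1 ⟨F.SH p (F.PS hp), fun n hn => by
    rw [comm_of_sq F.sq hp (h12.ge (h5 hn)).1]; simp⟩) h3).elim

theorem sq_mem : ∀ r ∈ R, r * r ∈ zpowers z := by
  let V : Subgroup G :=
    { carrier := {u | u ∈ cm R z ∧ u * u ∈ zpowers z}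
      one_mem' := ⟨one_mem _, by simp⟩
      mul_mem' := fun {a b} ha hb => ⟨mul_mem ha.1 hb.1, by
        convert mul_mem (mul_mem ha.2 ((inv_mem ha.1).2 b (F.UR hb.1))) hb.2 using 1; group⟩
      inv_mem' := fun {a} ha => ⟨inv_mem ha.1, by simpa using inv_mem ha.2⟩ }
  have key : ∀ {g u}, g * z = z * g → u * u ∈ zpowers z → g * u * g⁻¹ * (g * u * g⁻¹) ∈ zpowers z :=
    fun {g u} hg hu => by
      have := (conj_zp hg hu).symm ▸ hu
      convert this using 1; group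
  have hz : z ∈ V := ⟨F.zU, mul_mem (mem_zpowers z) (mem_zpowers z)⟩
  refine fun r hr => (F.full (N := V) (fun u hu => F.UR hu.1) (fun g hg u hu =>
    ⟨F.Un g hg u hu.1, key hg hu.2⟩) hz (F.ne_two hz ⟨F.sU, F.sq s F.sP ▸ one_mem _⟩ F.sz)
    (X := {q | q ∈ R ∧ q * q ∈ zpowers z}) (fun q hq => hq.1)
    (fun q hq => ⟨F.Rn y F.yH q hq.1, key F.yH hq.2⟩) (fun q hq u hu =>
      ⟨mul_mem hq.1 (F.UR hu.1), ?_⟩) (fun p hp h => ⟨h, F.sq p hp ▸ one_mem _⟩) r hr).2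
  convert mul_mem (mul_mem hq.2 (inv_mem (hu.1.2 _ (inv_mem hq.1)))) hu.2 using 1; group

theorem cent : centralizer (R : Set G) ≤ zpowers z := by
  by_contra h
  obtain ⟨c, hc, h1⟩ := SetLike.not_le_iff_exists.1 h
  have hZ : centralizer (R : Set G) ≤ R := fun c hc =>
    F.UR ⟨(hc z F.zR).symm, fun r hr => by rw [← hc r hr]; simp⟩
  have hn : ∀ g, g * z = z * g → ∀ c ∈ centralizer (R : Set G),
      g * c * g⁻¹ ∈ centralizer (R : Set G) := fun g hg c hc r hr => by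
    calc r * (g * c * g⁻¹) = g * (g⁻¹ * r * g⁻¹⁻¹ * c) * g⁻¹ := by group
      _ = _ := by rw [hc _ (F.Rn _ (Commute.inv_left hg) r hr)]; group
  have hz : z ∈ centralizer (R : Set G) := fun r hr => F.SH r (F.RS hr)
  have z2 : z * z = 1 := F.sq z F.zP
  let N : Subgroup G :=
    { carrier := {u | u ∈ centralizer (R : Set G) ∧ u * u = 1}
      one_mem' := ⟨one_mem _, mul_one 1⟩
      mul_mem' := fun {a b} ha hb => ⟨mul_mem ha.1 hb.1, by
        rw [mul_assoc, ← mul_assoc b, ha.1 b (hZ hb.1), mul_assoc, hb.2, mul_one, ha.2]⟩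
      inv_mem' := fun {a} ha => ⟨inv_mem ha.1, by rw [← mul_inv_rev, ha.2, inv_one]⟩ }
  have key : ∀ g u : G, u * u = 1 → g * u * g⁻¹ * (g * u * g⁻¹) = 1 := fun g u hu => by
    rw [conj_mul, hu]; simp
  have h2 := card_le_two (A := N) (B := centralizer (R : Set G)) F.oz (fun b => b * b)
    (fun b hb => F.sq_mem b (hZ hb)) fun a ha b hb e => ⟨mul_mem (inv_mem ha) hb, by
      rw [mul_assoc, ← mul_assoc b, (inv_mem ha) b (hZ hb), mul_assoc, ← show a * a = b * b from e]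
      group⟩
  have h3 := Nat.le_of_dvd Nat.card_pos (F.big hZ hn hz (F.ne_two hz hc h1)).2
  rw [inf_eq_left.2 fun u hu => hu.1] at h2
  have h4 := F.full (N := N) (fun u hu => hZ hu.1) (fun g hg u hu => ⟨hn g hg u hu.1, key g u hu.2⟩)
    ⟨hz, z2⟩ (by omega) (X := {q | q ∈ R ∧ q * q = 1}) (fun q hq => hq.1)
    (fun q hq => ⟨F.Rn y F.yH q hq.1, key y q hq.2⟩) (fun q hq u hu => ⟨mul_mem hq.1 (hZ hu.1), by
      rw [mul_assoc, ← mul_assoc u, ← hu.1 q hq.1, mul_assoc, hu.2, mul_one, hq.2]⟩)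
    fun p hp h => ⟨h, F.sq p hp⟩
  have h5 : ∀ r ∈ R, r * r = 1 := fun r hr => (h4 r hr).2
  have h6 : R ≤ S ⊓ centralizer {s} := fun r hr =>
    ⟨F.RS hr, mem_c1.2 (comm_of_sq h5 hr (F.UR F.sU))⟩
  obtain ⟨u, hu, h7⟩ := F.c R h6 (fun g hg => F.Rn g (F.SH g hg.1)) fun h => by
    have := card_le_of_le h
    have := F.cR
    rw [F.cP] at *; omega
  have h8 := card_le_of_le (show P ⊓ R ≤ centralizer {u} ⊓ P from fun p hp =>
    ⟨mem_c1.2 (comm_of_sq h5 hp.2 hu), hp.1⟩)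
  have := F.d R h6 h5
  have := F.cR
  omega

theorem preLX : PreLX R z :=
  ⟨⟨F.zR, F.oz, fun q hq => F.SH q (F.RS hq), F.sq_mem, fun _ _ h _ => F.cent h⟩, F.cent,
    fun g hg => mem_normalizer_fintype (F.Rn g (mem_c1.1 hg)), F.nab⟩

end Fr

end Cfsg.Lib.Spor.O24
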