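import Cfsg.Agent.Spor.MoFast
import Cfsg.Agent.Spor.O7920A

/-!
A simple group of order 443520: the principal blocks for the primes 11, 5 and 7.
-/

set_option autoImplicit false

namespace Cfsg.Lib.Spor.O443520

open Cfsg.Lib.Spor.Mo

def R : List (ℕ × ℕ) := [(2, 7), (3, 2), (5, 1), (7, 1), (11, 1)]

def D : List ℕ :=
  [443520, 221760, 147840, 110880, 88704, 73920, 63360, 55440, 49280, 44352, 40320, 36960, 31680,
   29568, 27720, 24640, 22176, 21120, 20160, 18480, 15840, 14784, 13860, 13440, 12672, 12320,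
   11088, 10560, 10080, 9856, 9240, 8064, 7920, 7392, 7040, 6930, 6720, 6336, 6160, 5760, 5544,
   5280, 5040, 4928, 4620, 4480, 4224, 4032, 3960, 3696, 3520, 3465, 3360, 3168, 3080, 2880, 2772,
   2688, 2640, 2520, 2464, 2310, 2240, 2112, 2016, 1980, 1920, 1848, 1760, 1680, 1584, 1540, 1440,
   1408, 1386, 1344, 1320, 1260, 1232, 1155, 1152, 1120, 1056, 1008, 990, 960, 924, 896, 880, 840,
   792, 770, 720, 704, 693, 672, 660, 640, 630, 616, 576, 560, 528, 504, 495, 480, 462, 448, 440,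
   420, 396, 385, 384, 360, 352, 336, 330, 320, 315, 308, 288, 280, 264, 252, 240, 231, 224, 220,
   210, 198, 192, 180, 176, 168, 165, 160, 154, 144, 140, 132, 128, 126, 120, 112, 110, 105, 99,
   96, 90, 88, 84, 80, 77, 72, 70, 66, 64, 63, 60, 56, 55, 48, 45, 44, 42, 40, 36, 35, 33, 32, 30,
   28, 24, 22, 21, 20, 18, 16, 15, 14, 12, 11, 10, 9, 8, 7, 6, 5, 4, 3, 2, 1]

theorem ord : Ord 443520 R D := Ord.mk' (by decide +kernel)

def ls : List (List ℤ) :=
  [[-10, 12, 45, -384], [-10, 45, -120, -252], [-10, 45, 56, -252], [-21, -120, 210, 210], [45,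
   -120, 144, 210], [-10, 45, -120, 210], [-10, -21, -120, 210], [-21, 45, 45, 210], [-10, -120,
   -120, 144], [-10, 45, -120, 144], [45, 45, 45, 144], [-10, -21, 45, -120], [-10, 12, 12, -120],
   [-10, 45, 45, 45], [-10, -21, 45, 45], [-10, 12, 12, -21]]

noncomputable def f11 (M e : ℕ) (l : List ℤ) : Bool :=
  (M == 8064 && e == 5 && ls.contains l) ||
  (443520 / (11 * M * e) % 2 == 0 && colAllF 443520 11 M e D l (· % 11 == 0) fun _ _ => false)

theorem e11 : enumF 443520 11 R D (fun _ => true) (fun _ _ => false) f11 = true := by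
  decide +kernel

noncomputable def f7 (k j : List ℤ) (C : ℕ) (K J : List ℤ) (M e : ℕ) (l : List ℤ) : Bool :=
  tauBad 11 5 l || tauBad 5 4 l || colJ2 443520 7 M e l C 11 2 k K 5 1 j J fun A =>
    (M == 21120 && e == 3 && C == 384 && [k, j, l, K, J, A] == [[-21, 45, 45, 210], [21, -99, -154],
      [-55, 99], [-8, 5, -3, -3, 2], [7, 5, 3, 10], [-3, 7, 3]]) ||
    (443520 / (7 * M * e) % 2 == 0 &&
      colAllF 443520 7 M e D l (fun C => C % 7 == 0 && C % 11 != 0 && C % 5 != 0) fun C A =>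
        colK 443520 5 22176 4 j C (fun _ => true) [] 1 fun J => clash 5 C (6 / e) 1 l A j J)

noncomputable def f5 (k : List ℤ) (M e : ℕ) (l : List ℤ) : Bool :=
  tauBad 11 5 l ||
  (443520 / (5 * M * e) % 2 == 0 &&
    colAllF 443520 5 M e D l (fun C => C % 5 == 0 && C % 11 != 0) fun C A =>
      colK 443520 11 8064 5 k C (fun _ => true) [] 1 fun K => clash 11 C (4 / e) 2 l A k K) ||
  (M == 22176 && e == 4 && (degBad 5 k l || tauBad 5 4 k ||
    colAllF 443520 5 M e D l (fun C => C % 128 == 0 && C % 11 != 0 && C % 5 != 0) fun C A =>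
      colJ 443520 11 8064 5 k C 5 1 l A fun K => clash 11 C 1 2 l A k K ||
        enumF 443520 7 R D (fun d => okD 11 k d && okD 5 l d)
          (fun M e => 443520 / (7 * M * e) % 11 == 0 || 443520 / (7 * M * e) % 5 == 0)
          (f7 k l C K A)))

theorem e5 : (ls.all fun k => enumF 443520 5 R D (okD 11 k)
    (fun M e => 443520 / (5 * M * e) % 11 == 0) (f5 k)) = true := by
  decide +kernel

end Cfsg.Lib.Spor.O443520
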