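import Cfsg.Agent.Spor.F24LA
import Cfsg.Agent.Spor.FmCore
import Cfsg.Agent.Spor.FxSym

/-! `PΩ₈⁺(3):S₃`: the classes of elements of order 3 of the simple subgroup. -/

set_option autoImplicit false
set_option maxRecDepth 100000
set_option Elab.async false

namespace Cfsg.Lib.Spor.F24.LL

open Cfsg.Lib.Spor.Bulk Cfsg.Lib.Spor.Fm

noncomputable def s3om : ℕ := (nat_lit 0xc76c4bb60b1ab19acd98c96695e94493d9209078cb8c988a7076f66e86c06696214e44b449f48f44743243042f42d42b42a42941e41a41741541341241140b4023fd3fc3f73f13ed3ec3eb3e83e73e53e33e13e03de3d43d23cf3ce3cc3ca3c93c83c53c13b73b43b13ae3a43a139e39739538237f37c37737136e36a36835f35e34b34634534434334133933433032e32031e31330b3083053032fe2fd2f82f42ee2eb2e42e12da2d92d62d52d12d02cd2cc2bd2b52b12aa2a62a029e29c29829329028b28a28828727f27527226326125a25225124e24824724323b23723022221b21020d20b1fe1f91f21ee1ed1ec1e61e11d41d31cf1cb1c81c41c31bb1b91b81b71af1aa1a71a51a419e19c19119018b18a18218016c15e15414714614314213e13d13b13613512f12a12212111b11a11511110f10d1041000f90f60f50f30f20f00ef0e50db0da0d30d00cf0c90c30c00bc0ba0b50a10a009c09309208f08e08d08908808307c07907806f06c06906805e05d05b05a04b04a04904804304203e03a03102c02702402302201b00f00e00c004)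
noncomputable def s3t1 : ℕ := (nat_lit 0x20cf67bc3201037a409fd05853f5f4f985bee09077abce110980be21aff7e09cca3d34188044c2c10872542888490063e1e046c1283a0d8a40a13c70301889100a61da20dea030028d435142c4103f6b3b12e7038a893ed24ab2c947a3b2a4a68520af86cd14caf4120f00179940d1d20cfc120ab84a49c483c87c3c15ab10e8f508891657470c99a1e4c3645e4b21831dce205ab9461153b11bed071874541f7036d24010bb9438455bbad285b022a1aa493dad918d76284c52af679840ac6789106840738b5dead6719126c036b51146b63bb57e073b98c58960c154205c3a1c8b226662056a4e34a35b4ab4eb90e69e69bc192b833360dc5a5c9d41c376411cfedd2e868be9a1724504de58159747d61a6c36a559a109ae612a1806460cac8f2205a3a978dc19858ceaa5da25d2c2)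
noncomputable def s3t2 : ℕ := (nat_lit 0x1ff0a7b415f0f981bf618fe7bc220cf47dbf2030486c0204f583bce12fa85b104ccb08010f4cc51188ce391d9e166727884864d913af8e87177b81b4a3492a52c176a9753a0e20ad51e562704d5a2a0393554ba3d979d457482043ae755bc904e415a78028921b7cc8302996016b7250342c21242fc5c092e091d2223026d28755b184a42f4fb4d4ed15e911a4a60f8c450c71b9f81ed0581413086238e9bc99029b4187d259311a2d41964b46b212e0a2765233d14656ea943855508f09e18103048a97010d122d81f270e006233b0667f01a01b884363c036ed61aeccc953bb0134d7728f4dcee318a4e6495e2e470e8119a432c2340201487429a9ccca56068b6795938c6aeb45850003f6697d2636633204ab10ab59a8a016045c4db5a2218a7c64a38dee1462b8a840578799ca8)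
noncomputable def s3t3 : ℕ := (nat_lit 0x202f97b40a14f881bfa190d79c21f6f7823fdf9067ec01eb0583bd212fa8580494cc399ec9e826e81c5c896f8adc297531195eb03f0c9ca3e3a2558e16491b09049228c5c47f5d1304e4e379e000300f934965c1e1792c5001025b8932020596e309a79bcc064b20a6ca3ba50ea9a4fafda47a75201a0f220ad568b902b358acf1b064ecb61334c6686469454606313b1b4282ba3cfa674c0ddb220673ad88e431b81106a088904a9b472e1441023855147c2182c88b32d241aa555701042a0688b0388b52b047a914285024f13817452ee0c03584e90436d183a1c08d3a6d320e5aeb777b61380e3029cd6542db58bebb7439c341d732a55a873883c6a2a0d9858c7959264d0ed391b814a116b0cd22f5e0ed7af02c88818031a2a8ccb142350b052522a0ac65560fc2e1e5f2ac8483)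
noncomputable def s3t4 : ℕ := (nat_lit 0x20d037a425ed0079c161af57cbf9f4f885bee0907813de190880c29faff7e2012cad332f8c4cb4ab14729714ad070063e10cf08c081b5de585a811060f0914d462e168ad6eda1f1d0ac5f2838d98e1441c0401f5798dbc35523c966e4601dd22311e0093ad12aab152a8321046e6f651202a85058a8960830930b45e6b29c9e9f6225116752da4182a6288ecfe89119a4caeb3f2804e765eb0866d04f1f47eec67211b6e60b850582506ba9cebf438c160863cb0d9a260990930a5340c832b82026dbe6711365b0826a1b88e115cb80389a353191ca20481d14ee6b970509940924d6184e029cab6649115cab39b4c6cb13d1ec18ed679b0006074370023a22aec060523175a4590f0907a8f0db1dd21627235aa715e248420e641c85e1a6eae9e05426b8894571a075e2aa4994964a1)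
noncomputable def s3t5 : ℕ := (nat_lit 0x214f386c2de8f77f425ed087e40deb0182be5f102863f60efa823fe01067d8b99a600f0bcd4d4572ccc2b26d939e21903b286eb1120e18a3a38060dc20708f198795103868443f811ca3908b10f6773980caae2152387ad96d3a1de10268490835769d50c6207af920085da58cecb4dac112573222856992f96134b8731696c7c0520c7c82163ac429e278c916e00b1f502a91980118872e8a59c71509480c5b3f33d841b0d295d8f0390713ad01332172e740300827606adcb86b12a3c7e544990c8e781b0c5100237a5178d324055baa768a6012dc31a7d5e9722b1982a874a5428745a38c0a510ea90921f6c141aa276ba8d40534888c18d2008b5e44c3d02d6a566f31d5a17493908c3b6b2f4ca6c4e32444bf6f998504b5d04d5859750c0d05e61aac80aa21234da85251a5dca6)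
noncomputable def s3t6 : ℕ := (nat_lit 0x1f2f77f41de6f47ec32070980c020aff813e214f584435f50b833f1ecfb820ed5a696c85978553428572dd480fd90a423a8d6c1245b5d3c664ab885c8a3e869543262b18489c6501c96335e964e2865c0e15e1d37854ce4c76a1d4cbf5f24c3e3a2fab982c91508cf0ab69b8530204094c4ab708b2c9e626d248025b083a0ac8d1ca01acf16c038c0a223250687a61a59a0720525c285a5db9478426e2316073271a9bccc6739d1063288004e9b4d209684147ab14aa7611940a4a5aa0cfc2c58b9008db54160bce0079e59e5d620c018f26a8f492b3368d9a81c04bacee9f1f2e8a4d13086426a90c38c8a222a31ce8d2019fddc063e135649d133bcec1e0114112370682c804418a14566e74990aec00ba6508e6040d4d62938170d84850238eaec17b7d9a1b3da45e04314085d42d)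
noncomputable def s3t7 : ℕ := (nat_lit 0x20f067cbfa08fb7c3ddfef3813f200f57b3ea17037a429fb0d86416030884b7dde5e19994d06163afcb8222c0397a4f3d3846a23203a8e259698e156b05c1e10c473da695aa94b3803c29468ddce543fbb972d776a00400a6f065169d21934dac40694058ba6d3912449311cd14060a0f438283e14cb495610689cca6938c74c825a7c4211660991042740119a322b96ca47672b44d8a44c9312041732b130a375ab8de776da79d20c539d1b88c3f1900aa21b26d8a44151ada8c3002a18c1b5f0480431470f07c792f81ceac92b23d089c12b2c5c10590c168d537005b015349758089098acaaf20191876f0552f16ab3501f5c46778a143ea11f8902e394a1a92e6607b3d4c516724d0e083024494d0391c0c627049202cd95dabd02b60c20c16d65b9145ac152a09bab117bb03a34)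
noncomputable def s3t8 : ℕ := (nat_lit 0x21b0c85c2a130883c1a0b0481c0a03007fbf9fafc7dbe9f2f87bbd9eaf47999080212630c305a4716dc6bb09b69043c022fdd6694d9d57c353d2f038cb13b38680c2f379541732b24529c001f9ac8c17b5cb0a8330c130201f8c45ae611ac48e26241a15a9900a789edf2e92952d9458196a101d9d88c2276abc1eb32ba1c6e085831cf625532d9cec53c34c48706e38436511caf4a4d4591c832e40b1dc14b82c8d81ad05a1049a6d72a5da4811d124346041bbd26f22b1fc569678bb89c6c52a143e904fa4944f0150c8d4942f80cf21e4892d90a15d33caa6e448390c1d2198d9ad55ca91b6677118412841602d567d0ab291e4446bb1ba284d30114a7703a88ac263201825374108b82e1f0456eac1981cc4a33e1bd3a3d4a814a8c4282b87088399d028cc38b4404e93584940d8)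
noncomputable def s3t9 : ℕ := (nat_lit 0x1fd0883be619097d3ee0506803d5fef67e3f61b018242df10a7a40e0af37b93092f06c3b9daa26f23dd25834b2952e471a7da46d6a958642f6d9f94e6c6b90d1ae8699ad56aa67ae59acc792dc8ec87531910c461b0982c02bbb038364a2e948b8732d812b439ac9624418854282c3e22c7aa84529824ce51af9420b35278fa9c1a0a932984ba59c00c73a492246639d5be8c68365e223439487c84502d502805f92094d13d9e8f213569d806740b12d0a63008012aef70b89266839198ca6e0107c34a52c979ba5c6e2bc7ed43fbacaa5429900a250279389acb33a7512da110148a332135882862f9c5ca3c5e9bc2eae06875341b58174b4302d8b9582d3c0d45228138984a2462b24422003879783b4d864c218032cc7077159802210078dc1cbb418290408310e52004471c07464)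
noncomputable def s3t10 : ℕ := (nat_lit 0x21b0c85c2a130883c1a0b0481c0a03007fbf9fafc7dbe9f2f87bbd9eaf479931127a6c141dabe6f31dd25849b9952e471b89a4956f958ba5b27b69146c18359aae83c9ada2d067b3918cc79329922547b0910c450ad99aa65fa8876bc4a3c172c35bb1812b439b4c42b02d0e0282d55aa87aa86c95024a451bb1700b4f978949c4d8d532290889cda0c349552246751d51ac145a9c9223491010a84502d502ee3f9f93a7c3dae9642b5687806740b19ce26300801c0ef709a9ced72583cca6e01188c2a52f93464db178c4b2d42bbad0ec029a1930802e1393ccb391f5e2482381590442190962521f8f9ca3c0e1bc7215070d8543419b755e686e25c58ac09a68a296141988a246288882760f8803abd0d86832180bacd5c773c1805c10130346ebb418290408038192004471c07464)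
noncomputable def s3t11 : ℕ := (nat_lit 0x21b0c85c2a130883c1a0b0481c0a03007fbf9fafc7dbe9f2f87bbd9eaf479b2d12f0361409cec2b31dd2e873b2952e4719a8d6e046badba5b6d9f94eef34359bed469b8556aa543391824262dd922547ad98aed50b199a543faf838365dae972c37330812b439ac9623357854282c3e22c7a18453014aa432a89700b71278fa530d8d53229170a12a9449a48e8907500daac1683649288439010a84502d598ee2b92094d13d9e8f278568811c080b19ce27000990dad86927cd2302583c200031988c2601f978ba5c17968be585fb78aaa605219308027b109af239275e2da2391990b02190882522c8f9ca3c5e9bc2eae06874549b220c862d76e045582d15a68a2274b1988a8111888421e0f9d9783b1a06832cf032cc7077098492ea3130dc1c0c41a710491038e40a043a808746e)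
noncomputable def s3t12 : ℕ := (nat_lit 0x21b0c85c2a130883c1a0b0481c0a03007fbf9fafc7dbe9f2f87bbd9eaf47993092ba6c1409cbe2b31dc85834b287a7b1e1a8d66d6abacba5b2e1f9146c3410d1ae83cb84f88b542e58281792dc8e4547ad910ed50b1918a63fa8876364a1e948c37330904e339b4c82442d054ee2d68b41ca186c950c0ce32bb1700b71178fa0a1a0d40851088a1c00c7395410057500dbecd5529de22349148e2995002448ee2b92094ab74bc164130a0791c910b12c7c02008012aef6927d26303903c206e3801c32121f934644f178c4bed45fb790ec04e10052806db113ccb33a7512da112404a332135842862ca1552b40e1bc0cae06874541b583755ed76e25c58ac3c26930274b19990cc62b2562763108178bd4d98434cf1cacc70ad15a945ca3130dc1cbb4194d6a740f85c8c843a98c7464)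
noncomputable def s3 : Lc := ⟨270, 9, 9, 511, 12, 4095, s3om, (NT.node 7 (NT.node 4 (NT.node 2 (NT.leaf (nat_lit 0x2fa87156bd65abc3fb1cd4) s3t1) (NT.node 3 (NT.leaf (nat_lit 0xcbe861f9c93f417fefd6) s3t2) (NT.leaf (nat_lit 0x47b4c1be18fb18d4e23e) s3t3))) (NT.node 5 (NT.leaf (nat_lit 0xaba52a37c6bf6a3f45) s3t4) (NT.node 6 (NT.leaf (nat_lit 0x3d9141c28f7d7ae4ea45cad1) s3t5) (NT.leaf (nat_lit 0xe3ac631c23fa6473d312) s3t6)))) (NT.node 10 (NT.node 8 (NT.leaf (nat_lit 0x4d42b23b78b387) s3t7) (NT.node 9 (NT.leaf (nat_lit 0xd3765bc5cba654658c85ac) s3t8) (NT.leaf (nat_lit 0x14aba42bcb12) s3t9))) (NT.node 11 (NT.leaf (nat_lit 0x3fd95314e9d834b1ed14b4) s3t10) (NT.node 12 (NT.leaf (nat_lit 0xe5f5683e17d13dfd3a6e) s3t11) (NT.leaf (nat_lit 0x6cfa13ac) s3t12))))), [187,227,96,60,80,259]⟩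
theorem s3k1 : NT.all (NT.node 2 (NT.leaf (nat_lit 0x2fa87156bd65abc3fb1cd4) s3t1) (NT.node 3 (NT.leaf (nat_lit 0xcbe861f9c93f417fefd6) s3t2) (NT.leaf (nat_lit 0x47b4c1be18fb18d4e23e) s3t3))) (s3.tabB C) = true := by decide +kernel
theorem s3k2 : NT.all (NT.node 5 (NT.leaf (nat_lit 0xaba52a37c6bf6a3f45) s3t4) (NT.node 6 (NT.leaf (nat_lit 0x3d9141c28f7d7ae4ea45cad1) s3t5) (NT.leaf (nat_lit 0xe3ac631c23fa6473d312) s3t6))) (s3.tabB C) = true := by decide +kernel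
theorem s3k3 : NT.all (NT.node 8 (NT.leaf (nat_lit 0x4d42b23b78b387) s3t7) (NT.node 9 (NT.leaf (nat_lit 0xd3765bc5cba654658c85ac) s3t8) (NT.leaf (nat_lit 0x14aba42bcb12) s3t9))) (s3.tabB C) = true := by decide +kernel
theorem s3k4 : NT.all (NT.node 11 (NT.leaf (nat_lit 0x3fd95314e9d834b1ed14b4) s3t10) (NT.node 12 (NT.leaf (nat_lit 0xe5f5683e17d13dfd3a6e) s3t11) (NT.leaf (nat_lit 0x6cfa13ac) s3t12))) (s3.tabB C) = true := by decide +kernel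
theorem s3ok : s3.OK C := Lc.ok_of (by decide +kernel) (ntAll_node (ntAll_node s3k1 s3k2) (ntAll_node s3k3 s3k4))
noncomputable def s3bσ : Sp := ⟨[874,1026,431,256,327,2365], [], []⟩
noncomputable def s3bP0 : List Step := [.der (.th (.c 327) (.th (.c 2365) (.c 431))) 2441,
  .der (.th (.c 327) (.th (.c 2365) (.th (.c 256) (.th (.c 1026) (.th (.c 431) (.th (.c 327) (.th (.c 2365) (.c 874)))))))) 705,
  .der (.th (.c 1026) (.th (.c 2365) (.th (.c 327) (.th (.c 256) (.th (.c 2365) (.th (.c 327) (.c 431))))))) 963,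
  .der (.th (.c 431) (.th (.c 327) (.th (.c 2365) (.th (.c 874) (.th (.c 327) (.c 1026)))))) 2169,
  .der (.th (.c 1026) (.th (.c 2365) (.th (.c 256) (.th (.c 1026) (.th (.c 327) (.th (.c 2365) (.th (.c 1026) (.th (.c 327) (.c 874))))))))) 1837]
theorem s3bc0 : chkL C s3bP0 s3bσ s3bσ = true := by decide +kernel
noncomputable def s3bP : List Step := s3bP0
theorem s3bc : chkL C s3bP s3bσ s3bσ = true := s3bc0
noncomputable def s3bW : List (List ℕ) := []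
theorem s3b {G : Type*} [Group G] {D : Set G} (M : Mdl G D C) :
    Nat.card (M.grp s3bσ) = 1 ∧ M.grp s3bσ = gW M.g s3bW :=
  M.ctl_of_chain s3bc (M.isBase_base) (by decide +kernel)
theorem s3loc {G : Type*} [Group G] {D : Set G} (M : Mdl G D C) : M.Loc s3 :=
  M.loc_of s3ok (B := [874,1026,431,256,327,2365]) (Mdl.IsBase.of_ctl (Ws := []) ⟨((s3b M).2).le, (s3b M).1⟩) (by decide +kernel)
theorem pc3c : s3.pcB 3 1 12 [((dig 6 (nat_lit 0x28a249208)), []), ([], [(dig 6 (nat_lit 0x2c92471c5))]), ((dig 6 (nat_lit 0xc28a249208)), [[7,12,12], (dig 6 (nat_lit 0xc30b28a2081c7145))]), ([12,12], [(dig 6 (nat_lit 0xb1c7185)), (dig 6 (nat_lit 0xc30a248206)), (dig 6 (nat_lit 0x30c2cb28a207185))]), ([], [(dig 6 (nat_lit 0xc30a248)), [11], (dig 6 (nat_lit 0x30c28a249208)), (dig 6 (nat_lit 0xc2cb28a))]), ([], [(dig 6 (nat_lit 0x2cb289208)), (dig 6 (nat_lit 0x30c2cb28a)), (dig 6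 (nat_lit 0xa289248)), [10,11,11], [12]]), ([], [(dig 6 (nat_lit 0xc30a248)), (dig 6 (nat_lit 0x30a248)), (dig 6 (nat_lit 0x28a249208)), (dig 6 (nat_lit 0x30c28a249)), [], [12,12]]), ([], [[11,11,12], (dig 6 (nat_lit 0x30c2cb)), [11,12,12], [11,11,12], [12,12], [], [12,12]]), ([], [[12], [11], [], [12], [12], [12,12], [], []]), ([], [[11,12], [12], [11,11,12], [], [], [], [12], [], []]), ([], [[12], [12], [12], [12], [], [], [], [], [], []]), ([], [[], [], [], [], [], [], [], [], [], [], []])] 1 = true := by decide +kernel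
theorem pc3 {G : Type*} [Group G] {D : Set G} (M : Mdl G D C) : Pc 3 1 12 (M.lg s3) := (s3loc M).pc pc3c
noncomputable def pc3L : List Lv := [⟨4, 243, [(wd (nat_lit 0xaba52a37c6bf6a3f45)), (wd (nat_lit 0x47b4c1be18fb18d4e23e))], (.gr [0,1,0,1,0,1,0,1,0,1,0,1,0,0])⟩, ⟨0, 243, [(wd (nat_lit 0xc6a5e3f3e7b39af83125)), (wd (nat_lit 0x8ba49b973dfd3a6568)), (wd (nat_lit 0x48f925f16ea6e26a8efd))], (.gr [1,0,2,1,0,2,1,0,1,2,1,2])⟩, ⟨5, 9, [(wd (nat_lit 0x3d5b52f3ae3f2d)), (wd (nat_lit 0xf6fc7f2ca7a2f7bcbc))], (.tr (dig 18 (nat_lit 0x2130463411cd04c00120a048280005040140)))⟩]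
theorem pc3card {G : Type*} [Group G] {D : Set G} (M : Mdl G D C) : 3 ^ (12 + 1 - 1) ≤ Nat.card (pcT (M.lg s3) 12 1) :=
  M.le_card (P := pc3L) (by decide +kernel) ((s3loc M).gW_le_pcT (E := [[4], [3], (dig 6 (nat_lit 0x30c2ca289246185144041)), (dig 6 (nat_lit 0x289248207144082)), (dig 6 (nat_lit 0x30b2ca2892081c61840c2)), (dig 6 (nat_lit 0x30b2ca2471c5143082)), (dig 6 (nat_lit 0x30b2492071c5142041))]) (by decide +kernel))
noncomputable def d3R : List (List ℕ) := [[12,10,3,1,10,15,12,6], [8,2,7,3], [1,3], [1,11,9,6,11,4], [9,6,14,13,10,5,3,4,5,6,14,10], [6,1,3,9], [9,12,11,14]]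
noncomputable def d3 : Ds := (.sym (.sym (.sym (.sym (.sym (.sym (.sym (.sym (.sym (.sym (.sym (.sym .one (.leaf 0 (wd (nat_lit 0x16ed5bfb52ea4ec78fd3f)))) (.merge [4] 1 [] (.leaf 0 (wd (nat_lit 0x3ca2d1dfd7b8a8f4b4cab2169))))) (.merge [3] 2 [12] (.merge [7] 1 [] (.leaf 0 (wd (nat_lit 0xfdbcd32a89f9ae67f2d61)))))) (.all (.spl (.merge [2] 1 [] (.merge [6] 2 [] (.leaf 2 (wd (nat_lit 0xbf2bed7f82c3a3723fe175a))))) (.spl (.merge [3] 2 [12] (.merge [7] 1 [] (.leaf 1 (wd (nat_lit 0x35a4218a341b46d2f76ed))))) (.spl (.merge [3] 1 [12,12] (.merge [7] 2 [] (.leaf 0 (wd (nat_lit 0xa743b2e37ea621f2456a))))) .one))))) (.all (.spl (.all (.spl (.merge [4] 2 [12] (.merge [7] 2 [] (.leaf 3 (wd (nat_lit 0x49f98b7b39be724bc2b1f))))) (.spl (.merge [4] 2 [12] (.merge [5] 2 [] (.leaf 4 (wd (nat_lit 0x69c72e7b5871c672a67f21))))) (.spl (.merge [4] 2 [12] (.merge [7] 1 [] (.leaf 1 (wd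 (nat_lit 0x23a6418f6969f83cb7b324))))) .one)))) (.spl (.all (.spl (.merge [4] 2 [12,12] (.merge [7] 2 [] (.leaf 2 (wd (nat_lit 0x279a6b2f3d256f9e414))))) (.spl (.merge [4] 2 [12,12] (.merge [6] 2 [] (.leaf 0 (wd (nat_lit 0xafa41ada19e21e67c7aba3))))) (.spl (.merge [4] 2 [12,12] (.merge [7] 1 [] (.leaf 1 (wd (nat_lit 0x29fbe16de1d5a7ab256b2a17))))) .one)))) (.spl (.all (.spl (.merge [4] 2 [] (.merge [7] 2 [] (.leaf 2 (wd (nat_lit 0x27df5697c56c47d2acd45))))) (.spl (.merge [4] 2 [] (.merge [6] 1 [] (.leaf 4 (wd (nat_lit 0x13a7628d45d8d381db8d3b))))) (.spl (.merge [4] 2 [] (.merge [7] 1 [] (.leaf 4 (wd (nat_lit 0xef697c138c4a136d5362))))) .one)))) .one))))) (.merge [3] 2 (dig 6 (nat_lit 0x28a249)) (.merge [4] 2 (dig 6 (nat_lit 0x30c28a)) (.all (.spl (.all (.spl (.merge [10] 2 [] (.leaf 4 (wd (nat_lit 0xe69ad79c13ca17ef8f3c9)))) (.spl (.merge [10] 2 [] (.leaf 1 (wd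 (nat_lit 0xbef6d8d5be69bac1e1c2)))) (.spl (.merge [10] 2 [] (.leaf 3 (wd (nat_lit 0xb2e8732cb39b1f486d37c3)))) .one)))) (.spl (.merge [2,3] 2 [] (.merge [10] 2 [] (.leaf 6 (wd (nat_lit 0x5ca3fe4213a23c97e17))))) (.spl (.merge [2,3] 1 [12,12] (.merge [10] 2 [] (.leaf 6 (wd (nat_lit 0x6d971ceac58ead4592b7d4))))) .one))))))) (.all (.spl (.merge [3] 1 (dig 6 (nat_lit 0x28a249)) (.all (.spl (.merge [4] 1 [11,11] (.merge [2,4] 1 [12] (.merge [9] 1 [] (.leaf 6 (wd (nat_lit 0xd7618f5a19c9fbd7e7b4)))))) (.spl (.merge [4] 1 [11,11,12] (.merge [2,4] 2 [] (.merge [9] 1 [] (.leaf 6 (wd (nat_lit 0x7e9dc5ec7cfa51cb65ae)))))) (.spl (.merge [4] 1 (dig 6 (nat_lit 0x30c2cb)) (.all (.spl (.merge [9] 1 [] (.leaf 4 (wd (nat_lit 0x4f4e132a9d617d3fc8d82f5e)))) (.spl (.merge [9] 1 [] (.leaf 4 (wd (nat_lit 0xbcb8af6fdafb43c7e1)))) (.spl (.merge [9] 1 [] (.leaf 2 (wd (nat_lit 0x7e923a4d75d5e7bd734e))))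 .one))))) .one))))) (.spl (.merge [2] 1 (dig 6 (nat_lit 0xc30b2c9)) (.merge [4] 2 [11,11] (.merge [3,4] 1 (dig 6 (nat_lit 0x30c2cb)) (.all (.spl (.merge [10] 2 [] (.leaf 5 (wd (nat_lit 0xd2b217d72e9a3f6ad51c6)))) (.spl (.merge [10] 2 [] (.leaf 6 (wd (nat_lit 0x2bd693f3ae3b84c2ec27c2)))) (.spl (.merge [10] 2 [] (.leaf 4 (wd (nat_lit 0x41ed24a7a4a3f6ad51a)))) .one))))))) (.spl (.merge [3] 2 [12,12] (.merge [4] 1 (dig 6 (nat_lit 0x30c2cb28a)) (.all (.spl (.merge (dig 6 (nat_lit 0x1030c2)) 2 [12,12] (.merge [10] 1 [] (.leaf 6 (wd (nat_lit 0x4cecb2e32a82d49f1756417a))))) (.spl (.all (.spl (.merge [10] 1 [] (.leaf 3 (wd (nat_lit 0xbc5b8fa6e2c4fe18e4578)))) (.spl (.merge [10] 1 [] (.leaf 1 (wd (nat_lit 0xfb6178c75d9e8dc678dbd)))) (.spl (.merge [10] 1 [] (.leaf 4 (wd (nat_lit 0x35ad56bfe1fbcd2efbe)))) .one)))) (.spl (.merge (dig 6 (nat_lit 0x1030c2)) 1 [12,12] (.merge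 [10] 1 [] (.leaf 6 (wd (nat_lit 0x7bca3236b6a39a62fec8cf1))))) .one)))))) .one))))) (.all (.spl (.all (.spl (.merge [3] 2 (dig 6 (nat_lit 0x30c28a249)) (.all (.spl (.merge [4] 2 [11,11,12] (.merge [2] 1 [] (.merge [9] 2 [] (.leaf 6 (wd (nat_lit 0xe3a12d52178ac1d1a61a)))))) (.spl (.merge [4] 2 (dig 6 (nat_lit 0x30c2cb)) (.merge [2] 2 [] (.merge [9] 2 [] (.leaf 6 (wd (nat_lit 0x972d8d539c7b6f78f28)))))) (.spl (.merge [4] 2 [11,11] (.all (.spl (.merge [9] 2 [] (.leaf 0 (wd (nat_lit 0x7ca71962f2565139a9b7a)))) (.spl (.merge [9] 2 [] (.leaf 2 (wd (nat_lit 0x317dca63efca316fb21e)))) (.spl (.merge [9] 2 [] (.leaf 1 (wd (nat_lit 0xac873eb132bd183b8d81d)))) .one))))) .one))))) (.spl (.merge [3] 1 (dig 6 (nat_lit 0x30c289)) (.merge [4] 2 (dig 6 (nat_lit 0xc30b2ca)) (.all (.spl (.merge [2,3,3] 1 [12] (.merge [10] 2 [] (.leaf 6 (wd (nat_lit 0xb3f656f12f8aeab3f52da))))) (.spl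 (.merge [2,3,3] 2 [] (.merge [10] 2 [] (.leaf 6 (wd (nat_lit 0x9abf15aca5e69fdc87ab))))) (.spl (.all (.spl (.merge [10] 2 [] (.leaf 1 (wd (nat_lit 0x8d8cf19ad6a58f51c584c58)))) (.spl (.merge [10] 2 [] (.leaf 2 (wd (nat_lit 0xea8213c3e6ab1ed14b3f)))) (.spl (.merge [10] 2 [] (.leaf 0 (wd (nat_lit 0x3d9513fd6b74fb56a943b41)))) .one)))) .one)))))) (.spl (.merge [2] 2 (dig 6 (nat_lit 0xc30b28a249)) (.merge [4] 1 (dig 6 (nat_lit 0x30c2cb)) (.all (.spl (.all (.spl (.merge [10] 1 [] (.leaf 4 (wd (nat_lit 0x9f5c798b8c17d34ea6eb)))) (.spl (.merge [10] 1 [] (.leaf 2 (wd (nat_lit 0x6ea131b6e4fd8a71bd37a2)))) (.spl (.merge [10] 1 [] (.leaf 4 (wd (nat_lit 0xd513cac37dfc21c16e)))) .one)))) (.spl (.merge [3] 2 [] (.merge [10] 1 [] (.leaf 6 (wd (nat_lit 0x1ad6317d159a19f169ec5))))) (.spl (.merge [3] 1 [12] (.merge [10] 1 [] (.leaf 6 (wd (nat_lit 0x481d3c3fbde7f565))))) .one))))))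 .one)))) (.spl (.all (.spl (.all (.spl (.merge [3] 1 [10] (.merge [2] 2 [12,12] (.merge [4] 1 [12] (.merge [8] 1 [] (.leaf 6 (wd (nat_lit 0x7a3a9adc4f296c4b857))))))) (.spl (.merge [3] 1 (dig 6 (nat_lit 0x30c2ca)) (.merge [2] 2 [11,11,12] (.all (.spl (.merge [8] 1 [] (.leaf 0 (wd (nat_lit 0x4bc5473d7354e94afb742)))) (.spl (.merge [8] 1 [] (.leaf 2 (wd (nat_lit 0x26e232ea94cb53d89ba8f31)))) (.spl (.merge [8] 1 [] (.leaf 1 (wd (nat_lit 0x469b8ad845c24d6cea4)))) .one)))))) (.spl (.merge [3] 1 (dig 6 (nat_lit 0x30b2ca)) (.merge [2] 2 [11] (.merge [4] 2 [] (.merge [8] 1 [] (.leaf 6 (wd (nat_lit 0x47fd2da4ad468e6b71f6))))))) .one)))) (.spl (.merge [3] 2 [12] (.merge [4] 2 [10,10,11] (.merge [2,3,4] 2 [11,11,12] (.all (.spl (.merge [10] 2 [] (.leaf 6 (wd (nat_lit 0x8d91b548efcec251c15)))) (.spl (.merge [10] 2 [] (.leaf 5 (wd (nat_lit 0xe9f6dad5da1c15bd91c4178)))) (.spl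 (.merge [10] 2 [] (.leaf 4 (wd (nat_lit 0xb78d72c1c3a3b2e4d1dfc6)))) .one))))))) (.spl (.merge [3] 1 (dig 6 (nat_lit 0x30c28a249)) (.merge [4] 1 [10,11,12] (.merge (dig 6 (nat_lit 0x1040c2)) 2 [12,12] (.all (.spl (.merge [10] 1 [] (.leaf 6 (wd (nat_lit 0x2e5c4e7deac6eac51b4bdb45)))) (.spl (.merge [10] 1 [] (.leaf 5 (wd (nat_lit 0x48de69bdb7d186aeab3f5d)))) (.spl (.merge [10] 1 [] (.leaf 3 (wd (nat_lit 0xe2a6123965c56e3f1fb412)))) .one))))))) .one)))) (.spl (.all (.spl (.merge [3] 1 [12,12] (.all (.spl (.merge [4] 1 [12] (.merge [2,4,4] 2 [12] (.merge [9] 1 [] (.leaf 6 (wd (nat_lit 0x7a4f4f3b23b7d1ecf5ed)))))) (.spl (.merge [4] 1 [12,12] (.all (.spl (.merge [9] 1 [] (.leaf 3 (wd (nat_lit 0xb9c3a1b7d45ef5f478f3)))) (.spl (.merge [9] 1 [] (.leaf 4 (wd (nat_lit 0xe7813cb5b35dca9246d)))) (.spl (.merge [9] 1 [] (.leaf 1 (wd (nat_lit 0xa6af28f9f81b4bc1fe3e)))) .one)))))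 (.spl (.merge [4] 1 [] (.merge [2,4,4] 1 [] (.merge [9] 1 [] (.leaf 6 (wd (nat_lit 0xc437a9b971b5c146c7f27)))))) .one))))) (.spl (.merge [2] 1 (dig 6 (nat_lit 0xb2ca289)) (.merge [4] 2 [12] (.merge [1,4] 1 [11,12,12] (.all (.spl (.merge [10] 2 [] (.leaf 6 (wd (nat_lit 0xad745ba41657b5f12c87)))) (.spl (.merge [10] 2 [] (.leaf 5 (wd (nat_lit 0x7ca3c2f9c91c12cfd7b)))) (.spl (.merge [10] 2 [] (.leaf 4 (wd (nat_lit 0x6c71fe13dcf59fc2ae71)))) .one))))))) (.spl (.merge [3] 2 [9,10] (.merge [4] 1 [10,10] (.all (.spl (.merge (dig 6 (nat_lit 0x41030c2)) 1 [12,12] (.merge [10] 1 [] (.leaf 6 (wd (nat_lit 0xeca654ae8edbaf27da51d))))) (.spl (.merge (dig 6 (nat_lit 0x41030c2)) 2 [] (.merge [10] 1 [] (.leaf 6 (wd (nat_lit 0xfbf6147ea7125a4132cf))))) (.spl (.all (.spl (.merge [10] 1 [] (.leaf 4 (wd (nat_lit 0x24d9131a2e1f91a9ac26f4)))) (.spl (.merge [10] 1 [] (.leaf 2 (wd (nat_lit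 0xbc67d21d9cb86a4fd3e)))) (.spl (.merge [10] 1 [] (.leaf 4 (wd (nat_lit 0x8a23149b3b879df4b1fad)))) .one)))) .one)))))) .one)))) .one))))) (.merge [3] 1 (dig 6 (nat_lit 0xc30b2ca2881c6)) (.merge [2] 1 (dig 6 (nat_lit 0x30c289208)) (.merge [1,3,3] 1 (dig 6 (nat_lit 0xc30a289)) (.all (.spl (.merge [7] 1 [10,12] (.merge [6] 2 [11] (.merge [8] 1 [12,12] (.prune 2 [])))) (.spl (.merge [7] 1 [10] (.merge [6] 2 [11] (.merge [8] 1 [12,12] (.prune 1 [])))) (.spl (.merge [7] 1 [10,12,12] (.merge [6] 2 [11] (.merge [8] 1 [12,12] (.merge [11] 2 [] (.leaf 6 (wd (nat_lit 0xe5ad5f25d1c274f5efa17))))))) .one)))))))) (.all (.spl (.merge [4] 2 (dig 6 (nat_lit 0xc2ca2081c7186)) (.merge [2,4,4] 1 [11,12,12] (.merge [1] 1 [12,12] (.prune 2 (dig 6 (nat_lit 0xc28a249)))))) (.spl (.merge [4] 2 (dig 6 (nat_lit 0x2ca2892081c7186)) (.merge [2,4,4] 2 (dig 6 (nat_lit 0x30c289208)) (.merge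 [1,4] 2 [8,8,10] (.prune 1 [11,12])))) (.spl (.merge [4] 2 (dig 6 (nat_lit 0xb2492081c7186)) (.all (.spl (.all (.spl (.merge [7] 1 [11] (.merge [6,7] 1 (dig 6 (nat_lit 0x30c2cb28a)) (.merge (dig 6 (nat_lit 0xc1c6185)) 1 [] (.prune 1 [])))) (.spl (.merge [7] 1 [11,12,12] (.merge [6,7] 1 (dig 6 (nat_lit 0x2cb28a)) (.merge (dig 6 (nat_lit 0xc1c6185)) 1 [12,12] (.prune 2 [])))) (.spl (.merge [7] 1 [11,12] (.merge [6,7] 1 (dig 6 (nat_lit 0xc2cb28a)) (.merge [2,4,4] 1 [11,12] (.merge [10] 1 [12,12] (.prune 1 []))))) .one)))) (.spl (.all (.spl (.merge [7] 1 [11,12] (.merge [6,7] 1 (dig 6 (nat_lit 0x30c2cb28a)) (.merge (dig 6 (nat_lit 0xc1c6185)) 1 [12,12] (.prune 2 [12])))) (.spl (.merge [7] 1 [11] (.merge [6,7] 1 (dig 6 (nat_lit 0x2cb28a)) (.merge (dig 6 (nat_lit 0xc1c6185)) 1 [12] (.merge [10] 1 [] (.prune 1 []))))) (.spl (.merge [7] 1 [11,12,12] (.merge [6,7] 1 (dig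 6 (nat_lit 0xc2cb28a)) (.merge [2,4,4] 2 [11] (.prune 1 [12,12])))) .one)))) (.spl (.all (.spl (.merge [7] 1 [11,12,12] (.merge [6,7] 1 (dig 6 (nat_lit 0x30c2cb28a)) (.merge (dig 6 (nat_lit 0xc1c6185)) 1 [12] (.merge [10] 1 [12] (.all (.spl (.leaf 5 (wd (nat_lit 0xc52ea54fc18f84ce9fe68))) (.spl (.leaf 4 (wd (nat_lit 0xf13b6278d8e7fbde18a9c))) (.spl (.leaf 6 (wd (nat_lit 0x8bcb2148d48fd45cba32dc5d))) .one)))))))) (.spl (.merge [7] 1 [11,12] (.merge [6,7] 1 (dig 6 (nat_lit 0x2cb28a)) (.merge (dig 6 (nat_lit 0xc1c6185)) 1 [] (.prune 1 [])))) (.spl (.merge [7] 1 [11] (.merge [6,7] 1 (dig 6 (nat_lit 0xc2cb28a)) (.merge (dig 6 (nat_lit 0xc1c6185)) 1 [12,12] (.prune 2 [12])))) .one)))) .one))))) .one))))) (.all (.spl (.all (.spl (.merge [3] 1 (dig 6 (nat_lit 0xb2ca207)) (.merge [4] 2 (dig 6 (nat_lit 0xa289248)) (.merge [1,3,3] 1 [11,11,12] (.merge [7] 2 (dig 6 (nat_lit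 0x30c28a249)) (.all (.spl (.merge [6] 1 [11,12] (.merge [9] 2 [] (.merge [11] 2 [] (.leaf 6 (wd (nat_lit 0xe2f61432d2e3f9c86e4f92)))))) (.spl (.merge [6] 1 [11] (.merge [9] 2 [] (.prune 1 []))) (.spl (.merge [6] 1 [11,12,12] (.merge [9] 2 [] (.prune 2 []))) .one)))))))) (.spl (.merge [3] 2 (dig 6 (nat_lit 0x2cb2892482071c6)) (.merge [4] 2 (dig 6 (nat_lit 0x289248)) (.merge [1,3,3] 2 [10,11,11] (.merge [7] 2 [11,12] (.all (.spl (.prune 1 [11,12,12]) (.spl (.prune 1 [11,12]) (.spl (.prune 1 [11]) .one)))))))) (.spl (.all (.spl (.merge [4] 2 [8,9,9] (.all (.spl (.merge [7] 2 (dig 6 (nat_lit 0x30c2cb289)) (.merge (dig 6 (nat_lit 0x71c4101)) 2 [11,11,12] (.merge [6] 2 [12] (.prune 2 [])))) (.spl (.merge [7] 2 (dig 6 (nat_lit 0xc2cb289)) (.merge [1,4,4] 2 [11,11,12] (.merge [6] 2 [12,12] (.prune 1 [12])))) (.spl (.merge [7] 2 (dig 6 (nat_lit 0x2cb289)) (.merge [3,4,4]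 1 [11,11] (.merge [6] 2 [] (.merge [9] 2 [12,12] (.merge [8] 1 [] (.leaf 6 (wd (nat_lit 0xcea2b7ea7c2f2414c1df8)))))))) .one))))) (.spl (.merge [4] 2 (dig 6 (nat_lit 0x30b2ca289248)) (.all (.spl (.merge [7] 2 (dig 6 (nat_lit 0xc2cb289)) (.merge [1,4,4] 1 [12] (.merge [6] 2 [] (.prune 2 [12])))) (.spl (.merge [7] 2 (dig 6 (nat_lit 0x2cb289)) (.merge (dig 6 (nat_lit 0x1c4101)) 1 [12] (.merge [6] 2 [12] (.prune 1 [])))) (.spl (.merge [7] 2 (dig 6 (nat_lit 0x30c2cb289)) (.merge (dig 6 (nat_lit 0x71c4103)) 2 [10,10] (.merge [6] 2 [12,12] (.merge [9] 2 [12] (.merge [8] 2 [] (.leaf 6 (wd (nat_lit 0x3acd3785bef4f74f4c93c5a)))))))) .one))))) (.spl (.merge [4] 2 (dig 6 (nat_lit 0xc30b289248)) (.all (.spl (.merge [7] 2 (dig 6 (nat_lit 0x2cb289)) (.merge [3,4,4] 2 [11,12] (.merge [6] 2 [12,12] (.prune 2 [12,12])))) (.spl (.merge [7] 2 (dig 6 (nat_lit 0x30c2cb289)) (.merge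 (dig 6 (nat_lit 0x71c4103)) 1 [10,10,11] (.merge [6] 2 [] (.prune 1 [12,12])))) (.spl (.merge [7] 2 (dig 6 (nat_lit 0xc2cb289)) (.all (.spl (.merge [6] 2 [12] (.merge [9] 2 [] (.all (.spl (.leaf 2 (wd (nat_lit 0xf6cf71e36a3cd5d7e95e1))) (.spl (.leaf 4 (wd (nat_lit 0x85e186abed3aceace37))) (.spl (.leaf 4 (wd (nat_lit 0x3b4a13c8b36fda9d231))) .one)))))) (.spl (.merge [6] 2 [] (.merge [9] 2 [] (.merge (dig 6 (nat_lit 0x246185)) 2 [] (.leaf 6 (wd (nat_lit 0x26c2fa8eca6c2bfba9d8)))))) (.spl (.merge [6] 2 [12,12] (.merge [9] 2 [] (.merge (dig 6 (nat_lit 0x246185)) 1 [] (.leaf 6 (wd (nat_lit 0xef7869cf47f287b7a4bd74b)))))) .one))))) .one))))) .one)))) .one)))) (.spl (.all (.spl (.merge [4] 2 (dig 6 (nat_lit 0xc2882071c6)) (.merge [3,4] 1 (dig 6 (nat_lit 0xc2cb288)) (.merge (dig 6 (nat_lit 0x2ca2482030c1)) 2 (dig 6 (nat_lit 0x30c2cb)) (.prune 2 (dig 6 (nat_lit 0x30c28a249))))))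 (.spl (.merge [4] 2 (dig 6 (nat_lit 0x2ca2482071c6)) (.all (.spl (.all (.spl (.merge [6] 2 (dig 6 (nat_lit 0x2cb289)) (.merge [7] 1 [10] (.merge [5,6,7] 1 [11,12,12] (.prune 1 [12])))) (.spl (.merge [6] 2 (dig 6 (nat_lit 0xc2cb289)) (.merge [7] 1 [10,12] (.merge [5,6,7] 1 [11,12,12] (.prune 1 [12])))) (.spl (.merge [6] 2 (dig 6 (nat_lit 0x30c2cb289)) (.merge [7] 1 [10,12,12] (.merge [5,6,7] 1 [11,12,12] (.prune 1 [])))) .one)))) (.spl (.all (.spl (.merge [6] 2 (dig 6 (nat_lit 0x30c2cb289)) (.merge [7] 1 [10] (.merge [5,6,7] 1 [11,12] (.merge [10] 1 [12,12] (.all (.spl (.leaf 4 (wd (nat_lit 0xbca1b1e145cd83b8ad69))) (.spl (.leaf 6 (wd (nat_lit 0x5c62b6b413adf6c6da849f))) (.spl (.leaf 5 (wd (nat_lit 0xe7fd2fd92e64bcdac8e48))) .one)))))))) (.spl (.merge [6] 2 (dig 6 (nat_lit 0x2cb289)) (.merge [7] 1 [10,12] (.merge [5,6,7] 1 [11,12] (.merge [10] 1 [12] (.prune 1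 []))))) (.spl (.merge [6] 2 (dig 6 (nat_lit 0xc2cb289)) (.merge [7] 1 [10,12,12] (.merge [5,6,7] 1 [11,12] (.merge [10] 1 [] (.prune 1 []))))) .one)))) (.spl (.all (.spl (.merge [6] 2 (dig 6 (nat_lit 0xc2cb289)) (.merge [7] 1 [10] (.merge [5,6,7] 1 [11] (.prune 2 [])))) (.spl (.merge [6] 2 (dig 6 (nat_lit 0x30c2cb289)) (.merge [7] 1 [10,12] (.merge [5,6,7] 1 [11] (.prune 2 [12,12])))) (.spl (.merge [6] 2 (dig 6 (nat_lit 0x2cb289)) (.merge [7] 1 [10,12,12] (.merge [5,6,7] 1 [11] (.prune 2 [])))) .one)))) .one))))) (.spl (.merge [4] 2 (dig 6 (nat_lit 0xc2cb2892482071c6)) (.merge [3] 2 [8,9,10] (.merge [1,3,3] 1 (dig 6 (nat_lit 0xc2cb28a)) (.prune 1 [10,11,11])))) .one)))) (.spl (.all (.spl (.merge [4] 1 (dig 6 (nat_lit 0xb2c9207)) (.all (.spl (.all (.spl (.merge [7] 1 (dig 6 (nat_lit 0x30c289)) (.merge [6,7,7] 1 (dig 6 (nat_lit 0x30c28a)) (.all (.spl (.merge [10]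 2 [12] (.merge (dig 6 (nat_lit 0x28a1c5)) 1 [] (.leaf 6 (wd (nat_lit 0xdeb742914ab934cf4d7ce1))))) (.spl (.merge [10] 2 [12] (.merge (dig 6 (nat_lit 0x28a1c5)) 2 [] (.leaf 6 (wd (nat_lit 0xdafe12f6f9fb75a969e))))) (.spl (.merge [10] 2 [12] (.all (.spl (.leaf 0 (wd (nat_lit 0x9c1e14f68d78b6cb617c))) (.spl (.leaf 2 (wd (nat_lit 0xe57aba1cf28ed3f1b8))) (.spl (.leaf 1 (wd (nat_lit 0xe8567b1c21dafb43c7e3))) .one))))) .one)))))) (.spl (.merge [7] 1 (dig 6 (nat_lit 0x30c289)) (.merge [6,7,7] 1 [10,10] (.merge [2,4,4] 2 [12,12] (.merge [10] 2 [] (.merge [9,10,10] 1 [] (.leaf 6 (wd (nat_lit 0x6cf8bef65c14ecfec81c4)))))))) (.spl (.merge [7] 1 (dig 6 (nat_lit 0x30c289)) (.merge [6,7,7] 1 [10,10,12] (.merge (dig 6 (nat_lit 0x6184102)) 1 [11] (.merge [10] 2 [12,12] (.merge [9,10,10] 2 [] (.leaf 6 (wd (nat_lit 0xafded2c31cf1e9cb9d8)))))))) .one)))) (.spl (.all (.spl (.merge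 [7] 1 (dig 6 (nat_lit 0x30c289)) (.merge [6,7,7] 1 [10,10] (.merge [3,4,4] 1 [11] (.merge [10] 2 [12] (.prune 1 []))))) (.spl (.merge [7] 1 (dig 6 (nat_lit 0x30c289)) (.merge [6,7,7] 1 [10,10,12] (.merge (dig 6 (nat_lit 0x307184101)) 2 [12,12] (.merge [10] 2 [] (.prune 2 []))))) (.spl (.merge [7] 1 (dig 6 (nat_lit 0x30c289)) (.merge [6,7,7] 1 (dig 6 (nat_lit 0x30c28a)) (.merge (dig 6 (nat_lit 0x1c4101)) 1 [11,12] (.merge [10] 2 [12,12] (.merge [8,10,10] 1 [] (.leaf 6 (wd (nat_lit 0x6d2e63ca347a79def1ce2)))))))) .one)))) (.spl (.all (.spl (.merge [7] 1 (dig 6 (nat_lit 0x30c289)) (.merge [6,7,7] 1 [10,10,12] (.merge (dig 6 (nat_lit 0x6184103)) 2 [12,12] (.merge [10] 2 [12] (.prune 1 []))))) (.spl (.merge [7] 1 (dig 6 (nat_lit 0x30c289)) (.merge [6,7,7] 1 (dig 6 (nat_lit 0x30c28a)) (.merge [2,4,4] 1 [] (.merge [10] 2 [] (.merge [8,10,10] 2 [] (.leaf 6 (wd (nat_lit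 0x8baf29d6d58c4cf1a1973cf15)))))))) (.spl (.merge [7] 1 (dig 6 (nat_lit 0x30c289)) (.merge [6,7,7] 1 [10,10] (.merge (dig 6 (nat_lit 0x307184101)) 1 [12] (.merge [10] 2 [12,12] (.prune 2 []))))) .one)))) .one))))) (.spl (.merge [4] 1 [7,8,10] (.merge [3,4] 1 (dig 6 (nat_lit 0xb2ca249208)) (.merge (dig 6 (nat_lit 0x2ca2482030c1)) 1 (dig 6 (nat_lit 0x30c2ca208)) (.merge [7] 1 (dig 6 (nat_lit 0x30c2cb28a249)) (.prune 2 [10,11]))))) (.spl (.merge [4] 1 (dig 6 (nat_lit 0xb28a249207)) (.merge [3] 2 (dig 6 (nat_lit 0xc30b28a249208)) (.merge [1,3,3] 2 (dig 6 (nat_lit 0xb28a208)) (.merge [7] 1 [11,12,12] (.prune 2 [10,11]))))) .one)))) .one))))) (.all (.spl (.all (.spl (.all (.spl (.merge [4] 2 (dig 6 (nat_lit 0xc30b2c7186)) (.merge [2,4,4] 1 (dig 6 (nat_lit 0x30c2ca289)) (.merge [3] 2 [12] (.prune 2 (dig 6 (nat_lit 0x28a249)))))) (.spl (.merge [4] 2 (dig 6 (nat_lit 0x30c2ca289247186))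 (.merge [2,4,4] 2 (dig 6 (nat_lit 0x30c249208)) (.merge [3,4] 1 (dig 6 (nat_lit 0x30a288)) (.prune 1 (dig 6 (nat_lit 0x28a249)))))) (.spl (.merge [4] 2 (dig 6 (nat_lit 0xa247186)) (.all (.spl (.all (.spl (.merge [7] 2 (dig 6 (nat_lit 0xc2cb289)) (.merge [5,7,7] 1 (dig 6 (nat_lit 0x30c2cb)) (.merge [6,7] 1 [12,12] (.merge [10] 2 [] (.all (.spl (.leaf 6 (wd (nat_lit 0xc15cb21c3c3adcb72d13e))) (.spl (.leaf 5 (wd (nat_lit 0xdf8b23f3ca3f7))) (.spl (.leaf 3 (wd (nat_lit 0xa7f1b6d741af5e32e4d813b))) .one)))))))) (.spl (.merge [7] 2 (dig 6 (nat_lit 0x2cb289)) (.merge [5,7,7] 1 (dig 6 (nat_lit 0x30c2cb)) (.merge [6,7] 1 [12,12] (.prune 2 [12,12])))) (.spl (.merge [7] 2 (dig 6 (nat_lit 0x30c2cb289)) (.merge [5,7,7] 1 (dig 6 (nat_lit 0x30c2cb)) (.merge [6,7] 1 [12,12] (.prune 1 [12,12])))) .one)))) (.spl (.all (.spl (.merge [7] 2 (dig 6 (nat_lit 0xc2cb289)) (.merge [5,7,7]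 1 [11,11,12] (.merge [6,7] 1 [] (.merge [10] 2 [] (.prune 1 []))))) (.spl (.merge [7] 2 (dig 6 (nat_lit 0x2cb289)) (.merge [5,7,7] 1 [11,11,12] (.merge [6,7] 1 [] (.prune 2 [12])))) (.spl (.merge [7] 2 (dig 6 (nat_lit 0x30c2cb289)) (.merge [5,7,7] 1 [11,11,12] (.merge [6,7] 1 [] (.prune 1 [12,12])))) .one)))) (.spl (.all (.spl (.merge [7] 2 (dig 6 (nat_lit 0xc2cb289)) (.merge [5,7,7] 1 [11,11] (.merge [6,7] 1 [12] (.merge [10] 2 [] (.prune 1 []))))) (.spl (.merge [7] 2 (dig 6 (nat_lit 0x2cb289)) (.merge [5,7,7] 1 [11,11] (.merge [6,7] 1 [12] (.prune 2 [12,12])))) (.spl (.merge [7] 2 (dig 6 (nat_lit 0x30c2cb289)) (.merge [5,7,7] 1 [11,11] (.merge [6,7] 1 [12] (.prune 1 [12])))) .one)))) .one))))) .one)))) (.spl (.all (.spl (.merge [4] 1 (dig 6 (nat_lit 0xa289206)) (.merge [2,4,4] 2 [8,10,12] (.merge [3] 2 (dig 6 (nat_lit 0x30a248)) (.all (.spl (.all (.spl (.all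 (.spl (.all (.spl (.merge [11] 1 [] (.leaf 6 (wd (nat_lit 0x8d4a76a19f1e49ae9f8)))) (.spl (.merge [11] 1 [] (.leaf 6 (wd (nat_lit 0x8f76e438f54e2ed81dc9f94a)))) (.spl (.merge [11] 1 [] (.leaf 4 (wd (nat_lit 0xb3eacb2c42b7d1ec1a13fd8)))) .one)))) (.spl (.all (.spl (.merge [11] 1 [] (.leaf 6 (wd (nat_lit 0x5a9fe2ae7ea4c9fd28d)))) (.spl (.merge [11] 1 [] (.leaf 6 (wd (nat_lit 0xaceb638f54d36bf6a3f7e)))) (.spl (.merge [11] 1 [] (.leaf 1 (wd (nat_lit 0x5bc31cb4cd3fd4a2ec2)))) .one)))) (.spl (.all (.spl (.merge [11] 1 [] (.leaf 6 (wd (nat_lit 0x9dbf1cb4cd21e8f4f7c2)))) (.spl (.merge [11] 1 [] (.leaf 6 (wd (nat_lit 0xbd9fe6b19acf25658e5ae81)))) (.spl (.merge [11] 1 [] (.leaf 3 (wd (nat_lit 0xe31f415db6815c5d2c8bfb)))) .one)))) .one)))) (.spl (.all (.spl (.all (.spl (.merge [11] 1 [] (.leaf 4 (wd (nat_lit 0x8e83e19e1cba19b18dc)))) (.spl (.merge [11] 1 [] (.leaf 6 (wd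 (nat_lit 0xc8b39ec49fbd4ba62)))) (.spl (.merge [11] 1 [] (.leaf 6 (wd (nat_lit 0x6cf9f17d3de4c31faef16)))) .one)))) (.spl (.all (.spl (.merge [11] 1 [] (.leaf 6 (wd (nat_lit 0xf3eb56a6e6bc53ef541b9)))) (.spl (.merge [11] 1 [] (.leaf 5 (wd (nat_lit 0x9bea3179f41b1fc46dc6efb3)))) (.spl (.merge [11] 1 [] (.leaf 5 (wd (nat_lit 0x658b232c139b2f69b157)))) .one)))) (.spl (.all (.spl (.merge [11] 1 [] (.leaf 5 (wd (nat_lit 0xdef945ca6d7ae961f91412)))) (.spl (.merge [11] 1 [] (.leaf 4 (wd (nat_lit 0xeb81f7dfc2c31db7f374c7)))) (.spl (.merge [11] 1 [] (.leaf 4 (wd (nat_lit 0x2ab4f28f6fc8d891b6af13)))) .one)))) .one)))) (.spl (.all (.spl (.all (.spl (.merge [11] 1 [] (.leaf 3 (wd (nat_lit 0x2c6bf136b63eab41b576589)))) (.spl (.merge [11] 1 [] (.leaf 5 (wd (nat_lit 0xbeb628f28c58b32a5de9c)))) (.spl (.merge [11] 1 [] (.leaf 3 (wd (nat_lit 0xc8df1ae8e8a2eca6dadb)))) .one))))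 (.spl (.all (.spl (.merge [11] 1 [] (.leaf 5 (wd (nat_lit 0x8d4a2c17e3bc57be976d2)))) (.spl (.merge [11] 1 [] (.leaf 6 (wd (nat_lit 0x8af41e1b5ca6d5e6d)))) (.spl (.merge [11] 1 [] (.leaf 5 (wd (nat_lit 0xa178d23d58db4e9b74f53f4cd)))) .one)))) (.spl (.all (.spl (.merge [11] 1 [] (.leaf 6 (wd (nat_lit 0xceaf3126a87ebc57be96)))) (.spl (.merge [11] 1 [] (.leaf 3 (wd (nat_lit 0x7ed431471d2cd24f7136e1ab)))) (.spl (.merge [11] 1 [] (.leaf 6 (wd (nat_lit 0xf2b8f31cd9e6ab68c67e4)))) .one)))) .one)))) .one)))) (.spl (.all (.spl (.all (.spl (.all (.spl (.merge [11] 1 [] (.leaf 6 (wd (nat_lit 0xed9c71d5784ca9da2bfbe)))) (.spl (.merge [11] 1 [] (.leaf 4 (wd (nat_lit 0x35b4a1b38ec74ea2a5a1e)))) (.spl (.merge [11] 1 [] (.leaf 6 (wd (nat_lit 0x5b5f35a6daece4958c896)))) .one)))) (.spl (.all (.spl (.merge [11] 1 [] (.leaf 5 (wd (nat_lit 0x8a9bfcefc2f28cbf9a428)))) (.spl (.merge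 [11] 1 [] (.leaf 6 (wd (nat_lit 0x192e1c5c13f3ecaeca3)))) (.spl (.merge [11] 1 [] (.leaf 5 (wd (nat_lit 0xd3f17a58bea9b635fcad9a)))) .one)))) (.spl (.all (.spl (.merge [11] 1 [] (.leaf 4 (wd (nat_lit 0x7bacdbfa5fe7f123f4)))) (.spl (.merge [11] 1 [] (.leaf 5 (wd (nat_lit 0xe6c8e6de1d5a65f8d64)))) (.spl (.merge [11] 1 [] (.leaf 4 (wd (nat_lit 0x51d594ce9dafb1e313257)))) .one)))) .one)))) (.spl (.all (.spl (.all (.spl (.merge [11] 1 [] (.leaf 6 (wd (nat_lit 0x7d1c7923a96e5d6ac)))) (.spl (.merge [11] 1 [] (.leaf 6 (wd (nat_lit 0xde9a42d48abe5dbd231bd)))) (.spl (.merge [11] 1 [] (.leaf 4 (wd (nat_lit 0xe98d3ec3f6a7a4b5a7abf)))) .one)))) (.spl (.all (.spl (.merge [11] 1 [] (.leaf 6 (wd (nat_lit 0xba3f956f51f71c3c52b29ec4)))) (.spl (.merge [11] 1 [] (.leaf 6 (wd (nat_lit 0x5ef5a71f253fac4ac4f7)))) (.spl (.merge [11] 1 [] (.leaf 4 (wd (nat_lit 0x28f3c4df128cda7fb71e))))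 .one)))) (.spl (.all (.spl (.merge [11] 1 [] (.leaf 6 (wd (nat_lit 0xde45dfa6e5f478f5d6)))) (.spl (.merge [11] 1 [] (.leaf 6 (wd (nat_lit 0x57b2d8d5fec25c2786a)))) (.spl (.merge [11] 1 [] (.leaf 2 (wd (nat_lit 0x7b7acf1ec4735d13a3b5)))) .one)))) .one)))) (.spl (.all (.spl (.all (.spl (.merge [11] 1 [] (.leaf 6 (wd (nat_lit 0x1e4f29cf2f91d9d8ec3a2d)))) (.spl (.merge [11] 1 [] (.leaf 5 (wd (nat_lit 0xe1c5ebeca9ace1c171c4fad)))) (.spl (.merge [11] 1 [] (.leaf 5 (wd (nat_lit 0xbd87bfd7bf46fcec251ce)))) .one)))) (.spl (.all (.spl (.merge [11] 1 [] (.leaf 4 (wd (nat_lit 0xc48b746f12fbe9fac4cd5c)))) (.spl (.merge [11] 1 [] (.leaf 6 (wd (nat_lit 0x4acd48d48fe8a62e6a7a)))) (.spl (.merge [11] 1 [] (.leaf 6 (wd (nat_lit 0xfc1d7c745d5fc84163e1e)))) .one)))) (.spl (.all (.spl (.merge [11] 1 [] (.leaf 5 (wd (nat_lit 0xc92c94b41acb8e75418)))) (.spl (.merge [11] 1 [] (.leaf 4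 (wd (nat_lit 0xafc972a6b6a2b8ce96a2fd5)))) (.spl (.merge [11] 1 [] (.leaf 4 (wd (nat_lit 0x28dce97eb3aceace3d4)))) .one)))) .one)))) .one)))) (.spl (.all (.spl (.all (.spl (.all (.spl (.merge [11] 1 [] (.leaf 4 (wd (nat_lit 0xcd9432cfde7468e6b71c2)))) (.spl (.merge [11] 1 [] (.leaf 6 (wd (nat_lit 0x8de172d7b1ae8cbe8cbed)))) (.spl (.merge [11] 1 [] (.leaf 6 (wd (nat_lit 0x2de437e7a6e3b41de1b4a)))) .one)))) (.spl (.all (.spl (.merge [11] 1 [] (.leaf 4 (wd (nat_lit 0xbe81bdf92e5eae656e6)))) (.spl (.merge [11] 1 [] (.leaf 6 (wd (nat_lit 0xf23d6d51af4c171c13c)))) (.spl (.merge [11] 1 [] (.leaf 6 (wd (nat_lit 0x2a942e2dcbcaebda82a619)))) .one)))) (.spl (.all (.spl (.merge [11] 1 [] (.leaf 2 (wd (nat_lit 0x1da53e76ade25ea89ad1)))) (.spl (.merge [11] 1 [] (.leaf 6 (wd (nat_lit 0x327d83cfef1cfb1f23cb1427)))) (.spl (.merge [11] 1 [] (.leaf 6 (wd (nat_lit 0xe517a7614e9f652d5c))))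 .one)))) .one)))) (.spl (.all (.spl (.all (.spl (.merge [11] 1 [] (.leaf 6 (wd (nat_lit 0xd69f3724db8c856456a4)))) (.spl (.merge [11] 1 [] (.leaf 4 (wd (nat_lit 0xd6da61a9b3fb2c843721)))) (.spl (.merge [11] 1 [] (.leaf 6 (wd (nat_lit 0x8ae9d8a68a2f3a1c538ce)))) .one)))) (.spl (.all (.spl (.merge [11] 1 [] (.leaf 6 (wd (nat_lit 0x35de96c7172f417fefd4)))) (.spl (.merge [11] 1 [] (.leaf 1 (wd (nat_lit 0x3e7513a8fb83ba6df878ba)))) (.spl (.merge [11] 1 [] (.leaf 6 (wd (nat_lit 0xe9e4672cfa4856fb2fe)))) .one)))) (.spl (.all (.spl (.merge [11] 1 [] (.leaf 6 (wd (nat_lit 0x4e565784c2c3f45f91b3f)))) (.spl (.merge [11] 1 [] (.leaf 3 (wd (nat_lit 0x32f7a25de2b7d3fc8d82f)))) (.spl (.merge [11] 1 [] (.leaf 6 (wd (nat_lit 0x3ca1d7a91b17b6e864b7)))) .one)))) .one)))) (.spl (.all (.spl (.all (.spl (.merge [11] 1 [] (.leaf 6 (wd (nat_lit 0x34bd63ea5db869bac1e13)))) (.spl (.merge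 [11] 1 [] (.leaf 6 (wd (nat_lit 0xc41896bf59ca5d29fe9)))) (.spl (.merge [11] 1 [] (.leaf 0 (wd (nat_lit 0xcb87348d48fb2e4d1dfc1)))) .one)))) (.spl (.all (.spl (.merge [11] 1 [] (.leaf 6 (wd (nat_lit 0x3baec1e85e51d4a2f5c47)))) (.spl (.merge [11] 1 [] (.leaf 6 (wd (nat_lit 0x5ade286c7fbfa19cdac7817)))) (.spl (.merge [11] 1 [] (.leaf 1 (wd (nat_lit 0x4f3fb48b1aea12e8ead1)))) .one)))) (.spl (.all (.spl (.merge [11] 1 [] (.leaf 6 (wd (nat_lit 0x58a92f83f6ba6d7ab62b)))) (.spl (.merge [11] 1 [] (.leaf 6 (wd (nat_lit 0xcb7d4232bcf5b2d4a2f5c)))) (.spl (.merge [11] 1 [] (.leaf 2 (wd (nat_lit 0xf7dec26c7fb9ede8dc31)))) .one)))) .one)))) .one)))) .one))))))) (.spl (.merge [4] 1 (dig 6 (nat_lit 0xa289206)) (.all (.spl (.all (.spl (.merge [3,4,4] 1 (dig 6 (nat_lit 0xc30b2ca289)) (.merge [7] 1 [10,12,12] (.merge [6] 2 [11,12,12] (.merge [8] 1 [] (.merge [9] 1 [] (.leaf 6 (wd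 (nat_lit 0xcd95e23c3fd59e68ede9)))))))) (.spl (.merge [2,4,4] 1 (dig 6 (nat_lit 0xc30b28a)) (.merge [7] 1 [10] (.merge [6] 2 [11] (.merge [8] 1 [12] (.prune 2 []))))) (.spl (.merge [3,4,4] 2 (dig 6 (nat_lit 0xc30a289)) (.merge [7] 1 [10,12] (.merge [6] 2 [11,12] (.merge [8] 1 [12,12] (.merge [10] 1 [] (.leaf 6 (wd (nat_lit 0x24fe518b6bc4ad9dfea17)))))))) .one)))) (.spl (.all (.spl (.merge [3,4,4] 2 [11,12,12] (.merge [7] 1 [10,12,12] (.merge [6] 2 [11,12,12] (.merge [8] 1 [] (.merge [9] 2 [] (.leaf 6 (wd (nat_lit 0xcf8e6f48f34a136d53169)))))))) (.spl (.merge [3,4,4] 1 [] (.merge [7] 1 [10] (.merge [6] 2 [11] (.merge [8] 1 [12] (.merge [10] 2 [] (.leaf 6 (wd (nat_lit 0xb597fc1a23c97e17c69)))))))) (.spl (.merge [2,4,4] 2 (dig 6 (nat_lit 0xc2cb28a249)) (.merge [7] 1 [10,12] (.merge [6] 2 [11,12] (.merge [8] 1 [12,12] (.prune 2 []))))) .one)))) (.spl (.all (.spl (.all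 (.spl (.merge [7] 1 [10,12,12] (.merge [6] 2 [11,12,12] (.merge [8] 1 [] (.merge [5,6,8] 2 [] (.leaf 6 (wd (nat_lit 0xb85ade2aca1db4e634d))))))) (.spl (.merge [7] 1 [10,12] (.merge [6] 2 [11,12,12] (.merge [8] 1 [] (.merge [5,6,8] 1 [] (.leaf 6 (wd (nat_lit 0xf4b9f3b6b3bfb2ad9a6c))))))) (.spl (.merge [7] 1 [10] (.merge [6] 2 [11,12,12] (.merge [8] 1 [] (.all (.spl (.leaf 0 (wd (nat_lit 0xe97f3e1cb1fd87e7d67))) (.spl (.leaf 1 (wd (nat_lit 0x7a3f5a82ad135f4cd2))) (.spl (.leaf 2 (wd (nat_lit 0x5a3f2b9ea9b14bea17f512))) .one))))))) .one)))) (.spl (.merge [3,4,4] 2 (dig 6 (nat_lit 0x30b2ca249)) (.merge [7] 1 [10] (.merge [6] 2 [11] (.merge [8] 1 [12] (.prune 1 []))))) (.spl (.merge [3,4,4] 1 (dig 6 (nat_lit 0x2ca249)) (.merge [7] 1 [10,12] (.merge [6] 2 [11,12] (.merge [8] 1 [12,12] (.prune 1 []))))) .one)))) .one))))) (.spl (.merge [4] 1 (dig 6 (nat_lit 0xa289206))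 (.merge [2,4,4] 1 (dig 6 (nat_lit 0x249208)) (.merge [3,4] 1 (dig 6 (nat_lit 0xb289248)) (.all (.spl (.merge [7] 2 [10,10,12] (.merge [6] 1 [11,11] (.merge [8] 2 [] (.merge [11] 2 [] (.leaf 6 (wd (nat_lit 0xfd4b4d34f132fc58b3a))))))) (.spl (.merge [7] 2 [10,10] (.merge [6] 1 [11,11] (.merge [8] 2 [] (.prune 1 [])))) (.spl (.merge [7] 2 (dig 6 (nat_lit 0x30c28a)) (.merge [6] 1 [11,11] (.merge [8] 2 [] (.prune 2 [])))) .one))))))) .one)))) (.spl (.all (.spl (.all (.spl (.all (.spl (.merge [4] 2 [9,9,10] (.merge [7] 1 [9,10,12] (.merge [6,7] 2 (dig 6 (nat_lit 0x30c28a)) (.merge (dig 6 (nat_lit 0x7184102)) 1 [11] (.merge [10] 1 [12,12] (.merge [9] 2 [] (.leaf 6 (wd (nat_lit 0x2de2ce7e32bf4f8c14a))))))))) (.spl (.merge [4] 2 (dig 6 (nat_lit 0x30c2cb28a249)) (.merge [7] 1 [9,10,12] (.merge [6,7] 2 [10,10,12] (.merge (dig 6 (nat_lit 0x7184102)) 2 [11,12] (.prune 2 [12])))))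 (.spl (.merge [4] 2 (dig 6 (nat_lit 0x30b249)) (.merge [7] 1 [9,10,12] (.merge [6,7] 2 [10,10] (.merge (dig 6 (nat_lit 0x71c4103)) 2 [] (.prune 1 []))))) .one)))) (.spl (.all (.spl (.merge [4] 2 (dig 6 (nat_lit 0x2cb249)) (.merge [7] 1 [9,10,12] (.merge [6,7] 2 [10,10] (.merge (dig 6 (nat_lit 0xc184103)) 2 (dig 6 (nat_lit 0x30c2cb)) (.merge [10] 1 [12,12] (.merge [9] 1 [] (.leaf 6 (wd (nat_lit 0x41fe39a46ed4f2c57bf721))))))))) (.spl (.merge [4] 2 (dig 6 (nat_lit 0x30c2ca249)) (.merge [7] 1 [9,10,12] (.merge [6,7] 2 (dig 6 (nat_lit 0x30c28a)) (.merge (dig 6 (nat_lit 0x1c4101)) 1 [] (.prune 2 [12,12]))))) (.spl (.merge [4] 2 (dig 6 (nat_lit 0xc28a249)) (.merge [7] 1 [9,10,12] (.merge [6,7] 2 [10,10,12] (.merge (dig 6 (nat_lit 0x7184102)) 1 [12,12] (.prune 1 [12,12]))))) .one)))) (.spl (.all (.spl (.merge [4] 2 (dig 6 (nat_lit 0xb28a249)) (.merge [7] 1 [9,10,12]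 (.merge [6,7] 2 [10,10,12] (.all (.spl (.merge [10] 1 [12,12] (.merge [5,7,7] 2 [] (.leaf 6 (wd (nat_lit 0x294c546b649d6429acd59))))) (.spl (.merge [10] 1 [12,12] (.merge [5,7,7] 1 [] (.leaf 6 (wd (nat_lit 0x1af1a14dcf824f83ce1c3f))))) (.spl (.merge [10] 1 [12,12] (.all (.spl (.leaf 3 (wd (nat_lit 0x5a2a18f9c831bd17c2f4))) (.spl (.leaf 4 (wd (nat_lit 0xda7c3ed9bf4b23b17e1))) (.spl (.leaf 1 (wd (nat_lit 0x245ec23b8a51adbc6495246))) .one))))) .one))))))) (.spl (.merge [4] 2 (dig 6 (nat_lit 0x30c249)) (.merge [7] 1 [9,10,12] (.merge [6,7] 2 [10,10] (.merge [1,4,4] 2 [11,11,12] (.prune 2 []))))) (.spl (.merge [4] 2 (dig 6 (nat_lit 0x30b2ca249)) (.merge [7] 1 [9,10,12] (.merge [6,7] 2 (dig 6 (nat_lit 0x30c28a)) (.merge (dig 6 (nat_lit 0x1c4103)) 1 [12,12] (.prune 1 [12]))))) .one)))) .one)))) (.spl (.merge [3] 1 (dig 6 (nat_lit 0x30a286)) (.merge [2] 1 (dig 6 (nat_lit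 0xc30b28a2492081c7)) (.merge [4] 2 (dig 6 (nat_lit 0x30c28a)) (.prune 2 [12])))) (.spl (.merge [3] 2 (dig 6 (nat_lit 0x30a207186)) (.merge [2] 2 (dig 6 (nat_lit 0xb28a2481c7)) (.merge [4] 2 [9,12,12] (.prune 1 (dig 6 (nat_lit 0xc2cb28a249)))))) .one)))) .one)))) (.spl (.all (.spl (.all (.spl (.merge [4] 2 (dig 6 (nat_lit 0xb2ca2081c6)) (.merge [3,4] 1 (dig 6 (nat_lit 0x309248207)) (.merge (dig 6 (nat_lit 0x2ca2482030c1)) 2 (dig 6 (nat_lit 0xc30b28a249208)) (.merge [7] 1 [9,10] (.merge [6,7,7] 1 [10,10,12] (.all (.spl (.merge [10] 2 [] (.merge [11] 1 [] (.leaf 6 (wd (nat_lit 0xca7b36df9ea8c417f))))) (.spl (.merge [10] 2 [] (.prune 2 [])) (.spl (.merge [10] 2 [] (.prune 1 [])) .one))))))))) (.spl (.merge [4] 2 (dig 6 (nat_lit 0xc28a2492081c6)) (.all (.spl (.all (.spl (.merge [7] 1 (dig 6 (nat_lit 0x2cb28a249)) (.merge [5,7] 1 [10,10,12] (.merge (dig 6 (nat_lit 0x144101))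 1 [12] (.prune 2 [12,12])))) (.spl (.merge [7] 1 (dig 6 (nat_lit 0xc2cb28a249)) (.merge [5,7] 1 [10,10] (.merge (dig 6 (nat_lit 0x5144102)) 2 [] (.prune 1 [])))) (.spl (.merge [7] 1 (dig 6 (nat_lit 0x30c2cb28a249)) (.merge [5,7] 1 (dig 6 (nat_lit 0x30c28a)) (.merge [3,4,4] 2 [12,12] (.merge [10] 2 [] (.merge [8] 1 [] (.leaf 6 (wd (nat_lit 0xed45c192ce8b4e9d6ae9d)))))))) .one)))) (.spl (.all (.spl (.merge [7] 1 (dig 6 (nat_lit 0x30c2cb28a249)) (.merge [5,7] 1 (dig 6 (nat_lit 0x30c28a)) (.merge (dig 6 (nat_lit 0x7144103)) 2 [11] (.prune 1 [])))) (.spl (.merge [7] 1 (dig 6 (nat_lit 0x2cb28a249)) (.merge [5,7] 1 [10,10,12] (.all (.spl (.merge [10] 2 [12] (.merge (dig 6 (nat_lit 0x2871c6)) 2 [] (.leaf 6 (wd (nat_lit 0xfa8b316f8f3d4c1d1a1))))) (.spl (.merge [10] 2 [12] (.merge (dig 6 (nat_lit 0x2871c6)) 1 [] (.leaf 6 (wd (nat_lit 0x2b4a231aea12bfba9de))))) (.spl (.merge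 [10] 2 [12] (.all (.spl (.leaf 2 (wd (nat_lit 0xf2ab87d6cad2ca65d8e717))) (.spl (.leaf 4 (wd (nat_lit 0x87d4c536b631d9d8ec3ae))) (.spl (.leaf 4 (wd (nat_lit 0x1ad59e1cb1ea4ec78fd3))) .one))))) .one)))))) (.spl (.merge [7] 1 (dig 6 (nat_lit 0xc2cb28a249)) (.merge [5,7] 1 [10,10] (.merge (dig 6 (nat_lit 0x71c4103)) 1 [12] (.prune 2 [12,12])))) .one)))) (.spl (.all (.spl (.merge [7] 1 (dig 6 (nat_lit 0xc2cb28a249)) (.merge [5,7] 1 [10,10] (.merge (dig 6 (nat_lit 0x144103)) 1 [11,12,12] (.merge [10] 2 [12,12] (.merge [8] 2 [] (.leaf 6 (wd (nat_lit 0x8bfa28bc2739fa1f12c6)))))))) (.spl (.merge [7] 1 (dig 6 (nat_lit 0x30c2cb28a249)) (.merge [5,7] 1 (dig 6 (nat_lit 0x30c28a)) (.merge (dig 6 (nat_lit 0x7144101)) 2 [11,12,12] (.prune 2 [12,12])))) (.spl (.merge [7] 1 (dig 6 (nat_lit 0x2cb28a249)) (.merge [5,7] 1 [10,10,12] (.merge (dig 6 (nat_lit 0x144101)) 2 [] (.prune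 1 [])))) .one)))) .one))))) (.spl (.merge [4] 2 (dig 6 (nat_lit 0x30c2c92081c6)) (.merge [3] 2 (dig 6 (nat_lit 0xc30b2892081c7)) (.merge [1,3,3] 1 (dig 6 (nat_lit 0x2ca249208)) (.merge [7] 1 [11] (.prune 1 [10,10,12]))))) .one)))) (.spl (.all (.spl (.merge [4] 1 (dig 6 (nat_lit 0x2ca249208)) (.all (.spl (.all (.spl (.merge [7] 2 (dig 6 (nat_lit 0x28a249)) (.merge [3,4,4] 2 [10,11,12] (.merge [6] 1 [11,12,12] (.merge [9] 2 [12] (.merge [10] 1 [] (.leaf 6 (wd (nat_lit 0x549c423db2a9c1ec38f43e)))))))) (.spl (.merge [7] 2 (dig 6 (nat_lit 0x28a249)) (.all (.spl (.merge [6] 1 [11,12,12] (.merge [9] 2 [12] (.all (.spl (.leaf 0 (wd (nat_lit 0x74b13bef23afc7c3ba))) (.spl (.leaf 1 (wd (nat_lit 0x9d9aeb43d37f89f75fca))) (.spl (.leaf 2 (wd (nat_lit 0xd4cb39fda39b14c97d6412))) .one)))))) (.spl (.merge [6] 1 [11,12] (.merge [9] 2 [12] (.merge [5,9,9] 1 [] (.leaf 6 (wd (nat_lit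 0x561328ed8d6a6e9313c48)))))) (.spl (.merge [6] 1 [11] (.merge [9] 2 [12] (.merge [5,9,9] 2 [] (.leaf 6 (wd (nat_lit 0xa9d439d8714e67f2d64db)))))) .one))))) (.spl (.merge [7] 2 (dig 6 (nat_lit 0x28a249)) (.merge [1,4,4] 1 [12] (.merge [6] 1 [11,12,12] (.merge [9] 2 [12] (.merge [10] 2 [] (.leaf 6 (wd (nat_lit 0x8d9e816de1d5419f169e78)))))))) .one)))) (.spl (.all (.spl (.merge [7] 2 (dig 6 (nat_lit 0x30c28a249)) (.merge [1,4,4] 1 [10,10,12] (.merge [6] 1 [11,12,12] (.merge [9] 2 [12,12] (.prune 1 []))))) (.spl (.merge [7] 2 (dig 6 (nat_lit 0x30c28a249)) (.merge [3,4,4] 1 (dig 6 (nat_lit 0xc2cb28a)) (.merge [6] 1 [11,12,12] (.merge [9] 2 [12,12] (.merge [8,9] 1 [] (.leaf 6 (wd (nat_lit 0xcfd432d7b1aecbe48fe)))))))) (.spl (.merge [7] 2 (dig 6 (nat_lit 0x30c28a249)) (.merge [2,4,4] 1 (dig 6 (nat_lit 0xc30b2ca)) (.merge [6] 1 [11,12,12] (.merge [9] 2 [12,12] (.prune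 2 []))))) .one)))) (.spl (.all (.spl (.merge [7] 2 (dig 6 (nat_lit 0xc28a249)) (.merge (dig 6 (nat_lit 0x1c4102)) 2 [12] (.merge [6] 1 [11,12,12] (.merge [9] 2 [] (.prune 2 []))))) (.spl (.merge [7] 2 (dig 6 (nat_lit 0xc28a249)) (.merge [1,4,4] 1 [10] (.merge [6] 1 [11,12,12] (.merge [9] 2 [] (.merge [8,9] 2 [] (.leaf 6 (wd (nat_lit 0xa3b54578b279d34ea65)))))))) (.spl (.merge [7] 2 (dig 6 (nat_lit 0xc28a249)) (.merge [2,4,4] 1 (dig 6 (nat_lit 0x2cb28a)) (.merge [6] 1 [11,12,12] (.merge [9] 2 [] (.prune 1 []))))) .one)))) .one))))) (.spl (.merge [4] 1 (dig 6 (nat_lit 0xb249208)) (.merge [3,4] 1 (dig 6 (nat_lit 0xc2cb289248207)) (.merge (dig 6 (nat_lit 0x2ca2482030c1)) 1 (dig 6 (nat_lit 0xc2c9248)) (.merge [7] 2 [11,12,12] (.all (.spl (.prune 2 [11,11]) (.spl (.prune 2 [11,11,12]) (.spl (.prune 2 (dig 6 (nat_lit 0x30c2cb))) .one)))))))) (.spl (.merge [4] 1 (dig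 6 (nat_lit 0xb28a249208)) (.merge [3] 2 (dig 6 (nat_lit 0xc3081c7)) (.merge [1,3,3] 2 (dig 6 (nat_lit 0x30c289248)) (.merge [7] 2 (dig 6 (nat_lit 0x2cb289)) (.all (.spl (.prune 2 [11,12]) (.spl (.prune 2 [11]) (.spl (.prune 2 [11,12,12]) .one)))))))) .one)))) (.spl (.all (.spl (.merge [3] 1 (dig 6 (nat_lit 0x30c2cb288)) (.merge [4] 2 (dig 6 (nat_lit 0x30c2891c7)) (.merge [2] 2 (dig 6 (nat_lit 0x30c2ca248)) (.prune 1 (dig 6 (nat_lit 0x30c289)))))) (.spl (.merge [3] 2 (dig 6 (nat_lit 0x2cb28a2081c6)) (.merge [4] 2 (dig 6 (nat_lit 0xc2ca2491c7)) (.merge [2,4] 1 [12] (.prune 2 (dig 6 (nat_lit 0xb2ca289)))))) (.spl (.all (.spl (.merge [4] 2 (dig 6 (nat_lit 0xc30b2ca1c7)) (.all (.spl (.merge [6] 2 [9,11] (.merge [7] 2 [10,10] (.merge (dig 6 (nat_lit 0x1c7185)) 1 [12,12] (.prune 1 [])))) (.spl (.merge [6] 2 [9,11] (.merge [7] 2 (dig 6 (nat_lit 0x30c28a)) (.merge (dig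 6 (nat_lit 0x1c7185)) 1 [12,12] (.prune 1 [12])))) (.spl (.merge [6] 2 [9,11] (.merge [7] 2 [10,10,12] (.merge (dig 6 (nat_lit 0x1c7185)) 1 [12,12] (.prune 1 [])))) .one))))) (.spl (.merge [4] 2 (dig 6 (nat_lit 0xc30b1c7)) (.all (.spl (.merge [6] 2 [9,11,12] (.merge [7] 2 (dig 6 (nat_lit 0x30c28a)) (.merge (dig 6 (nat_lit 0x1c7185)) 1 [12] (.prune 2 [12])))) (.spl (.merge [6] 2 [9,11,12] (.merge [7] 2 [10,10,12] (.merge (dig 6 (nat_lit 0x1c7185)) 1 [12] (.prune 2 [])))) (.spl (.merge [6] 2 [9,11,12] (.merge [7] 2 [10,10] (.merge (dig 6 (nat_lit 0x1c7185)) 1 [12] (.prune 2 [])))) .one))))) (.spl (.merge [4] 2 (dig 6 (nat_lit 0x30c28a1c7)) (.all (.spl (.merge [6] 2 (dig 6 (nat_lit 0x30c2c9)) (.merge [7] 2 [10,10,12] (.merge (dig 6 (nat_lit 0x1c7185)) 1 [] (.merge [10] 1 [12,12] (.prune 2 []))))) (.spl (.merge [6] 2 (dig 6 (nat_lit 0x30c2c9)) (.merge [7] 2 [10,10]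 (.merge [3,4,4] 1 (dig 6 (nat_lit 0x30c2cb)) (.merge [10] 1 [12] (.prune 2 []))))) (.spl (.merge [6] 2 (dig 6 (nat_lit 0x30c2c9)) (.merge [7] 2 (dig 6 (nat_lit 0x30c28a)) (.merge (dig 6 (nat_lit 0x1c7185)) 1 [] (.merge [10] 1 [] (.all (.spl (.leaf 5 (wd (nat_lit 0x4a8436e5fefa74e981c8))) (.spl (.leaf 6 (wd (nat_lit 0xde21b4c81cf34d7a5c93c25))) (.spl (.leaf 4 (wd (nat_lit 0x59f527e7a3b517ed9fc))) .one)))))))) .one))))) .one)))) .one)))) .one)))) (.spl (.all (.spl (.all (.spl (.merge [4] 2 (dig 6 (nat_lit 0xc30b207)) (.all (.spl (.all (.spl (.merge [6] 1 (dig 6 (nat_lit 0xb2ca249)) (.merge [5,6] 1 [12] (.merge (dig 6 (nat_lit 0x6144103)) 1 [12] (.merge [10] 2 [12] (.merge [7] 2 [] (.leaf 6 (wd (nat_lit 0xe9c81351c5e67f2d4c)))))))) (.spl (.merge [6] 1 (dig 6 (nat_lit 0xc30b2ca249)) (.merge [5,6] 1 [] (.merge (dig 6 (nat_lit 0x5144103)) 2 [11,12] (.merge [10] 2 []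 (.merge [7] 2 [] (.leaf 6 (wd (nat_lit 0x3f54137d3a796e18c64278e)))))))) (.spl (.merge [6] 1 (dig 6 (nat_lit 0x30b2ca249)) (.merge [5,6] 1 [12,12] (.all (.spl (.merge [10] 2 [12,12] (.merge [7] 2 [] (.leaf 6 (wd (nat_lit 0x5b72ce23fb748b53f48))))) (.spl (.merge [10] 2 [12,12] (.all (.spl (.leaf 4 (wd (nat_lit 0xe8a4d73c25fd8532defdc))) (.spl (.leaf 4 (wd (nat_lit 0x364a16f93f61a675dafe82b))) (.spl (.leaf 2 (wd (nat_lit 0x3fc61baef78154b5afb41f))) .one))))) (.spl (.merge [10] 2 [12,12] (.merge [7] 1 [] (.leaf 6 (wd (nat_lit 0x4cedb47b1a14f416f5d))))) .one)))))) .one)))) (.spl (.all (.spl (.merge [6] 1 (dig 6 (nat_lit 0x30b2ca249)) (.merge [5,6] 1 [12] (.merge (dig 6 (nat_lit 0x30c144103)) 1 [12] (.prune 1 [12,12])))) (.spl (.merge [6] 1 (dig 6 (nat_lit 0xb2ca249)) (.merge [5,6] 1 [] (.merge (dig 6 (nat_lit 0x306185144103)) 2 [11] (.prune 1 [12,12])))) (.spl (.merge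 [6] 1 (dig 6 (nat_lit 0xc30b2ca249)) (.merge [5,6] 1 [12,12] (.merge (dig 6 (nat_lit 0x5144101)) 1 (dig 6 (nat_lit 0x30c2cb)) (.prune 1 [12,12])))) .one)))) (.spl (.all (.spl (.merge [6] 1 (dig 6 (nat_lit 0xc30b2ca249)) (.merge [5,6] 1 [12] (.merge (dig 6 (nat_lit 0xc186144103)) 1 [12,12] (.prune 2 [])))) (.spl (.merge [6] 1 (dig 6 (nat_lit 0x30b2ca249)) (.merge [5,6] 1 [] (.merge (dig 6 (nat_lit 0x5144102)) 1 [11,11,12] (.prune 2 [])))) (.spl (.merge [6] 1 (dig 6 (nat_lit 0xb2ca249)) (.merge [5,6] 1 [12,12] (.merge (dig 6 (nat_lit 0x306185144102)) 2 [11,12,12] (.prune 2 [])))) .one)))) .one))))) (.spl (.merge [4] 2 (dig 6 (nat_lit 0xb249207)) (.merge [3] 1 (dig 6 (nat_lit 0x3092081c7)) (.merge [1,3,3] 1 (dig 6 (nat_lit 0xc309248)) (.prune 1 [10,12,12])))) (.spl (.merge [4] 2 (dig 6 (nat_lit 0x2c9207)) (.merge [3,4] 2 (dig 6 (nat_lit 0x28a207)) (.merge (dig 6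 (nat_lit 0x2ca2482030c1)) 2 (dig 6 (nat_lit 0xc289248)) (.prune 2 (dig 6 (nat_lit 0x30c2ca289)))))) .one)))) (.spl (.all (.spl (.merge [4] 1 (dig 6 (nat_lit 0x30a186)) (.merge [3,4] 2 (dig 6 (nat_lit 0x2ca289207)) (.merge (dig 6 (nat_lit 0x2ca2482030c1)) 1 (dig 6 (nat_lit 0x30c28a249208)) (.merge [7] 1 (dig 6 (nat_lit 0x30c289)) (.all (.spl (.merge [6] 2 (dig 6 (nat_lit 0x30c2cb)) (.merge [9] 1 [12,12] (.merge [11] 2 [] (.leaf 6 (wd (nat_lit 0xcb2db4b8c216d1794cd235)))))) (.spl (.merge [6] 2 [11,11,12] (.merge [9] 1 [12,12] (.prune 2 []))) (.spl (.merge [6] 2 [11,11] (.merge [9] 1 [12,12] (.prune 1 []))) .one)))))))) (.spl (.merge [4] 1 (dig 6 (nat_lit 0x30c28a186)) (.merge [3] 1 (dig 6 (nat_lit 0x92081c7)) (.merge [1,3,3] 2 (dig 6 (nat_lit 0x30c2cb249208)) (.merge [7] 1 (dig 6 (nat_lit 0x30c2cb28a249)) (.all (.spl (.prune 2 [11,11]) (.spl (.prune 2 [11,11,12])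 (.spl (.prune 2 (dig 6 (nat_lit 0x30c2cb))) .one)))))))) (.spl (.merge [4] 1 [6,6] (.all (.spl (.all (.spl (.merge [7] 1 [11,12,12] (.merge [3,4,4] 2 [10,11,11] (.merge [5] 2 [] (.prune 1 [])))) (.spl (.merge [7] 1 [11,12] (.merge [1,4,4] 2 [12] (.merge [5] 2 [12,12] (.prune 2 [12])))) (.spl (.merge [7] 1 [11] (.merge (dig 6 (nat_lit 0x71c4103)) 2 (dig 6 (nat_lit 0xc30b2ca)) (.merge [5] 2 [12] (.merge [9] 1 [12,12] (.merge [8,9,9] 2 [] (.leaf 6 (wd (nat_lit 0xb6e6c7e81d8f9a8e9fb)))))))) .one)))) (.spl (.all (.spl (.merge [7] 1 [11] (.merge (dig 6 (nat_lit 0x1c4102)) 2 [11,11,12] (.merge [5] 2 [12] (.prune 1 [])))) (.spl (.merge [7] 1 [11,12,12] (.merge [3,4,4] 1 [10,10] (.merge [5] 2 [] (.prune 2 [12])))) (.spl (.merge [7] 1 [11,12] (.merge [1,4,4] 2 [10,10] (.merge [5] 2 [12,12] (.merge [9] 1 [] (.merge [8,9,9] 1 [] (.leaf 6 (wd (nat_lit 0x8c6521d7b1567bfb857c))))))))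 .one)))) (.spl (.all (.spl (.merge [7] 1 [11,12] (.merge [1,4,4] 2 [10,12] (.merge [5] 2 [12,12] (.prune 1 [])))) (.spl (.merge [7] 1 [11] (.merge [2,4,4] 1 [11,11] (.merge [5] 2 [12] (.prune 2 [12])))) (.spl (.merge [7] 1 [11,12,12] (.all (.spl (.merge [5] 2 [] (.merge [9] 1 [12] (.merge [6,9,9] 1 [] (.leaf 6 (wd (nat_lit 0x9ba832e3e8d249adc2ed)))))) (.spl (.merge [5] 2 [12] (.merge [9] 1 [12] (.all (.spl (.leaf 3 (wd (nat_lit 0x6ae8d83ce314d3eae4bd1f))) (.spl (.leaf 1 (wd (nat_lit 0xba9b62371c26f9a4faf1))) (.spl (.leaf 4 (wd (nat_lit 0x6d7aeb3ae1ab4df7a4b4))) .one)))))) (.spl (.merge [5] 2 [12,12] (.merge [9] 1 [12] (.merge [6,9,9] 2 [] (.leaf 6 (wd (nat_lit 0xb3afe31acd3c5f1c5427)))))) .one))))) .one)))) .one))))) .one)))) (.spl (.all (.spl (.merge [3] 2 (dig 6 (nat_lit 0x30c2ca249207)) (.merge [4] 1 (dig 6 (nat_lit 0xc28a1c7)) (.merge [2] 2 (dig 6 (nat_lit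 0xc30b28a249208)) (.merge [7] 2 (dig 6 (nat_lit 0x30c28a249)) (.merge [6,7,7] 2 [10] (.all (.spl (.merge [10] 1 [12] (.prune 1 [])) (.spl (.merge [10] 1 [12] (.prune 2 [])) (.spl (.merge [10] 1 [12] (.merge [11] 1 [] (.leaf 6 (wd (nat_lit 0x9b72341eb96a9b586b9))))) .one))))))))) (.spl (.all (.spl (.merge [4] 1 (dig 6 (nat_lit 0x2cb2891c7)) (.all (.spl (.merge [7] 2 [11,12] (.merge [5,7] 1 (dig 6 (nat_lit 0x30c2cb28a)) (.merge (dig 6 (nat_lit 0x71c4103)) 2 [11,11] (.prune 1 [])))) (.spl (.merge [7] 2 [11,12,12] (.merge [5,7] 1 (dig 6 (nat_lit 0xc2cb28a)) (.merge (dig 6 (nat_lit 0x1c4103)) 2 [] (.prune 2 [12,12])))) (.spl (.merge [7] 2 [11] (.merge [5,7] 1 (dig 6 (nat_lit 0x2cb28a)) (.merge [3,4,4] 2 [11,12] (.merge [10] 1 [] (.merge [8,10] 1 [] (.leaf 6 (wd (nat_lit 0x28d97c87c9defe32cd4f84)))))))) .one))))) (.spl (.merge [4] 1 (dig 6 (nat_lit 0x2c91c7)) (.all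 (.spl (.merge [7] 2 [11,12,12] (.merge [5,7] 1 (dig 6 (nat_lit 0x2cb28a)) (.merge (dig 6 (nat_lit 0x1c4102)) 1 [11] (.merge [10] 1 [12,12] (.merge [8,10] 2 [] (.leaf 6 (wd (nat_lit 0x82bac3f9d6429acd5f)))))))) (.spl (.merge [7] 2 [11] (.merge [5,7] 1 (dig 6 (nat_lit 0x30c2cb28a)) (.merge (dig 6 (nat_lit 0x1c7184103)) 1 [12,12] (.prune 1 [12])))) (.spl (.merge [7] 2 [11,12] (.merge [5,7] 1 (dig 6 (nat_lit 0xc2cb28a)) (.merge (dig 6 (nat_lit 0x1c4101)) 1 [11] (.prune 2 [12])))) .one))))) (.spl (.merge [4] 1 (dig 6 (nat_lit 0xa2891c7)) (.all (.spl (.merge [7] 2 [11] (.merge [5,7] 1 (dig 6 (nat_lit 0xc2cb28a)) (.merge [1,4,4] 2 [12] (.prune 2 [])))) (.spl (.merge [7] 2 [11,12] (.merge [5,7] 1 (dig 6 (nat_lit 0x2cb28a)) (.all (.spl (.merge [10] 1 [12] (.merge (dig 6 (nat_lit 0x30c184101)) 1 [] (.leaf 6 (wd (nat_lit 0x71eb6b5bd63a423eb87134))))) (.spl (.merge [10] 1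 [12] (.all (.spl (.leaf 4 (wd (nat_lit 0xb4c94ca28787bfa7ab6a))) (.spl (.leaf 1 (wd (nat_lit 0xae983a584db9ede8dcd))) (.spl (.leaf 3 (wd (nat_lit 0xaeb853ad2d37dfc21c12))) .one))))) (.spl (.merge [10] 1 [12] (.merge (dig 6 (nat_lit 0x307184102)) 2 [] (.leaf 6 (wd (nat_lit 0xd1cf7e56ea565ea65d))))) .one)))))) (.spl (.merge [7] 2 [11,12,12] (.merge [5,7] 1 (dig 6 (nat_lit 0x30c2cb28a)) (.merge (dig 6 (nat_lit 0x6184101)) 1 [12] (.prune 1 [12,12])))) .one))))) .one)))) (.spl (.merge [3] 1 (dig 6 (nat_lit 0xb2ca249186)) (.merge [4] 1 (dig 6 (nat_lit 0xc30b2491c7)) (.merge [2,4] 1 [10,11,11] (.merge [7] 2 (dig 6 (nat_lit 0x30c2cb289)) (.prune 2 [10,12,12]))))) .one)))) .one)))) .one)))))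
theorem d3c : d3.chk C s3 3 1 12 d3R 1 [] 0 = true := by decide +kernel
theorem s3N : allR (fun l => C.memB ⟨[], [], [b1, b2, b3]⟩ (s3.gw l)) 1 12 = true := by decide +kernel
def cu : Fin 6 → List ℕ := ![[], [1], [10], [11], [1,10], [10,1]]
def cr : Fin 7 → List ℕ := ![[12,10,3,1,10,15,12,6], [8,2,7,3], [1,3], [1,11,9,6,11,4], [9,6,14,13,10,5,3,4,5,6,14,10], [6,1,3,9], [9,12,11,14]]
def cq : Fin 13 → List ℕ := ![[12,10,3,1,10,15,12,6], [8,2,7,3], [10,8,2,7,3,10], [11,8,2,7,3,11], [1,3], [10,1,3,10], [11,1,3,11], [1,11,9,6,11,4], [9,6,14,13,10,5,3,4,5,6,14,10], [10,9,6,14,13,10,5,3,4,5,6,14,10,10], [11,9,6,14,13,10,5,3,4,5,6,14,10,11], [6,1,3,9], [9,12,11,14]]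
def cJ : Fin 7 → Fin 6 → Fin 13 := ![![0,0,0,0,0,0], ![1,1,2,3,2,3], ![4,4,5,6,5,6], ![7,7,7,7,7,7], ![8,8,9,10,9,10], ![11,11,11,11,11,11], ![12,12,12,12,12,12]]
noncomputable def cn : Fin 7 → Fin 6 → List ℕ := ![![[], (wd (nat_lit 0x8f23b8fe7351d2ba83247e)), (wd (nat_lit 0x4dcb14d35d42313e1bfad6)), (wd (nat_lit 0x7315f26b174ca39781a4132c58)), (wd (nat_lit 0xcf7d7b7c1d4e23e5fa6e2caf3d76)), (wd (nat_lit 0x5ea514fb358b54a7da14a136d531))], ![[], (wd (nat_lit 0x24c6df5e692f3baea681)), [], [], (wd (nat_lit 0xe719f593ecaeca34a136d53167)), (wd (nat_lit 0x2fc3bda67fb5162db139e9d879d2c9))], ![[], (wd (nat_lit 0xe7a521afe8c725f3baea83d4c1d1a8)), [], [], (wd (nat_lit 0x56abfe76bf275cd2132ea1da31e3)), (wd (nat_lit 0x54ba173d4a51adbc64952c))], ![[], (wd (nat_lit 0xdb8d4ca4381db76c8a645d)), (wd (nat_lit 0x7e372af3a6d7ab6a46135d631f)), (wd (nat_lit 0x8da1d1e4f935ca6d5e6f6eaedfd421)),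 (wd (nat_lit 0xeb931fa45c3f267f36d53164ab)), (wd (nat_lit 0xcac6a9b9ea7f3a35b67fb84c5e2c))], ![[], (wd (nat_lit 0xcbe218f6fc834df34db7d1e421)), [], [], (wd (nat_lit 0x37ac78e2e87cf1a1973cfd)), (wd (nat_lit 0x9bd7351fb2d6137a9dbc))], ![[], (wd (nat_lit 0xb2cea637e35bd58f54de)), (wd (nat_lit 0xa92c28a68a21b4bc1f13ad1ae2)), (wd (nat_lit 0x35e637b73e6e141fa91df31a1f52)), (wd (nat_lit 0xa174b41ae5c3cae8e8ae2a9e3fc7)), (wd (nat_lit 0x31bf418c65ce2d63ca2f8da75428))], ![[], (wd (nat_lit 0xc921eb3bfb2ad9af1cd2a3fb52)), (wd (nat_lit 0x9d6145fede872d5f1427fef8c2)), (wd (nat_lit 0xf5bd7dcdeadabd9ebd9f64)), (wd (nat_lit 0x3ecb1c83afc7c3b325bf3a2dc1f6)), (wd (nat_lit 0x1ac923ea3a7ad26f9e12a4132c56))]]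
def cv : Fin 13 → ℕ × ℕ × ℕ := ![(108, 108, 108), (135, 0, 0), (0, 135, 0), (0, 0, 135), (108, 0, 0), (0, 108, 0), (0, 0, 108), (27, 27, 27), (27, 0, 0), (0, 27, 0), (0, 0, 27), (18, 18, 18), (9, 9, 9)]
noncomputable def fuB (i : Fin 7) (s : Fin 6) : Bool :=
  band (C.memB ⟨[], [], [b1, b2, b3]⟩ (cn i s))
    (C.eqW (cq (cJ i s) ++ cn i s) (cn i s ++ ((cu s).reverse ++ (cr i ++ cu s))))

theorem fu_ok (i : Fin 7) (s : Fin 6) : fuB i s = true := by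
  fin_cases i <;> fin_cases s <;> decide +kernel

noncomputable def qB (W : List ℕ) (c : ℕ × ℕ × ℕ) : Bool :=
  band (band (band (C.eqW (pwr W 3) []) (bnot (C.eqW W []))) (C.memB ⟨[], [], [b1, b2, b3]⟩ W))
    (frc (C.fixW W) fun s => band (Nat.beq (C.cn (Nat.land s b1)) c.1)
      (band (Nat.beq (C.cn (Nat.land s b2)) c.2.1) (Nat.beq (C.cn (Nat.land s b3)) c.2.2)))

theorem q_ok (j : Fin 13) : qB (cq j) (cv j) = true := by
  fin_cases j <;> decide +kernel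

variable {G : Type*} [Group G] {D : Set G} (M : Mdl G D C)

/-- the number of fixed points in a block -/
noncomputable def fx (b : ℕ) (x : G) : ℕ := {q | q < C.n ∧ M.act x q = q ∧ b.testBit q = true}.ncard

theorem fx_conj {b : ℕ} {g : G} (hg : M.Inv g b) (x : G) : fx M b (g * x * g⁻¹) = fx M b x := by
  rw [fx, fx, ← Set.ncard_image_of_injective {q | q < C.n ∧ M.act x q = q ∧ b.testBit q = true} (M.act g).injective]
  congr 1
  ext q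
  obtain ⟨q, rfl⟩ := (M.act g).surjective q
  rw [(M.act g).injective.mem_set_image]
  simp only [Set.mem_ofPred_eq, M.act_lt, M.act_mul, M.act_inv_act, (M.act g).injective.eq_iff]
  exact and_congr_right fun h => by rw [hg q h]

theorem fx_inv (b : ℕ) (x : G) : fx M b x⁻¹ = fx M b x := by
  rw [fx, fx]
  congr 1
  ext q
  simp only [Set.mem_ofPred_eq, map_inv, Equiv.Perm.inv_eq_iff_eq]
  rw [eq_comm]

theorem fx_el (b : ℕ) (W : List ℕ) : fx M b (M.el W) = C.cn (Nat.land (C.fixW W) b) := by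
  rw [M.ok.cn_eq, fx]
  congr 1
  ext q
  refine and_congr_right fun h => ?_
  change _ ↔ (C.fixW W &&& b).testBit q = true
  rw [Nat.testBit_and, Bool.and_eq_true, M.ok.testBit_fixW W h, M.act_el W h]

/-- the numbers of fixed points in the three blocks -/
noncomputable def fv (x : G) : ℕ × ℕ × ℕ := (fx M b1 x, fx M b2 x, fx M b3 x)

theorem fv_conj {g : G} (hg : g ∈ N M) (x : G) : fv M (g * x * g⁻¹) = fv M x := by
  rw [fv, fv, fx_conj M (hg.2.2 b1 (by simp)), fx_conj M (hg.2.2 b2 (by simp)), fx_conj M (hg.2.2 b3 (by simp))]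

theorem fv_inv (x : G) : fv M x⁻¹ = fv M x := by rw [fv, fv, fx_inv, fx_inv, fx_inv]

theorem fv_q (j : Fin 13) : fv M (M.el (cq j)) = cv j := by
  have h := band_right (q_ok j)
  rw [fv, fx_el, fx_el, fx_el]
  exact Prod.ext (Nat.eq_of_beq_eq_true (band_left h)) (Prod.ext (Nat.eq_of_beq_eq_true (band_left (band_right h)))
    (Nat.eq_of_beq_eq_true (band_right (band_right h))))

theorem q_mem (j : Fin 13) : M.el (cq j) ∈ N M := M.mem_of_memB (band_right (band_left (q_ok j)))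

theorem q_ord (j : Fin 13) : orderOf (M.el (cq j)) = 3 :=
  have := Fact.mk Nat.prime_three
  M.orderOf_el (band_left (band_left (q_ok j)))

theorem r_eq (i : Fin 7) : cr i = cq (cJ i 0) := by fin_cases i <;> rfl

theorem fuse (g : G) (i : Fin 7) :
    ∃ s, ∃ n ∈ N M, g * M.el (cr i) * g⁻¹ = n * M.el (cq (cJ i s)) * n⁻¹ := by
  obtain ⟨φ, -, h1, h2⟩ := exists_phi M
  have a := (h2 _ _).1 (M.mem_setRel_of (e := ([1], Equiv.swap 1 2)) (by decide +kernel))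
  have b := (h2 _ _).1 (M.mem_setRel_of (e := ([10], Equiv.swap 0 1)) (by decide +kernel))
  have c := (h2 _ _).1 (M.mem_setRel_of (e := ([11], Equiv.swap 0 2)) (by decide +kernel))
  have k : ∀ σ : Equiv.Perm (Fin 3), ∃ s : Fin 6, σ = ![1, Equiv.swap 1 2, Equiv.swap 0 1, Equiv.swap 0 2,
      Equiv.swap 0 1 * Equiv.swap 1 2, Equiv.swap 1 2 * Equiv.swap 0 1] s := by decide
  obtain ⟨s, hs⟩ := k (φ g)
  have h3 : φ (M.el (cu s)) = φ g := by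
    rw [hs]
    fin_cases s
    · exact map_one φ
    · exact a
    · exact b
    · exact c
    · exact (congrArg φ (M.el_append [1] [10])).trans (by rw [map_mul, a, b]; rfl)
    · exact (congrArg φ (M.el_append [10] [1])).trans (by rw [map_mul, a, b]; rfl)
  have h4 : g * (M.el (cu s))⁻¹ ∈ N M := by rw [← h1, MonoidHom.mem_ker, map_mul, map_inv, h3, mul_inv_cancel]
  have h5 := M.conj_el_eq (band_right (fu_ok i s))
  rw [M.el_append, M.el_append, M.el_reverse] at h5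
  refine ⟨s, _, mul_mem h4 (M.mem_of_memB (band_left (fu_ok i s))), ?_⟩
  calc _ = g * (M.el (cu s))⁻¹ * (M.el (cu s) * M.el (cr i) * (M.el (cu s))⁻¹) * (g * (M.el (cu s))⁻¹)⁻¹ := by group
    _ = _ := by rw [← h5]; group

theorem good0 {y : G} (hy : y ∈ N M) : Good 3 (Set.range fun i => M.el (cr i)) y := by
  have := M.fin
  have hT : pcT (M.lg s3) 12 1 ≤ N M := pcT_le fun l h1 h2 => M.mem_of_memB (of_allR (b := 13) s3N h1 (by omega))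
  have hc := (pc3 M).card_eq (by norm_num) (pc3card M) le_rfl (by norm_num)
  have h1 := good_of_sylow (G := N M) Nat.prime_three (R := {z | z.1 ∈ pcT (M.lg s3) 12 1 ∧ z ^ 3 = 1})
    (T := (pcT (M.lg s3) 12 1).subgroupOf (N M)) (fun h => by
      have h2 := ((pcT (M.lg s3) 12 1).subgroupOf (N M)).card_mul_index
      rw [Nat.card_congr (Subgroup.subgroupOfEquivOfLe hT).toEquiv, hc, card_N] at h2
      obtain ⟨c, h⟩ := h
      rw [h] at h2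
      omega) (fun z hz h => Or.inr ⟨z, ⟨hz, h⟩, 1, 1, by simp⟩) ⟨y, hy⟩
  intro h3
  rcases h1 (Subtype.ext h3) with h | ⟨z, ⟨h4, h5⟩, g, k, h⟩
  · exact Or.inl (congrArg Subtype.val h)
  have h6 := ((s3loc M).good_of_chk Nat.prime_three (pc3 M) (pc3card M) d3c le_rfl (one_mem _)).1 rfl z.1 h4
  have h7 : y = g.1 * z.1 ^ k * g.1⁻¹ := congrArg Subtype.val h
  simp only [wv_nil, mul_one] at h6
  rcases h6 (congrArg Subtype.val h5) with h8 | ⟨_, ⟨W, hW, rfl⟩, g', k', h8⟩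
  · exact Or.inl (by rw [h7, h8]; simp)
  · refine Or.inr ⟨M.el W, ?_, g.1 * g', k' * k, by rw [h7, h8, conj_pow, ← pow_mul]; group⟩
    simp only [d3R, List.mem_cons, List.not_mem_nil, or_false, Set.mem_ofPred_eq] at hW
    rcases hW with rfl | rfl | rfl | rfl | rfl | rfl | rfl
    exacts [⟨0, rfl⟩, ⟨1, rfl⟩, ⟨2, rfl⟩, ⟨3, rfl⟩, ⟨4, rfl⟩, ⟨5, rfl⟩, ⟨6, rfl⟩]

theorem goodN (y : N M) : Good 3 (Set.range fun j => (⟨M.el (cq j), q_mem M j⟩ : N M)) y := fun h => by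
  rcases good0 M y.2 (congrArg Subtype.val h) with h1 | ⟨_, ⟨i, rfl⟩, g, k, h1⟩
  · exact Or.inl (Subtype.ext h1)
  obtain ⟨s, n, hn, h2⟩ := fuse M g i
  exact Or.inr ⟨_, ⟨cJ i s, rfl⟩, ⟨n, hn⟩, k, Subtype.ext (by
    rw [h1, ← conj_pow, h2, conj_pow]; rfl)⟩

theorem fv_of_mem {x y : G} (hx : x ≠ 1) (hy : orderOf y = 3) (h : x ∈ Subgroup.zpowers y) : fv M x = fv M y := by
  obtain ⟨m, rfl⟩ := h
  have h6 : y ^ (3 : ℤ) = 1 := by
    have := pow_orderOf_eq_one y; rw [hy] at this; exact_mod_cast this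
  have h7 : y ^ m = y ^ (m % 3) := by
    conv_lhs => rw [← Int.mul_ediv_add_emod m 3, zpow_add, zpow_mul, h6, one_zpow, one_mul]
  simp only [h7] at hx ⊢
  have h8 : m % 3 = 0 ∨ m % 3 = 1 ∨ m % 3 = 2 := by omega
  rcases h8 with h8 | h8 | h8
  · simp [h8] at hx
  · rw [h8, zpow_one]
  · rw [h8, ← fv_inv M y]
    congr 1
    rw [eq_inv_iff_mul_eq_one, ← zpow_add_one]; exact h6

/-- the seven orbits -/
theorem orbits : ∃ Y : Fin 7 → Subgroup G, (∀ i, Y i ≤ N M ∧ Nat.card (Y i) = 3) ∧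
    (∀ i j, (∃ g : G, (Y i).map (MulAut.conj g).toMonoidHom = Y j) → i = j) ∧
    ∀ X : Subgroup G, X ≤ N M → Nat.card X = 3 → ∃ i, ∃ g : G, X.map (MulAut.conj g).toMonoidHom = Y i := by
  have := M.fin
  have ho : ∀ i, orderOf (M.el (cr i)) = 3 := fun i => by rw [r_eq, q_ord]
  refine ⟨fun i => Subgroup.zpowers (M.el (cr i)), fun i => ⟨Subgroup.zpowers_le.2 (r_eq i ▸ q_mem M _),
    by rw [Nat.card_zpowers, ho]⟩, fun i j ⟨g, h⟩ => ?_, fun X hX hc => ?_⟩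
  · obtain ⟨s, n, hn, h1⟩ := fuse M g i
    have h2 : g * M.el (cr i) * g⁻¹ ∈ Subgroup.zpowers (M.el (cr j)) := h.le ⟨_, Subgroup.mem_zpowers _, rfl⟩
    have h3 := fv_of_mem M (fun e => by
      have h4 : M.el (cr i) = 1 := by simpa using e
      have := ho i
      rw [h4, orderOf_one] at this
      omega) (ho j) h2
    rw [h1, fv_conj M hn, r_eq, fv_q, fv_q] at h3
    exact (by decide : ∀ (i j : Fin 7) (s : Fin 6), cv (cJ i s) = cv (cJ j 0) → i = j) i j s h3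
  · have := Fact.mk Nat.prime_three
    obtain ⟨x, hx⟩ := exists_prime_orderOf_dvd_card' (G := X) 3 (by rw [hc])
    have h1 : orderOf x.1 = 3 := by rw [Subgroup.orderOf_coe, hx]
    have h2 : X = Subgroup.zpowers x.1 := (Subgroup.eq_of_le_of_card_ge (Subgroup.zpowers_le.2 x.2)
      (by rw [Nat.card_zpowers, h1, hc])).symm
    rcases good0 M (hX x.2) (h1 ▸ pow_orderOf_eq_one x.1) with h | ⟨_, ⟨i, rfl⟩, g, k, h⟩
    · rw [h, orderOf_one] at h1; omega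
    refine ⟨i, g⁻¹, Subgroup.eq_of_le_of_card_ge ?_ ?_⟩
    · rw [h2, MonoidHom.map_zpowers, Subgroup.zpowers_le, h]
      exact ⟨k, by simp [mul_assoc]⟩
    · rw [Subgroup.card_map_of_injective (MulAut.conj g⁻¹).injective, hc, Nat.card_zpowers, ho]


end Cfsg.Lib.Spor.F24.LL
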