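import Cfsg.Agent.Spor.ONWM
import Cfsg.Agent.Spor.WMFix

/-! Data for the outer automorphism group of the O'Nan group. -/

set_option autoImplicit false
set_option maxRecDepth 100000
set_option Elab.async false

namespace Cfsg.Lib.Spor.ONP

open Cfsg.Lib.Spor.Bulk Cfsg.Lib.Spor.WM Cfsg.Lib.Known

theorem g_acts : ∀ l < 9, Acts ρ (g_T.fn l) (g0 l) := fun l hl => by
  interval_cases l
  exacts [sat.zero ▸ acts_id ρ, t1_g, t2_g, t3_g, t4_g, t5_g, t6_g, t7_g, t8_g]

theorem R_w {W : List ℕ} (h : ltB 9 [W] = true) : g_good.fm.R (pack 6 W) (wv g0 W) :=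
  g_good.R_pack (by decide) g_acts (lt_of_ltB h _ List.mem_cons_self)

/-- an element of order `19` -/
def oX : List ℕ := [1, 2, 3, 4, 5, 6]
/-- an element of order `6` -/
def oU : List ℕ := [1, 2, 3, 8, 4, 2, 8, 5, 4, 3, 2, 4, 5, 6, 5, 4, 3, 4, 7, 2, 3, 5, 4, 3, 7, 2, 3, 4]
/-- an element of order `3` -/
def oY : List ℕ := [3, 2, 7, 2, 3, 4, 5, 3, 8, 4, 3, 5, 4, 3, 2, 4, 3, 4, 5, 4, 3, 6, 7, 4, 5, 4, 6]
/-- the second image -/
def oZ : List ℕ := [3, 4, 2, 8, 1, 2, 1, 3, 2, 4, 3, 4, 5, 4, 3, 6, 5, 7, 2, 3, 4, 3, 2, 4, 5, 4, 7, 3, 7, 2]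
noncomputable def o_c : Model.OutCert where
  N := 460815505920
  p := 19
  j := 8
  b := 1
  e := 1
  s := 1
  k0 := 1
  cx := pack 6 oX
  cu := pack 6 oU
  cy := pack 6 oY
  cy' := pack 6 oZ
  ks := [1, 2, 4]
  rs := [(3, [2]), (11, [0, 0, 2]), (16, [0, 1, 2])]
  cs := [1,2,3,4,5,6,77282917910332842177,5010412174923155571414950147,669559755575891642535287089279234,1108107393,
  1316227804440152248201269379,3289141507,76148560218633023749,5422730705349677424538684932832120966,
  5232812761958297783214028108100,20682342226524262248657432621185]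
  lsA := [⟨35556, 0, 0, 26, [0, 1, 2, 3, 4, 5]⟩, ⟨74131, 35557, 0, 9, [6, 7, 8, 9]⟩, ⟨62838, 74132, 0, 0, []⟩]
  lsB := [⟨53952, 0, 0, 6, [7, 10, 11, 12]⟩, ⟨1, 0, 0, 5, [13, 14, 15]⟩, ⟨74439, 2, 0, 0, []⟩]
def o_E : List (ℕ × ℕ) := [(0, 0), (1396, 35532315852929), (35556, 37930037491227974980100), (49238, 38006202653785430438149), (53952,
   38152534184968653128006), (63505, 2427520112450004513997126), (79219, 2427669973404098279801095), (82068,
   2427890199681033170350212), (86253, 2441762115481742785937672)]
def o_P : List (ℕ × ℕ × ℕ) := [(0, 35556, 0), (0, 63505, 2378754172218007876), (1396, 53952, 19952224417943781721014401), (1396, 79219,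
   2742526980528792333850147646948278401), (35556, 0, 1581900326420142322212671693654221540891461164196450820),
   (35556, 63505, 740712447029695630968740163270931363405893), (49238, 82068, 5237802603429844488313960677697),
   (49238, 86253, 45668873896214731600191608338125751275499781), (53952, 1396,
   126242956414275777671009282252620102), (53952, 79219, 45657817314449543326781917649045872993648966), (63505,
   0, 2637194182616251083933154361775862233538234971869446), (63505, 35556,
   718934313239193268678852333888217646121286), (79219, 1396, 719109792423034617169133255328775900791047),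
   (79219, 53952, 45669046632588517662151693705128406307602695), (82068, 49238,
   702603397962673523682945456774465014231172), (82068, 86253, 47068206684307512520344627734909829396570436),
   (86253, 49238, 517153751127640892097137305040849240328), (86253, 82068, 334744037538751652505899549098248)]
theorem o_one : oneB g_good.fm (fun _ x => x) (invF g_i 6 63) o_c.cs 3753792 o_c.lsA o_c.cx o_c.p 0 35556 672
    o_E o_P = true := by decide +kernel
theorem o_two : twoB g_good.fm (fun _ x => x) (invF g_i 6 63) o_c 0 35556 672 o_P = true := by decide +kernel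
theorem o_fx : fixLeB on_T 122760 17 oX [0] = true := by decide +kernel
theorem o_fu : fixLeB on_T 122760 17 oU (o_E.map Prod.fst) = true := by decide +kernel

end Cfsg.Lib.Spor.ONP
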