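import Cfsg.Agent.Spor.ONWM
import Cfsg.Agent.Known.MathieuCover
import Cfsg.Agent.Walter.J1Model
import Cfsg.Agent.Spor.M24Simple

/-! Subgroups `J₁` and `M₁₁` of the group of degree 122760. -/

set_option autoImplicit false
set_option maxRecDepth 100000
set_option Elab.async false

namespace Cfsg.Lib.Known

open Cfsg.Lib.Spor Cfsg.Lib.Spor.Bulk

universe u

noncomputable def m11p_i : ℕ → ℕ := getN 0 [0,2,1,4,3,5,6,7]
noncomputable def m11p_R : List (List ℕ) := [[2,3,3,2],[3,1,3,2],[5,1,5,3,5,3,2],[6,5,2,6,4,2,5,1],[6,5,6,5,6,5],[7,5,4,7,4,5,1],[7,1,4,6,7,6,3,2],[7,1,1,7,4,7,3]]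
noncomputable def m11p_c3_C : SeqCert := ⟨nat_lit 3, nat_lit 9, nat_lit 8, nat_lit 0x7070606050503040403010202010000, (NT.leaf (nat_lit 0) (nat_lit 0x9f019c11704b005504c80a6017811d04e40f101a412003600900120000)), (NT.node (nat_lit 4) (NT.node (nat_lit 2) (NT.node (nat_lit 1) (NT.leaf (nat_lit 16385) (nat_lit 0x4040101)) (NT.leaf (nat_lit 16388) (nat_lit 0x1030203))) (NT.node (nat_lit 3) (NT.leaf (nat_lit 49156) (nat_lit 0x2030103)) (NT.leaf (nat_lit 49157) (nat_lit 0x4010402)))) (NT.node (nat_lit 6) (NT.node (nat_lit 5) (NT.leaf (nat_lit 1) (nat_lit 0x1040401)) (NT.leaf (nat_lit 32769) (nat_lit 0x4010104))) (NT.node (nat_lit 7) (NT.leaf (nat_lit 49153) (nat_lit 0x1010404)) (NT.leaf (nat_lit 32773) (nat_lit 0x2040104)))))⟩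
noncomputable def m11p_c3_U : List (List ℕ) := []
noncomputable def m11p_c3_HL : List ℕ := []
theorem m11p_c3_head : m11p_c3_C.head 8 m11p_i m11p_R m11p_c3_U m11p_c3_HL 8 3 0 = true := by decide +kernel
noncomputable def m11p_c3_s0 : List ℕ := [nat_lit 0x1c020380c0e0e068540606070080a03028502c180180c140d0b00c08040384806030600812030103016110180414020380c0009]
theorem m11p_c3_ok0 : m11p_c3_C.StepsOK 8 17 := (SeqCert.StepsOK.refl _ 8).step (L := m11p_c3_s0) (by decide +kernel)
theorem m11p_c3_ok : m11p_c3_C.StepsOK (8 + 0) 17 := m11p_c3_ok0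
noncomputable def m11p_c3_r0 : List ℕ := [nat_lit 0x220198110088, nat_lit 0x3b83300c02a9, nat_lit 0x5b0778668142, nat_lit 0x1c04684f087b, nat_lit 0x6a82407f8574, nat_lit 0x4186e02c8615, nat_lit 0x3485d052049e, nat_lit 0x7103c88187a7]
theorem m11p_c3_final : m11p_c3_C.final 8 17 (nat_lit 0xff) 8 [1,2,3,4] (m11p_c3_r0) = true := by decide +kernel
theorem m11p_c3 {G : Type*} [Group G] {g : ℕ → G} {H : Subgroup G} (hg : Sat g 8 m11p_i m11p_R)
    (hU : ∀ u ∈ m11p_c3_U, wv g u ∈ H) (hL : ∀ l ∈ m11p_c3_HL, g l ∈ H) :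
    IdxLe H (Subgroup.closure {x | ∃ l ∈ ([1,2,3,4] : List ℕ), g l = x}) 8 :=
  SeqCert.idxLe_of_final hg hU hL m11p_c3_head m11p_c3_ok m11p_c3_final
noncomputable def m11p_c2_C : SeqCert := ⟨nat_lit 4, nat_lit 9, nat_lit 8, nat_lit 0x7070606050503040403010202010000, (NT.leaf (nat_lit 0) (nat_lit 0x54802480158043805660465013605730473025701470446052503000100048203720162045103410231012105100000)), (NT.node (nat_lit 5) (NT.node (nat_lit 2) (NT.node (nat_lit 1) (NT.leaf (nat_lit 65545) (nat_lit 0x5020501040504)) (NT.leaf (nat_lit 16385) (nat_lit 0x4040101))) (NT.node (nat_lit 3) (NT.leaf (nat_lit 16388) (nat_lit 0x1030203)) (NT.node (nat_lit 4) (NT.leaf (nat_lit 49156) (nat_lit 0x2030103)) (NT.leaf (nat_lit 49157) (nat_lit 0x4010402))))) (NT.node (nat_lit 8) (NT.node (nat_lit 6) (NT.leaf (nat_lit 98313) (nat_lit 0x5010405040502)) (NT.node (nat_lit 7) (NT.leaf (nat_lit 1) (nat_lit 0x1040401)) (NT.leaf (nat_lit 32769) (nat_lit 0x4010104)))) (NT.node (nat_lit 9) (NT.leaf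 (nat_lit 49153) (nat_lit 0x1010404)) (NT.node (nat_lit 10) (NT.leaf (nat_lit 32773) (nat_lit 0x2040104)) (NT.leaf (nat_lit 32777) (nat_lit 0x5040502050104))))))⟩
noncomputable def m11p_c2_U : List (List ℕ) := []
noncomputable def m11p_c2_HL : List ℕ := [1,2,3,4]
theorem m11p_c2_head : m11p_c2_C.head 8 m11p_i m11p_R m11p_c2_U m11p_c2_HL 9 4 2 = true := by decide +kernel
noncomputable def m11p_c2_s0 : List ℕ := [nat_lit 0x20040104c06090302820040480c1210078740608080100e030388c421e108784406028703c2201810180f0f00c0c060105406090d0180a06048680604070101603018381a190180818040480c020a01054240302818000d]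
theorem m11p_c2_ok0 : m11p_c2_C.StepsOK 11 24 := (SeqCert.StepsOK.refl _ 11).step (L := m11p_c2_s0) (by decide +kernel)
theorem m11p_c2_ok : m11p_c2_C.StepsOK (9 + 2) 24 := m11p_c2_ok0
noncomputable def m11p_c2_r0 : List ℕ := [nat_lit 0x210a805002601200, nat_lit 0x3005282100c60421, nat_lit 0x175084039c0a20c62, nat_lit 0x2070f38a6046c0713, nat_lit 0x2f8048865836e2d84, nat_lit 0x16212302c45701d75, nat_lit 0x2660c209541a42236, nat_lit 0x21307907cc38a1a47, nat_lit 0x2e414184485882a58]
theorem m11p_c2_final : m11p_c2_C.final 8 24 (nat_lit 0x1ff) 9 [1,2,3,4,5] (m11p_c2_r0) = true := by decide +kernel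
theorem m11p_c2 {G : Type*} [Group G] {g : ℕ → G} {H : Subgroup G} (hg : Sat g 8 m11p_i m11p_R)
    (hU : ∀ u ∈ m11p_c2_U, wv g u ∈ H) (hL : ∀ l ∈ m11p_c2_HL, g l ∈ H) :
    IdxLe H (Subgroup.closure {x | ∃ l ∈ ([1,2,3,4,5] : List ℕ), g l = x}) 9 :=
  SeqCert.idxLe_of_final hg hU hL m11p_c2_head m11p_c2_ok m11p_c2_final
noncomputable def m11p_c1_C : SeqCert := ⟨nat_lit 4, nat_lit 9, nat_lit 8, nat_lit 0x7070606050503040403010202010000, (NT.leaf (nat_lit 0) (nat_lit 0x39901990669068705670644058302480158043806530465013604730257014705440446062205120500030001000595048203720162045103410231012106100000)), (NT.node (nat_lit 8) (NT.node (nat_lit 4) (NT.node (nat_lit 2) (NT.node (nat_lit 1) (NT.leaf (nat_lit 98317) (nat_lit 0x506020501030601)) (NT.leaf (nat_lit 16) (nat_lit 0x60506050605))) (NT.node (nat_lit 3) (NT.leaf (nat_lit 16385) (nat_lit 0x4040101)) (NT.leaf (nat_lit 32777) (nat_lit 0x5040502050104)))) (NT.node (nat_lit 6) (NT.node (nat_lit 5) (NT.leaf (nat_lit 16388)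 (nat_lit 0x1030203)) (NT.leaf (nat_lit 49156) (nat_lit 0x2030103))) (NT.node (nat_lit 7) (NT.leaf (nat_lit 49157) (nat_lit 0x4010402)) (NT.leaf (nat_lit 1) (nat_lit 0x1040401))))) (NT.node (nat_lit 12) (NT.node (nat_lit 10) (NT.node (nat_lit 9) (NT.leaf (nat_lit 49164) (nat_lit 0x604020501060502)) (NT.leaf (nat_lit 32769) (nat_lit 0x4010104))) (NT.node (nat_lit 11) (NT.leaf (nat_lit 49153) (nat_lit 0x1010404)) (NT.leaf (nat_lit 32773) (nat_lit 0x2040104)))) (NT.node (nat_lit 14) (NT.node (nat_lit 13) (NT.leaf (nat_lit 16397) (nat_lit 0x501030601050602)) (NT.leaf (nat_lit 8) (nat_lit 0x5010503050302))) (NT.node (nat_lit 15) (NT.leaf (nat_lit 16392) (nat_lit 0x1050305030205)) (NT.leaf (nat_lit 49160) (nat_lit 0x3050302050105))))))⟩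
noncomputable def m11p_c1_U : List (List ℕ) := []
noncomputable def m11p_c1_HL : List ℕ := [1,2,3,4,5]
theorem m11p_c1_head : m11p_c1_C.head 8 m11p_i m11p_R m11p_c1_U m11p_c1_HL 10 4 3 = true := by decide +kernel
noncomputable def m11p_c1_s0 : List ℕ := [nat_lit 0x12180d00c0b098181e1212038360b098181c12160d474390280446201b08872291701c1023040682234140181a321a0b46034030240e080300830140182c60070604008090182c200f1280c14100201c06090306838040d0345407040904c2801818180f1300c0e06048880606070101603028381a1f018103c0c0d81436090300c18040480c041b01060061a0280408020b05030150181c0014]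
theorem m11p_c1_ok0 : m11p_c1_C.StepsOK 13 33 := (SeqCert.StepsOK.refl _ 13).step (L := m11p_c1_s0) (by decide +kernel)
theorem m11p_c1_ok : m11p_c1_C.StepsOK (10 + 3) 33 := m11p_c1_ok0
noncomputable def m11p_c1_r0 : List ℕ := [nat_lit 0x421800b805802a01400, nat_lit 0x601b205282100c60421, nat_lit 0x3841a1084039c0a20c62, nat_lit 0x58a3481338be052c0713, nat_lit 0x6c820404887d846e3384, nat_lit 0x5a612915302c46302575, nat_lit 0x7b23970f20ad41a42836, nat_lit 0x75038607909cc48a2247, nat_lit 0x76e35317184486483058, nat_lit 0x78c13520c90247f23e99]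
theorem m11p_c1_final : m11p_c1_C.final 8 33 (nat_lit 0x3ff) 10 [1,2,3,4,5,6] (m11p_c1_r0) = true := by decide +kernel
theorem m11p_c1 {G : Type*} [Group G] {g : ℕ → G} {H : Subgroup G} (hg : Sat g 8 m11p_i m11p_R)
    (hU : ∀ u ∈ m11p_c1_U, wv g u ∈ H) (hL : ∀ l ∈ m11p_c1_HL, g l ∈ H) :
    IdxLe H (Subgroup.closure {x | ∃ l ∈ ([1,2,3,4,5,6] : List ℕ), g l = x}) 10 :=
  SeqCert.idxLe_of_final hg hU hL m11p_c1_head m11p_c1_ok m11p_c1_final
noncomputable def m11p_c0_C : SeqCert := ⟨nat_lit 4, nat_lit 9, nat_lit 8, nat_lit 0x7070606050503040403010202010000, (NT.leaf (nat_lit 0) (nat_lit 0x3aa078a01aa056a0799049902990599068805880148025803380654067707630722052702730747035704470156016403630326075505350514060005000300010006a30692038201720661045103410231012107100000)), (NT.node (nat_lit 12) (NT.node (nat_lit 6) (NT.node (nat_lit 3) (NT.node (nat_lit 1) (NT.leaf (nat_lit 81941) (nat_lit 0x5070205030703)) (NT.node (nat_lit 2) (NT.leaf (nat_lit 81940) (nat_lit 0x5010705040704))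 (NT.leaf (nat_lit 81948) (nat_lit 0x7030701010704)))) (NT.node (nat_lit 4) (NT.leaf (nat_lit 98328) (nat_lit 0x302070104060706)) (NT.node (nat_lit 5) (NT.leaf (nat_lit 16384) (nat_lit 0x3030202)) (NT.leaf (nat_lit 16388) (nat_lit 0x1030203))))) (NT.node (nat_lit 9) (NT.node (nat_lit 7) (NT.leaf (nat_lit 16385) (nat_lit 0x4040101)) (NT.node (nat_lit 8) (NT.leaf (nat_lit 32772) (nat_lit 0x3020301)) (NT.leaf (nat_lit 49180) (nat_lit 0x7040703070101)))) (NT.node (nat_lit 10) (NT.leaf (nat_lit 32773) (nat_lit 0x2040104)) (NT.node (nat_lit 11) (NT.leaf (nat_lit 98313) (nat_lit 0x5010405040502)) (NT.leaf (nat_lit 20) (nat_lit 0x7050407040501)))))) (NT.node (nat_lit 18) (NT.node (nat_lit 15) (NT.node (nat_lit 13) (NT.leaf (nat_lit 98325) (nat_lit 0x7020503070305)) (NT.node (nat_lit 14) (NT.leaf (nat_lit 12) (nat_lit 0x605020604020501)) (NT.leaf (nat_lit 81944) (nat_lit 0x603020701040607)))) (NT.node (nat_lit 16) (NT.leaf (nat_lit 32768) (nat_lit 0x3020203)) (NT.node (nat_lit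 17) (NT.leaf (nat_lit 49152) (nat_lit 0x2020303)) (NT.leaf (nat_lit 65544) (nat_lit 0x5030205010503))))) (NT.node (nat_lit 21) (NT.node (nat_lit 19) (NT.leaf (nat_lit 65549) (nat_lit 0x601050602050103)) (NT.node (nat_lit 20) (NT.leaf (nat_lit 16400) (nat_lit 0x50605060506)) (NT.leaf (nat_lit 32780) (nat_lit 0x206040205010605)))) (NT.node (nat_lit 22) (NT.leaf (nat_lit 65548) (nat_lit 0x402050106050206)) (NT.node (nat_lit 23) (NT.leaf (nat_lit 65560) (nat_lit 0x706030207010406)) (NT.leaf (nat_lit 81933) (nat_lit 0x105060205010306)))))))⟩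
noncomputable def m11p_c0_U : List (List ℕ) := []
noncomputable def m11p_c0_HL : List ℕ := [1,2,3,4,5,6]
theorem m11p_c0_head : m11p_c0_C.head 8 m11p_i m11p_R m11p_c0_U m11p_c0_HL 11 4 4 = true := by decide +kernel
noncomputable def m11p_c0_s0 : List ℕ := [nat_lit 0x28390602484542981c0614138a060321f1180e160a0f8822103034a0070b850403c0f8340a130904482222004026070b0481e350992c904a0385490120207852250981c28121a0e86a130284c20040f0a4181e2101c24101a03868321f0182210078b40605080905603080401e320183c603a178a870060581c1c0e1a0c84e0c028d00e0d100b862080f0a40c0c020785831160d40c0b19080141e160380c0a138a058030483808020c00c120604038482b0181c1c040480c0c260302c0605040144803028180a240181018020e0642c030281c060a010582c0305818040a01064340303818020801060341701818001d]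
theorem m11p_c0_ok0 : m11p_c0_C.StepsOK 15 44 := (SeqCert.StepsOK.refl _ 15).step (L := m11p_c0_s0) (by decide +kernel)
theorem m11p_c0_ok : m11p_c0_C.StepsOK (11 + 4) 44 := m11p_c0_ok0
noncomputable def m11p_c0_r0 : List ℕ := [nat_lit 0x843801a00c806002e01600, nat_lit 0xc018c1f405282100c60421, nat_lit 0xd8825235712b04200a20e72, nat_lit 0xe182942151fc099864e0713, nat_lit 0xc5c78a1e10488b5c8702864, nat_lit 0x8947a820317b82c456c4185, nat_lit 0xe4c1a251a13989085282a56, nat_lit 0xc1074e3421620b941e43337, nat_lit 0x15688d04480890f8c80a4248, nat_lit 0x13a426448926493649524b99, nat_lit 0x15202a65062bd15a8a7452aa]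
theorem m11p_c0_final : m11p_c0_C.final 8 44 (nat_lit 0x7ff) 11 [1,2,3,4,5,6,7] (m11p_c0_r0) = true := by decide +kernel
theorem m11p_c0 {G : Type*} [Group G] {g : ℕ → G} {H : Subgroup G} (hg : Sat g 8 m11p_i m11p_R)
    (hU : ∀ u ∈ m11p_c0_U, wv g u ∈ H) (hL : ∀ l ∈ m11p_c0_HL, g l ∈ H) :
    IdxLe H (Subgroup.closure {x | ∃ l ∈ ([1,2,3,4,5,6,7] : List ℕ), g l = x}) 11 :=
  SeqCert.idxLe_of_final hg hU hL m11p_c0_head m11p_c0_ok m11p_c0_final
theorem m11p_ord : OrdLe.{u} 8 m11p_i m11p_R [1,2,3,4,5,6,7] 7920 :=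
  (((((OrdLe.nil 8 m11p_i m11p_R).step (Ls := [1,2,3,4]) m11p_c3).step (Ls := [1,2,3,4,5]) m11p_c2).step (Ls := [1,2,3,4,5,6]) m11p_c1).step (Ls := [1,2,3,4,5,6,7]) m11p_c0)
theorem m11p_pres : ∃ g : ℕ → Spor.M11, Pres g 8 m11p_i m11p_R :=
  pres_sub (t := MP.isM11) (fun _ h => MP.inSub_of_isM11 h) MP.card_M11 m11p_ord
    [984818244535754528103549039458486304, 608405391266436187982588441666881568, 609271311764373893382231684089481248, 227578386318009578406903204956702752, 232652365823391711183829569059784736, 944569772236290697579231267829188640, 735587421144309950099182594919155744, 982224155767909524168889505747699904]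
    [⟨1, 0, 0, 4, [2, 6, 7]⟩, ⟨2, 0, 0, 5, [1, 6]⟩, ⟨3, 0, 0, 6, [4, 5]⟩, ⟨4, 0, 0, 3, [3, 1]⟩] (by decide +kernel)

end Cfsg.Lib.Known

namespace Cfsg.Lib.Spor.WM

open Cfsg.Lib.Spor.Bulk Cfsg.Lib.Known

variable {G : Type} [Group G] {n : ℕ} {ρ : G →* Equiv.Perm (Fin n)} {T : FT} {b m : ℕ} {base : List ℕ}

/-- Relations among coded words. -/
theorem Good.sat (h : Good ρ T b m base) (cs : List ℕ) {k : ℕ} {ι : ℕ → ℕ} {R : List (List ℕ)}
    (h0 : PC.nth 0 cs 0 = 0) (hc : relsChk h.model.mul 0 h.model.eqv cs (invRels ι k ++ R) = true) :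
    Sat (fun i => h.V (PC.nth 0 cs i)) k ι R :=
  MulModel.sat_of_chk (M := h.model.toMulModel) (fun _ => h.R_V _) h0 hc

theorem Good.ne_one (h : Good ρ T b m base) {c x : ℕ} (hx : x < n) (e : app T b m c x ≠ x) : h.V c ≠ 1 := by
  intro h1
  have := h.acts_app c ⟨x, hx⟩
  rw [h1, map_one] at this
  exact e this

end Cfsg.Lib.Spor.WM

namespace Cfsg.Lib.Spor.ONP

open Cfsg.Lib.Spor.Bulk Cfsg.Lib.Spor.WM Cfsg.Lib.Known

/-- codes of generators of `J₁` -/
def cJ : List ℕ := [0,386116286403168325006050518845936761336262606991489,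
  694271007419432366782966144063946099251319592828678459845,45669303153131585779037077216401410367164742,
  135569093197516007512891771047519080949760194,7735816043551140513579295407377851707530721969390776514,
  192696710209619134913508816253173007557105240041603266]
/-- codes of generators of `M₁₁` -/
def cM : List ℕ := [0,3139469392230559124449127287032716195237024889748615299,
  7713384916421358761833416887848424859124108228450590788,193479805448226769899235399821320322154973654621634694,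
  97686956499612474268040759731382423830567117876117831,3257319496361338084410176700082112824014750726449021317,
  17907834669796072042314655881531964205140230541827,3257699483953466312216899798199040802529513056352608325]

theorem exists_J1 : ∃ K : Subgroup Cfsg.Spor.ON, Nonempty (K ≃* Cfsg.Spor.J1) :=
  ⟨_, Walter.J1Cert.iso_of_sat (g_good.sat cJ rfl (by decide +kernel))
    (g_good.ne_one (x := 0) (by norm_num) (by decide +kernel))⟩

theorem exists_M11 : ∃ K : Subgroup Cfsg.Spor.ON, Nonempty (K ≃* Cfsg.Spor.M11) := by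
  obtain ⟨g, hg⟩ := m11p_pres
  obtain ⟨θ, hθ⟩ := hg.lift _ _ (g_good.sat cM rfl (by decide +kernel))
  have hi : Function.Injective θ := by
    rcases (inferInstance : θ.ker.Normal).eq_bot_or_eq_top with h | h
    · exact (MonoidHom.ker_eq_bot_iff θ).1 h
    · have : g 1 ∈ θ.ker := h ▸ Subgroup.mem_top _
      rw [MonoidHom.mem_ker, hθ 1 (by norm_num)] at this
      exact absurd this (g_good.ne_one (x := 0) (by norm_num) (by decide +kernel))
  exact ⟨θ.range, ⟨(MonoidHom.ofInjective hi).symm⟩⟩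

end Cfsg.Lib.Spor.ONP
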