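import Cfsg.Agent.Spor.ONTabC

set_option autoImplicit false
set_option maxRecDepth 100000
set_option Elab.async false

namespace Cfsg.Lib.Spor.ONP

open Cfsg.Lib.Spor.Bulk

theorem on_tr0 : allL on_C.treeOK [1,2,3,4,5,6,7,8] = true := by decide +kernel
theorem on_j0 : (band (on_C.just 9 iota on_R on_U [1,2,3,4,5,6,7,8] 1 (dif (dif (ones 122760) on_a1_0) on_a1_1) true [⟨0,0,[2,1],[2,1,2],0,0,1⟩, ⟨0,0,[3],[3,1],1,0,1⟩, ⟨0,0,[4],[4,1],2,0,1⟩, ⟨0,0,[5],[5,1],3,0,1⟩, ⟨0,0,[6],[6,1],4,0,1⟩]) <|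
  band (on_C.just 9 iota on_R on_U [1,2,3,4,5,6,7,8] 2 (dif (dif (ones 122760) on_a2_0) on_a2_1) true [⟨0,0,[1,2],[1,2,1],0,0,0⟩, ⟨0,0,[3,2],[3,2,3],5,0,1⟩, ⟨0,0,[4],[4,2],6,0,1⟩, ⟨0,0,[5],[5,2],7,0,1⟩, ⟨0,0,[6],[6,2],8,0,1⟩]) <|
  band (on_C.just 9 iota on_R on_U [1,2,3,4,5,6,7,8] 3 (dif (dif (dif (ones 122760) on_a3_0) on_a3_1) on_a3_2) true [⟨0,0,[1],[1,3],1,0,0⟩, ⟨0,0,[2,3],[2,3,2],5,0,0⟩]) <|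
  band (on_C.just 9 iota on_R on_U [1,2,3,4,5,6,7,8] 4 (dif (dif (dif (ones 122760) on_a4_0) on_a4_1) on_a4_2) true [⟨0,0,[1],[1,4],2,0,0⟩, ⟨0,0,[2],[2,4],6,0,0⟩]) <|
  band (on_C.just 9 iota on_R on_U [1,2,3,4,5,6,7,8] 5 (dif (dif (ones 122760) on_a5_0) on_a5_1) true [⟨0,0,[1],[1,5],3,0,0⟩, ⟨0,0,[2],[2,5],7,0,0⟩]) <|
  band (on_C.just 9 iota on_R on_U [1,2,3,4,5,6,7,8] 6 (dif (dif (ones 122760) on_a6_0) on_a6_1) true [⟨0,0,[1],[1,6],4,0,0⟩, ⟨0,0,[2],[2,6],8,0,0⟩]) <|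
  true) = true := by decide +kernel
theorem on_j1 : (band (on_C.just 9 iota on_R on_U [1,2,3,4,5,6,7,8] 3 (Nat.land (dif (dif (ones 122760) on_a3_0) on_a3_1) on_a3_2) false [⟨0,0,[4,3,4,3,4,3,4],[4,3,4,3,4,3,4,3],9,0,1⟩, ⟨0,0,[5],[5,3],10,0,1⟩, ⟨0,0,[6],[6,3],11,0,1⟩]) <|
  band (on_C.just 9 iota on_R on_U [1,2,3,4,5,6,7,8] 4 (Nat.land (dif (dif (ones 122760) on_a4_0) on_a4_1) on_a4_2) false [⟨0,0,[3,4,3,4,3,4,3],[3,4,3,4,3,4,3,4],9,0,0⟩, ⟨0,0,[5,4],[5,4,5],12,0,1⟩, ⟨0,0,[6],[6,4],13,0,1⟩]) <|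
  band (on_C.just 9 iota on_R on_U [1,2,3,4,5,6,7,8] 5 (Nat.land (dif (ones 122760) on_a5_0) on_a5_1) false [⟨0,0,[3],[3,5],10,0,0⟩, ⟨0,0,[4,5],[4,5,4],12,0,0⟩, ⟨0,0,[6,5],[6,5,6],14,0,1⟩]) <|
  band (on_C.just 9 iota on_R on_U [1,2,3,4,5,6,7,8] 6 (Nat.land (dif (ones 122760) on_a6_0) on_a6_1) false [⟨0,0,[3],[3,6],11,0,0⟩, ⟨0,0,[4],[4,6],13,0,0⟩, ⟨0,0,[5,6],[5,6,5],14,0,0⟩]) <|
  true) = true := by decide +kernel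
theorem on_j2 : (band (on_C.just 9 iota on_R on_U [1,2,3,4,5,6,7,8] 1 (Nat.land (dif (ones 122760) on_a1_0) on_a1_1) false [⟨0,0,[],[6,7,7],15,0,3⟩, ⟨0,0,[],[6,4,3,4,3,4,3,4,3],16,0,9⟩]) <|
  band (on_C.just 9 iota on_R on_U [1,2,3,4,5,6,7,8] 3 (dif (Nat.land (dif (ones 122760) on_a3_0) on_a3_1) on_a3_2) false [⟨0,0,[4,3,4,3,4,3,4,6,1],[],16,0,0⟩, ⟨0,0,[4,6,1],[4,3,4,3,4,3],16,0,6⟩, ⟨0,0,[4,3,4,3,4,6,1],[4,3],16,0,2⟩, ⟨0,0,[4,3,4,6,1],[4,3,4,3],16,0,4⟩]) <|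
  band (on_C.just 9 iota on_R on_U [1,2,3,4,5,6,7,8] 4 (dif (Nat.land (dif (ones 122760) on_a4_0) on_a4_1) on_a4_2) false [⟨0,0,[3,4,3,4,3,4,6,1],[3],16,0,1⟩, ⟨0,0,[6,1],[3,4,3,4,3,4,3],16,0,7⟩, ⟨0,0,[3,4,6,1],[3,4,3,4,3],16,0,5⟩, ⟨0,0,[3,4,3,4,6,1],[3,4,3],16,0,3⟩]) <|
  band (on_C.just 9 iota on_R on_U [1,2,3,4,5,6,7,8] 6 (dif (Nat.land (ones 122760) on_a6_0) on_a6_1) false [⟨0,0,[1],[7,7],15,0,2⟩, ⟨0,0,[1],[4,3,4,3,4,3,4,3],16,0,8⟩]) <|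
  band (on_C.just 9 iota on_R on_U [1,2,3,4,5,6,7,8] 8 (dif (dif (ones 122760) on_a8_0) on_a8_1) true [⟨0,0,[8,6,1],[],15,0,0⟩, ⟨0,0,[6,1],[7],15,0,1⟩]) <|
  true) = true := by decide +kernel
theorem on_j3 : (band (on_C.just 9 iota on_R on_U [1,2,3,4,5,6,7,8] 3 (Nat.land (Nat.land (dif (ones 122760) on_a3_0) on_a3_1) on_a3_2) false [⟨0,0,[],[7,4,7,4,3,4,8,4,8],17,0,9⟩, ⟨0,0,[4,8,4,8,3],[4,8,4,8],17,0,4⟩, ⟨0,0,[8,4],[7,3,4,3,8,3,8],18,0,7⟩]) <|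
  band (on_C.just 9 iota on_R on_U [1,2,3,4,5,6,7,8] 4 (Nat.land (Nat.land (dif (ones 122760) on_a4_0) on_a4_1) on_a4_2) false [⟨0,0,[7,4,3,4,8,4,8,3],[8],17,0,1⟩, ⟨0,0,[3,4,8,4,8,3],[8,4,8],17,0,3⟩, ⟨0,0,[8,4,8,3],[3,4,8,4,8],17,0,5⟩, ⟨0,0,[8,3],[7,4,3,4,8,4,8],17,0,7⟩, ⟨0,0,[],[7,3,7,3,4,3,8,3,8],18,0,9⟩]) <|
  band (on_C.just 9 iota on_R on_U [1,2,3,4,5,6,7,8] 7 (dif (dif (ones 122760) on_a7_0) on_a7_1) true [⟨0,0,[4,7,4,3,4,8,4,8,3],[],17,0,0⟩, ⟨0,0,[4,3,4,8,4,8,3],[4,8],17,0,2⟩]) <|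
  band (on_C.just 9 iota on_R on_U [1,2,3,4,5,6,7,8] 8 (Nat.land (dif (ones 122760) on_a8_0) on_a8_1) false [⟨0,0,[3],[4,7,4,3,4,8,4,8],17,0,8⟩, ⟨0,0,[4,8,3],[4,3,4,8,4,8],17,0,6⟩, ⟨0,0,[4],[3,7,3,4,3,8,3,8],18,0,8⟩]) <|
  true) = true := by decide +kernel
theorem on_j4 : (band (on_C.just 9 iota on_R on_U [1,2,3,4,5,6,7,8] 3 (dif (dif (Nat.land (ones 122760) on_a3_0) on_a3_1) on_a3_2) false [⟨0,0,[8,3,8,4],[4,3,8,3,8],18,0,5⟩, ⟨0,0,[4,3,8,3,8,4],[8,3,8],18,0,3⟩, ⟨0,0,[7,3,4,3,8,3,8,4],[8],18,0,1⟩]) <|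
  band (on_C.just 9 iota on_R on_U [1,2,3,4,5,6,7,8] 4 (dif (dif (Nat.land (ones 122760) on_a4_0) on_a4_1) on_a4_2) false [⟨0,0,[3,8,3,8,4],[3,8,3,8],18,0,4⟩]) <|
  band (on_C.just 9 iota on_R on_U [1,2,3,4,5,6,7,8] 7 (Nat.land (dif (ones 122760) on_a7_0) on_a7_1) false [⟨0,0,[3,7,3,4,3,8,3,8,4],[],18,0,0⟩, ⟨0,0,[3,4,3,8,3,8,4],[3,8],18,0,2⟩]) <|
  band (on_C.just 9 iota on_R on_U [1,2,3,4,5,6,7,8] 8 (dif (Nat.land (ones 122760) on_a8_0) on_a8_1) false [⟨0,0,[3,8,4],[3,4,3,8,3,8],18,0,6⟩]) <|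
  true) = true := by decide +kernel
theorem on_j5 : (band (on_C.just 9 iota on_R on_U [1,2,3,4,5,6,7,8] 2 (Nat.land (dif (ones 122760) on_a2_0) on_a2_1) false [⟨0,0,[7,4,3,2,7,4,3,2],[3,4,8,2,3,4,8,2,3,4,8],19,0,11⟩]) <|
  band (on_C.just 9 iota on_R on_U [1,2,3,4,5,6,7,8] 3 (Nat.land (dif (Nat.land (ones 122760) on_a3_0) on_a3_1) on_a3_2) false [⟨0,0,[2,7,4,3,2,7,4,3,2],[4,8,2,3,4,8,2,3,4,8],19,0,10⟩]) <|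
  band (on_C.just 9 iota on_R on_U [1,2,3,4,5,6,7,8] 4 (Nat.land (dif (Nat.land (ones 122760) on_a4_0) on_a4_1) on_a4_2) false [⟨0,0,[3,2,7,4,3,2,7,4,3,2],[8,2,3,4,8,2,3,4,8],19,0,9⟩]) <|
  band (on_C.just 9 iota on_R on_U [1,2,3,4,5,6,7,8] 7 (dif (Nat.land (ones 122760) on_a7_0) on_a7_1) false [⟨0,0,[4,3,2,7,4,3,2,7,4,3,2],[2,3,4,8,2,3,4,8],19,0,8⟩]) <|
  true) = true := by decide +kernel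
theorem on_j6 : (band (on_C.just 9 iota on_R on_U [1,2,3,4,5,6,7,8] 2 (dif (Nat.land (ones 122760) on_a2_0) on_a2_1) false [⟨0,0,[7],[3,8,3,2,8,2,3,8,3],20,0,9⟩, ⟨0,0,[7,2,3,7,3,2,7],[3,8,3],20,0,3⟩, ⟨0,0,[3,7,3,2,7],[8,2,3,8,3],20,0,5⟩]) <|
  band (on_C.just 9 iota on_R on_U [1,2,3,4,5,6,7,8] 3 (dif (Nat.land (Nat.land (ones 122760) on_a3_0) on_a3_1) on_a3_2) false [⟨0,0,[7,3,2,7,2,3,7,3,2,7],[],20,0,0⟩, ⟨0,0,[2,7,2,3,7,3,2,7],[8,3],20,0,2⟩, ⟨0,0,[2,7],[8,3,2,8,2,3,8,3],20,0,8⟩, ⟨0,0,[7,3,2,7],[2,8,2,3,8,3],20,0,6⟩]) <|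
  band (on_C.just 9 iota on_R on_U [1,2,3,4,5,6,7,8] 5 (dif (Nat.land (ones 122760) on_a5_0) on_a5_1) false [⟨0,0,[7],[4,8,4,5,8,5,4,8,4],21,0,9⟩]) <|
  band (on_C.just 9 iota on_R on_U [1,2,3,4,5,6,7,8] 7 (dif (Nat.land (Nat.land (ones 122760) on_a7_0) on_a7_1) on_a7_2) false [⟨0,0,[3,2,7,2,3,7,3,2,7],[3],20,0,1⟩, ⟨0,0,[],[2,3,8,3,2,8,2,3,8,3],20,0,10⟩, ⟨0,0,[3,2,7],[3,2,8,2,3,8,3],20,0,7⟩, ⟨0,0,[2,3,7,3,2,7],[2,3,8,3],20,0,4⟩]) <|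
  true) = true := by decide +kernel
theorem on_j7 : (band (on_C.just 9 iota on_R on_U [1,2,3,4,5,6,7,8] 1 (dif (Nat.land (ones 122760) on_a1_0) on_a1_1) false [⟨0,0,[1],[],0,2,0⟩, ⟨2,0,[],[],0,0,0⟩]) <|
  band (on_C.just 9 iota on_R on_U [1,2,3,4,5,6,7,8] 2 (dif (Nat.land (Nat.land (ones 122760) on_a2_0) on_a2_1) on_a2_2) false [⟨0,0,[2],[],0,2,0⟩]) <|
  band (on_C.just 9 iota on_R on_U [1,2,3,4,5,6,7,8] 3 (dif (Nat.land (Nat.land (Nat.land (ones 122760) on_a3_0) on_a3_1) on_a3_2) on_a3_3) false [⟨0,0,[3],[],0,2,0⟩]) <|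
  band (on_C.just 9 iota on_R on_U [1,2,3,4,5,6,7,8] 4 (dif (Nat.land (Nat.land (ones 122760) on_a4_0) on_a4_1) on_a4_2) false [⟨0,0,[7,4,5,7,5,4,7,4,5,7],[],21,0,0⟩, ⟨0,0,[5,7,5,4,7,4,5,7],[8,4],21,0,2⟩, ⟨0,0,[5,7],[8,4,5,8,5,4,8,4],21,0,8⟩, ⟨0,0,[7,4,5,7],[5,8,5,4,8,4],21,0,6⟩, ⟨0,0,[4],[],0,2,0⟩]) <|
  band (on_C.just 9 iota on_R on_U [1,2,3,4,5,6,7,8] 5 (dif (Nat.land (Nat.land (ones 122760) on_a5_0) on_a5_1) on_a5_2) false [⟨0,0,[7,5,4,7,4,5,7],[4,8,4],21,0,3⟩, ⟨0,0,[4,7,4,5,7],[8,5,4,8,4],21,0,5⟩, ⟨0,0,[5],[],0,2,0⟩]) <|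
  band (on_C.just 9 iota on_R on_U [1,2,3,4,5,6,7,8] 6 (dif (Nat.land (Nat.land (ones 122760) on_a6_0) on_a6_1) on_a6_2) false [⟨0,0,[6],[],0,2,0⟩]) <|
  band (on_C.just 9 iota on_R on_U [1,2,3,4,5,6,7,8] 7 (Nat.land (Nat.land (Nat.land (ones 122760) on_a7_0) on_a7_1) on_a7_2) false [⟨0,0,[],[5,4,8,4,5,8,5,4,8,4],21,0,10⟩, ⟨0,0,[4,5,7,5,4,7,4,5,7],[4],21,0,1⟩, ⟨0,0,[4,5,7],[4,5,8,5,4,8,4],21,0,7⟩, ⟨0,0,[5,4,7,4,5,7],[5,4,8,4],21,0,4⟩, ⟨0,0,[8],[],0,2,0⟩]) <|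
  band (on_C.just 9 iota on_R on_U [1,2,3,4,5,6,7,8] 8 (Nat.land (Nat.land (ones 122760) on_a8_0) on_a8_1) false [⟨0,0,[7],[],0,2,0⟩]) <|
  true) = true := by decide +kernel
theorem on_j8 : (band (on_C.just 9 iota on_R on_U [1,2,3,4,5,6,7,8] 1 (Nat.land (Nat.land (ones 122760) on_a1_0) on_a1_1) false [⟨2,2,[8],[8],6,0,0⟩, ⟨2,2,[8,4,8],[8,4,8],7,0,0⟩]) <|
  band (on_C.just 9 iota on_R on_U [1,2,3,4,5,6,7,8] 2 (Nat.land (Nat.land (Nat.land (ones 122760) on_a2_0) on_a2_1) on_a2_2) false [⟨2,0,[],[],1,0,0⟩]) <|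
  band (on_C.just 9 iota on_R on_U [1,2,3,4,5,6,7,8] 3 (Nat.land (Nat.land (Nat.land (Nat.land (ones 122760) on_a3_0) on_a3_1) on_a3_2) on_a3_3) false [⟨2,0,[],[],2,0,0⟩]) <|
  band (on_C.just 9 iota on_R on_U [1,2,3,4,5,6,7,8] 4 (Nat.land (Nat.land (Nat.land (ones 122760) on_a4_0) on_a4_1) on_a4_2) false [⟨2,0,[],[],3,0,0⟩, ⟨2,2,[8,5,7,3,4,5,8],[5,3,7,4,5,8],8,0,0⟩]) <|
  band (on_C.just 9 iota on_R on_U [1,2,3,4,5,6,7,8] 5 (Nat.land (Nat.land (Nat.land (ones 122760) on_a5_0) on_a5_1) on_a5_2) false [⟨2,0,[],[],4,0,0⟩]) <|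
  band (on_C.just 9 iota on_R on_U [1,2,3,4,5,6,7,8] 6 (Nat.land (Nat.land (Nat.land (ones 122760) on_a6_0) on_a6_1) on_a6_2) false [⟨2,0,[],[],5,0,0⟩]) <|
  true) = true := by decide +kernel

end Cfsg.Lib.Spor.ONP
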