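import Cfsg.Agent.Spor.ONTabT

set_option autoImplicit false
set_option maxRecDepth 100000
set_option Elab.async false

namespace Cfsg.Lib.Spor.ONP

open Cfsg.Lib.Spor.Bulk

theorem on_inv_0 : eqsOn on_T 122760 17 (invPairs iota 9) 0 14 = true := by decide +kernel
theorem on_inv_14 : eqsOn on_T 122760 17 (invPairs iota 9) 14 3 = true := by decide +kernel
theorem on_r0_0 : eqsOn on_T 122760 17 (relPairs iota [[2,1,2,1,2,1],[3,1,3,1],[4,1,4,1],[5,1,5,1],[6,1,6,1],[3,2,3,2,3,2],[4,2,4,2],[5,2,5,2],[6,2,6,2],[4,3,4,3,4,3,4,3,4,3,4,3,4,3,4,3],[5,3,5,3],[6,3,6,3],[5,4,5,4,5,4],[6,4,6,4],[6,5,6,5,6,5],[8,8,6,1],[3,4,3,4,3,4,3,4,6,1],[7,4,7,4,3,4,8,4,8,3],[7,3,7,3,4,3,8,3,8,4],[7,4,3,2,7,4,3,2,7,4,3,2,7,4,3,2,7,4,3,2],[3,7,3,2,7,2,3,7,3,2,7],[4,7,4,5,7,5,4,7,4,5,7]])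 0 2 = true := by decide +kernel
theorem on_r0_2 : eqsOn on_T 122760 17 (relPairs iota [[2,1,2,1,2,1],[3,1,3,1],[4,1,4,1],[5,1,5,1],[6,1,6,1],[3,2,3,2,3,2],[4,2,4,2],[5,2,5,2],[6,2,6,2],[4,3,4,3,4,3,4,3,4,3,4,3,4,3,4,3],[5,3,5,3],[6,3,6,3],[5,4,5,4,5,4],[6,4,6,4],[6,5,6,5,6,5],[8,8,6,1],[3,4,3,4,3,4,3,4,6,1],[7,4,7,4,3,4,8,4,8,3],[7,3,7,3,4,3,8,3,8,4],[7,4,3,2,7,4,3,2,7,4,3,2,7,4,3,2,7,4,3,2],[3,7,3,2,7,2,3,7,3,2,7],[4,7,4,5,7,5,4,7,4,5,7]]) 2 2 = true := by decide +kernel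
theorem on_r0_4 : eqsOn on_T 122760 17 (relPairs iota [[2,1,2,1,2,1],[3,1,3,1],[4,1,4,1],[5,1,5,1],[6,1,6,1],[3,2,3,2,3,2],[4,2,4,2],[5,2,5,2],[6,2,6,2],[4,3,4,3,4,3,4,3,4,3,4,3,4,3,4,3],[5,3,5,3],[6,3,6,3],[5,4,5,4,5,4],[6,4,6,4],[6,5,6,5,6,5],[8,8,6,1],[3,4,3,4,3,4,3,4,6,1],[7,4,7,4,3,4,8,4,8,3],[7,3,7,3,4,3,8,3,8,4],[7,4,3,2,7,4,3,2,7,4,3,2,7,4,3,2,7,4,3,2],[3,7,3,2,7,2,3,7,3,2,7],[4,7,4,5,7,5,4,7,4,5,7]]) 4 2 = true := by decide +kernel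
theorem on_r0_6 : eqsOn on_T 122760 17 (relPairs iota [[2,1,2,1,2,1],[3,1,3,1],[4,1,4,1],[5,1,5,1],[6,1,6,1],[3,2,3,2,3,2],[4,2,4,2],[5,2,5,2],[6,2,6,2],[4,3,4,3,4,3,4,3,4,3,4,3,4,3,4,3],[5,3,5,3],[6,3,6,3],[5,4,5,4,5,4],[6,4,6,4],[6,5,6,5,6,5],[8,8,6,1],[3,4,3,4,3,4,3,4,6,1],[7,4,7,4,3,4,8,4,8,3],[7,3,7,3,4,3,8,3,8,4],[7,4,3,2,7,4,3,2,7,4,3,2,7,4,3,2,7,4,3,2],[3,7,3,2,7,2,3,7,3,2,7],[4,7,4,5,7,5,4,7,4,5,7]]) 6 2 = true := by decide +kernel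
theorem on_r0_8 : eqsOn on_T 122760 17 (relPairs iota [[2,1,2,1,2,1],[3,1,3,1],[4,1,4,1],[5,1,5,1],[6,1,6,1],[3,2,3,2,3,2],[4,2,4,2],[5,2,5,2],[6,2,6,2],[4,3,4,3,4,3,4,3,4,3,4,3,4,3,4,3],[5,3,5,3],[6,3,6,3],[5,4,5,4,5,4],[6,4,6,4],[6,5,6,5,6,5],[8,8,6,1],[3,4,3,4,3,4,3,4,6,1],[7,4,7,4,3,4,8,4,8,3],[7,3,7,3,4,3,8,3,8,4],[7,4,3,2,7,4,3,2,7,4,3,2,7,4,3,2,7,4,3,2],[3,7,3,2,7,2,3,7,3,2,7],[4,7,4,5,7,5,4,7,4,5,7]]) 8 2 = true := by decide +kernel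
theorem on_r0_10 : eqsOn on_T 122760 17 (relPairs iota [[2,1,2,1,2,1],[3,1,3,1],[4,1,4,1],[5,1,5,1],[6,1,6,1],[3,2,3,2,3,2],[4,2,4,2],[5,2,5,2],[6,2,6,2],[4,3,4,3,4,3,4,3,4,3,4,3,4,3,4,3],[5,3,5,3],[6,3,6,3],[5,4,5,4,5,4],[6,4,6,4],[6,5,6,5,6,5],[8,8,6,1],[3,4,3,4,3,4,3,4,6,1],[7,4,7,4,3,4,8,4,8,3],[7,3,7,3,4,3,8,3,8,4],[7,4,3,2,7,4,3,2,7,4,3,2,7,4,3,2,7,4,3,2],[3,7,3,2,7,2,3,7,3,2,7],[4,7,4,5,7,5,4,7,4,5,7]]) 10 2 = true := by decide +kernel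
theorem on_r0_12 : eqsOn on_T 122760 17 (relPairs iota [[2,1,2,1,2,1],[3,1,3,1],[4,1,4,1],[5,1,5,1],[6,1,6,1],[3,2,3,2,3,2],[4,2,4,2],[5,2,5,2],[6,2,6,2],[4,3,4,3,4,3,4,3,4,3,4,3,4,3,4,3],[5,3,5,3],[6,3,6,3],[5,4,5,4,5,4],[6,4,6,4],[6,5,6,5,6,5],[8,8,6,1],[3,4,3,4,3,4,3,4,6,1],[7,4,7,4,3,4,8,4,8,3],[7,3,7,3,4,3,8,3,8,4],[7,4,3,2,7,4,3,2,7,4,3,2,7,4,3,2,7,4,3,2],[3,7,3,2,7,2,3,7,3,2,7],[4,7,4,5,7,5,4,7,4,5,7]]) 12 2 = true := by decide +kernel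
theorem on_r0_14 : eqsOn on_T 122760 17 (relPairs iota [[2,1,2,1,2,1],[3,1,3,1],[4,1,4,1],[5,1,5,1],[6,1,6,1],[3,2,3,2,3,2],[4,2,4,2],[5,2,5,2],[6,2,6,2],[4,3,4,3,4,3,4,3,4,3,4,3,4,3,4,3],[5,3,5,3],[6,3,6,3],[5,4,5,4,5,4],[6,4,6,4],[6,5,6,5,6,5],[8,8,6,1],[3,4,3,4,3,4,3,4,6,1],[7,4,7,4,3,4,8,4,8,3],[7,3,7,3,4,3,8,3,8,4],[7,4,3,2,7,4,3,2,7,4,3,2,7,4,3,2,7,4,3,2],[3,7,3,2,7,2,3,7,3,2,7],[4,7,4,5,7,5,4,7,4,5,7]]) 14 2 = true := by decide +kernel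
theorem on_r0_16 : eqsOn on_T 122760 17 (relPairs iota [[2,1,2,1,2,1],[3,1,3,1],[4,1,4,1],[5,1,5,1],[6,1,6,1],[3,2,3,2,3,2],[4,2,4,2],[5,2,5,2],[6,2,6,2],[4,3,4,3,4,3,4,3,4,3,4,3,4,3,4,3],[5,3,5,3],[6,3,6,3],[5,4,5,4,5,4],[6,4,6,4],[6,5,6,5,6,5],[8,8,6,1],[3,4,3,4,3,4,3,4,6,1],[7,4,7,4,3,4,8,4,8,3],[7,3,7,3,4,3,8,3,8,4],[7,4,3,2,7,4,3,2,7,4,3,2,7,4,3,2,7,4,3,2],[3,7,3,2,7,2,3,7,3,2,7],[4,7,4,5,7,5,4,7,4,5,7]]) 16 1 = true := by decide +kernel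

end Cfsg.Lib.Spor.ONP
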