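import Cfsg.Agent.Spor.SzKit2

/-! The 7-local and 5-local subgroups of the Suzuki group. -/

set_option autoImplicit false
set_option maxRecDepth 100000
set_option exponentiation.threshold 8000

namespace Cfsg.Lib.Spor.SuzL

open Cfsg.Lib.Spor.Bulk Cfsg.Lib.Spor.WM Cfsg.Lib.Spor.SuzP Cfsg.Lib.Spor.SzK Subgroup
open Cfsg.Lib.Known.PC (frc frc_eq)
open Cfsg.Lib.Local

def X7 : List ℕ := [0x1, 0x200, 0x200000, 0x20000, 0x40000000, 0x4, 0x2, 0x8000000000000000000000000000000000000000, 0x20000000000000000000000000000000000000000000000000000000000000, 0x40000000000000000000000000000000000000000000000000000000000000000000000000000000000000000000000000000000000000000000000000000000000000000000000000000000000000000000000000000000000000000000000000000000000000000000000000000000000000, 0x8000000000000000000000000000000000000000000000000000000000000000000000000000000000000000000000000000000000000000000000000000000000000000000000000000000000000000000000000000000000000000000000000000000000000000000000000000000000000000000000000000000000000000000000000000000000000000000000000000000000000000000000000000000]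

def g7 : List (ℕ × List ℕ) := [(97055260582835880862421000,[7,2,3,6]),(77750373988319329199851520,[4,3,4,2,1,6,2,1,2,1,7,2,3,4,3,6,2,3,1,4,2,3,1,2,7,3]),(87421485973791935548098560,[5])]

def c7 : List Cfsg.Lib.Spor.PK.Cert :=
  [⟨0, [384, 320, 256, 192, 128, 64], [[2], [1]]⟩,
   ⟨8, [448, 641, 576], [[1, 0, 1]]⟩,
   ⟨7, [640, 576], []⟩]

def u7 : List ℕ := [6,2,1,3,2,4,3,2,1,6,7,2,3,4,3,2,6,7,2,1,3,4,2,7,3]

def ux : List Lev := [
  ⟨159, [[1],[2],[3],[4],[5],[6],[7]], 5, 1782, 4, 0⟩,
  ⟨245, [[4,3,6,2,1,3,2],[4,3,5,2,1,3,2,4,3,2,5,7,2,1,3,2,4,3,5,4,3,7,2,6,2,3,5,1]], 8, 416, 3, 0⟩,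
  ⟨918, [[1,3,2,1],[3,6,7,2,1,3,2],[3,2,1,2,1,6,2,1,3,4,5,4,2,3,4,3,2,5,4,3,2,1,4,3,6,7,2,3,4,3,2,5,4,3,6,2,7,4,5,1,2,3]], 5, 100, 2, 0⟩,
  ⟨1275, [[1,3,2,1],[3,2,6,1,2,3,2],[2,4,6,7,3,4,5,4,2,3,4,2,3,1,2,7,5,2,3,4,1,2,5,4,3,4,2,5,3,4,6,2]], 5, 36, 1, 0⟩,
  ⟨4, [[1,3,2,1],[1,3,2,1,6,3,2,7]], 2, 7, 7, 0⟩,
  ⟨5, [[3,6,7,2,1,3,2],[7,2,3,1,6,2,1,3]], 2, 6, 1, 0⟩,
  ⟨10, [[6,2,1,3,2,6],[3,2,6,1,2,3,2]], 1, 4, 1, 0⟩]

def X5 : List ℕ := [0x20000000080004000000000000000000000000000000000000000000000000000000000000000000000000000020000000010000200000000000000000000100020000000000000000000000000000000040008000001000000000000040200000000000000000000000800100000000000000400000000000000040000000000009000000000000010000004000000080008000010000000800000000000,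
  0x10000000000000000000000000000002020000040000000000000000000000000000000000000000020000000000000000000000000400004400000000420400000000000010004000000000000001000000500000010000000000004000000000012000400000000000200000000001010000000000000020000000000000000000000000000000,
  0xc0000000000000000000000000000100040000080000000000000000000000000000000000003000000000000000000000001004000000000000080001000000000400000000000000000000000000004010800000200000000000000000000000480002000000000000120000002010000000081000000000000000000,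
  0x400000000002000000000000000000000000000000000000000000000000000000000000000000000040000004000000000010000002000000000000000000000000040000000000000000000202060000100000000000004000000000000000100000000000000248800000000800100000000080000000000000400000080800000000000000000000100000000000000000000000000000000000000000000,
  0x40000000000000000000000000000000000000000002000000000000000000000000000000000000000000000000000000000000002000000000000001001000000000000000000000000400000000000000000000000000000000000000800000000000000000000000000000000000000400000000000200000000000000000000000000000000000000000000000000000000000000000000000040000000000000000000000000000000200000000000000000000000000000000000000000000000000000000000000000000000000000000000000000001,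
  0x80000000000000000000000200000000000000000000000000000000000000000000000000003000000000000000000400000000000000000000000000000000001000000000000000000000000000000000000000000000000000000000000000000000000000000000000000000000000000000000000000000006f,
  0x411000000000000000000000000000000400000000000000000000000000000000000000000000000000000000002000000200000000000000000000000000000000000000000001000000800000000000000000000000000000000000000000000000000000000000000000020000000000000000000000000000000000000000000002000000000000000000000000000000000000000000000000002000000000000000000000000000000000000000000000000000000000000000000000000000000000001]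

def g5 : List (ℕ × List ℕ) := [(185928060847879,[3,4,6,2,3,4,3,2,6,7,2,3,4,3,2,7,1,2,6,2,3,4,2,3,1,2,6,5,3,4]),(124597850833792,[4,3,4,5,4,3,4,2,3,4,5,1,2,3,4,3,2,5,4]),(185689465652096,[4,5,2,1,3,4,3,2,1,5,4,3,2,4,3,5,4,3,5,4])]

def k5 : List (ℕ × List ℕ) := [(29,[3,2,1,6,2,1,2,6,5,3,4,2,3,4,3,6,2,3,1,2,4,1,2,6,3]),(30,[1,2])]

def c5 : List Cfsg.Lib.Spor.PK.Cert :=
  [⟨0, [192, 128, 64], [[2], [1]]⟩,
   ⟨4, [320, 385], [[0, 1]]⟩,
   ⟨5, [384], []⟩]

def cP : List (ℕ × List ℕ) := [(0,[1]),(0,[])]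

def e5A : List ℕ := [34,1077,68,1105,1704,131,1161,1579,1133,1334,1459]

def e5B : List ℕ := [170,1202,2231,340,1350,2384,1607,2636,655,1230,2264]

def uP : List Lev := [
  ⟨0, [[1],[2],[3],[4],[5],[6],[7]], 6, 1782, 2, 1⟩,
  ⟨995, [[1],[2],[4,5,1,2,4,3,4,5,1,2,3,4,3,1,2,3,4,5,3,2,1,2,1,6,2,3,4,5,3,4,3]], 6, 416, 1, 0⟩,
  ⟨1, [[1],[2],[4,2,3,4,2,1,2,3,4,5,1,2,3,4,3,2,5,4,3,4,3,4,3,5]], 5, 315, 15, 0⟩,
  ⟨337, [[4],[5,3,4,3,4],[2,4,3,5,4,3,2,1,2,1,3,4,2,3,2,1,2,4,3,1,4,3,5,4]], 4, 160, 10, 0⟩,
  ⟨2, [[1,5],[3,2,1,2,1,5,3,4,2,3,4,5,2,3,4,3,2,1,2,3,4,3,2]], 3, 12, 2, 0⟩]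

def lP : List ℕ := [29, 30]

theorem k_ux : cenB sz_T 1782 11 8 tb [[31]] ux = true := by decide +kernel
theorem k_h7 : homB sz_T 1782 8 tb base (comB tb base [[31]]) 11 8 X7 g7 [] = true := by
  decide +kernel
theorem k_u7 : band (eqB tb base [u7, u7] []) (band (eqB tb base [u7, [31], u7, [31]] [])
    (notB (eqB tb base [[31], u7] [u7, [31]]))) = true := by decide +kernel
theorem k_pP : pcB tb base 5 lP cP = true := by decide +kernel
theorem k_nP : ntB tb base 5 lP = true := by decide +kernel
theorem k_uP : norB sz_T 1782 11 8 tb 5 lP uP = true := by decide +kernel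
theorem k_h5 : homB sz_T 1782 8 tb base (nrmB tb base 5 lP) 7 7 X5 g5 k5 = true := by
  decide +kernel
theorem k_c5 : (frc (clsM tb base 5 lP 32 (mapL Prod.snd g5) e5A (Nat.shiftLeft 1 1)) fun A =>
    frc (clsM tb base 5 lP 32 (mapL Prod.snd g5) e5B (Nat.shiftLeft 1 5)) fun B =>
      allNF 5 lP fun _ i => orB (Nat.beq i 0) (orB (bit A i) (bit B i))) = true := by
  decide +kernel

variable {G : Type*} [Group G] {e : ℕ → G}

theorem Md.order_x7 (h : Md e) : orderOf (e 31) = 7 :=
  h.ctx.elim fun _ C => C.orderOf (by norm_num) (by decide +kernel)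

theorem Md.order_xa (h : Md e) : orderOf (e 29) = 5 :=
  h.ctx.elim fun _ C => C.orderOf Nat.prime_five (by decide +kernel)

theorem Md.exists_sylow (h : Md e) {p : ℕ} [Fact p.Prime] (P : Sylow p G) {L : List ℕ} {k m : ℕ}
    (hc : Nat.card (gL e L) = p ^ k) (hm : p ^ k * m = 448345497600) (hp : ¬ p ∣ m) :
    ∃ f : ℕ → G, Md f ∧ gL f L = P := by
  have := h.finite
  obtain ⟨c, -, h1⟩ := exists_conj_le_sylow P le_top le_top (IsPGroup.of_card hc)
  refine ⟨_, h.conj c, ?_⟩
  rw [gL_conj]
  refine eq_of_le_of_card_ge (by rintro _ ⟨x, hx, rfl⟩; exact h1 x hx) ?_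
  rw [card_map_of_injective (MulAut.conj c).injective, hc,
    Known.SC.sylow_card_eq_pow P (h.card.trans hm.symm) hp]

theorem gL_one (e : ℕ → G) (l : ℕ) : gL e [l] = zpowers (e l) := by
  rw [zpowers_eq_closure, gL]; congr 1; ext; simp [eq_comm]

theorem t7 : Nat.card (Multiplicative (ZMod 7) × alternatingGroup (Fin 4)) = 84 ∧
    Function.Injective (psO 7 4 11) ∧ ∀ c ∈ g7.map Prod.fst,
      ∃ g : Multiplicative (ZMod 7) × alternatingGroup (Fin 4),
        ∀ i, g • psO 7 4 11 i = psO 7 4 11 (Fin.ofNat 11 (SporChar.img 8 c i)) :=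
  ⟨by rw [Nat.card_prod, nat_card_alternatingGroup]; simp [Nat.factorial], by decide +kernel,
    List.forall_mem_cons.2 ⟨⟨(.ofAdd 1, 1), by decide +kernel⟩, List.forall_mem_cons.2
      ⟨⟨(1, ⟨.swap 1 3 * .swap 1 2, by simp⟩), by decide +kernel⟩, List.forall_mem_cons.2
      ⟨⟨(1, ⟨.swap 0 1 * .swap 2 3, by simp⟩), by decide +kernel⟩, by simp⟩⟩⟩⟩

theorem t5 : Nat.card (Multiplicative (ZMod 4) × Equiv.Perm (Fin 3)) = 24 ∧
    Function.Injective (psO 4 3 7) ∧ ∀ c ∈ g5.map Prod.fst,
      ∃ g : Multiplicative (ZMod 4) × Equiv.Perm (Fin 3),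
        ∀ i, g • psO 4 3 7 i = psO 4 3 7 (Fin.ofNat 7 (SporChar.img 7 c i)) :=
  ⟨by rw [Nat.card_prod, Nat.card_perm]; simp [Nat.factorial], by decide +kernel,
    List.forall_mem_cons.2 ⟨⟨(.ofAdd 1, 1), by decide +kernel⟩, List.forall_mem_cons.2
      ⟨⟨(1, .swap 0 2 * .swap 0 1), by decide +kernel⟩, List.forall_mem_cons.2
      ⟨⟨(1, .swap 0 1), by decide +kernel⟩, by simp⟩⟩⟩⟩

theorem Md.seven (h : Md e) (B : Sylow 7 G) :
    Nonempty (centralizer ((B : Subgroup G) : Set G) ≃*
      Multiplicative (ZMod 7) × alternatingGroup (Fin 4)) ∧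
    Nat.card (normalizer ((B : Subgroup G) : Set G)) = 504 := by
  have := h.finite
  have h7 : Fact (Nat.Prime 7) := ⟨by norm_num⟩
  obtain ⟨f, h, hB⟩ := h.exists_sylow B (L := [31]) (k := 1) (m := 64049356800)
    (by rw [gL_one, Nat.card_zpowers, h.order_x7]; rfl) (by norm_num) (by norm_num)
  rw [gL_one] at hB
  have h1 := Known.SC.card_normalizer_mul_card_sylow B
  have h2 : _ % 7 = 1 % 7 := card_sylow_modEq_one 7 G
  have h3 := Known.SC.card_normalizer_eq_mul (B : Subgroup G)
  have h4 := Known.SC.relIndex_centralizer_dvd_sub_one h7.out (B : Subgroup G)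
    (by rw [← hB, Nat.card_zpowers, h.order_x7])
  rw [h.card] at h1
  obtain ⟨_, C⟩ := h.ctx
  have h5 : (centralizer ((B : Subgroup G) : Set G)).relIndex
      (normalizer ((B : Subgroup G) : Set G)) ≠ 3 := fun h6 => by
    have hk := k_u7
    simp only [band_iff', notB_iff, C.eqB_iff, wl, one_mul, wv_one] at hk
    obtain ⟨a1, a2, a3⟩ := hk
    have := normal_subgroupOf_centralizer_normalizer ((B : Subgroup G) : Set G)
    have h8 := pow_index_mem (H := (centralizer ((B : Subgroup G) : Set G)).subgroupOf _)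
      (⟨wv f u7, by
        rw [← hB, ← gL_one]
        refine mem_normalizer_gL fun m hm => ?_
        obtain rfl := List.mem_singleton.1 hm
        rw [← eq_inv_of_mul_eq_one_left a1, eq_inv_of_mul_eq_one_right
          (show f 31 * (wv f u7 * f 31 * wv f u7) = 1 by simpa [mul_assoc] using a2)]
        exact inv_mem (mem_gL hm)⟩ :
        normalizer ((B : Subgroup G) : Set G))
    rw [relIndex] at h6
    rw [h6, mem_subgroupOf] at h8
    exact a3 (by simpa [pow_succ, a1] using (h8 _ (hB.le (mem_zpowers _))).symm)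
  have h6 := Nat.le_of_dvd (by norm_num) h4
  rw [← hB, Known.SC.centralizer_zpowers] at *
  have h8 : Nat.card (centralizer {f 31}) ≤ 168 :=
    C.up_cent (by simp) k_ux (h.card.trans (by decide)).le
  generalize relIndex (G := G) _ _ = r at *
  have h9 : Nat.card (centralizer {f 31}) ≠ 168 := fun a => by
    rw [h3, a] at h1
    interval_cases r <;> omega
  obtain ⟨φ, a1, a2⟩ := C.exists_surj (N := centralizer {f 31}) (r := 84) (cert := c7)
    (fun W hW => by simpa using C.com hW) k_h7 (by decide +kernel) (by simp [gL_nil'])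
    (by simp only [List.map_nil, gL_nil', card_bot]; omega)
    t7.2.1 t7.2.2 (by rw [t7.1]; norm_num)
  rw [List.map_nil, gL_nil', bot_subgroupOf, MonoidHom.ker_eq_bot_iff] at a2
  have e := MulEquiv.ofBijective φ ⟨a2, a1⟩
  refine ⟨⟨e⟩, ?_⟩
  rw [h3, Nat.card_congr e.toEquiv, t7.1] at h1 ⊢
  interval_cases r <;> omega

theorem map_zpowers_conj {a x g : G} (h : g * x * g⁻¹ = a) :
    (zpowers x).map (MulAut.conj g).toMonoidHom = zpowers a := by
  rw [MonoidHom.map_zpowers, ← h]; rfl

theorem Md.five_cls (h : Md e) {x : G} (hx : orderOf x = 5) :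
    IsConj (e 29) x ∨ IsConj (e 30) x := by
  have := h.finite
  obtain ⟨_, C⟩ := h.ctx
  obtain ⟨c, -, h1⟩ := exists_conj_into Nat.prime_five le_top
    (C.card_pc Nat.prime_five (C.pc k_pP) k_nP) (by rw [card_top, h.card]; decide) le_top
    (isPGroup_zpowers_of_orderOf_eq hx)
  have hA := C.cls (u := 32) (Cs := mapL Prod.snd g5) (es := e5A)
    (C.cls_one (p := 5) (L := lP) (W := [29]) (j := 1) (by decide +kernel))
  have hB := C.cls (u := 32) (Cs := mapL Prod.snd g5) (es := e5B)
    (C.cls_one (p := 5) (L := lP) (W := [30]) (j := 5) (by decide +kernel))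
  have hk := k_c5
  rw [frc_eq, frc_eq] at hk
  generalize clsM tb base 5 lP 32 _ e5A _ = A at hA hk
  generalize clsM tb base 5 lP 32 _ e5B _ = B at hB hk
  obtain ⟨W, i, -, e1, -, hf⟩ := C.forall_nf (by norm_num) (C.pc k_pP) hk (h1 x (mem_zpowers x))
  simp only [orB_iff, bit_eq, wv_one, Nat.beq_eq] at hf hA hB
  rcases hf with rfl | hf | hf
  · rw [← orderOf_conj c, ← e1, nf_zero] at hx; simp at hx
  exacts [Or.inl (isConj_of_conj (e1 ▸ hA i hf)), Or.inr (isConj_of_conj (e1 ▸ hB i hf))]

theorem Md.five_sub (h : Md e) : ∃ A B : Subgroup G, Nat.card A = 5 ∧ Nat.card B = 5 ∧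
    (∀ g : G, A.map (MulAut.conj g).toMonoidHom ≠ B) ∧ ∀ C : Subgroup G, Nat.card C = 5 →
      ∃ g : G, C.map (MulAut.conj g).toMonoidHom = A ∨ C.map (MulAut.conj g).toMonoidHom = B := by
  have := h.finite
  refine ⟨zpowers (e 29), zpowers (e 30), by rw [Nat.card_zpowers, h.order_xa],
    by rw [Nat.card_zpowers, h.order_x5], fun g hg => ?_, fun D hD => ?_⟩
  · obtain ⟨_, C⟩ := h.ctx
    refine C.not_conj (A := [29]) (B := [30]) (by decide +kernel) g ?_ ?_
    · rw [wv_one, wv_one, ← hg]; exact ⟨_, mem_zpowers _, rfl⟩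
    · obtain ⟨y, hy, e1⟩ := hg.ge (mem_zpowers _)
      rw [wv_one, wv_one, ← e1]; simpa [mul_assoc] using hy
  · obtain ⟨x, hx, x1⟩ := D.bot_or_exists_ne_one.resolve_left fun e => by
      rw [e] at hD; simp at hD
    rw [← Known.SC.zpowers_eq_of_card_prime Nat.prime_five hD hx x1]
    rcases h.five_cls (Known.SC.orderOf_eq_of_card_prime Nat.prime_five hD hx x1) with a | a <;>
      obtain ⟨g, hg⟩ := isConj_iff.1 a.symm
    exacts [⟨g, Or.inl (map_zpowers_conj hg)⟩, ⟨g, Or.inr (map_zpowers_conj hg)⟩]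

theorem Md.five (h : Md e) (P : Sylow 5 G) : Nat.card (P : Subgroup G) = 25 ∧
    Nat.card (normalizer ((P : Subgroup G) : Set G)) = 600 ∧
    Nonempty (normalizer ((P : Subgroup G) : Set G) ⧸
      (P : Subgroup G).subgroupOf (normalizer ((P : Subgroup G) : Set G)) ≃*
        Multiplicative (ZMod 4) × Equiv.Perm (Fin 3)) := by
  have := h.finite
  have := Fact.mk Nat.prime_five
  have hc : ∀ {f : ℕ → G}, Md f → Nat.card (gL f lP) = 5 ^ 2 := fun h =>
    h.ctx.elim fun _ C => C.card_pc Nat.prime_five (C.pc k_pP) k_nP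
  obtain ⟨f, h, hP⟩ := h.exists_sylow P (m := 17933819904) (hc h) (by norm_num) (by norm_num)
  rw [← hP]
  have h1 := hc h
  obtain ⟨_, C⟩ := h.ctx
  have h2 : _ ≤ 600 := C.up_nor Nat.prime_five (C.pc k_pP) h1 k_uP (h.card.trans (by decide)).le
  obtain ⟨φ, a1, a2⟩ := C.exists_surj (r := 24) (cert := c5)
    (fun W hW => C.nrm (by norm_num) hW) k_h5 (by decide +kernel) le_normalizer
    (h2.trans_lt (by rw [show gL f (k5.map Prod.fst) = gL f lP from rfl, h1]; norm_num))
    t5.2.1 t5.2.2 (by rw [t5.1]; norm_num)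
  change _ = (gL f lP).subgroupOf _ at a2
  refine ⟨h1, ?_, quot_of_surj a1 a2⟩
  rw [card_of_surj a1, a2, Nat.card_congr (subgroupOfEquivOfLe le_normalizer).toEquiv, t5.1, h1]
  rfl

end Cfsg.Lib.Spor.SuzL
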