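import Cfsg.Agent.Spor.R3Kit
import Cfsg.Agent.Spor.SzSeven

/-! Certificates for the graph of the Suzuki group on 1782 points. -/

set_option autoImplicit false
set_option maxRecDepth 100000
set_option exponentiation.threshold 8000

namespace Cfsg.Lib.Spor.R3S

open Cfsg.Lib.Spor.Bulk Cfsg.Lib.Spor.WM Cfsg.Lib.Spor.SuzP Cfsg.Lib.Spor.SzK Cfsg.Lib.Spor.SuzL
open Cfsg.Lib.Spor.R3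
open Cfsg.Lib.Known.PC (frc frc_eq)

def mD : ℕ := nat_lit 0x338007f20c00000000007f00000000008000804eeb80200d31802000000000000000000000000006781e72000040000000000000080181fc0d83ce8a80048c000e3fe382258640c000000000000000000000079c81e600100200000000000000703c0fe0611c474e00140c40003f3fc23904d00262800000000000000079803a00600000000000e787fe047474601cc5000cff9d4744250000000001d034530000000247ffe3ae88d25039ffd11100000034694c00001a7ffba44444ff88800001a694800027fd111f10000d240007a2390008000691000000800000000000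

theorem mD_eq_1 : type_of% @mD.eq_1 := @mD.eq_1

def mE : ℕ := nat_lit 0xc7ff80df3ffffffffff80ffffffffff7fff7fb1147fdff2ce7fdffffffffffffffffffffffffff987e18dffffbffffffffffffff7fe7e03f27c31757ffb73fff1c01c7dda79bf3ffffffffffffffffffffff8637e19ffeffdffffffffffffff8fc3f01f9ee3b8b1ffebf3bfffc0c03dc6fb2ffd9d7fffffffffffffff867fc5ff9fffffffffff187801fb8b8b9fe33afff30062b8bbdafffffffffe2fcbacfffffffdb8001c51772dafc6002eeeffffffcb96b3ffffe580045bbbbb00777ffffe596b7fffd802eee0effff2dbfff85dc6fff7fff96effffff7ffffffffffe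

theorem mE_eq_1 : type_of% @mE.eq_1 := @mE.eq_1

def six : List (List ℕ) := [[1],[2],[3],[4],[5],[6]]

theorem six_eq_1 : type_of% @six.eq_1 := @six.eq_1

def pJ : List (ℕ × ℕ × List ℕ) := [(0,0,[]),
  (1,6,[7]),
  (21,6,[6,2,3,1,2,7]),
  (47,5,[7,2,3,4,3,2,7]),
  (81,6,[7,6,2,3,4,3,2,7]),
  (995,0,[6,2,3,4,3,2,6,7,2,3,4,3,2,7])]

theorem pJ_eq_1 : type_of% @pJ.eq_1 := @pJ.eq_1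

def pP : List (ℕ × ℕ × List ℕ) := [(0,0,[]),
  (1,0,[7]),
  (2,9,[2,7]),
  (16,6,[2,6,3,2,7]),
  (25,7,[2,3,4,3,2,7]),
  (47,5,[7,2,3,4,3,2,7]),
  (130,5,[2,6,7,2,3,4,3,2,7])]

theorem pP_eq_1 : type_of% @pP.eq_1 := @pP.eq_1

def gP : List (List ℕ) := [[4],[5],[2,1,3,2,1,2,4,3,2,6,4,3,2]]

theorem gP_eq_1 : type_of% @gP.eq_1 := @gP.eq_1

def cU : List (List ℕ × List ℕ) := [([1],[12]),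
  ([1,3,6],[8]),
  ([1,4,3,4],[7]),
  ([1,5,4,3,4,5],[11]),
  ([4,3,2,6,1,2,1,2,3,5,4,3,2,1,2,4,6,1,2,5,4,3],[3]),
  ([5,3,4,3,4,5,4,3,4,2,3,6,4,5,2,3,4,3,2,6,5,4,3,2],[9,2]),
  ([1,5,7,4,3,4,5,2,6,1,2,1,4,2,3,2,1,2,6,1,2,3,4,5,7],[0,6])]

theorem cU_eq_1 : type_of% @cU.eq_1 := @cU.eq_1

def pUD : List (ℕ × ℕ × List ℕ) := [(47,1,[7,2,3,4,3,2,7]),
  (72,2,[7,2,3,4,3,1,2,7]),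
  (130,1,[2,6,7,2,3,4,3,2,7]),
  (202,2,[7,2,6,7,2,3,4,3,2,7]),
  (228,2,[2,7,1,2,3,4,2,3,1,2,7])]

theorem pUD_eq_1 : type_of% @pUD.eq_1 := @pUD.eq_1

def pUE : List (ℕ × ℕ × List ℕ) := [(0,0,[]),
  (1,0,[7]),
  (2,3,[2,7]),
  (16,1,[2,6,3,2,7]),
  (25,1,[2,3,4,3,2,7]),
  (29,1,[2,6,4,3,2,7]),
  (42,2,[2,3,4,3,1,2,7])]

theorem pUE_eq_1 : type_of% @pUE.eq_1 := @pUE.eq_1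

def lA : List (ℕ × ℕ × List ℕ) := [(0,1782,[]),
  (995,416,[6,2,3,4,3,2,6,7,2,3,4,3,2,7]),
  (47,100,[7,2,3,4,3,2,7]),
  (79,36,[7,5,2,3,4,3,2,7]),
  (125,14,[7,4,5,2,3,4,3,2,7]),
  (271,4,[7,3,4,5,2,3,4,3,1,2,7]),
  (407,3,[2,7,3,4,5,2,3,4,3,1,2,7]),
  (653,2,[7,4,1,2,3,4,5,2,3,4,3,2,7]),
  (1282,1,[1,2,7,5,4,3,4,5,1,2,3,4,3,2,7]),
  (750,1,[2,7,4,5,2,1,2,3,4,2,3,1,2,7]),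
  (428,1,[7,4,3,4,5,1,2,3,4,3,2,7]),
  (294,1,[7,3,2,6,1,2,3,4,3,2,7]),
  (1066,1,[3,2,7,6,3,4,5,2,3,4,3,2,1,2,7]),
  (1177,1,[2,7,6,2,7,3,4,5,3,4,2,3,1,2,7]),
  (748,1,[6,3,4,5,2,1,2,3,4,2,3,1,2,7]),
  (920,1,[1,2,6,2,3,4,5,1,2,3,4,3,2,7]),
  (362,1,[7,3,4,5,2,3,4,2,3,1,2,7]),
  (1692,1,[3,2,6,7,2,3,4,5,4,2,3,4,2,3,1,2,7]),
  (1393,1,[5,4,3,2,6,3,4,5,3,4,2,3,2,1,2,7]),
  (1612,1,[6,4,3,4,2,1,2,3,4,5,2,3,4,3,2,7]),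
  (427,1,[6,4,3,4,5,1,2,3,4,3,2,7]),
  (363,1,[2,6,4,5,2,3,4,2,3,1,2,7]),
  (1211,1,[1,2,6,4,3,4,5,1,2,3,4,3,1,2,7]),
  (1672,1,[5,3,4,3,2,6,3,4,5,3,4,2,3,2,1,2,7]),
  (872,1,[1,2,6,2,3,4,5,2,3,4,3,1,2,7]),
  (455,1,[7,6,4,3,4,5,2,3,4,3,2,7])]

theorem lA_eq_1 : type_of% @lA.eq_1 := @lA.eq_1

def xs : List (List ℕ) := [[29],[29,30,30],[29,30,30,30,30],[30],[29,30],[29,30,30,30]]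

theorem xs_eq_1 : type_of% @xs.eq_1 := @xs.eq_1

def ys : List (List ℕ) := [[4,3,2,4,3,5,4,3,2,1,2,6,2,1,2,3,4,3,2,5,4,3,4,2,1],[6,2],[4,3,4,5,4,3,2,1,4,3,2,6,2,1,3,2,4,3,4,5,4,3,4,2,1],[3,2,4,3,2,4,3,4,3,2,1,2,3,4,2,3],[3,2,1,2,1,4,3,4,5,4,3,2,1,2,3],[3,2,1,2,4,3,5,4,3,4,2,1,2,3]]

theorem ys_eq_1 : type_of% @ys.eq_1 := @ys.eq_1

def chs : List (List Lev) := [[⟨995,[[1],[2],[3],[4],[5],[6]],6,416,6,0⟩,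
  ⟨1225,[[2],[3],[4],[5]],7,315,5,0⟩,
  ⟨541,[[2,4,3,5,4,3,4,2],[3,4,3,4,3,4,3,4,5],[3,2,5,4,3,4,5,4,2,3]],3,32,2,0⟩,
  ⟨33,[[3,2,5,4,3,4,5,4,2,4,3,4,3,4,3,4,5,2,4,3,5,4,3,4,2,3,2,4,5,4,3,4,5,2,3,2,4,3,4,5,3,4,2]],4,5,5,0⟩,
  ⟨402,[[2,4,3,5,4,3,4,2,3,2,5,4,3,4,5,4,2,4,3,4,3,4,3,4,5,3,2,4,5,4,3,4,5,2,3,2,4,3,4,5,3,4,2],[3,2,5,4,3,4,5,4,2,4,3,4,3,4,3,4,5,2,4,3,5,4,3,4,2,3,2,4,5,4,3,4,5,2,3,2,4,3,4,5,3,4,2,3,2,5,4,3,4,5,4,2,4,3,4,3,4,3,4,5,2,4,3,5,4,3,4,2,5,4,3,4,3,4,3,4,3,2,4,3,4,5,3,4,2,5,4,3,4,3,4,3,4,2,4,5,4,3,4,5,2,3]],2,4,1,0⟩,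
  ⟨220,[[2,4,3,5,4,3,4,2,3,2,5,4,3,4,5,4,2,4,3,4,3,4,3,4,5,3,2,4,5,4,3,4,5,2,3,2,4,3,4,5,3,4,2,3,2,5,4,3,4,5,4,2,4,3,4,3,4,3,4,5,2,4,3,5,4,3,4,2,3,2,4,5,4,3,4,5,2,3,2,4,3,4,5,3,4,2,3,2,5,4,3,4,5,4,2,4,3,4,3,4,3,4,5,2,4,3,5,4,3,4,2,5,4,3,4,3,4,3,4,3,2,4,3,4,5,3,4,2,5,4,3,4,3,4,3,4,2,4,5,4,3,4,5,2,3]],2,3,1,0⟩],
  [⟨995,[[1],[2],[3],[4],[5],[6]],6,416,6,0⟩,
  ⟨472,[[2],[3],[4],[5]],8,315,5,0⟩,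
  ⟨1,[[4],[5],[3,4,3,2,4,3,4,3,4,2,3,4,3,4,2,3,4,3]],6,32,2,0⟩,
  ⟨4,[[4],[5],[3,4,3,2,4,3,4,3,4,2,3,4,3,4,2,3,4,3,4,3,4,3,2,4,3,4,3,4,2,3,4,3,4,2,3,4,3,4,3,4,3,2,4,3,4,3,2,4,3,4,3,4,2,3,4,3,4,3,4,3,2,4,3,4,3,2,4,3,4,3,4,2,3,4,3]],2,5,5,0⟩,
  ⟨8,[[5],[3,4,3,2,4,3,4,3,4,2,3,4,3,4,2,3,4,3,4,3,4,3,2,4,3,4,3,4,2,3,4,3,4,2,3,4,3,4,3,4,3,2,4,3,4,3,2,4,3,4,3,4,2,3,4,3,4,3,4,3,2,4,3,4,3,2,4,3,4,3,4,2,3,4,3,4]],2,4,1,0⟩,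
  ⟨1579,[[3,4,3,2,4,3,4,3,4,2,3,4,3,4,2,3,4,3,4,3,4,3,2,4,3,4,3,4,2,3,4,3,4,2,3,4,3,4,3,4,3,2,4,3,4,3,2,4,3,4,3,4,2,3,4,3,4,3,4,3,2,4,3,4,3,2,4,3,4,3,4,2,3,4,3,4]],2,3,1,0⟩],
  [⟨995,[[1],[2],[3],[4],[5],[6]],6,416,6,0⟩,
  ⟨1248,[[2],[3],[4],[5]],6,315,5,0⟩,
  ⟨498,[[2,4,3,5,4,3,4,2],[4,3,5,4,3,4,5,3],[5,4,3,4,2,3,4,5]],3,32,2,0⟩,
  ⟨27,[[2,4,3,5,4,3,4,2,4,3,5,4,3,4,5,3,2,4,3,4,5,3,4,2],[2,4,3,5,4,5,4,3,4,2,5,4,3,4,2,3,4,5,2,4,3,4,5,3,4,2,5,4,3,2,4,3,4,5]],2,5,5,0⟩,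
  ⟨574,[[2,4,3,5,4,5,4,3,4,2,5,4,3,4,2,3,4,5,2,4,3,4,5,3,4,2,5,4,3,2,4,3,4,5],[2,4,3,5,4,3,4,2,4,3,5,4,3,4,5,3,2,4,3,5,4,3,4,2,5,4,3,4,2,3,4,5,2,4,3,4,5,3,4,2,5,4,3,2,4,3,4,5,2,4,3,5,4,3,4,2,4,3,5,4,3,4,5,3,2,4,3,4,5,3,4,2,5,4,3,4,2,3,4,5,2,4,3,5,4,3,4,2,5,4,3,2,4,3,4,5,2,4,3,4,5,3,4,2,3,5,4,3,4,5,3,4,2,4,3,4,5,3,4,2]],2,4,1,0⟩,
  ⟨341,[[2,4,3,5,4,3,4,2,4,3,5,4,3,4,5,3,2,4,3,5,4,3,4,2,5,4,3,4,2,3,4,5,2,4,3,4,5,3,4,2,5,4,3,2,4,3,4,5,2,4,3,5,4,3,4,2,4,3,5,4,3,4,5,3,2,4,3,4,5,3,4,2,5,4,3,4,2,3,4,5,2,4,3,5,4,3,4,2,5,4,3,2,4,3,4,5,2,4,3,4,5,3,4,2,3,5,4,3,4,5,3,4,2,4,3,4,5,3,4,2,5,4,3,4,2,3,4,5,2,4,3,5,4,3,4,2,5,4,3,2,4,3,4,5,2,4,3,4,5,4,5,3,4,2,5,4,3,4,2,3,4,5,2,4,3,5,4,3,4,2,5,4,3,2,4,3,4,5,2,4,3,4,5,4,5,3,4,2]],2,3,1,0⟩],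
  [⟨995,[[1],[2],[3],[4],[5],[6]],6,416,1,0⟩,
  ⟨47,[[2],[3],[4],[5]],6,100,100,0⟩,
  ⟨99,[[3],[4,3,4,3,4,3,4,2,3,4],[4,5,4,3,2,4,3,4,2,3,4,5,4]],4,63,1,0⟩,
  ⟨228,[[3,4,3,4,3,4,3,4,2,4,3,4,3,4,2,3,4],[4,3,4,3,4,3,4,2,3,5,4,3,2,4,3,4,2,3,4,5,3,2,4,3,4,3,4,3,4],[3,4,3,4,3,4,3,4,2,3,4,3,4,3,4,3,4,3,4,2,4,3,4,3,4,2,3,4,3]],3,32,1,0⟩,
  ⟨14,[[3,4,3,4,3,4,3,4,2,4,3,4,3,4,2,3,4,3,4,3,4,3,4,3,4,2,4,3,4,3,4,2,3,4,3,4,3,4,3,4,3,4,2,4,3,4,3,4,2,3,4,3,4,3,4,3,4,3,4,2,4,3,4,3,4,2,3,4]],2,3,3,0⟩],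
  [⟨995,[[1],[2],[3],[4],[5],[6]],6,416,1,0⟩,
  ⟨47,[[2],[3],[4],[5]],6,100,100,0⟩,
  ⟨522,[[3],[4,3,4,3,4,3,4,2,3,4],[4,5,4,3,2,4,3,4,2,3,4,5,4]],4,63,1,0⟩,
  ⟨905,[[4,3,4,3,4,3,4,2,3,4,3,4,3,4,3,4,3,4,2,3,4,3],[4,3,4,3,4,3,4,2,4,3,4,3,4,2,3,5,4,3,2,4,3,4,2,3,4,5,3,2,4,3,4,3,4,2,4,3,4,3,4,3,4,3]],6,32,1,0⟩,
  ⟨1,[[4,3,4,3,4,3,4,2,3,4,3,4,3,4,3,4,3,4,2,3,4,3,4,3,4,3,4,3,4,2,3,4,3,4,3,4,3,4,3,4,2,3,4,3,4,3,4,3,4,3,4,2,3,4,3,4,3,4,3,4,3,4,2,3,4,3,4,3,4,3,4,3,4,2,4,3,4,3,4,2,3,5,4,3,2,4,3,4,2,3,4,5,3,2,4,3,4,3,4,2,4,3,4,3,4,3,4,3]],2,3,3,0⟩],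
  [⟨995,[[1],[2],[3],[4],[5],[6]],6,416,1,0⟩,
  ⟨47,[[2],[3],[4],[5]],6,100,100,0⟩,
  ⟨764,[[3],[4,3,4,3,4,3,4,2,3,4],[4,5,4,3,2,4,3,4,2,3,4,5,4]],4,63,1,0⟩,
  ⟨1265,[[4,3,4,3,4,3,4,2,4,3,4,3,4,2,3,4],[3,4,3,4,3,4,3,4,2,3,5,4,3,2,4,3,4,2,3,4,5,3,4,3,4,3,4,2,4,3,4,3,4,2,3,4,3]],4,32,1,0⟩,
  ⟨1,[[4,3,4,3,4,3,4,2,4,3,4,3,4,2,4,3,4,3,4,2,4,3,4,3,4,2,3,4,3,4,3,4,3,4,3,4,2,3,5,4,3,2,4,3,4,2,3,4,5,3,4,3,4,3,4,2,4,3,4,3,4,2,3,4,3,4,3,4,3,4,3,4,2,4,3,4,3,4,2,3,4,3,4,3,4,3,4,3,4,2,3,5,4,3,2,4,3,4,2,3,4,5,3,4,3,4,3,4,2,4,3,4,3,4,2,3,4,3,4,3,2,4,3,4,3,4,2,4,3,4,3,4,3,4]],2,3,3,0⟩]]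

theorem chs_eq_1 : type_of% @chs.eq_1 := @chs.eq_1

/-- fixes the base point -/
noncomputable def fx0 (W : List ℕ) : Bool := Nat.beq (ap tb W 0) 0

/-- generators of the subgroup for a pair of indices -/
noncomputable def gns (i j : ℕ) : List (List ℕ) :=
  [[29], [30], getN [] ys i ++ getN [] ys i, getN [] ys j ++ getN [] ys j]

/-- the test for an invariant set of common neighbours -/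
noncomputable def muB (L : List (ℕ × ℕ)) (M : ℕ) : Bool :=
  orB (notB (Nat.beq (cnt 1782 11 M) 96))
    (orB (Nat.beq (Nat.land mE (lev 1782 11 L 96 M)) (Nat.shiftLeft 1 1))
      (frc (lev 1782 11 L 64 M) fun A => Nat.beq
        (Nat.land (lev 1782 11 L 32 M) (lev 1782 11 L 0 A)) (Nat.shiftLeft 1 1)))

theorem k_D : band (band (orbB sz_T six 6 995 mD) (orbB sz_T six 5 1 mE))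
    (band (Nat.beq (cnt 1782 11 mD) 416) (Nat.beq (cnt 1782 11 mE) 1365)) = true := by
  decide +kernel
theorem k_J : nbrB sz_T 1782 11 8 tb 0 mD [[1],[2],[3],[4],[5]] pJ 995 [6,2,3,4,3,2,6,7,2,3,4,3,2,7] true 416 100 = true := by
  decide +kernel
theorem k_P : nbrB sz_T 1782 11 8 tb 0 mD gP pP 1 [7] false 416 96 = true := by
  decide +kernel
theorem k_A : autB sz_T 1782 11 8 tb 0 mD lA [] = true := by decide +kernel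
theorem k_Ug : band (exB tb base (sing lS) cU)
    (band (ltB 8 (cU.map Prod.fst)) (allL fx0 (cU.map Prod.fst))) = true := by decide +kernel
theorem k_mu : (prtK sz_T 1782 8 tb 0 mD (cU.map Prod.fst) pUD fun A =>
    prtK sz_T 1782 8 tb 0 mD (cU.map Prod.fst) pUE fun B => band (covB (A ++ B) (ones 1782))
      (band (covB A mD) (allSub (muB (A ++ B)) A 0))) = true := by decide +kernel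
theorem k_cen : ∀ i : Fin 6, band (band (cenK sz_T 1782 11 8 tb fx0 [getN [] xs i] (getN [] chs i))
    (band (Nat.beq (prM (getN [] chs i)) 251596800) (Nat.beq (prC (getN [] chs i)) 300)))
    (band (band (comB tb base [getN [] xs i] (getN [] ys i)) (fx0 (getN [] ys i)))
      (inL lP [getN [] xs i])) = true := by decide +kernel
theorem k_cov : allNF 5 lP (fun W i => orB (Nat.beq i 0) (notB (allL (fun X =>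
    allL (fun m => notB (eqB tb base (List.replicate m W) [X])) [1,2,3,4]) xs))) = true := by
  decide +kernel
theorem k_l01 : ordB tb base (gns 0 1) 13 [0,2,3] = true := by decide +kernel
theorem k_l02 : ordB tb base (gns 0 2) 13 [0,0,2,3] = true := by decide +kernel
theorem k_l12 : ordB tb base (gns 1 2) 13 [0,0,2,3] = true := by decide +kernel
theorem k_s34 : exB tb base (gns 3 4) [([1],[2,3,1,2,3,3,1,2,3,2,0]),([2],[1,2,0,2,3,1,2,3,3,1,2,3]),([3],[2,0,3,0,2,3,0,3,3,2,3,2,0]),([4],[0,0,2,2,0,2,0]),([5],[2,0,0,0,2,0,2])] = true := by decide +kernel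
theorem k_s35 : exB tb base (gns 3 5) [([1],[3,2,3,2,3,0,2,0,2,0]),([2],[0,2,0,3,2,3,2,3,0,2]),([3],[0,3,0,3,2,3,3,1,2,3,3,2,3]),([4],[0,0,2,2,0,2,0]),([5],[2,0,0,0,2,0,2])] = true := by decide +kernel
theorem k_s45 : exB tb base (gns 4 5) [([1],[3,2,0,2,3,2,3,0,2,3,1,3,3,2,1]),([2],[1,2,3,3,1,3,2,0,2,3,2,3,0,2,3]),([3],[3,1,3,2,0,3,2,0]),([4],[2,1,2,2,1,3,2,2,3,0,2,0,2]),([5],[0,0,3,0,3,2,0,2,0,2,2,3,0,3,1,3,3,2])] = true := by decide +kernel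
theorem k_fx : allL (fun l => Nat.beq (tb l 995) 995) [1,2,3,4,5] = true := by decide +kernel

end Cfsg.Lib.Spor.R3S
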