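import Cfsg.Prelude.Def_Sporadic_a

/-!
Bitmask toolkit for verified searches on at most 24 points (popcount) / 32 points (packed maps):
subsets of `Fin n` as naturals, kernel-fast popcount, packed permutations (5 bits per entry).
-/

set_option autoImplicit false

namespace Cfsg.Lib.Spor.SS

open Finset

/-- The subset of `Fin n` with bitmask `m`. -/
def bits (n m : ℕ) : Finset (Fin n) := univ.filter (fun i => m.testBit i)

@[simp] theorem mem_bits {n m : ℕ} {i : Fin n} : i ∈ bits n m ↔ m.testBit i = true := by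
  simp [bits]

theorem bits_land (n a b : ℕ) : bits n (Nat.land a b) = bits n a ∩ bits n b := by
  ext i; simp [Nat.land_eq]

theorem bits_lor (n a b : ℕ) : bits n (Nat.lor a b) = bits n a ∪ bits n b := by
  ext i; simp [Nat.lor_eq]

theorem bits_inj {n a b : ℕ} (ha : a < 2 ^ n) (hb : b < 2 ^ n) (h : bits n a = bits n b) :
    a = b := by
  apply Nat.eq_of_testBit_eq
  intro i
  by_cases hi : i < n
  · have := congrArg (fun s => (⟨i, hi⟩ : Fin n) ∈ s) h
    simp only [mem_bits, eq_iff_iff] at this
    exact Bool.eq_iff_iff.2 this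
  · have h2 : 2 ^ n ≤ 2 ^ i := Nat.pow_le_pow_right (by norm_num) (by omega)
    rw [Nat.testBit_lt_two_pow (by omega), Nat.testBit_lt_two_pow (by omega)]

/-- Every subset of `Fin n` has a mask. -/
theorem exists_mask {n : ℕ} (s : Finset (Fin n)) : ∃ m, m < 2 ^ n ∧ bits n m = s := by
  classical
  induction s using Finset.induction_on with
  | empty => exact ⟨0, by positivity, by ext i; simp⟩
  | insert a s _ ih =>
    obtain ⟨m, hm, rfl⟩ := ih
    refine ⟨m ||| 2 ^ (a : ℕ), Nat.or_lt_two_pow hm (Nat.pow_lt_pow_right (by norm_num) a.2), ?_⟩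
    ext i
    simp only [mem_bits, Nat.testBit_or, Nat.testBit_two_pow, Bool.or_eq_true, decide_eq_true_eq,
      mem_insert, Fin.ext_iff]
    tauto

/-- Fast bit test. -/
def tb (m i : ℕ) : Bool := Nat.beq (Nat.land (Nat.shiftRight m i) 1) 1

theorem tb_eq (m i : ℕ) : tb m i = m.testBit i := by
  unfold tb Nat.testBit
  rw [Nat.land_eq, Nat.shiftRight_eq, Nat.and_comm, Nat.one_and_eq_mod_two]
  rcases Nat.mod_two_eq_zero_or_one (m >>> i) with h | h <;> rw [h] <;> rfl

/-! ### popcount -/

/-- Specification of popcount on the lowest `n` bits. -/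
def pcN (n m : ℕ) : ℕ := ((range n).filter (fun i => m.testBit i)).card

theorem card_bits (n m : ℕ) : (bits n m).card = pcN n m := by
  unfold pcN
  apply card_bij (fun (i : Fin n) _ => (i : ℕ))
  · intro i hi
    simp only [mem_filter, mem_range]
    exact ⟨i.2, mem_bits.1 hi⟩
  · intro i _ j _ h
    exact Fin.ext h
  · intro i hi
    simp only [mem_filter, mem_range] at hi
    exact ⟨⟨i, hi.1⟩, mem_bits.2 hi.2, rfl⟩

theorem pcN_add (a b m : ℕ) : pcN (a + b) m = pcN a m + pcN b (m >>> a) := by
  induction b with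
  | zero => simp [pcN]
  | succ b ih =>
    unfold pcN at *
    rw [← Nat.add_assoc, range_add_one, range_add_one, filter_insert, filter_insert,
      Nat.testBit_shiftRight]
    split_ifs
    · rw [card_insert_of_notMem (by simp), card_insert_of_notMem (by simp), ih]; omega
    · exact ih

theorem pcN_mod (a m : ℕ) : pcN a (m % 2 ^ a) = pcN a m := by
  unfold pcN
  congr 1
  apply filter_congr
  intro i hi
  simp [mem_range.1 hi]

theorem pcN_of_lt {a n m : ℕ} (hm : m < 2 ^ a) (h : a ≤ n) : pcN n m = pcN a m := by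
  obtain ⟨b, rfl⟩ := Nat.exists_eq_add_of_le h
  rw [pcN_add, Nat.shiftRight_eq_div_pow, Nat.div_eq_of_lt hm]
  simp [pcN]

/-- Table of the popcounts of the bytes, four bits each. -/
def pcTbl : ℕ := 0x8776766576656554766565546554544376656554655454436554544354434332766565546554544365545443544343326554544354434332544343324332322176656554655454436554544354434332655454435443433254434332433232216554544354434332544343324332322154434332433232214332322132212110

/-- Popcount of the lowest byte. -/
def pc8 (x : ℕ) : ℕ := Nat.land (Nat.shiftRight pcTbl (Nat.mul 4 (Nat.land x 255))) 15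

/-- Popcount of the lowest 24 bits. -/
def pc (m : ℕ) : ℕ :=
  Nat.add (Nat.add (pc8 m) (pc8 (Nat.shiftRight m 8))) (pc8 (Nat.shiftRight m 16))

theorem pc8_small : ∀ x < 256, pc8 x = pcN 8 x := by decide +kernel

theorem pc8_eq (x : ℕ) : pc8 x = pcN 8 x := by
  have h : Nat.land x 255 = x % 2 ^ 8 := by
    rw [Nat.land_eq]; exact Nat.and_two_pow_sub_one_eq_mod x 8
  have h' : Nat.land (x % 2 ^ 8) 255 = x % 2 ^ 8 := by
    rw [Nat.land_eq]
    have := Nat.and_two_pow_sub_one_eq_mod (x % 2 ^ 8) 8
    rw [Nat.mod_mod] at this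
    exact this
  rw [← pcN_mod, ← pc8_small (x % 2 ^ 8) (Nat.mod_lt _ (by norm_num))]
  unfold pc8
  rw [h, h']

theorem pc_eq (m : ℕ) : pc m = pcN 24 m := by
  have h1 : pcN 24 m = pcN 8 m + pcN 16 (m >>> 8) := pcN_add 8 16 m
  have h2 : pcN 16 (m >>> 8) = pcN 8 (m >>> 8) + pcN 8 ((m >>> 8) >>> 8) := pcN_add 8 8 _
  rw [← Nat.shiftRight_add, show 8 + 8 = 16 from rfl] at h2
  unfold pc
  rw [pc8_eq, pc8_eq, pc8_eq, h1, h2]
  simp only [Nat.add_eq, Nat.shiftRight_eq]
  omega

theorem card_bits_eq_pc {n m : ℕ} (hn : n ≤ 24) (hm : m < 2 ^ n) : (bits n m).card = pc m := by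
  rw [card_bits, pc_eq, pcN_of_lt hm hn]

theorem card_bits_le_pc {n : ℕ} (hn : n ≤ 24) (m : ℕ) : (bits n m).card ≤ pc m := by
  rw [card_bits, pc_eq]
  obtain ⟨b, hb⟩ := Nat.exists_eq_add_of_le hn
  rw [hb, pcN_add]; omega

/-! ### list loops written with recursors -/

/-- `List.all`. -/
noncomputable def lall (p : ℕ → Bool) (l : List ℕ) : Bool :=
  List.rec true (fun a _ r => Bool.rec false r (p a)) l

/-- `List.any`. -/
noncomputable def lany (p : ℕ → Bool) (l : List ℕ) : Bool :=
  List.rec false (fun a _ r => Bool.rec r true (p a)) l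

/-- `List.filter`. -/
noncomputable def lfilter (p : ℕ → Bool) (l : List ℕ) : List ℕ :=
  List.rec [] (fun a _ r => Bool.rec r (a :: r) (p a)) l

/-- All `i < n`. -/
noncomputable def nall (p : ℕ → Bool) (n : ℕ) : Bool :=
  Nat.rec true (fun i r => Bool.rec false r (p i)) n

theorem lall_iff {p : ℕ → Bool} {l : List ℕ} : lall p l = true ↔ ∀ a ∈ l, p a = true := by
  induction l with
  | nil => simp [lall]
  | cons a l ih =>
    have : lall p (a :: l) = Bool.rec false (lall p l) (p a) := rfl
    rw [this]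
    cases h : p a <;> simp [h, ih]

theorem lany_iff {p : ℕ → Bool} {l : List ℕ} : lany p l = true ↔ ∃ a ∈ l, p a = true := by
  induction l with
  | nil => simp [lany]
  | cons a l ih =>
    have : lany p (a :: l) = Bool.rec (lany p l) true (p a) := rfl
    rw [this]
    cases h : p a <;> simp [h, ih]

theorem mem_lfilter {p : ℕ → Bool} {l : List ℕ} {x : ℕ} :
    x ∈ lfilter p l ↔ x ∈ l ∧ p x = true := by
  induction l with
  | nil => simp [lfilter]
  | cons a l ih =>
    have : lfilter p (a :: l) = Bool.rec (lfilter p l) (a :: lfilter p l) (p a) := rfl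
    rw [this]
    cases h : p a
    · simp only [ih, List.mem_cons]
      constructor
      · rintro ⟨h1, h2⟩; exact ⟨Or.inr h1, h2⟩
      · rintro ⟨rfl | h1, h2⟩
        · rw [h] at h2; cases h2
        · exact ⟨h1, h2⟩
    · simp only [ih, List.mem_cons]
      constructor
      · rintro (rfl | ⟨h1, h2⟩)
        · exact ⟨Or.inl rfl, h⟩
        · exact ⟨Or.inr h1, h2⟩
      · rintro ⟨rfl | h1, h2⟩
        · exact Or.inl rfl
        · exact Or.inr ⟨h1, h2⟩

theorem nall_iff {p : ℕ → Bool} {n : ℕ} : nall p n = true ↔ ∀ i < n, p i = true := by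
  induction n with
  | zero => simp [nall]
  | succ n ih =>
    have : nall p (n + 1) = Bool.rec false (nall p n) (p n) := rfl
    rw [this]
    cases h : p n
    · simp only [Bool.false_eq_true, false_iff, not_forall]
      exact ⟨n, by omega, by simp [h]⟩
    · simp only [ih]
      constructor
      · intro H i hi
        rcases Nat.lt_succ_iff_lt_or_eq.1 hi with h1 | rfl
        · exact H i h1
        · exact h
      · intro H i hi
        exact H i (by omega)

/-- Membership test. -/
noncomputable def lmem (x : ℕ) (l : List ℕ) : Bool := lany (Nat.beq x) l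

theorem lmem_iff {x : ℕ} {l : List ℕ} : lmem x l = true ↔ x ∈ l := by
  unfold lmem
  rw [lany_iff]
  constructor
  · rintro ⟨a, ha, h⟩
    rwa [Nat.eq_of_beq_eq_true h]
  · intro h
    exact ⟨x, h, Nat.beq_refl x⟩

/-- Evaluate `x` before passing it on. -/
noncomputable def force {β : Type} (x : ℕ) (f : ℕ → β) : β :=
  Nat.rec (f 0) (fun p _ => f (Nat.succ p)) x

theorem force_eq {β : Type} (x : ℕ) (f : ℕ → β) : force x f = f x := by
  cases x <;> rfl

/-! ### packed maps -/

/-- Entry `i` of a packed map (five bits per entry). -/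
def ap (p i : ℕ) : ℕ := Nat.land (Nat.shiftRight p (Nat.mul 5 i)) 31

/-- Image of the mask `m` (lowest `n` bits) under the packed map `p`. -/
noncomputable def mapMask (n p m : ℕ) : ℕ :=
  Nat.rec 0 (fun i r => Bool.rec r (Nat.lor (Nat.shiftLeft 1 (ap p i)) r) (tb m i)) n

theorem testBit_mapMask (n p m j : ℕ) :
    (mapMask n p m).testBit j = true ↔ ∃ i < n, m.testBit i = true ∧ ap p i = j := by
  induction n with
  | zero => simp [mapMask]
  | succ n ih =>
    have : mapMask (n + 1) p m = Bool.rec (mapMask n p m)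
      (Nat.lor (Nat.shiftLeft 1 (ap p n)) (mapMask n p m)) (tb m n) := rfl
    rw [this, tb_eq]
    cases h : m.testBit n
    · simp only [ih]
      constructor
      · rintro ⟨i, hi, h1⟩; exact ⟨i, by omega, h1⟩
      · rintro ⟨i, hi, h1, h2⟩
        rcases Nat.lt_succ_iff_lt_or_eq.1 hi with h3 | rfl
        · exact ⟨i, h3, h1, h2⟩
        · rw [h] at h1; cases h1
    · simp only [Nat.lor_eq, Nat.shiftLeft_eq', Nat.one_shiftLeft, Nat.testBit_or, Bool.or_eq_true,
        ih, Nat.testBit_two_pow, decide_eq_true_eq]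
      constructor
      · rintro (h1 | ⟨i, hi, h1⟩)
        · exact ⟨n, by omega, h, h1⟩
        · exact ⟨i, by omega, h1⟩
      · rintro ⟨i, hi, h1, h2⟩
        rcases Nat.lt_succ_iff_lt_or_eq.1 hi with h3 | rfl
        · exact Or.inr ⟨i, h3, h1, h2⟩
        · exact Or.inl h2

/-- The packed map `p` is a permutation of `0..n-1`. -/
noncomputable def isPerm (n p : ℕ) : Bool :=
  Nat.beq (mapMask n p (Nat.sub (Nat.shiftLeft 1 n) 1)) (Nat.sub (Nat.shiftLeft 1 n) 1)

theorem full_eq (n : ℕ) : Nat.sub (Nat.shiftLeft 1 n) 1 = 2 ^ n - 1 := by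
  rw [Nat.shiftLeft_eq', Nat.one_shiftLeft]; rfl

theorem exists_perm {n p : ℕ} (h : isPerm n p = true) :
    ∃ σ : Equiv.Perm (Fin n), (∀ i, (σ i : ℕ) = ap p i) ∧
      ∀ m, bits n (mapMask n p m) = (bits n m).image σ := by
  unfold isPerm at h
  have h := Nat.eq_of_beq_eq_true h
  rw [full_eq] at h
  have h1 : ∀ i : Fin n, ap p i < n := by
    intro i
    have : (mapMask n p (2 ^ n - 1)).testBit (ap p i) = true :=
      (testBit_mapMask _ _ _ _).2 ⟨i, i.2, by simp, rfl⟩
    rw [h] at this
    simpa using this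
  let f : Fin n → Fin n := fun i => ⟨ap p i, h1 i⟩
  have hf : Function.Surjective f := by
    intro j
    have : (mapMask n p (2 ^ n - 1)).testBit j = true := by rw [h]; simp
    obtain ⟨i, hi, _, h2⟩ := (testBit_mapMask _ _ _ _).1 this
    exact ⟨⟨i, hi⟩, Fin.ext h2⟩
  refine ⟨Equiv.ofBijective f (Finite.surjective_iff_bijective.1 hf), fun i => rfl, fun m => ?_⟩
  ext j
  simp only [mem_bits, testBit_mapMask, mem_image, Equiv.ofBijective_apply]
  constructor
  · rintro ⟨i, hi, h2, h3⟩
    exact ⟨⟨i, hi⟩, h2, Fin.ext h3⟩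
  · rintro ⟨i, h2, h3⟩
    exact ⟨i, i.2, h2, congrArg Fin.val h3⟩

/-! ### enumeration of subsets -/

/-- Prepends to `tl` all masks `acc ∪ S`, `S` an `r`-subset of the bits of `A` below `i`. -/
noncomputable def ch (A : ℕ) (i : ℕ) : ℕ → ℕ → List ℕ → List ℕ :=
  Nat.rec (fun r acc tl => Nat.rec (acc :: tl) (fun _ _ => tl) r)
    (fun i ih r acc tl => Nat.rec (acc :: tl)
      (fun r' _ => Bool.rec (ih (Nat.succ r') acc tl)
        (ih r' (Nat.lor (Nat.shiftLeft 1 i) acc) (ih (Nat.succ r') acc tl)) (tb A i)) r) i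

theorem ch_zero (A i acc : ℕ) (tl : List ℕ) : ch A i 0 acc tl = acc :: tl := by
  cases i <;> rfl

theorem ch_succ (A i r acc : ℕ) (tl : List ℕ) : ch A (i + 1) (r + 1) acc tl =
    Bool.rec (ch A i (r + 1) acc tl)
      (ch A i r (Nat.lor (Nat.shiftLeft 1 i) acc) (ch A i (r + 1) acc tl)) (tb A i) := rfl

theorem mem_ch_of_mem_tl (A i : ℕ) : ∀ (r acc : ℕ) (tl : List ℕ) (x : ℕ), x ∈ tl →
    x ∈ ch A i r acc tl := by
  induction i with
  | zero =>
    intro r acc tl x hx
    cases r with
    | zero => rw [ch_zero]; exact List.mem_cons_of_mem _ hx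
    | succ r => exact hx
  | succ i ih =>
    intro r acc tl x hx
    cases r with
    | zero => rw [ch_zero]; exact List.mem_cons_of_mem _ hx
    | succ r =>
      rw [ch_succ]
      cases tb A i
      · exact ih _ _ _ _ hx
      · exact ih _ _ _ _ (ih _ _ _ _ hx)

theorem exists_mem_ch (n A i : ℕ) (hi : i ≤ n) : ∀ (r acc : ℕ) (tl : List ℕ) (S : Finset (Fin n)),
    acc < 2 ^ n → S.card = r → (∀ j ∈ S, (j : ℕ) < i ∧ A.testBit j = true) →
    ∃ x ∈ ch A i r acc tl, x < 2 ^ n ∧ bits n x = S ∪ bits n acc := by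
  induction i with
  | zero =>
    intro r acc tl S hacc hS h
    have : S = ∅ := by
      apply eq_empty_of_forall_notMem
      intro j hj
      exact absurd (h j hj).1 (by omega)
    subst this
    rw [card_empty] at hS
    subst hS
    exact ⟨acc, by rw [ch_zero]; exact List.mem_cons_self, hacc, by simp⟩
  | succ i ih =>
    intro r acc tl S hacc hS h
    cases r with
    | zero =>
      rw [card_eq_zero] at hS
      subst hS
      exact ⟨acc, by rw [ch_zero]; exact List.mem_cons_self, hacc, by simp⟩
    | succ r =>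
      rw [ch_succ, tb_eq]
      by_cases hmem : (⟨i, by omega⟩ : Fin n) ∈ S
      · rw [(h _ hmem).2]
        obtain ⟨x, hx, hlt, hb⟩ := ih (by omega) r (Nat.lor (Nat.shiftLeft 1 i) acc)
          (ch A i (r + 1) acc tl) (S.erase ⟨i, by omega⟩)
          (by
            rw [Nat.lor_eq, Nat.shiftLeft_eq', Nat.one_shiftLeft]
            exact Nat.or_lt_two_pow (Nat.pow_lt_pow_right (by norm_num) (by omega)) hacc)
          (by rw [card_erase_of_mem hmem, hS]; rfl)
          (by
            intro j hj
            rw [mem_erase] at hj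
            have h1 := h j hj.2
            have h2 : (j : ℕ) ≠ i := fun e => hj.1 (Fin.ext e)
            exact ⟨by omega, h1.2⟩)
        refine ⟨x, hx, hlt, ?_⟩
        rw [hb]
        ext j
        simp only [mem_union, mem_erase, mem_bits, Nat.lor_eq, Nat.shiftLeft_eq',
          Nat.one_shiftLeft, Nat.testBit_or, Nat.testBit_two_pow, Bool.or_eq_true,
          decide_eq_true_eq]
        constructor
        · rintro (h1 | h1 | h1)
          · exact Or.inl h1.2
          · left
            have : j = ⟨i, by omega⟩ := Fin.ext h1.symm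
            rw [this]; exact hmem
          · exact Or.inr h1
        · rintro (h1 | h1)
          · by_cases e : j = ⟨i, by omega⟩
            · right; left; rw [e]
            · exact Or.inl ⟨e, h1⟩
          · exact Or.inr (Or.inr h1)
      · obtain ⟨x, hx, hlt, hb⟩ := ih (by omega) (r + 1) acc tl S hacc hS
          (by
            intro j hj
            have h1 := h j hj
            have h2 : (j : ℕ) ≠ i := fun e => hmem (by
              have : j = ⟨i, by omega⟩ := Fin.ext e
              rw [← this]; exact hj)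
            exact ⟨by omega, h1.2⟩)
        refine ⟨x, ?_, hlt, hb⟩
        cases A.testBit i
        · exact hx
        · exact mem_ch_of_mem_tl _ _ _ _ _ _ hx

end Cfsg.Lib.Spor.SS
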