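import Cfsg.Agent.Spor.SSBits
import Cfsg.Agent.Spor.SteinerTriangle

/-!
A verified backtrack search, with symmetry reduction, for Steiner systems on at most 24 points.
A certificate proves: every `S(t,k,n)` on `Fin n` whose blocks meet the point set `F` in at most
`r` points and which contains the blocks `K` is carried to a fixed list `std` of blocks by a
permutation fixing `F` pointwise.
-/

set_option autoImplicit false

namespace Cfsg.Lib.Spor.SS

open Finset

/-- The family of subsets given by a list of masks. -/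
def stdSet (n : ℕ) (l : List ℕ) : Set (Finset (Fin n)) := {s | ∃ c ∈ l, bits n c = s}

/-- Admissible block systems. -/
def Adm (n t k F r : ℕ) (B : Set (Finset (Fin n))) : Prop :=
  IsSteinerSystem t k B ∧ ∀ c ∈ B, (c ∩ bits n F).card ≤ r

/-- `B` is carried to the standard system by a permutation fixing `F` pointwise. -/
def Concl (n F : ℕ) (std : List ℕ) (B : Set (Finset (Fin n))) : Prop :=
  ∃ π : Equiv.Perm (Fin n), (∀ i ∈ bits n F, π i = i) ∧
    (fun b => b.image π) '' B = stdSet n std

/-- Every admissible system containing the blocks `K` is standard. -/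
def Good (n t k F r : ℕ) (std K : List ℕ) : Prop :=
  ∀ B : Set (Finset (Fin n)), Adm n t k F r B → (∀ c ∈ K, bits n c ∈ B) → Concl n F std B

theorem steiner_image {α β : Type*} [DecidableEq α] [DecidableEq β] {t k : ℕ}
    {B : Set (Finset α)} (hB : IsSteinerSystem t k B) (e : α ≃ β) :
    IsSteinerSystem t k ((fun b => b.image e) '' B) := by
  refine ⟨?_, fun s hs => ?_⟩
  · rintro _ ⟨b, hb, rfl⟩
    rw [card_image_of_injective _ e.injective, hB.1 b hb]
  · obtain ⟨b, ⟨hb, hsb⟩, hu⟩ := hB.2 (s.image e.symm)
      (by rw [card_image_of_injective _ e.symm.injective, hs])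
    refine ⟨b.image e, ⟨⟨b, hb, rfl⟩, fun x hx => ?_⟩, ?_⟩
    · exact mem_image.2 ⟨e.symm x, hsb (mem_image_of_mem _ hx), by simp⟩
    · rintro _ ⟨⟨c, hc, rfl⟩, hsc⟩
      rw [hu c ⟨hc, fun x hx => ?_⟩]
      obtain ⟨y, hy, rfl⟩ := mem_image.1 hx
      obtain ⟨z, hz, rfl⟩ := mem_image.1 (hsc hy)
      simpa using hz

theorem adm_image {n t k F r : ℕ} {B : Set (Finset (Fin n))} (hB : Adm n t k F r B)
    (σ : Equiv.Perm (Fin n)) (hσ : ∀ i ∈ bits n F, σ i = i) :
    Adm n t k F r ((fun b => b.image σ) '' B) := by
  refine ⟨steiner_image hB.1 σ, ?_⟩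
  rintro _ ⟨b, hb, rfl⟩
  refine le_trans ?_ (hB.2 b hb)
  apply card_le_card
  intro x hx
  rw [mem_inter] at hx ⊢
  obtain ⟨y, hy, rfl⟩ := mem_image.1 hx.1
  have : σ y = y := σ.injective (hσ _ hx.2)
  rw [this] at hx ⊢
  exact ⟨hy, hx.2⟩

theorem concl_of_image {n F : ℕ} {std : List ℕ} {B : Set (Finset (Fin n))}
    (σ : Equiv.Perm (Fin n)) (hσ : ∀ i ∈ bits n F, σ i = i)
    (h : Concl n F std ((fun b => b.image σ) '' B)) : Concl n F std B := by
  obtain ⟨π, h1, h2⟩ := h
  refine ⟨π * σ, fun i hi => by rw [Equiv.Perm.mul_apply, hσ i hi, h1 i hi], ?_⟩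
  rw [← h2, Set.image_image]
  congr 1
  ext b : 1
  rw [image_image]; rfl

theorem inv_fix {n F : ℕ} (σ : Equiv.Perm (Fin n)) (hσ : ∀ i ∈ bits n F, σ i = i) :
    ∀ i ∈ bits n F, σ⁻¹ i = i := fun i hi => by
  rw [Equiv.Perm.inv_eq_iff_eq, hσ i hi]

theorem image_inv_image {n : ℕ} (σ : Equiv.Perm (Fin n)) (s : Finset (Fin n)) :
    (s.image σ).image (σ⁻¹ : Equiv.Perm (Fin n)) = s := by
  rw [image_image]
  ext x; simp

/-! ### The checker -/

/-- Points excluded from the block through `T` by the blocks in `K`, added to `e`. -/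
noncomputable def excl (T e : ℕ) (K : List ℕ) : ℕ :=
  List.rec e (fun c _ r => Bool.rec r (Nat.lor c r)
    (Nat.beq (Nat.xor T (Nat.land c T))
      (Nat.shiftLeft 1 (Nat.log2 (Nat.xor T (Nat.land c T)))))) K

/-- Points outside `T` that may lie on the block through `T`. -/
noncomputable def allowed (n F r T : ℕ) (K : List ℕ) : ℕ :=
  Nat.xor (Nat.sub (Nat.shiftLeft 1 n) 1) (Nat.land (Nat.sub (Nat.shiftLeft 1 n) 1)
    (excl T (Bool.rec T (Nat.lor T F) (Nat.ble r (pc (Nat.land T F)))) K))

/-- `T` is a `t`-subset of `0..n-1`. -/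
def tOk (n t T : ℕ) : Bool := Nat.blt T (Nat.shiftLeft 1 n) && Nat.beq (pc T) t

/-- A chain of forced blocks. -/
noncomputable def forceAll (n t k F r : ℕ) (Ts : List ℕ) :
    List ℕ → (List ℕ → Bool) → Bool :=
  List.rec (fun K cont => cont K)
    (fun T _ ih K cont => force (Nat.lor T (allowed n F r T K)) (fun b =>
      Bool.rec false (ih (b :: K) cont) (tOk n t T && Nat.ble (pc b) k))) Ts

/-- The transpositions in `sw` (coded `p + 32 q`, `p < q`) fix `F`, `K` and do not touch `T`. -/
noncomputable def swOk (n F T : ℕ) (sw K : List ℕ) : Bool :=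
  lall (fun s => Nat.blt (Nat.land s 31) (Nat.shiftRight s 5) && Nat.blt (Nat.shiftRight s 5) n &&
    !tb F (Nat.land s 31) && !tb F (Nat.shiftRight s 5) && !tb T (Nat.shiftRight s 5) &&
    lall (fun c => Nat.beq (Nat.land (Nat.shiftRight c (Nat.land s 31)) 1)
      (Nat.land (Nat.shiftRight c (Nat.shiftRight s 5)) 1)) K) sw

/-- Some transposition in `sw` lowers `b`. -/
noncomputable def red (sw : List ℕ) (b : ℕ) : Bool :=
  lany (fun s => Bool.rec false (!tb b (Nat.land s 31)) (tb b (Nat.shiftRight s 5))) sw

/-- `b` is compatible with `K` and the side condition. -/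
noncomputable def compat (t F r : ℕ) (K : List ℕ) (b : ℕ) : Bool :=
  Bool.rec false
    (lall (fun c => Bool.rec true (Nat.beq (Nat.land c b) b) (Nat.ble t (pc (Nat.land c b)))) K)
    (Nat.ble (pc (Nat.land b F)) r)

/-- Candidates for the block through `T`. -/
noncomputable def cands (n t k F r T : ℕ) (sw K : List ℕ) : List ℕ :=
  force (allowed n F r T K) fun A =>
    lfilter (fun b => force b fun b => Bool.rec (compat t F r K b) false (red sw b))
      (ch A n (Nat.sub k t) T [])

/-- The packed permutation `p` fixes `F` and maps `K0` into `K`. -/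
noncomputable def mapsInto (n F p : ℕ) (K0 K : List ℕ) : Bool :=
  isPerm n p && nall (fun i => !tb F i || Nat.beq (ap p i) i) n &&
    lall (fun c => force (mapMask n p c) fun d => lmem d K) K0

/-- Certificates: a list of subproofs, one for each pending candidate block. -/
inductive Cert : Type
  | nil : Cert
  | ref (b : ℕ) (Ts : List ℕ) (j p : ℕ) (next : Cert) : Cert
  | br (b : ℕ) (Ts : List ℕ) (T : ℕ) (sw : List ℕ) (child next : Cert) : Cert

/-- Reference to an entry of the library of proved configurations. -/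
noncomputable def refOk (n F : ℕ) (lib : List (List ℕ)) (j p : ℕ) (K : List ℕ) : Bool :=
  Option.rec false (fun K0 => mapsInto n F p K0 K) lib[j]?

/-- The checker. -/
noncomputable def chk (n t k F r : ℕ) (lib : List (List ℕ)) (c : Cert) :
    List ℕ → List ℕ → Bool :=
  Cert.rec (motive := fun _ => List ℕ → List ℕ → Bool)
    (fun _ L => List.rec true (fun _ _ _ => false) L)
    (fun b Ts j p _ ihn K L => List.rec false (fun a L' _ =>
      Nat.beq a b && forceAll n t k F r Ts (b :: K) (refOk n F lib j p) && ihn K L') L)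
    (fun b Ts T sw _ _ ihc ihn K L => List.rec false (fun a L' _ =>
      Nat.beq a b && forceAll n t k F r Ts (b :: K) (fun K1 =>
        tOk n t T && swOk n F T sw K1 && ihc K1 (cands n t k F r T sw K1)) && ihn K L') L) c

/-! ### Soundness -/

theorem tOk_spec {n t T : ℕ} (hn : n ≤ 24) (h : tOk n t T = true) :
    T < 2 ^ n ∧ (bits n T).card = t := by
  unfold tOk at h
  simp only [Bool.and_eq_true, Nat.blt_eq, Nat.shiftLeft_eq', Nat.one_shiftLeft] at h
  exact ⟨h.1, by rw [card_bits_eq_pc hn h.1]; exact Nat.eq_of_beq_eq_true h.2⟩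

theorem not_mem_excl {n t k T e : ℕ} {B : Set (Finset (Fin n))} (hB : IsSteinerSystem t k B)
    (hTlt : T < 2 ^ n) (hT : (bits n T).card = t) {s : Finset (Fin n)} (hs : s ∈ B)
    (hTs : bits n T ⊆ s)
    {x : Fin n} (hx : x ∈ s) (hxT : x ∉ bits n T) (hxe : x ∉ bits n e) (K : List ℕ)
    (hK : ∀ c ∈ K, bits n c ∈ B) : x ∉ bits n (excl T e K) := by
  induction K with
  | nil => exact hxe
  | cons c K ih =>
    have ih := ih (fun d hd => hK d (List.mem_cons_of_mem _ hd))
    have : excl T e (c :: K) = Bool.rec (excl T e K) (Nat.lor c (excl T e K))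
      (Nat.beq (Nat.xor T (Nat.land c T))
        (Nat.shiftLeft 1 (Nat.log2 (Nat.xor T (Nat.land c T))))) := rfl
    rw [this]
    cases h : Nat.beq (Nat.xor T (Nat.land c T))
        (Nat.shiftLeft 1 (Nat.log2 (Nat.xor T (Nat.land c T))))
    · exact ih
    · have h := Nat.eq_of_beq_eq_true h
      generalize Nat.log2 (Nat.xor T (Nat.land c T)) = j at h
      rw [Nat.shiftLeft_eq', Nat.one_shiftLeft, Nat.xor_eq, Nat.land_eq] at h
      have hbit : ∀ i, (T.testBit i = true ∧ c.testBit i = false) ↔ j = i := by
        intro i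
        have := congrArg (fun m => Nat.testBit m i) h
        simp only [Nat.testBit_xor, Nat.testBit_and, Nat.testBit_two_pow] at this
        cases h1 : T.testBit i <;> cases h2 : c.testBit i <;> simp_all
      have hj := (hbit j).2 rfl
      have hjn : j < n := by
        by_contra hlt
        have h2 : 2 ^ n ≤ 2 ^ j := Nat.pow_le_pow_right (by norm_num) (by omega)
        rw [Nat.testBit_lt_two_pow (by omega)] at hj
        cases hj.1
      show x ∉ bits n (Nat.lor c (excl T e K))
      rw [bits_lor, mem_union, not_or]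
      refine ⟨fun hxc => ?_, ih⟩
      have hc := hK c List.mem_cons_self
      have hjT : (⟨j, hjn⟩ : Fin n) ∈ bits n T := mem_bits.2 hj.1
      have hsub : insert x ((bits n T).erase ⟨j, hjn⟩) ⊆ s ∩ bits n c := by
        intro y hy
        rw [mem_insert, mem_erase] at hy
        rcases hy with rfl | ⟨h1, h2⟩
        · exact mem_inter.2 ⟨hx, hxc⟩
        · refine mem_inter.2 ⟨hTs h2, ?_⟩
          rw [mem_bits] at h2 ⊢
          by_contra h3
          exact h1 (Fin.ext ((hbit y).1 ⟨h2, by simpa using h3⟩).symm)
      have hcard := card_le_card hsub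
      rw [card_insert_of_notMem (fun h => hxT (mem_of_mem_erase h)), card_erase_of_mem hjT, hT]
        at hcard
      have hpos : 0 < t := by rw [← hT]; exact card_pos.2 ⟨_, hjT⟩
      have heq := Tri.steiner_eq_of_le_card_inter hB hs hc (by omega)
      have : (⟨j, hjn⟩ : Fin n) ∈ bits n c := heq ▸ hTs hjT
      rw [mem_bits] at this
      rw [hj.2] at this
      cases this

theorem mem_allowed {n t k F r T : ℕ} (hn : n ≤ 24) {B : Set (Finset (Fin n))}
    (hB : Adm n t k F r B) (hT : tOk n t T = true) {s : Finset (Fin n)} (hs : s ∈ B)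
    (hTs : bits n T ⊆ s) {x : Fin n} (hx : x ∈ s) (hxT : x ∉ bits n T) (K : List ℕ)
    (hK : ∀ c ∈ K, bits n c ∈ B) : x ∈ bits n (allowed n F r T K) := by
  obtain ⟨hTlt, hTc⟩ := tOk_spec hn hT
  have h1 : x ∉ bits n (Bool.rec T (Nat.lor T F) (Nat.ble r (pc (Nat.land T F)))) := by
    cases h : Nat.ble r (pc (Nat.land T F))
    · exact hxT
    · show x ∉ bits n (Nat.lor T F)
      rw [bits_lor, mem_union, not_or]
      refine ⟨hxT, fun hxF => ?_⟩
      have h := Nat.le_of_ble_eq_true h
      have hlt : Nat.land T F < 2 ^ n := lt_of_le_of_lt Nat.and_le_left hTlt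
      rw [← card_bits_eq_pc hn hlt, bits_land] at h
      have hsub : insert x (bits n T ∩ bits n F) ⊆ s ∩ bits n F := by
        intro y hy
        rw [mem_insert, mem_inter] at hy
        rcases hy with rfl | ⟨h1, h2⟩
        · exact mem_inter.2 ⟨hx, hxF⟩
        · exact mem_inter.2 ⟨hTs h1, h2⟩
      have hcard := card_le_card hsub
      rw [card_insert_of_notMem (fun h => hxT (mem_inter.1 h).1)] at hcard
      have := hB.2 s hs
      omega
  have h2 := not_mem_excl hB.1 hTlt hTc hs hTs hx hxT h1 K hK
  unfold allowed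
  rw [full_eq]
  rw [mem_bits] at h2 ⊢
  simp only [Nat.xor_eq, Nat.land_eq, Nat.testBit_xor, Nat.testBit_and,
    Nat.testBit_two_pow_sub_one, x.2, decide_true, Bool.true_and]
  simp only [Nat.land_eq] at h2
  simpa using h2

theorem good_mono {n t k F r : ℕ} {std K K' : List ℕ} (h : Good n t k F r std K)
    (hK : ∀ c ∈ K, c ∈ K') : Good n t k F r std K' :=
  fun B hB hK' => h B hB (fun c hc => hK' c (hK c hc))

theorem forceAll_sound {n t k F r : ℕ} (hn : n ≤ 24) {std : List ℕ} (cont : List ℕ → Bool)
    (hcont : ∀ K, cont K = true → Good n t k F r std K) (Ts : List ℕ) :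
    ∀ K, forceAll n t k F r Ts K cont = true → Good n t k F r std K := by
  induction Ts with
  | nil => exact hcont
  | cons T Ts ih =>
    intro K h
    have : forceAll n t k F r (T :: Ts) K cont = force (Nat.lor T (allowed n F r T K)) (fun b =>
      Bool.rec false (forceAll n t k F r Ts (b :: K) cont) (tOk n t T && Nat.ble (pc b) k)) := rfl
    rw [this, force_eq] at h
    cases h1 : (tOk n t T && Nat.ble (pc (Nat.lor T (allowed n F r T K))) k)
    · rw [h1] at h; cases h
    · rw [h1] at h
      have hg := ih _ h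
      rw [Bool.and_eq_true] at h1
      intro B hB hK
      apply hg B hB
      intro c hc
      rcases List.mem_cons.1 hc with rfl | hc
      · obtain ⟨s, ⟨hs, hTs⟩, _⟩ := hB.1.2 (bits n T) (tOk_spec hn h1.1).2
        have hsub : s ⊆ bits n (Nat.lor T (allowed n F r T K)) := by
          intro x hx
          rw [bits_lor, mem_union]
          by_cases hxT : x ∈ bits n T
          · exact Or.inl hxT
          · exact Or.inr (mem_allowed hn hB h1.1 hs hTs hx hxT K hK)
        have hle := (card_bits_le_pc hn _).trans (Nat.le_of_ble_eq_true h1.2)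
        rw [← eq_of_subset_of_card_le hsub (by rw [hB.1.1 s hs]; exact hle)]
        exact hs
      · exact hK c hc

theorem good_of_mapsInto {n t k F r p : ℕ} {std K0 K : List ℕ} (h0 : Good n t k F r std K0)
    (h : mapsInto n F p K0 K = true) : Good n t k F r std K := by
  unfold mapsInto at h
  simp only [Bool.and_eq_true] at h
  obtain ⟨⟨h1, h2⟩, h3⟩ := h
  obtain ⟨σ, hσ, hm⟩ := exists_perm h1
  have hfix : ∀ i ∈ bits n F, σ i = i := by
    intro i hi
    have := nall_iff.1 h2 i i.2
    rw [tb_eq, mem_bits.1 hi] at this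
    simp only [Bool.not_true, Bool.false_or] at this
    exact Fin.ext ((hσ i).trans (Nat.eq_of_beq_eq_true this))
  intro B hB hK
  apply concl_of_image σ⁻¹ (inv_fix σ hfix)
  apply h0 _ (adm_image hB σ⁻¹ (inv_fix σ hfix))
  intro c hc
  have := lall_iff.1 h3 c hc
  rw [force_eq, lmem_iff] at this
  refine ⟨_, hK _ this, ?_⟩
  show (bits n (mapMask n p c)).image _ = _
  rw [hm, image_inv_image]

theorem refOk_sound {n t k F r j p : ℕ} {std : List ℕ} {lib : List (List ℕ)}
    (hlib : ∀ K ∈ lib, Good n t k F r std K) (K : List ℕ) (h : refOk n F lib j p K = true) :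
    Good n t k F r std K := by
  unfold refOk at h
  cases h1 : lib[j]? with
  | none => rw [h1] at h; cases h
  | some K0 =>
    rw [h1] at h
    exact good_of_mapsInto (hlib K0 (List.mem_of_getElem? h1)) h

theorem land_one_eq_iff (c i j : ℕ)
    (h : Nat.land (Nat.shiftRight c i) 1 = Nat.land (Nat.shiftRight c j) 1) :
    c.testBit i = c.testBit j := by
  rw [← tb_eq, ← tb_eq]
  unfold tb
  rw [h]

theorem good_of_cands {n t k F r T : ℕ} (hn : n ≤ 24) {std sw K : List ℕ}
    (hT : tOk n t T = true) (hsw : swOk n F T sw K = true)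
    (h : ∀ b ∈ cands n t k F r T sw K, Good n t k F r std (b :: K)) : Good n t k F r std K := by
  obtain ⟨hTlt, hTc⟩ := tOk_spec hn hT
  have key : ∀ (m : ℕ) (s : Finset (Fin n)), ∑ i ∈ s, (i : ℕ) = m → bits n T ⊆ s →
      ∀ B : Set (Finset (Fin n)), Adm n t k F r B → (∀ c ∈ K, bits n c ∈ B) → s ∈ B →
        Concl n F std B := by
    intro m
    induction m using Nat.strong_induction_on with
    | _ m ih =>
    intro s hm hTs B hB hK hs
    obtain ⟨b, hb, hblt, hbs⟩ := exists_mem_ch n (allowed n F r T K) n le_rfl (Nat.sub k t) T []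
      (s \ bits n T) hTlt (by rw [card_sdiff_of_subset hTs, hB.1.1 s hs, hTc]; rfl)
      (fun j hj => ⟨j.2, mem_bits.1
        (mem_allowed hn hB hT hs hTs (mem_sdiff.1 hj).1 (mem_sdiff.1 hj).2 K hK)⟩)
    rw [sdiff_union_of_subset hTs] at hbs
    cases hred : red sw b
    · apply h b _ B hB
      · intro c hc
        rcases List.mem_cons.1 hc with rfl | hc
        · rw [hbs]; exact hs
        · exact hK c hc
      · unfold cands
        rw [force_eq, mem_lfilter, force_eq, hred]
        refine ⟨hb, ?_⟩
        show compat t F r K b = true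
        unfold compat
        have h1 : Nat.ble (pc (Nat.land b F)) r = true := by
          apply Nat.ble_eq_true_of_le
          have hlt : Nat.land b F < 2 ^ n := lt_of_le_of_lt Nat.and_le_left hblt
          rw [← card_bits_eq_pc hn hlt, bits_land, hbs]
          exact hB.2 s hs
        rw [h1]
        apply lall_iff.2
        intro c hc
        cases h2 : Nat.ble t (pc (Nat.land c b))
        · rfl
        · have hlt : Nat.land c b < 2 ^ n := lt_of_le_of_lt Nat.and_le_right hblt
          have h2 := Nat.le_of_ble_eq_true h2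
          rw [← card_bits_eq_pc hn hlt, bits_land, hbs] at h2
          have h3 := Tri.steiner_eq_of_le_card_inter hB.1 (hK c hc) hs h2
          have h4 : Nat.land c b = b := bits_inj hlt hblt (by rw [bits_land, h3, hbs, inter_self])
          rw [h4]
          exact Nat.beq_refl b
    · obtain ⟨w, hw, hw2⟩ := lany_iff.1 hred
      have hv := lall_iff.1 hsw w hw
      simp only [Bool.and_eq_true, Nat.blt_eq, Bool.not_eq_true', tb_eq] at hv
      obtain ⟨⟨⟨⟨⟨hpq, hq⟩, hFp⟩, hFq⟩, hTq⟩, hKpq⟩ := hv
      generalize Nat.land w 31 = p at *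
      generalize Nat.shiftRight w 5 = q at *
      rw [tb_eq, tb_eq] at hw2
      have hbq : b.testBit q = true := by
        cases h3 : b.testBit q
        · rw [h3] at hw2; cases hw2
        · rfl
      have hbp : b.testBit p = false := by
        rw [hbq] at hw2
        simpa using hw2
      let p' : Fin n := ⟨p, by omega⟩
      let q' : Fin n := ⟨q, hq⟩
      have hqs : q' ∈ s := by rw [← hbs]; exact mem_bits.2 hbq
      have hps : p' ∉ s := by rw [← hbs, mem_bits]; simp [p', hbp]
      let σ : Equiv.Perm (Fin n) := Equiv.swap p' q'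
      have hfix : ∀ i ∈ bits n F, σ i = i := by
        intro i hi
        rw [mem_bits] at hi
        apply Equiv.swap_apply_of_ne_of_ne
        · rintro rfl; simp [p', hFp] at hi
        · rintro rfl; simp [q', hFq] at hi
      have himg : s.image σ = insert p' (s.erase q') := by
        ext y
        simp only [mem_image, mem_insert, mem_erase]
        constructor
        · rintro ⟨z, hz, rfl⟩
          by_cases e : z = q'
          · left; rw [e]; exact Equiv.swap_apply_right _ _
          · right
            have e' : z ≠ p' := fun e => hps (e ▸ hz)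
            rw [show σ z = z from Equiv.swap_apply_of_ne_of_ne e' e]
            exact ⟨e, hz⟩
        · rintro (rfl | ⟨h1, h2⟩)
          · exact ⟨q', hqs, Equiv.swap_apply_right _ _⟩
          · exact ⟨y, h2, Equiv.swap_apply_of_ne_of_ne (fun e => hps (e ▸ h2)) h1⟩
      apply concl_of_image σ hfix
      refine ih (∑ i ∈ s.image σ, (i : ℕ)) ?_ (s.image σ) rfl ?_ _ (adm_image hB σ hfix) ?_
        ⟨s, hs, rfl⟩
      · rw [himg, sum_insert (fun h => hps (mem_of_mem_erase h)), ← hm, ← add_sum_erase _ _ hqs]
        show p + _ < q + _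
        omega
      · rw [himg]
        intro y hy
        refine mem_insert_of_mem (mem_erase.2 ⟨?_, hTs hy⟩)
        rintro rfl
        rw [mem_bits] at hy
        simp [q', hTq] at hy
      · intro c hc
        refine ⟨_, hK c hc, ?_⟩
        have h4 := land_one_eq_iff _ _ _ (Nat.eq_of_beq_eq_true (lall_iff.1 hKpq c hc))
        ext y
        simp only [mem_image, mem_bits]
        constructor
        · rintro ⟨z, hz, rfl⟩
          by_cases e : z = q'
          · subst e
            rw [show σ q' = p' from Equiv.swap_apply_right _ _]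
            exact h4.trans hz
          · by_cases e' : z = p'
            · subst e'
              rw [show σ p' = q' from Equiv.swap_apply_left _ _]
              exact h4.symm.trans hz
            · rw [show σ z = z from Equiv.swap_apply_of_ne_of_ne e' e]; exact hz
        · intro hy
          refine ⟨σ y, ?_, Equiv.swap_apply_self _ _ _⟩
          by_cases e : y = q'
          · subst e
            rw [show σ q' = p' from Equiv.swap_apply_right _ _]
            exact h4.trans hy
          · by_cases e' : y = p'
            · subst e'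
              rw [show σ p' = q' from Equiv.swap_apply_left _ _]
              exact h4.symm.trans hy
            · rw [show σ y = y from Equiv.swap_apply_of_ne_of_ne e' e]; exact hy
  intro B hB hK
  obtain ⟨s, ⟨hs, hTs⟩, _⟩ := hB.1.2 (bits n T) hTc
  exact key _ s rfl hTs B hB hK hs

theorem chk_sound {n t k F r : ℕ} (hn : n ≤ 24) {std : List ℕ} {lib : List (List ℕ)}
    (hlib : ∀ K ∈ lib, Good n t k F r std K) (c : Cert) :
    ∀ K L, chk n t k F r lib c K L = true → ∀ b ∈ L, Good n t k F r std (b :: K) := by
  induction c with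
  | nil =>
    intro K L h b hb
    cases L with
    | nil => cases hb
    | cons a L => cases h
  | ref b Ts j p next ihn =>
    intro K L h
    cases L with
    | nil => cases h
    | cons a L =>
      have h : (Nat.beq a b && forceAll n t k F r Ts (b :: K) (refOk n F lib j p) &&
        chk n t k F r lib next K L) = true := h
      simp only [Bool.and_eq_true] at h
      intro x hx
      rcases List.mem_cons.1 hx with rfl | hx
      · rw [Nat.eq_of_beq_eq_true h.1.1]
        exact forceAll_sound hn _ (refOk_sound hlib) Ts _ h.1.2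
      · exact ihn K L h.2 x hx
  | br b Ts T sw child next ihc ihn =>
    intro K L h
    cases L with
    | nil => cases h
    | cons a L =>
      have h : (Nat.beq a b && forceAll n t k F r Ts (b :: K) (fun K1 =>
        tOk n t T && swOk n F T sw K1 && chk n t k F r lib child K1 (cands n t k F r T sw K1)) &&
        chk n t k F r lib next K L) = true := h
      simp only [Bool.and_eq_true] at h
      intro x hx
      rcases List.mem_cons.1 hx with rfl | hx
      · rw [Nat.eq_of_beq_eq_true h.1.1]
        refine forceAll_sound hn _ (fun K1 h1 => ?_) Ts _ h.1.2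
        simp only [Bool.and_eq_true] at h1
        exact good_of_cands hn h1.1.1 h1.1.2 (ihc _ _ h1.2)
      · exact ihn K L h.2 x hx

/-- Root check: forced steps, then a branching. -/
noncomputable def rootBr (n t k F r : ℕ) (lib : List (List ℕ)) (K Ts : List ℕ) (T : ℕ)
    (sw : List ℕ) (child : Cert) : Bool :=
  forceAll n t k F r Ts K (fun K1 =>
    tOk n t T && swOk n F T sw K1 && chk n t k F r lib child K1 (cands n t k F r T sw K1))

theorem good_of_rootBr {n t k F r : ℕ} (hn : n ≤ 24) {std : List ℕ} {lib : List (List ℕ)}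
    (hlib : ∀ K ∈ lib, Good n t k F r std K) (K Ts : List ℕ) (T : ℕ) (sw : List ℕ) (child : Cert)
    (h : rootBr n t k F r lib K Ts T sw child = true) : Good n t k F r std K := by
  refine forceAll_sound hn _ (fun K1 h1 => ?_) Ts _ h
  simp only [Bool.and_eq_true] at h1
  exact good_of_cands hn h1.1.1 h1.1.2 (chk_sound hn hlib child _ _ h1.2)

/-- Strictly increasing, starting above `a`, bounded by `N`. -/
noncomputable def incr (N : ℕ) (l : List ℕ) : ℕ → Bool :=
  List.rec (fun a => Nat.ble a N) (fun c _ ih a => Bool.rec false (ih (Nat.succ c)) (Nat.ble a c)) l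

theorem incr_spec {N : ℕ} {l : List ℕ} : ∀ a, incr N l a = true →
    a ≤ N ∧ l.Nodup ∧ ∀ c ∈ l, a ≤ c ∧ c < N := by
  induction l with
  | nil => intro a h; exact ⟨Nat.le_of_ble_eq_true h, List.nodup_nil, by simp⟩
  | cons c l ih =>
    intro a h
    have h : Bool.rec false (incr N l (c + 1)) (Nat.ble a c) = true := h
    cases h1 : Nat.ble a c
    · rw [h1] at h; cases h
    · rw [h1] at h
      have h1 := Nat.le_of_ble_eq_true h1
      obtain ⟨h2, h3, h4⟩ := ih _ h
      refine ⟨by omega, List.nodup_cons.2 ⟨fun hc => ?_, h3⟩, fun d hd => ?_⟩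
      · have := (h4 c hc).1; omega
      · rcases List.mem_cons.1 hd with rfl | hd
        · omega
        · have := h4 d hd; omega

theorem ncard_stdSet {n : ℕ} {std : List ℕ} (h : incr (2 ^ n) std 0 = true) :
    (stdSet n std).ncard = std.length := by
  obtain ⟨_, h1, h2⟩ := incr_spec 0 h
  have : stdSet n std = (bits n) '' (std.toFinset : Set ℕ) := by
    ext s; simp [stdSet]
  rw [this, Set.InjOn.ncard_image, Set.ncard_coe_finset, List.toFinset_card_of_nodup h1]
  intro a ha b hb hab
  simp only [Set.mem_ofPred_eq, List.coe_toFinset] at ha hb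
  exact bits_inj (h2 a ha).2 (h2 b hb).2 hab

/-- The complete standard list is good, by counting blocks. -/
theorem good_std {n t k F r : ℕ} (htk : t ≤ k) {std : List ℕ} (h : incr (2 ^ n) std 0 = true)
    (hlen : std.length * k.choose t = n.choose t) : Good n t k F r std std := by
  intro B hB hK
  refine ⟨1, fun _ _ => rfl, ?_⟩
  have h1 := Tri.steiner_through_eq (Fintype.card_fin n) hB.1 htk ∅ (by simp) std.length
    (by simpa using hlen)
  rw [← Tri.ncard_eq_card_blocksWith] at h1
  have h2 : {c | c ∈ B ∧ ∅ ⊆ c} = B := by ext c; simp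
  rw [h2] at h1
  have h3 : stdSet n std ⊆ B := by
    rintro _ ⟨c, hc, rfl⟩; exact hK c hc
  rw [Set.eq_of_subset_of_ncard_le h3 (by rw [h1, ncard_stdSet h]) (Set.toFinite _)]
  ext s; simp

/-- Forced steps only, ending in a superset of `K0`. -/
theorem good_of_forced {n t k F r : ℕ} (hn : n ≤ 24) {std K0 : List ℕ}
    (h0 : Good n t k F r std K0) (K Ts : List ℕ) (p : ℕ)
    (h : forceAll n t k F r Ts K (mapsInto n F p K0) = true) : Good n t k F r std K :=
  forceAll_sound hn _ (fun _ h1 => good_of_mapsInto h0 h1) Ts K h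

/-- The final form on an arbitrary finite type: an ordered tuple `x` of `f` points met by each
block in at most `r` points goes to `0, …, f-1`, and the system goes to the standard one. -/
theorem exists_equiv_std {n t k f r : ℕ} (hf : f ≤ n) {std : List ℕ}
    (h : Good n t k (2 ^ f - 1) r std []) {α : Type*} [Fintype α] [DecidableEq α]
    (hα : Fintype.card α = n) {B : Set (Finset α)} (hB : IsSteinerSystem t k B)
    (x : Fin f → α) (hx : Function.Injective x) (hr : ∀ c ∈ B, (c ∩ univ.image x).card ≤ r) :
    ∃ e : α ≃ Fin n, (∀ i, e (x i) = Fin.castLE hf i) ∧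
      (fun b => b.image e) '' B = stdSet n std := by
  let e0 : α ≃ Fin n := Fintype.equivFinOfCardEq hα
  obtain ⟨σ, hσ⟩ := Equiv.Perm.exists_extending_pair (f := fun i => e0 (x i))
    (g := Fin.castLE hf) (e0.injective.comp hx) (Fin.castLE_injective hf)
  let e1 : α ≃ Fin n := e0.trans σ
  have he1 : ∀ i, e1 (x i) = Fin.castLE hf i := hσ
  have hF : bits n (2 ^ f - 1) = (univ.image x).image e1 := by
    ext y
    simp only [mem_bits, Nat.testBit_two_pow_sub_one, decide_eq_true_eq, mem_image, mem_univ,
      true_and, exists_exists_eq_and, he1]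
    constructor
    · intro hy; exact ⟨⟨y, hy⟩, rfl⟩
    · rintro ⟨i, rfl⟩; exact i.2
  obtain ⟨π, h1, h2⟩ := h ((fun b => b.image e1) '' B) ⟨steiner_image hB e1, by
    rintro _ ⟨c, hc, rfl⟩
    show (c.image e1 ∩ _).card ≤ r
    rw [hF, ← image_inter _ _ e1.injective, card_image_of_injective _ e1.injective]
    exact hr c hc⟩ (by simp)
  refine ⟨e1.trans π, fun i => ?_, ?_⟩
  · rw [Equiv.trans_apply, he1, h1]
    simp
  · rw [← h2, Set.image_image]
    congr 1
    ext b : 1
    rw [image_image]; rfl

/-- Two systems carried to the same standard list are isomorphic. -/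
theorem setSystemIso_of_std {α β γ : Type*} [DecidableEq α] [DecidableEq β] [DecidableEq γ]
    {B : Set (Finset α)} {B' : Set (Finset β)} {S : Set (Finset γ)} (e : α ≃ γ) (e' : β ≃ γ)
    (h : (fun b => b.image e) '' B = S) (h' : (fun b => b.image e') '' B' = S) :
    (fun b => b.image (e.trans e'.symm)) '' B = B' := by
  have h1 : (fun b => b.image e'.symm) '' S = B' := by
    rw [← h', Set.image_image]
    have : ∀ b : Finset β, (b.image e').image e'.symm = b := by
      intro b; rw [image_image]; ext x; simp
    simp [this]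
  rw [← h1, ← h, Set.image_image]
  congr 1
  ext b : 1
  rw [image_image]; rfl

end Cfsg.Lib.Spor.SS
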