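import Cfsg.Agent.Spor.ThSD0

/-! Generated certificate checks. -/

set_option autoImplicit false
set_option maxRecDepth 100000
set_option linter.unusedVariables false
set_option linter.unusedSectionVars false

namespace Cfsg.Lib.Spor.ThS

open Cfsg.Lib.Spor.MG Cfsg.Lib.Spor.Bulk Cfsg.Lib.Spor.ThP

variable {M : Type} [Monoid M] [Finite M] (I : Impl ThU.CF.O M) {X : Type} [MulAction M X] (B : BImpl I V X)
include I B

theorem a2 : I.AllS P (I.gen P S1) (msk S1) :=
  Impl.allS_gen (W := []) (by decide +kernel)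

theorem card3 : Nat.card (I.gen P S1) = 1 :=
  by rw [show (I.gen P S1) = ⊥ from Impl.gen_nil]; exact Subgroup.card_bot

theorem a6 : I.AllS P (I.gen P S5) (msk S5) :=
  Impl.allS_gen (W := [2, 3]) (by decide +kernel)

theorem le7 : (I.gen P S1) ≤ (I.gen P S5) :=
  Impl.gen_le (a6 I B) (by decide +kernel)

theorem a10 : I.AllS P (I.gen P S1) m9 :=
  (a2 I B).ext L8 (by decide +kernel)

theorem a14 : I.AllS P (I.gen P S5) m13 :=
  ((a6 I B).lor ((a10 I B).le (le7 I B))).ext L12 (by decide +kernel)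

theorem a17 : I.AllS P (I.gen P S1) m16 :=
  (a10 I B).ext L15 (by decide +kernel)

theorem pa18 : ∀ s ∈ S5, ∀ p, 0 ≤ p → p < 4 → I.PlainAt P (I.gen P S1) 4 4 s p :=
  Impl.plain_all (a17 I B) (a14 I B) 4 4 S5 W19 (by decide +kernel)

theorem lv20 : (I.gen P S5) ⊓ MulAction.stabilizer Mˣ (B.vd b11) = (I.gen P S1) ∧ (MulAction.orbit (I.gen P S5) (B.vd b11)).ncard = 4 ∧ Nat.card (I.gen P S5) = 4 * Nat.card (I.gen P S1) :=
  B.plain_lev (a14 I B) (a17 I B) 4 4 2 b11 (pa18 I B) (by decide +kernel)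

theorem card21 : Nat.card (I.gen P S5) = 4 :=
  by have h := (lv20 I B).2.2; rw [(card3 I B)] at h; exact h.trans (by norm_num)

theorem a24 : I.AllS P (I.gen P S23) (msk S23) :=
  Impl.allS_gen (W := [9, 2, 3]) (by decide +kernel)

theorem le25 : (I.gen P S5) ≤ (I.gen P S23) :=
  Impl.gen_le (a24 I B) (by decide +kernel)

theorem a29 : I.AllS P (I.gen P S23) m28 :=
  ((a24 I B).lor ((a14 I B).le (le25 I B))).ext L27 (by decide +kernel)

theorem a32 : I.AllS P (I.gen P S5) m31 :=
  (a14 I B).ext L30 (by decide +kernel)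

theorem pa33 : ∀ s ∈ S23, ∀ p, 0 ≤ p → p < 14 → I.PlainAt P (I.gen P S5) 10 14 s p :=
  Impl.plain_all (a32 I B) (a29 I B) 10 14 S23 W34 (by decide +kernel)

theorem lv35 : (I.gen P S23) ⊓ MulAction.stabilizer Mˣ (B.vd b26) = (I.gen P S5) ∧ (MulAction.orbit (I.gen P S23) (B.vd b26)).ncard = 14 ∧ Nat.card (I.gen P S23) = 14 * Nat.card (I.gen P S5) :=
  B.plain_lev (a29 I B) (a32 I B) 10 14 9 b26 (pa33 I B) (by decide +kernel)

theorem card36 : Nat.card (I.gen P S23) = 56 :=
  by have h := (lv35 I B).2.2; rw [(card21 I B)] at h; exact h.trans (by norm_num)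

theorem a39 : I.AllS P (I.gen P S38) (msk S38) :=
  Impl.allS_gen (W := [25, 9, 2, 3]) (by decide +kernel)

theorem le40 : (I.gen P S23) ≤ (I.gen P S38) :=
  Impl.gen_le (a39 I B) (by decide +kernel)

theorem a44 : I.AllS P (I.gen P S38) m43 :=
  ((a39 I B).lor ((a29 I B).le (le40 I B))).ext L42 (by decide +kernel)

theorem a47 : I.AllS P (I.gen P S23) m46 :=
  (a29 I B).ext L45 (by decide +kernel)

theorem pa48 : ∀ s ∈ S38, ∀ p, 0 ≤ p → p < 9 → I.PlainAt P (I.gen P S23) 26 9 s p :=
  Impl.plain_all (a47 I B) (a44 I B) 26 9 S38 W49 (by decide +kernel)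

theorem lv50 : (I.gen P S38) ⊓ MulAction.stabilizer Mˣ (B.vd b41) = (I.gen P S23) ∧ (MulAction.orbit (I.gen P S38) (B.vd b41)).ncard = 9 ∧ Nat.card (I.gen P S38) = 9 * Nat.card (I.gen P S23) :=
  B.plain_lev (a44 I B) (a47 I B) 26 9 0 b41 (pa48 I B) (by decide +kernel)

theorem card51 : Nat.card (I.gen P S38) = 504 :=
  by have h := (lv50 I B).2.2; rw [(card36 I B)] at h; exact h.trans (by norm_num)

theorem a54 : I.AllS P (I.gen P S53) (msk S53) :=
  Impl.allS_gen (W := [36, 25, 9, 2, 3]) (by decide +kernel)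

theorem le55 : (I.gen P S38) ≤ (I.gen P S53) :=
  Impl.gen_le (a54 I B) (by decide +kernel)

theorem a59 : I.AllS P (I.gen P S53) m58 :=
  ((a54 I B).lor ((a44 I B).le (le55 I B))).ext L57 (by decide +kernel)

theorem a62 : I.AllS P (I.gen P S38) m61 :=
  (a44 I B).ext L60 (by decide +kernel)

theorem pr65 : ∀ p, 0 ≤ p → p < 512 → I.PlainAt P (I.gen P S38) 37 512 35 p :=
  Impl.plain_range (a62 I B) (a59 I B) 37 512 35 0 512 W64 (by decide +kernel)

theorem pr67 : ∀ p, 0 ≤ p → p < 512 → I.PlainAt P (I.gen P S38) 37 512 24 p :=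
  Impl.plain_range (a62 I B) (a59 I B) 37 512 24 0 512 W66 (by decide +kernel)

theorem pr69 : ∀ p, 0 ≤ p → p < 512 → I.PlainAt P (I.gen P S38) 37 512 8 p :=
  Impl.plain_range (a62 I B) (a59 I B) 37 512 8 0 512 W68 (by decide +kernel)

theorem pr71 : ∀ p, 0 ≤ p → p < 512 → I.PlainAt P (I.gen P S38) 37 512 2 p :=
  Impl.plain_range (a62 I B) (a59 I B) 37 512 2 0 512 W70 (by decide +kernel)

theorem pr73 : ∀ p, 0 ≤ p → p < 512 → I.PlainAt P (I.gen P S38) 37 512 3 p :=
  Impl.plain_range (a62 I B) (a59 I B) 37 512 3 0 512 W72 (by decide +kernel)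

theorem pa63 : ∀ s ∈ S53, ∀ p, 0 ≤ p → p < 512 → I.PlainAt P (I.gen P S38) 37 512 s p :=
  List.forall_mem_cons.2 ⟨(pr65 I B), List.forall_mem_cons.2 ⟨(pr67 I B), List.forall_mem_cons.2 ⟨(pr69 I B), List.forall_mem_cons.2 ⟨(pr71 I B), List.forall_mem_cons.2 ⟨(pr73 I B), List.forall_mem_nil _⟩⟩⟩⟩⟩

theorem lv74 : (I.gen P S53) ⊓ MulAction.stabilizer Mˣ (B.vd b56) = (I.gen P S38) ∧ (MulAction.orbit (I.gen P S53) (B.vd b56)).ncard = 512 ∧ Nat.card (I.gen P S53) = 512 * Nat.card (I.gen P S38) :=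
  B.plain_lev (a59 I B) (a62 I B) 37 512 264 b56 (pa63 I B) (by decide +kernel)

theorem card75 : Nat.card (I.gen P S53) = 258048 :=
  by have h := (lv74 I B).2.2; rw [(card51 I B)] at h; exact h.trans (by norm_num)

theorem a78 : I.AllS P (I.gen P S77) (msk S77) :=
  Impl.allS_gen (W := [551, 552]) (by decide +kernel)

theorem a81 : I.AllS P (I.gen P S53) m80 :=
  (a59 I B).ext L79 (by decide +kernel)

theorem le82 : (I.gen P S77) ≤ (I.gen P S53) :=
  Impl.gen_le (a81 I B) (by decide +kernel)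

theorem a85 : I.AllS P (I.gen P S77) m84 :=
  (a78 I B).ext L83 (by decide +kernel)

theorem le86 : (I.gen P S53) ≤ (I.gen P S77) :=
  Impl.gen_le (a85 I B) (by decide +kernel)

theorem eq87 : (I.gen P S77) = (I.gen P S53) :=
  le_antisymm (le82 I B) (le86 I B)

theorem st88 : (I.gen P S77) ⊓ MulAction.stabilizer Mˣ (B.vd b56) = (I.gen P S38) :=
  by rw [eq87 I B]; exact (lv74 I B).1

theorem card89 : Nat.card (I.gen P S77) = 258048 :=
  by rw [eq87 I B]; exact (card75 I B)

theorem a92 : I.AllS P (I.gen P S91) (msk S91) :=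
  Impl.allS_gen (W := [572, 573, 574, 575, 577]) (by decide +kernel)

theorem a95 : I.AllS P (I.gen P S77) m94 :=
  ((a85 I B).lor ((a81 I B).le (le86 I B))).ext L93 (by decide +kernel)

theorem le96 : (I.gen P S91) ≤ (I.gen P S77) :=
  Impl.gen_le (a95 I B) (by decide +kernel)

theorem a99 : I.AllS P (I.gen P S91) m98 :=
  (a92 I B).ext L97 (by decide +kernel)

theorem le100 : (I.gen P S77) ≤ (I.gen P S91) :=
  Impl.gen_le (a99 I B) (by decide +kernel)

theorem eq101 : (I.gen P S91) = (I.gen P S77) :=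
  le_antisymm (le96 I B) (le100 I B)

theorem st102 : (I.gen P S91) ⊓ MulAction.stabilizer Mˣ (B.vd b56) = (I.gen P S38) :=
  by rw [eq101 I B]; exact (st88 I B)

theorem card103 : Nat.card (I.gen P S91) = 258048 :=
  by rw [eq101 I B]; exact (card89 I B)

theorem a106 : I.AllS P (I.gen P S105) (msk S105) :=
  Impl.allS_gen (W := [590, 572, 573, 574, 575, 577]) (by decide +kernel)

theorem le107 : (I.gen P S91) ≤ (I.gen P S105) :=
  Impl.gen_le (a106 I B) (by decide +kernel)

theorem a112 : I.AllS P (I.gen P S105) m111 :=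
  ((a106 I B).lor (((a99 I B).lor ((a95 I B).le (le100 I B))).le (le107 I B))).ext L110 (by decide +kernel)

theorem a142 : I.AllS P (I.gen P S91) m141 :=
  ((a99 I B).lor ((a95 I B).le (le100 I B))).ext L140 (by decide +kernel)

theorem nt144 : BImpl.Nets (B := B) (P := P) [576] Q139 512 [N143] :=
  BImpl.Nets.cons (a142 I B) 576 N143 (by decide +kernel) (B.nets_nil Q139 512)

theorem nt146 : BImpl.Nets (B := B) (P := P) [575, 576] Q139 512 [N145, N143] :=
  BImpl.Nets.cons (a142 I B) 575 N145 (by decide +kernel) (nt144 I B)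

theorem nt148 : BImpl.Nets (B := B) (P := P) [574, 575, 576] Q139 512 [N147, N145, N143] :=
  BImpl.Nets.cons (a142 I B) 574 N147 (by decide +kernel) (nt146 I B)

theorem nt150 : BImpl.Nets (B := B) (P := P) [573, 574, 575, 576] Q139 512 [N149, N147, N145, N143] :=
  BImpl.Nets.cons (a142 I B) 573 N149 (by decide +kernel) (nt148 I B)

theorem nt152 : BImpl.Nets (B := B) (P := P) [572, 573, 574, 575, 576] Q139 512 [N151, N149, N147, N145, N143] :=
  BImpl.Nets.cons (a142 I B) 572 N151 (by decide +kernel) (nt150 I B)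

theorem a155 : I.AllS P (I.gen P S91) m154 :=
  (a142 I B).ext L153 (by decide +kernel)

theorem ad156 : I.AllS P (dset (I.gen P S91) (I.lset P T109)) (Nat.lor m154 (msk T109)) :=
  Impl.allS_dset (a155 I B) (a112 I B) (by decide +kernel)

theorem ob157 : B.Orb (I.gen P S91) (B.vd b56) Q139 512 :=
  (nt152 I B).orb b56 264 (by decide +kernel)

theorem lc158 : ∀ l ∈ (I.gen P S38), (I.u (P 590))⁻¹ * l * (I.u (P 590)) ∈ (I.gen P S91) :=
  Impl.lconj_gen (a155 I B) ((a112 I B).tb (i := 590) (by decide +kernel)) [27, 21, 5, 4] (by decide +kernel)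

theorem ak160 : I.AllS P (conjIn (I.gen P S91) (I.u (P 590))) (msk (mapL hd L159)) :=
  Impl.allS_conjIn (a155 I B) ((a112 I B).tb (i := 590) (by decide +kernel)) (by decide +kernel)

theorem a163 : I.AllS P (conjIn (I.gen P S91) (I.u (P 590))) m162 :=
  (ak160 I B).ext L161 (by decide +kernel)

theorem rp166 : BImpl.RepsOn (B := B) (I.gen P S91) (dset (I.gen P S91) (I.lset P T109)) (I.u (P 590)) (I.u (P 590)) (B.vd b56) (V.cube P C164 Q139) 0xffffffffffffffffffffffffffffffffffffffffffffffffffffffffffffffffffffffffffffffffffffffffffffffffffffffffffffffffffffffffffffffff :=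
  B.repsOn_of_chk (a155 I B) (ad156 I B) (a112 I B) 590 590 b56 _ R165 _ (by decide +kernel)

theorem dt167 : ∀ h ∈ (I.gen P S91), (I.u (P 590)) * h * (I.u (P 590)) ∈ (dset (I.gen P S91) (I.lset P T109)) :=
  B.dc_t (le_of_eq (st102 I B)) (lc158 I B) (ob157 I B) (a163 I B) (rp166 I B) (by decide +kernel)

theorem ak169 : I.AllS P (conjIn (I.gen P S91) (I.u (P 610))) (msk (mapL hd L168)) :=
  Impl.allS_conjIn (a155 I B) ((a112 I B).tb (i := 610) (by decide +kernel)) (by decide +kernel)

theorem a172 : I.AllS P (conjIn (I.gen P S91) (I.u (P 610))) m171 :=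
  (ak169 I B).ext L170 (by decide +kernel)

theorem rp175 : BImpl.RepsOn (B := B) (I.gen P S91) (dset (I.gen P S91) (I.lset P T109)) (I.u (P 610)) (I.u (P 590)) (B.vd b56) (V.cube P C173 Q139) 0xffffffffffffffffffffffffffffffffffffffffffffffffffffffffffffffffffffffffffffffffffffffffffffffffffffffffffffffffffffffffffffffff :=
  B.repsOn_of_chk (a155 I B) (ad156 I B) (a112 I B) 610 590 b56 _ R174 _ (by decide +kernel)

theorem dt176 : ∀ h ∈ (I.gen P S91), (I.u (P 610)) * h * (I.u (P 590)) ∈ (dset (I.gen P S91) (I.lset P T109)) :=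
  B.dc_t (le_of_eq (st102 I B)) (lc158 I B) (ob157 I B) (a172 I B) (rp175 I B) (by decide +kernel)

theorem ak178 : I.AllS P (conjIn (I.gen P S91) (I.u (P 611))) (msk (mapL hd L177)) :=
  Impl.allS_conjIn (a155 I B) ((a112 I B).tb (i := 611) (by decide +kernel)) (by decide +kernel)

theorem a181 : I.AllS P (conjIn (I.gen P S91) (I.u (P 611))) m180 :=
  (ak178 I B).ext L179 (by decide +kernel)

theorem rp184 : BImpl.RepsOn (B := B) (I.gen P S91) (dset (I.gen P S91) (I.lset P T109)) (I.u (P 611)) (I.u (P 590)) (B.vd b56) (V.cube P C182 Q139) 0xffffffffffffffffffffffffffffffffffffffffffffffffffffffffffffffffffffffffffffffffffffffffffffffffffffffffffffffffffffffffffffffff :=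
  B.repsOn_of_chk (a155 I B) (ad156 I B) (a112 I B) 611 590 b56 _ R183 _ (by decide +kernel)

theorem dt185 : ∀ h ∈ (I.gen P S91), (I.u (P 611)) * h * (I.u (P 590)) ∈ (dset (I.gen P S91) (I.lset P T109)) :=
  B.dc_t (le_of_eq (st102 I B)) (lc158 I B) (ob157 I B) (a181 I B) (rp184 I B) (by decide +kernel)

theorem cv186 : ∀ x ∈ (I.gen P S105), x ∈ (dset (I.gen P S91) (I.lset P T109)) :=
  Impl.dc_cover' (S := S91) (g := 590) List.mem_cons_self (List.forall_mem_cons.2 ⟨(dt167 I B), List.forall_mem_cons.2 ⟨(dt176 I B), List.forall_mem_cons.2 ⟨(dt185 I B), List.forall_mem_nil _⟩⟩⟩)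

theorem st187 : (I.gen P S105) ⊓ MulAction.stabilizer Mˣ (B.vd b108) = (I.gen P S91) :=
  B.dc_stab (S := S91) (g := 590) (a112 I B) (cv186 I B) b108 (by decide +kernel)

theorem nt216 : BImpl.Nets (B := B) (P := P) [576] Q214 819 [N215] :=
  BImpl.Nets.cons (a112 I B) 576 N215 (by decide +kernel) (B.nets_nil Q214 819)

theorem nt218 : BImpl.Nets (B := B) (P := P) [575, 576] Q214 819 [N217, N215] :=
  BImpl.Nets.cons (a112 I B) 575 N217 (by decide +kernel) (nt216 I B)

theorem nt220 : BImpl.Nets (B := B) (P := P) [574, 575, 576] Q214 819 [N219, N217, N215] :=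
  BImpl.Nets.cons (a112 I B) 574 N219 (by decide +kernel) (nt218 I B)

theorem nt222 : BImpl.Nets (B := B) (P := P) [573, 574, 575, 576] Q214 819 [N221, N219, N217, N215] :=
  BImpl.Nets.cons (a112 I B) 573 N221 (by decide +kernel) (nt220 I B)

theorem nt224 : BImpl.Nets (B := B) (P := P) [572, 573, 574, 575, 576] Q214 819 [N223, N221, N219, N217, N215] :=
  BImpl.Nets.cons (a112 I B) 572 N223 (by decide +kernel) (nt222 I B)

theorem nt226 : BImpl.Nets (B := B) (P := P) [590, 572, 573, 574, 575, 576] Q214 819 [N225, N223, N221, N219, N217, N215] :=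
  BImpl.Nets.cons (a112 I B) 590 N225 (by decide +kernel) (nt224 I B)

theorem oc227 : (MulAction.orbit (I.gen P S105) (B.vd b108)).ncard = 819 :=
  (nt226 I B).ncard_orbit b108 0 5 (by decide +kernel)

theorem card228 : Nat.card (I.gen P S105) = 211341312 :=
  (BImpl.card_of_stab (st187 I B) (oc227 I B) (card103 I B)).trans (by norm_num)

theorem cardD : Nat.card (I.gen P S105) = 211341312 :=
  (card228 I B)

theorem cardLD : Nat.card (I.gen P S91) = 258048 :=
  (card103 I B)

theorem mx229 : ∀ N : Subgroup Mˣ, (I.gen P S91) ≤ N → N ≤ (I.gen P S105) → N ≤ (I.gen P S91) ∨ (I.gen P S105) ≤ N :=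
  Impl.max_of_chk (S := S91) (g := 590) le_rfl (a155 I B) (a112 I B) (cv186 I B) [590, 0x401001f07c26225a02402326201800800226200500f0201b1, 0x700f01e13226300325a25a26300b01d132] (by decide +kernel)

theorem a232 : I.AllS P (I.gen P S105) m231 :=
  (a112 I B).ext L230 (by decide +kernel)

theorem le233 : (I.gen P S91) ≤ (I.gen P S105) :=
  Impl.gen_le (a232 I B) (by decide +kernel)

theorem nm234 : ∀ N, NormalIn N (I.gen P S105) → N ≤ (I.gen P S91) ∨ (I.gen P S105) ≤ N :=
  fun _ hN => Impl.normal_le_or (le233 I B) (a232 I B) (card103 I B) (mx229 I B) [53886, 53887, 53888, 53889, 53890, 53891, 53892, 53893, 53894, 53895, 53896, 53897] [0x4fe4fc24e, 0x50250023c, 0x50650423d, 0x50a50823e, 0x50e50c23f, 0x512510240] (by decide +kernel) hN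

theorem co235 : ∀ N, NormalIn N (I.gen P S105) → N ≤ (I.gen P S91) → N = ⊥ :=
  fun _ hN h1 => le_bot_iff.mp ((B.core_step (a232 I B) hN (h1.trans ((st187 I B).ge.trans inf_le_right)) (lv20 I B).1 0x24e23d23e (by decide +kernel) (B.core_step (a232 I B) hN (h1.trans ((st187 I B).ge.trans inf_le_right)) (lv35 I B).1 0x24e23d23e23d24e23f23e23d23e (by decide +kernel) (B.core_step (a232 I B) hN (h1.trans ((st187 I B).ge.trans inf_le_right)) (lv50 I B).1 0x24e23d (by decide +kernel) (B.core_step (a232 I B) hN (h1.trans ((st187 I B).ge.trans inf_le_right)) (st102 I B) 590 (by decide +kernel) h1)))).trans (le_of_eq Impl.gen_nil))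

theorem simple236 : IsSimpleGroup (I.gen P S105) :=
  isSimpleGroup_of_normalIn (fun h => by have h1 := (card228 I B); rw [h, Subgroup.card_bot] at h1; exact absurd h1 (by norm_num)) fun N hN => ((nm234 I B) N hN).imp ((co235 I B) N hN) id

theorem simpleD : IsSimpleGroup (I.gen P S105) :=
  (simple236 I B)

theorem a239 : I.AllS P (I.gen P S238) (msk S238) :=
  Impl.allS_gen (W := [652, 651]) (by decide +kernel)

theorem le240 : (I.gen P S1) ≤ (I.gen P S238) :=
  Impl.gen_le (a239 I B) (by decide +kernel)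

theorem a244 : I.AllS P (I.gen P S238) m243 :=
  ((a239 I B).lor ((a17 I B).le (le240 I B))).ext L242 (by decide +kernel)

theorem a247 : I.AllS P (I.gen P S1) m246 :=
  (a17 I B).ext L245 (by decide +kernel)

theorem pa248 : ∀ s ∈ S238, ∀ p, 0 ≤ p → p < 12 → I.PlainAt P (I.gen P S1) 653 12 s p :=
  Impl.plain_all (a247 I B) (a244 I B) 653 12 S238 W249 (by decide +kernel)

theorem lv250 : (I.gen P S238) ⊓ MulAction.stabilizer Mˣ (B.vd b241) = (I.gen P S1) ∧ (MulAction.orbit (I.gen P S238) (B.vd b241)).ncard = 12 ∧ Nat.card (I.gen P S238) = 12 * Nat.card (I.gen P S1) :=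
  B.plain_lev (a244 I B) (a247 I B) 653 12 11 b241 (pa248 I B) (by decide +kernel)

theorem card251 : Nat.card (I.gen P S238) = 12 :=
  by have h := (lv250 I B).2.2; rw [(card3 I B)] at h; exact h.trans (by norm_num)

theorem a254 : I.AllS P (I.gen P S253) (msk S253) :=
  Impl.allS_gen (W := [666, 652, 651]) (by decide +kernel)

theorem le255 : (I.gen P S238) ≤ (I.gen P S253) :=
  Impl.gen_le (a254 I B) (by decide +kernel)

theorem a259 : I.AllS P (I.gen P S253) m258 :=
  ((a254 I B).lor ((a244 I B).le (le255 I B))).ext L257 (by decide +kernel)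

theorem a262 : I.AllS P (I.gen P S238) m261 :=
  (a244 I B).ext L260 (by decide +kernel)

theorem pa263 : ∀ s ∈ S253, ∀ p, 0 ≤ p → p < 14 → I.PlainAt P (I.gen P S238) 667 14 s p :=
  Impl.plain_all (a262 I B) (a259 I B) 667 14 S253 W264 (by decide +kernel)

theorem lv265 : (I.gen P S253) ⊓ MulAction.stabilizer Mˣ (B.vd b256) = (I.gen P S238) ∧ (MulAction.orbit (I.gen P S253) (B.vd b256)).ncard = 14 ∧ Nat.card (I.gen P S253) = 14 * Nat.card (I.gen P S238) :=
  B.plain_lev (a259 I B) (a262 I B) 667 14 9 b256 (pa263 I B) (by decide +kernel)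

theorem card266 : Nat.card (I.gen P S253) = 168 :=
  by have h := (lv265 I B).2.2; rw [(card251 I B)] at h; exact h.trans (by norm_num)

theorem a269 : I.AllS P (I.gen P S268) (msk S268) :=
  Impl.allS_gen (W := [682, 666, 652, 651]) (by decide +kernel)

theorem le270 : (I.gen P S253) ≤ (I.gen P S268) :=
  Impl.gen_le (a269 I B) (by decide +kernel)

theorem a274 : I.AllS P (I.gen P S268) m273 :=
  ((a269 I B).lor ((a259 I B).le (le270 I B))).ext L272 (by decide +kernel)

theorem a277 : I.AllS P (I.gen P S253) m276 :=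
  (a259 I B).ext L275 (by decide +kernel)

theorem pa278 : ∀ s ∈ S268, ∀ p, 0 ≤ p → p < 9 → I.PlainAt P (I.gen P S253) 683 9 s p :=
  Impl.plain_all (a277 I B) (a274 I B) 683 9 S268 W279 (by decide +kernel)

theorem lv280 : (I.gen P S268) ⊓ MulAction.stabilizer Mˣ (B.vd b271) = (I.gen P S253) ∧ (MulAction.orbit (I.gen P S268) (B.vd b271)).ncard = 9 ∧ Nat.card (I.gen P S268) = 9 * Nat.card (I.gen P S253) :=
  B.plain_lev (a274 I B) (a277 I B) 683 9 0 b271 (pa278 I B) (by decide +kernel)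

theorem card281 : Nat.card (I.gen P S268) = 1512 :=
  by have h := (lv280 I B).2.2; rw [(card266 I B)] at h; exact h.trans (by norm_num)

theorem a284 : I.AllS P (I.gen P S283) (msk S283) :=
  Impl.allS_gen (W := [693, 682, 666, 652, 651]) (by decide +kernel)

theorem le285 : (I.gen P S268) ≤ (I.gen P S283) :=
  Impl.gen_le (a284 I B) (by decide +kernel)

theorem a289 : I.AllS P (I.gen P S283) m288 :=
  ((a284 I B).lor ((a274 I B).le (le285 I B))).ext L287 (by decide +kernel)

theorem a292 : I.AllS P (I.gen P S268) m291 :=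
  (a274 I B).ext L290 (by decide +kernel)

theorem pr295 : ∀ p, 0 ≤ p → p < 512 → I.PlainAt P (I.gen P S268) 694 512 692 p :=
  Impl.plain_range (a292 I B) (a289 I B) 694 512 692 0 512 W294 (by decide +kernel)

theorem pr297 : ∀ p, 0 ≤ p → p < 512 → I.PlainAt P (I.gen P S268) 694 512 681 p :=
  Impl.plain_range (a292 I B) (a289 I B) 694 512 681 0 512 W296 (by decide +kernel)

theorem pr299 : ∀ p, 0 ≤ p → p < 512 → I.PlainAt P (I.gen P S268) 694 512 665 p :=
  Impl.plain_range (a292 I B) (a289 I B) 694 512 665 0 512 W298 (by decide +kernel)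

theorem pr301 : ∀ p, 0 ≤ p → p < 512 → I.PlainAt P (I.gen P S268) 694 512 650 p :=
  Impl.plain_range (a292 I B) (a289 I B) 694 512 650 0 512 W300 (by decide +kernel)

theorem pr303 : ∀ p, 0 ≤ p → p < 512 → I.PlainAt P (I.gen P S268) 694 512 651 p :=
  Impl.plain_range (a292 I B) (a289 I B) 694 512 651 0 512 W302 (by decide +kernel)

theorem pa293 : ∀ s ∈ S283, ∀ p, 0 ≤ p → p < 512 → I.PlainAt P (I.gen P S268) 694 512 s p :=
  List.forall_mem_cons.2 ⟨(pr295 I B), List.forall_mem_cons.2 ⟨(pr297 I B), List.forall_mem_cons.2 ⟨(pr299 I B), List.forall_mem_cons.2 ⟨(pr301 I B), List.forall_mem_cons.2 ⟨(pr303 I B), List.forall_mem_nil _⟩⟩⟩⟩⟩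

theorem lv304 : (I.gen P S283) ⊓ MulAction.stabilizer Mˣ (B.vd b286) = (I.gen P S268) ∧ (MulAction.orbit (I.gen P S283) (B.vd b286)).ncard = 512 ∧ Nat.card (I.gen P S283) = 512 * Nat.card (I.gen P S268) :=
  B.plain_lev (a289 I B) (a292 I B) 694 512 264 b286 (pa293 I B) (by decide +kernel)

theorem card305 : Nat.card (I.gen P S283) = 774144 :=
  by have h := (lv304 I B).2.2; rw [(card281 I B)] at h; exact h.trans (by norm_num)

theorem a308 : I.AllS P (I.gen P S307) (msk S307) :=
  Impl.allS_gen (W := [1208, 1209]) (by decide +kernel)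

theorem a311 : I.AllS P (I.gen P S283) m310 :=
  (a289 I B).ext L309 (by decide +kernel)

theorem le312 : (I.gen P S307) ≤ (I.gen P S283) :=
  Impl.gen_le (a311 I B) (by decide +kernel)

theorem a315 : I.AllS P (I.gen P S307) m314 :=
  (a308 I B).ext L313 (by decide +kernel)

theorem le316 : (I.gen P S283) ≤ (I.gen P S307) :=
  Impl.gen_le (a315 I B) (by decide +kernel)

theorem eq317 : (I.gen P S307) = (I.gen P S283) :=
  le_antisymm (le312 I B) (le316 I B)

theorem st318 : (I.gen P S307) ⊓ MulAction.stabilizer Mˣ (B.vd b286) = (I.gen P S268) :=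
  by rw [eq317 I B]; exact (lv304 I B).1

theorem card319 : Nat.card (I.gen P S307) = 774144 :=
  by rw [eq317 I B]; exact (card305 I B)

theorem a322 : I.AllS P (I.gen P S321) (msk S321) :=
  Impl.allS_gen (W := [1229, 1230, 1231, 1232, 1235, 1236]) (by decide +kernel)

theorem a325 : I.AllS P (I.gen P S307) m324 :=
  ((a315 I B).lor ((a311 I B).le (le316 I B))).ext L323 (by decide +kernel)

theorem le326 : (I.gen P S321) ≤ (I.gen P S307) :=
  Impl.gen_le (a325 I B) (by decide +kernel)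

theorem a329 : I.AllS P (I.gen P S321) m328 :=
  (a322 I B).ext L327 (by decide +kernel)

theorem le330 : (I.gen P S307) ≤ (I.gen P S321) :=
  Impl.gen_le (a329 I B) (by decide +kernel)

theorem eq331 : (I.gen P S321) = (I.gen P S307) :=
  le_antisymm (le326 I B) (le330 I B)

theorem st332 : (I.gen P S321) ⊓ MulAction.stabilizer Mˣ (B.vd b286) = (I.gen P S268) :=
  by rw [eq331 I B]; exact (st318 I B)

theorem card333 : Nat.card (I.gen P S321) = 774144 :=
  by rw [eq331 I B]; exact (card319 I B)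

theorem a336 : I.AllS P (I.gen P S335) (msk S335) :=
  Impl.allS_gen (W := [1258, 1229, 1230, 1231, 1232, 1235, 1236]) (by decide +kernel)

theorem le337 : (I.gen P S321) ≤ (I.gen P S335) :=
  Impl.gen_le (a336 I B) (by decide +kernel)

theorem a342 : I.AllS P (I.gen P S335) m341 :=
  ((a336 I B).lor (((a329 I B).lor ((a325 I B).le (le330 I B))).le (le337 I B))).ext L340 (by decide +kernel)

theorem a372 : I.AllS P (I.gen P S321) m371 :=
  ((a329 I B).lor ((a325 I B).le (le330 I B))).ext L370 (by decide +kernel)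

theorem nt374 : BImpl.Nets (B := B) (P := P) [1234] Q369 512 [N373] :=
  BImpl.Nets.cons (a372 I B) 1234 N373 (by decide +kernel) (B.nets_nil Q369 512)

theorem nt376 : BImpl.Nets (B := B) (P := P) [1233, 1234] Q369 512 [N375, N373] :=
  BImpl.Nets.cons (a372 I B) 1233 N375 (by decide +kernel) (nt374 I B)

theorem nt378 : BImpl.Nets (B := B) (P := P) [1232, 1233, 1234] Q369 512 [N377, N375, N373] :=
  BImpl.Nets.cons (a372 I B) 1232 N377 (by decide +kernel) (nt376 I B)

theorem nt380 : BImpl.Nets (B := B) (P := P) [1231, 1232, 1233, 1234] Q369 512 [N379, N377, N375, N373] :=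
  BImpl.Nets.cons (a372 I B) 1231 N379 (by decide +kernel) (nt378 I B)

theorem nt382 : BImpl.Nets (B := B) (P := P) [1230, 1231, 1232, 1233, 1234] Q369 512 [N381, N379, N377, N375, N373] :=
  BImpl.Nets.cons (a372 I B) 1230 N381 (by decide +kernel) (nt380 I B)

theorem nt384 : BImpl.Nets (B := B) (P := P) [1229, 1230, 1231, 1232, 1233, 1234] Q369 512 [N383, N381, N379, N377, N375, N373] :=
  BImpl.Nets.cons (a372 I B) 1229 N383 (by decide +kernel) (nt382 I B)

theorem a387 : I.AllS P (I.gen P S321) m386 :=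
  (a372 I B).ext L385 (by decide +kernel)

theorem ad388 : I.AllS P (dset (I.gen P S321) (I.lset P T339)) (Nat.lor m386 (msk T339)) :=
  Impl.allS_dset (a387 I B) (a342 I B) (by decide +kernel)

theorem ob389 : B.Orb (I.gen P S321) (B.vd b286) Q369 512 :=
  (nt384 I B).orb b286 264 (by decide +kernel)

theorem lc390 : ∀ l ∈ (I.gen P S268), (I.u (P 1258))⁻¹ * l * (I.u (P 1258)) ∈ (I.gen P S321) :=
  Impl.lconj_gen (a387 I B) ((a342 I B).tb (i := 1258) (by decide +kernel)) [686, 677, 662, 654] (by decide +kernel)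

theorem ak392 : I.AllS P (conjIn (I.gen P S321) (I.u (P 1258))) (msk (mapL hd L391)) :=
  Impl.allS_conjIn (a387 I B) ((a342 I B).tb (i := 1258) (by decide +kernel)) (by decide +kernel)

theorem a395 : I.AllS P (conjIn (I.gen P S321) (I.u (P 1258))) m394 :=
  (ak392 I B).ext L393 (by decide +kernel)

theorem rp398 : BImpl.RepsOn (B := B) (I.gen P S321) (dset (I.gen P S321) (I.lset P T339)) (I.u (P 1258)) (I.u (P 1258)) (B.vd b286) (V.cube P C396 Q369) 0xffffffffffffffffffffffffffffffffffffffffffffffffffffffffffffffffffffffffffffffffffffffffffffffffffffffffffffffffffffffffffffffff :=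
  B.repsOn_of_chk (a387 I B) (ad388 I B) (a342 I B) 1258 1258 b286 _ R397 _ (by decide +kernel)

theorem dt399 : ∀ h ∈ (I.gen P S321), (I.u (P 1258)) * h * (I.u (P 1258)) ∈ (dset (I.gen P S321) (I.lset P T339)) :=
  B.dc_t (le_of_eq (st332 I B)) (lc390 I B) (ob389 I B) (a395 I B) (rp398 I B) (by decide +kernel)

theorem ak401 : I.AllS P (conjIn (I.gen P S321) (I.u (P 1279))) (msk (mapL hd L400)) :=
  Impl.allS_conjIn (a387 I B) ((a342 I B).tb (i := 1279) (by decide +kernel)) (by decide +kernel)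

theorem a404 : I.AllS P (conjIn (I.gen P S321) (I.u (P 1279))) m403 :=
  (ak401 I B).ext L402 (by decide +kernel)

theorem rp407 : BImpl.RepsOn (B := B) (I.gen P S321) (dset (I.gen P S321) (I.lset P T339)) (I.u (P 1279)) (I.u (P 1258)) (B.vd b286) (V.cube P C405 Q369) 0xffffffffffffffffffffffffffffffffffffffffffffffffffffffffffffffffffffffffffffffffffffffffffffffffffffffffffffffffffffffffffffffff :=
  B.repsOn_of_chk (a387 I B) (ad388 I B) (a342 I B) 1279 1258 b286 _ R406 _ (by decide +kernel)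

theorem dt408 : ∀ h ∈ (I.gen P S321), (I.u (P 1279)) * h * (I.u (P 1258)) ∈ (dset (I.gen P S321) (I.lset P T339)) :=
  B.dc_t (le_of_eq (st332 I B)) (lc390 I B) (ob389 I B) (a404 I B) (rp407 I B) (by decide +kernel)

theorem ak410 : I.AllS P (conjIn (I.gen P S321) (I.u (P 1280))) (msk (mapL hd L409)) :=
  Impl.allS_conjIn (a387 I B) ((a342 I B).tb (i := 1280) (by decide +kernel)) (by decide +kernel)

theorem a413 : I.AllS P (conjIn (I.gen P S321) (I.u (P 1280))) m412 :=
  (ak410 I B).ext L411 (by decide +kernel)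

theorem rp416 : BImpl.RepsOn (B := B) (I.gen P S321) (dset (I.gen P S321) (I.lset P T339)) (I.u (P 1280)) (I.u (P 1258)) (B.vd b286) (V.cube P C414 Q369) 0xffffffffffffffffffffffffffffffffffffffffffffffffffffffffffffffffffffffffffffffffffffffffffffffffffffffffffffffffffffffffffffffff :=
  B.repsOn_of_chk (a387 I B) (ad388 I B) (a342 I B) 1280 1258 b286 _ R415 _ (by decide +kernel)

theorem dt417 : ∀ h ∈ (I.gen P S321), (I.u (P 1280)) * h * (I.u (P 1258)) ∈ (dset (I.gen P S321) (I.lset P T339)) :=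
  B.dc_t (le_of_eq (st332 I B)) (lc390 I B) (ob389 I B) (a413 I B) (rp416 I B) (by decide +kernel)

theorem cv418 : ∀ x ∈ (I.gen P S335), x ∈ (dset (I.gen P S321) (I.lset P T339)) :=
  Impl.dc_cover' (S := S321) (g := 1258) List.mem_cons_self (List.forall_mem_cons.2 ⟨(dt399 I B), List.forall_mem_cons.2 ⟨(dt408 I B), List.forall_mem_cons.2 ⟨(dt417 I B), List.forall_mem_nil _⟩⟩⟩)

theorem st419 : (I.gen P S335) ⊓ MulAction.stabilizer Mˣ (B.vd b338) = (I.gen P S321) :=
  B.dc_stab (S := S321) (g := 1258) (a342 I B) (cv418 I B) b338 (by decide +kernel)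

theorem nt448 : BImpl.Nets (B := B) (P := P) [1234] Q446 819 [N447] :=
  BImpl.Nets.cons (a342 I B) 1234 N447 (by decide +kernel) (B.nets_nil Q446 819)

theorem nt450 : BImpl.Nets (B := B) (P := P) [1233, 1234] Q446 819 [N449, N447] :=
  BImpl.Nets.cons (a342 I B) 1233 N449 (by decide +kernel) (nt448 I B)

theorem nt452 : BImpl.Nets (B := B) (P := P) [1232, 1233, 1234] Q446 819 [N451, N449, N447] :=
  BImpl.Nets.cons (a342 I B) 1232 N451 (by decide +kernel) (nt450 I B)

theorem nt454 : BImpl.Nets (B := B) (P := P) [1231, 1232, 1233, 1234] Q446 819 [N453, N451, N449, N447] :=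
  BImpl.Nets.cons (a342 I B) 1231 N453 (by decide +kernel) (nt452 I B)

theorem nt456 : BImpl.Nets (B := B) (P := P) [1230, 1231, 1232, 1233, 1234] Q446 819 [N455, N453, N451, N449, N447] :=
  BImpl.Nets.cons (a342 I B) 1230 N455 (by decide +kernel) (nt454 I B)

theorem nt458 : BImpl.Nets (B := B) (P := P) [1229, 1230, 1231, 1232, 1233, 1234] Q446 819 [N457, N455, N453, N451, N449, N447] :=
  BImpl.Nets.cons (a342 I B) 1229 N457 (by decide +kernel) (nt456 I B)

theorem nt460 : BImpl.Nets (B := B) (P := P) [1258, 1229, 1230, 1231, 1232, 1233, 1234] Q446 819 [N459, N457, N455, N453, N451, N449, N447] :=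
  BImpl.Nets.cons (a342 I B) 1258 N459 (by decide +kernel) (nt458 I B)

theorem oc461 : (MulAction.orbit (I.gen P S335) (B.vd b338)).ncard = 819 :=
  (nt460 I B).ncard_orbit b338 0 4 (by decide +kernel)

theorem card462 : Nat.card (I.gen P S335) = 634023936 :=
  (BImpl.card_of_stab (st419 I B) (oc461 I B) (card333 I B)).trans (by norm_num)

theorem cardH : Nat.card (I.gen P S335) = 634023936 :=
  (card462 I B)

theorem cardLH : Nat.card (I.gen P S321) = 774144 :=
  (card333 I B)

theorem co463 : ∀ N, NormalIn N (I.gen P S335) → N ≤ (I.gen P S321) → N = ⊥ :=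
  fun _ hN h1 => le_bot_iff.mp ((B.core_step (a342 I B) hN (h1.trans ((st419 I B).ge.trans inf_le_right)) (lv250 I B).1 0x4ea4f14d04f6 (by decide +kernel) (B.core_step (a342 I B) hN (h1.trans ((st419 I B).ge.trans inf_le_right)) (lv265 I B).1 0x4ea4f14ea4d04f2 (by decide +kernel) (B.core_step (a342 I B) hN (h1.trans ((st419 I B).ge.trans inf_le_right)) (lv280 I B).1 0x4ea4ce (by decide +kernel) (B.core_step (a342 I B) hN (h1.trans ((st419 I B).ge.trans inf_le_right)) (st332 I B) 1258 (by decide +kernel) h1)))).trans (le_of_eq Impl.gen_nil))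

theorem coreH : ∀ N, NormalIn N (I.gen P S335) → N ≤ (I.gen P S321) → N = ⊥ :=
  (co463 I B)

theorem coverH : ∀ x ∈ (I.gen P S335), x ∈ dset (I.gen P S321) (I.lset P TH) :=
  (cv418 I B)

theorem a466 : I.AllS P (I.gen P S335) m465 :=
  (a342 I B).ext L464 (by decide +kernel)

theorem allH : I.AllS P (I.gen P S335) mH :=
  (a466 I B)

end Cfsg.Lib.Spor.ThS
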