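import Cfsg.Agent.Spor.ThUD1

/-! Generated certificate checks. -/

set_option autoImplicit false
set_option maxRecDepth 100000
set_option linter.unusedVariables false
set_option linter.unusedSectionVars false

namespace Cfsg.Lib.Spor.ThU

open Cfsg.Lib.Spor.MG Cfsg.Lib.Spor.Bulk Cfsg.Lib.Spor.ThP

variable {M : Type} [Monoid M] [Finite M] (I : Impl CF.O M) {X : Type} [MulAction M X] (B : BImpl I V X)
include I B

theorem a2 : I.AllS P (I.gen P S1) (msk S1) :=
  Impl.allS_gen (W := [2, 3, 4, 5, 6, 8, 10]) (by decide +kernel)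

theorem a6 : I.AllS P (I.gen P S1) m5 :=
  (a2 I B).ext L4 (by decide +kernel)

theorem a8 : I.AllS P (I.gen P S7) (msk S7) :=
  Impl.allS_gen_of (a6 I B) (by decide +kernel)

theorem a11 : I.AllS P (I.gen P S7) m10 :=
  (a8 I B).ext L9 (by decide +kernel)

theorem a13 : I.AllS P (I.gen P S12) (msk S12) :=
  Impl.allS_gen_of (a11 I B) (by decide +kernel)

theorem lo15 : 18 * Nat.card (I.gen P S12) ≤ Nat.card (I.gen P S7) :=
  BImpl.low_lev (B := B) (a11 I B) b14 [0x500600701b, 0x5006007007, 0x500601c, 0x5006008, 0x500601b009, 0x5006007009, 0x500601b01e, 0x500600701e, 0x5004006, 20486, 0x5006007006, 0x500600801c, 0x500601b, 0x5006007, 0, 0x5004005, 20484, 5] 18 (by decide +kernel)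

theorem a18 : I.AllS P (I.gen P S12) m17 :=
  (a13 I B).ext L16 (by decide +kernel)

theorem a20 : I.AllS P (I.gen P S19) (msk S19) :=
  Impl.allS_gen_of (a18 I B) (by decide +kernel)

theorem lo22 : 16 * Nat.card (I.gen P S19) ≤ Nat.card (I.gen P S12) :=
  BImpl.low_lev (B := B) (a18 I B) b21 [151583, 35, 143392, 0x21022025, 37, 135202, 151585, 143391, 31, 0x2501f025, 151584, 33, 135206, 0x2301f025, 0x21022026, 0] 16 (by decide +kernel)

theorem a25 : I.AllS P (I.gen P S19) m24 :=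
  (a20 I B).ext L23 (by decide +kernel)

theorem a27 : I.AllS P (I.gen P S26) (msk S26) :=
  Impl.allS_gen_of (a25 I B) (by decide +kernel)

theorem lo29 : 16 * Nat.card (I.gen P S26) ≤ Nat.card (I.gen P S19) :=
  BImpl.low_lev (B := B) (a25 I B) b28 [41, 159787, 0x2702b02b, 0x2902b028, 180268, 167979, 167976, 167980, 159783, 0x29028027, 180265, 39, 0x2902c02a, 0, 0x2702702a, 44] 16 (by decide +kernel)

theorem a32 : I.AllS P (I.gen P S26) m31 :=
  (a27 I B).ext L30 (by decide +kernel)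

theorem a34 : I.AllS P (I.gen P S33) (msk S33) :=
  Impl.allS_gen_of (a32 I B) (by decide +kernel)

theorem lo36 : 14 * Nat.card (I.gen P S33) ≤ Nat.card (I.gen P S26) :=
  BImpl.low_lev (B := B) (a32 I B) b35 [188463, 49, 46, 196656, 52, 45, 51, 47, 188461, 50, 184369, 48, 184371, 0] 14 (by decide +kernel)

theorem a39 : I.AllS P (I.gen P S33) m38 :=
  (a34 I B).ext L37 (by decide +kernel)

theorem a41 : I.AllS P (I.gen P S40) (msk S40) :=
  Impl.allS_gen_of (a39 I B) (by decide +kernel)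

theorem lo43 : 12 * Nat.card (I.gen P S40) ≤ Nat.card (I.gen P S33) :=
  BImpl.low_lev (B := B) (a39 I B) b42 [225334, 0x35036035, 217144, 225336, 0, 53, 221237, 217142, 56, 55, 54, 229431] 12 (by decide +kernel)

theorem low44 : 774144 ≤ Nat.card (I.gen P S7) :=
  le_trans (by decide +kernel) (le_of_low (lo15 I B) (le_of_low (lo22 I B) (le_of_low (lo29 I B) (le_of_low (lo36 I B) (le_of_low (lo43 I B) (Nat.succ_le_of_lt Nat.card_pos))))))

theorem le45 : (I.gen P S33) ≤ (I.gen P S26) :=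
  Impl.gen_le (a32 I B) (by decide +kernel)

theorem le46 : (I.gen P S26) ≤ (I.gen P S19) :=
  Impl.gen_le (a25 I B) (by decide +kernel)

theorem le47 : (I.gen P S19) ≤ (I.gen P S12) :=
  Impl.gen_le (a18 I B) (by decide +kernel)

theorem le48 : (I.gen P S12) ≤ (I.gen P S7) :=
  Impl.gen_le (a11 I B) (by decide +kernel)

theorem le49 : (I.gen P S7) ≤ (I.gen P S1) :=
  Impl.gen_le (a6 I B) (by decide +kernel)

theorem leP : (I.gen P S7) ≤ (I.gen P S1) :=
  le49 I B

theorem a52 : I.AllS P (I.gen P S1) m51 :=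
  ((a6 I B).lor (((a11 I B).lor (((a18 I B).lor (((a25 I B).lor (((a32 I B).lor ((a39 I B).le (le45 I B))).le (le46 I B))).le (le47 I B))).le (le48 I B))).le (le49 I B))).ext L50 (by decide +kernel)

theorem nt81 : BImpl.Nets (B := B) (P := P) [9] Q79 819 [N80] :=
  BImpl.Nets.cons (a52 I B) 9 N80 (by decide +kernel) (B.nets_nil Q79 819)

theorem nt83 : BImpl.Nets (B := B) (P := P) [7, 9] Q79 819 [N82, N80] :=
  BImpl.Nets.cons (a52 I B) 7 N82 (by decide +kernel) (nt81 I B)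

theorem nt85 : BImpl.Nets (B := B) (P := P) [6, 7, 9] Q79 819 [N84, N82, N80] :=
  BImpl.Nets.cons (a52 I B) 6 N84 (by decide +kernel) (nt83 I B)

theorem nt87 : BImpl.Nets (B := B) (P := P) [5, 6, 7, 9] Q79 819 [N86, N84, N82, N80] :=
  BImpl.Nets.cons (a52 I B) 5 N86 (by decide +kernel) (nt85 I B)

theorem nt89 : BImpl.Nets (B := B) (P := P) [4, 5, 6, 7, 9] Q79 819 [N88, N86, N84, N82, N80] :=
  BImpl.Nets.cons (a52 I B) 4 N88 (by decide +kernel) (nt87 I B)

theorem nt91 : BImpl.Nets (B := B) (P := P) [3, 4, 5, 6, 7, 9] Q79 819 [N90, N88, N86, N84, N82, N80] :=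
  BImpl.Nets.cons (a52 I B) 3 N90 (by decide +kernel) (nt89 I B)

theorem nt93 : BImpl.Nets (B := B) (P := P) [2, 3, 4, 5, 6, 7, 9] Q79 819 [N92, N90, N88, N86, N84, N82, N80] :=
  BImpl.Nets.cons (a52 I B) 2 N92 (by decide +kernel) (nt91 I B)

theorem ob94 : B.Orb (I.gen P S1) (B.vd b3) Q79 819 :=
  (nt93 I B).orb b3 0 (by decide +kernel)

theorem orbH : B.Orb (I.gen P SH) (B.vd oV) QH 819 :=
  (ob94 I B)

theorem oc95 : (MulAction.orbit (I.gen P S1) (B.vd b3)).ncard = 819 :=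
  (nt93 I B).ncard_orbit b3 0 4 (by decide +kernel)

theorem satM : (∀ l < 12, I.InS Set.univ (P (ix l))) ∧ Sat (fun l => I.u (P (ix l))) 12 iota RH :=
  Impl.sat_app (Impl.sat_nil (fun l => P (ix l)) 12 iota (by decide +kernel)) RH (by decide +kernel)

theorem genH : I.gen P SH = gL (fun l => I.u (P (ix l))) LS0 :=
  Impl.gen_eq_gL (satM I B).2 [1, 2, 3, 4, 5, 6, 8] [] (by decide +kernel)

theorem genP : I.gen P SP = gL (fun l => I.u (P (ix l))) [1, 3, 4, 5, 6, 8] :=
  Impl.gen_eq_gL (satM I B).2 [1, 3, 4, 5, 6, 8] [] (by decide +kernel)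

theorem cardH_le : Nat.card (I.gen P SH) ≤ 634023936 :=
  by rw [genH I B]; exact (ordH _ _ (satM I B).2).2

theorem allH0 : I.AllS P (I.gen P SH) mH :=
  (a52 I B)

theorem fixP : I.gen P SP ≤ MulAction.stabilizer Mˣ (B.vd oV) :=
  BImpl.gen_le_stab (B := B) (allH0 I B) (by decide +kernel)

theorem lowP : 774144 ≤ Nat.card (I.gen P SP) :=
  (low44 I B)

theorem cardH : Nat.card (I.gen P SH) = 634023936 :=
  le_antisymm (cardH_le I B) (le_trans (by norm_num) (le_of_low (mul_card_le_of_orbit (leP I B) (fixP I B) (oc95 I B).ge) (lowP I B)))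

theorem hk96 : (I.gen P S1) ⊓ MulAction.stabilizer Mˣ (B.vd b3) ≤ (I.gen P S7) :=
  B.stab_le_of_card (a52 I B) S7 b3 (by decide +kernel) (oc95 I B) (by norm_num) (cardH_le I B) (low44 I B)

theorem stabP : I.gen P SH ⊓ MulAction.stabilizer Mˣ (B.vd oV) ≤ I.gen P SP :=
  (hk96 I B)

end Cfsg.Lib.Spor.ThU
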