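import Cfsg.Agent.Spor.ThUP0
import Cfsg.Agent.Spor.ThUH

/-! Generated certificate checks. -/

set_option autoImplicit false
set_option maxRecDepth 100000
set_option linter.unusedVariables false
set_option linter.unusedSectionVars false

namespace Cfsg.Lib.Spor.ThU

open Cfsg.Lib.Spor.MG Cfsg.Lib.Spor.Bulk Cfsg.Lib.Spor.ThP

variable {M : Type} [Monoid M] [Finite M] (I : Impl CF.O M) {X : Type} [MulAction M X] (B : BImpl I V X)
  {G A Ω : Type} [Group G] [Group A] [MulAction G Ω] [MulAction A Ω] {σ : I.gen P SH →* G}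
  {S : Sem CF G A Ω} (E : Over S I σ)
include I B E

theorem ak202 : I.AllS P (LS σ S.g) (msk (mapL hd L201)) :=
  E.allS_L (allH S) P L201 (by decide +kernel)

theorem a205 : I.AllS P (LS σ S.g) m204 :=
  (ak202 I B E).ext L203 (by decide +kernel)

theorem pr206 : ∀ p, 0 ≤ p → p < 63 → I.PlainAt P (LS σ S.g) 57 63 2 p :=
  Impl.plain_range (a205 I B E) (a52 I B) 57 63 2 0 63 W207 (by decide +kernel)

theorem pr208 : ∀ p, 0 ≤ p → p < 63 → I.PlainAt P (LS σ S.g) 57 63 4 p :=
  Impl.plain_range (a205 I B E) (a52 I B) 57 63 4 0 63 W209 (by decide +kernel)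

theorem pr210 : ∀ p, 0 ≤ p → p < 63 → I.PlainAt P (LS σ S.g) 57 63 5 p :=
  Impl.plain_range (a205 I B E) (a52 I B) 57 63 5 0 63 W211 (by decide +kernel)

theorem pr212 : ∀ p, 0 ≤ p → p < 63 → I.PlainAt P (LS σ S.g) 57 63 6 p :=
  Impl.plain_range (a205 I B E) (a52 I B) 57 63 6 0 63 W213 (by decide +kernel)

theorem pr214 : ∀ p, 0 ≤ p → p < 63 → I.PlainAt P (LS σ S.g) 57 63 7 p :=
  Impl.plain_range (a205 I B E) (a52 I B) 57 63 7 0 63 W215 (by decide +kernel)

theorem pr216 : ∀ p, 0 ≤ p → p < 63 → I.PlainAt P (LS σ S.g) 57 63 9 p :=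
  Impl.plain_range (a205 I B E) (a52 I B) 57 63 9 0 63 W217 (by decide +kernel)

theorem sc218 : StabCov (C := CF) I (I.gen P S1) (LS σ S.g) (B.vd b3) U200 :=
  stabCov_of (C := CF) (hk96 I B) (a52 I B) (Impl.plain_cover' (S := S7) (p0 := 0) (a205 I B E) (by decide +kernel) (List.forall_mem_cons.2 ⟨(pr206 I B E), List.forall_mem_cons.2 ⟨(pr208 I B E), List.forall_mem_cons.2 ⟨(pr210 I B E), List.forall_mem_cons.2 ⟨(pr212 I B E), List.forall_mem_cons.2 ⟨(pr214 I B E), List.forall_mem_cons.2 ⟨(pr216 I B E), List.forall_mem_nil _⟩⟩⟩⟩⟩⟩)) U200 (by decide +kernel) (by decide +kernel)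

theorem ak220 : I.AllS P (KS σ (S.ω 1)) (msk (mapL hd L219)) :=
  E.allS_K (allH S) P 1 L219 (by decide +kernel)

theorem a223 : I.AllS P (KS σ (S.ω 1)) m222 :=
  (ak220 I B E).ext L221 (by decide +kernel)

theorem a225 : I.AllS P (I.gen P S224) (msk S224) :=
  Impl.allS_gen_of (a223 I B E) (by decide +kernel)

theorem lo227 : 48 * Nat.card (I.gen P S224) ≤ Nat.card (KS σ (S.ω 1)) :=
  BImpl.low_lev (B := B) (a223 I B E) b226 [594070, 150, 614559, 647318, 614557, 154, 0x9109d097, 594078, 614563, 647329, 156, 647331, 157, 643235, 630942, 602270, 160, 639126, 647316, 614555, 614561, 594079, 614560, 159, 598173, 614553, 614567, 155, 594077, 614565, 162, 647324, 643233, 598166, 163, 146, 158, 614564, 643239, 643225, 614549, 147, 643223, 643238, 598174, 0x9109609f, 145, 0] 48 (by decide +kernel)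

theorem a230 : I.AllS P (I.gen P S224) m229 :=
  (a225 I B E).ext L228 (by decide +kernel)

theorem a232 : I.AllS P (I.gen P S231) (msk S231) :=
  Impl.allS_gen_of (a230 I B E) (by decide +kernel)

theorem lo234 : 32 * Nat.card (I.gen P S231) ≤ Nat.card (I.gen P S224) :=
  BImpl.low_lev (B := B) (a230 I B E) b233 [173, 700590, 0xad0ad0b2, 178, 176, 0xa90ad0ad, 172, 725162, 725163, 171, 0xab0ab0ab, 716971, 708785, 700586, 692398, 0xad0ad0b0, 692397, 0xad0ad0b1, 700587, 708784, 716970, 0xab0ab0ae, 721067, 175, 169, 721066, 0xa90ae0ad, 0, 177, 716974, 708781, 708786] 32 (by decide +kernel)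

theorem a237 : I.AllS P (I.gen P S231) m236 :=
  (a232 I B E).ext L235 (by decide +kernel)

theorem a239 : I.AllS P (I.gen P S238) (msk S238) :=
  Impl.allS_gen_of (a237 I B E) (by decide +kernel)

theorem lo241 : 24 * Nat.card (I.gen P S238) ≤ Nat.card (I.gen P S231) :=
  BImpl.low_lev (B := B) (a237 I B E) b240 [733369, 741558, 184, 0xb30b40b9, 737465, 733366, 733368, 745656, 0, 733363, 733364, 179, 741556, 741561, 182, 737464, 180, 183, 741557, 741559, 181, 185, 733367, 741560] 24 (by decide +kernel)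

theorem low242 : 36864 ≤ Nat.card (KS σ (S.ω 1)) :=
  le_trans (by decide +kernel) (le_of_low (lo227 I B E) (le_of_low (lo234 I B E) (le_of_low (lo241 I B E) (Nat.succ_le_of_lt Nat.card_pos))))

theorem a245 : I.AllS P (KS σ (S.ω 1)) m244 :=
  (a223 I B E).ext L243 (by decide +kernel)

theorem rp249 : CovOn (C := CF) B S σ (0 :: JN) 1 (B.vd b3) U200 (V.cube P C246 Q79) 0x7ffffffffffffffffffffffffffffffffffffffffffffffffffffffffffffffffffffffffffffffffffffffffffffffffffffffffffffffffffffffffffffffffffffffffffffffffffffffffffffffffffffffffffffffffffffffffffffffffffffffffffff :=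
  Over.covOn (C := CF) B E (allH S) _ _ _ _ _ R247 _ ck248

theorem cv250 : ∀ h : (I.gen P S1), S.g • σ h • S.ω 1 ∈ DS σ S.ω (0 :: JN) :=
  (rp249 I B E).node (ob94 I B) (sc218 I B E) (a245 I B E) (by decide +kernel)

theorem ak254 : I.AllS P (KS σ (S.ω 2)) (msk (mapL hd L253)) :=
  E.allS_K (allH S) P 2 L253 (by decide +kernel)

theorem a257 : I.AllS P (KS σ (S.ω 2)) m256 :=
  (ak254 I B E).ext L255 (by decide +kernel)

theorem a259 : I.AllS P (I.gen P S258) (msk S258) :=
  Impl.allS_gen_of (a257 I B E) (by decide +kernel)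

theorem lo261 : 18 * Nat.card (I.gen P S258) ≤ Nat.card (KS σ (S.ω 2)) :=
  BImpl.low_lev (B := B) (a257 I B E) b260 [782546, 210, 835775, 831692, 782541, 205, 827603, 827596, 202, 782538, 782540, 204, 831693, 827602, 0, 191, 209, 203] 18 (by decide +kernel)

theorem a264 : I.AllS P (I.gen P S258) m263 :=
  (a259 I B E).ext L262 (by decide +kernel)

theorem a266 : I.AllS P (I.gen P S265) (msk S265) :=
  Impl.allS_gen_of (a264 I B E) (by decide +kernel)

theorem lo268 : 32 * Nat.card (I.gen P S265) ≤ Nat.card (I.gen P S258) :=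
  BImpl.low_lev (B := B) (a264 I B E) b267 [889061, 226, 880864, 889055, 889054, 889052, 880858, 229, 221, 876758, 921819, 876770, 876760, 876759, 884957, 0, 897250, 889048, 223, 214, 224, 218, 216, 889050, 228, 225, 889047, 889049, 215, 217, 219, 876767] 32 (by decide +kernel)

theorem a271 : I.AllS P (I.gen P S265) m270 :=
  (a266 I B E).ext L269 (by decide +kernel)

theorem a273 : I.AllS P (I.gen P S272) (msk S272) :=
  Impl.allS_gen_of (a271 I B E) (by decide +kernel)

theorem lo275 : 24 * Nat.card (I.gen P S272) ≤ Nat.card (I.gen P S265) :=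
  BImpl.low_lev (B := B) (a271 I B E) b274 [0xe80e70e7, 231, 0xe80e90e9, 0xe90e80e7, 233, 0xe60e90e9, 946406, 0xe70e70e7, 232, 0xe60e70e7, 954600, 0, 942313, 0xe60e70e6, 0xe70e60e7, 954601, 950505, 0xe60e70e70e7, 0xe80e70e70e7, 942311, 946407, 950503, 0xe70e60e9, 230] 24 (by decide +kernel)

theorem low276 : 13824 ≤ Nat.card (KS σ (S.ω 2)) :=
  le_trans (by decide +kernel) (le_of_low (lo261 I B E) (le_of_low (lo268 I B E) (le_of_low (lo275 I B E) (Nat.succ_le_of_lt Nat.card_pos))))

theorem a279 : I.AllS P (KS σ (S.ω 2)) m278 :=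
  (a257 I B E).ext L277 (by decide +kernel)

theorem rp283 : CovOn (C := CF) B S σ (0 :: JN) 2 (B.vd b3) U200 (V.cube P C280 Q79) 0x7ffffffffffffffffffffffffffffffffffffffffffffffffffffffffffffffffffffffffffffffffffffffffffffffffffffffffffffffffffffffffffffffffffffffffffffffffffffffffffffffffffffffffffffffffffffffffffffffffffffffffffff :=
  Over.covOn (C := CF) B E (allH S) _ _ _ _ _ R281 _ ck282

theorem cv284 : ∀ h : (I.gen P S1), S.g • σ h • S.ω 2 ∈ DS σ S.ω (0 :: JN) :=
  (rp283 I B E).node (ob94 I B) (sc218 I B E) (a279 I B E) (by decide +kernel)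

theorem ak288 : I.AllS P (KS σ (S.ω 3)) (msk (mapL hd L287)) :=
  E.allS_K (allH S) P 3 L287 (by decide +kernel)

theorem a291 : I.AllS P (KS σ (S.ω 3)) m290 :=
  (ak288 I B E).ext L289 (by decide +kernel)

theorem a293 : I.AllS P (I.gen P S292) (msk S292) :=
  Impl.allS_gen_of (a291 I B E) (by decide +kernel)

theorem lo295 : 18 * Nat.card (I.gen P S292) ≤ Nat.card (KS σ (S.ω 3)) :=
  BImpl.low_lev (B := B) (a291 I B E) b294 [991487, 249, 991480, 991492, 991486, 259, 991491, 254, 260, 248, 991481, 255, 246, 257, 252, 247, 0, 242] 18 (by decide +kernel)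

theorem a298 : I.AllS P (I.gen P S292) m297 :=
  (a293 I B E).ext L296 (by decide +kernel)

theorem a300 : I.AllS P (I.gen P S299) (msk S299) :=
  Impl.allS_gen_of (a298 I B E) (by decide +kernel)

theorem lo302 : 16 * Nat.card (I.gen P S299) ≤ Nat.card (I.gen P S292) :=
  BImpl.low_lev (B := B) (a298 I B E) b301 [261, 263, 0x106108, 0x105108, 0, 0x106107, 0x105109, 264, 0x105106, 0x105106107, 0x105107, 0x106109, 0x105106108, 262, 265, 0x105106109] 16 (by decide +kernel)

theorem low303 : 288 ≤ Nat.card (KS σ (S.ω 3)) :=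
  le_trans (by decide +kernel) (le_of_low (lo295 I B E) (le_of_low (lo302 I B E) (Nat.succ_le_of_lt Nat.card_pos)))

theorem a306 : I.AllS P (KS σ (S.ω 3)) m305 :=
  (a291 I B E).ext L304 (by decide +kernel)

theorem rp310 : CovOn (C := CF) B S σ (0 :: JN) 3 (B.vd b3) U200 (V.cube P C307 Q79) 0x7ff9fffffffff7ffe1fffffbfbffefffff7fffffffffffffcffffdbffffffffffffffffffffff7ffffffff7ffffffffffff7fdfffffffffff7ffffffbffffffffffffffffffffffdff7fffffffffffcfffffffdffffffdfffbfdffffffffffdffffffffffffff :=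
  Over.covOn (C := CF) B E (allH S) _ _ _ _ _ R308 _ ck309

theorem rp313 : CovOn (C := CF) B S σ (0 :: JN) 3 (B.vd b3) U200 (V.cube P C307 Q79) 0x60000000008001e0000040400100000800000000000003000024000000000000000000000080000000080000000000008020000000000080000004000000000000000000000020080000000000030000000200000020004020000000000200000000000000 :=
  Over.covOn (C := CF) B E (allH S) _ _ _ _ _ R311 _ ck312

theorem cv314 : ∀ h : (I.gen P S1), S.g • σ h • S.ω 3 ∈ DS σ S.ω (0 :: JN) :=
  ((rp310 I B E).lor (rp313 I B E)).node (ob94 I B) (sc218 I B E) (a306 I B E) (by decide +kernel)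

theorem ak318 : I.AllS P (KS σ (S.ω 4)) (msk (mapL hd L317)) :=
  E.allS_K (allH S) P 4 L317 (by decide +kernel)

theorem a321 : I.AllS P (KS σ (S.ω 4)) m320 :=
  (ak318 I B E).ext L319 (by decide +kernel)

theorem a323 : I.AllS P (I.gen P S322) (msk S322) :=
  Impl.allS_gen_of (a321 I B E) (by decide +kernel)

theorem lo325 : 9 * Nat.card (I.gen P S322) ≤ Nat.card (KS σ (S.ω 4)) :=
  BImpl.low_lev (B := B) (a321 I B E) b324 [274, 283, 277, 281, 278, 276, 288, 0, 280] 9 (by decide +kernel)

theorem a328 : I.AllS P (I.gen P S322) m327 :=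
  (a323 I B E).ext L326 (by decide +kernel)

theorem a330 : I.AllS P (I.gen P S329) (msk S329) :=
  Impl.allS_gen_of (a328 I B E) (by decide +kernel)

theorem lo332 : 27 * Nat.card (I.gen P S329) ≤ Nat.card (I.gen P S322) :=
  BImpl.low_lev (B := B) (a328 I B E) b331 [298, 0x12512c, 0x12512c129, 299, 0x125125, 295, 297, 0x125129, 294, 0x127129, 293, 0x127127, 0, 0x12a125, 0x12512d, 0x12612a, 0x12912d, 0x128125, 0x12812a, 0x12512a, 296, 0x12a127, 300, 0x125126, 0x12b126, 0x127128, 0x12612d] 27 (by decide +kernel)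

theorem a334 : I.AllS P (I.gen P S333) (msk S333) :=
  Impl.allS_gen_of (a330 I B E) (by decide +kernel)

theorem lo336 : 2 * Nat.card (I.gen P S333) ≤ Nat.card (I.gen P S329) :=
  BImpl.low_lev (B := B) (a330 I B E) b335 [0, 302] 2 (by decide +kernel)

theorem low337 : 486 ≤ Nat.card (KS σ (S.ω 4)) :=
  le_trans (by decide +kernel) (le_of_low (lo325 I B E) (le_of_low (lo332 I B E) (le_of_low (lo336 I B E) (Nat.succ_le_of_lt Nat.card_pos))))

theorem a340 : I.AllS P (KS σ (S.ω 4)) m339 :=
  (a321 I B E).ext L338 (by decide +kernel)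

theorem rp344 : CovOn (C := CF) B S σ (0 :: JN) 4 (B.vd b3) U200 (V.cube P C341 Q79) 0x7ffffffffffffffffffffffffffffffffffffffffffffffffffffffffffffffffffffffffffffffffffffffffffffffffffffffffffffffffffffffffffffffffffffffffffffffffffffffffffffffffffffffffffffffffffffffffffffffffffffffffffff :=
  Over.covOn (C := CF) B E (allH S) _ _ _ _ _ R342 _ ck343

theorem cv345 : ∀ h : (I.gen P S1), S.g • σ h • S.ω 4 ∈ DS σ S.ω (0 :: JN) :=
  (rp344 I B E).node (ob94 I B) (sc218 I B E) (a340 I B E) (by decide +kernel)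

theorem ak349 : I.AllS P (KS σ (S.ω 5)) (msk (mapL hd L348)) :=
  E.allS_K (allH S) P 5 L348 (by decide +kernel)

theorem a352 : I.AllS P (KS σ (S.ω 5)) m351 :=
  (ak349 I B E).ext L350 (by decide +kernel)

theorem a354 : I.AllS P (I.gen P S353) (msk S353) :=
  Impl.allS_gen_of (a352 I B E) (by decide +kernel)

theorem lo356 : 21 * Nat.card (I.gen P S353) ≤ Nat.card (KS σ (S.ω 5)) :=
  BImpl.low_lev (B := B) (a352 I B E) b355 [0, 0x136141, 0x13913b, 314, 313, 0x13913e, 0x141141, 0x139141, 317, 0x13913d, 0x13513d, 0x13513913b, 0x135141, 321, 0x13a13e, 0x139135, 0x136139, 0x13d140, 0x135139, 309, 310] 21 (by decide +kernel)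

theorem a359 : I.AllS P (I.gen P S353) m358 :=
  (a354 I B E).ext L357 (by decide +kernel)

theorem a361 : I.AllS P (I.gen P S360) (msk S360) :=
  Impl.allS_gen_of (a359 I B E) (by decide +kernel)

theorem lo363 : 6 * Nat.card (I.gen P S360) ≤ Nat.card (I.gen P S353) :=
  BImpl.low_lev (B := B) (a359 I B E) b362 [0x142142, 0, 0x142142142, 0x143143, 322, 323] 6 (by decide +kernel)

theorem low364 : 126 ≤ Nat.card (KS σ (S.ω 5)) :=
  le_trans (by decide +kernel) (le_of_low (lo356 I B E) (le_of_low (lo363 I B E) (Nat.succ_le_of_lt Nat.card_pos)))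

theorem a367 : I.AllS P (KS σ (S.ω 5)) m366 :=
  (a352 I B E).ext L365 (by decide +kernel)

theorem rp371 : CovOn (C := CF) B S σ (0 :: JN) 5 (B.vd b3) U200 (V.cube P C368 Q79) 0x67e75aafdffcea96bdb7fbf708fbccf7ff9bd3c3e3bba3ffefebfffdc67f977fd5cff65bfceeb7dacddbf763fefdeff4e3d72f14747fff797fe3dcf6ef1f9fbdf599b786af7ef43efeda359fa75174af67fee9fbbd6efbbffb7d6defe9bfff7dcfdbaf4f9ffff :=
  Over.covOn (C := CF) B E (allH S) _ _ _ _ _ R369 _ ck370

theorem rp374 : CovOn (C := CF) B S σ (0 :: JN) 5 (B.vd b3) U200 (V.cube P C368 Q79) 0x1818a5502003156942480408f704330800642c3c1c445c0010140002398068802a3009a4031148253224089c0102100b1c28d0eb8b800086801c230910e060420a66487950810bc10125ca6058ae8b5098011604429104400482921016400082302450b060000 :=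
  Over.covOn (C := CF) B E (allH S) _ _ _ _ _ R372 _ ck373

theorem cv375 : ∀ h : (I.gen P S1), S.g • σ h • S.ω 5 ∈ DS σ S.ω (0 :: JN) :=
  ((rp371 I B E).lor (rp374 I B E)).node (ob94 I B) (sc218 I B E) (a367 I B E) (by decide +kernel)

theorem ak379 : I.AllS P (KS σ (S.ω 6)) (msk (mapL hd L378)) :=
  E.allS_K (allH S) P 6 L378 (by decide +kernel)

theorem a382 : I.AllS P (KS σ (S.ω 6)) m381 :=
  (ak379 I B E).ext L380 (by decide +kernel)

theorem a384 : I.AllS P (I.gen P S383) (msk S383) :=
  Impl.allS_gen_of (a382 I B E) (by decide +kernel)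

theorem lo386 : 27 * Nat.card (I.gen P S383) ≤ Nat.card (KS σ (S.ω 6)) :=
  BImpl.low_lev (B := B) (a382 I B E) b385 [0, 344, 333, 340, 335, 338, 334, 0x14d158, 332, 336, 0x14d14a, 0x14c155, 337, 0x14a154, 0x149154, 0x14e149, 0x149150, 339, 0x150159, 0x14d159, 0x14a14f, 0x14a150, 342, 341, 0x14914d, 329, 330] 27 (by decide +kernel)

theorem a388 : I.AllS P (I.gen P S387) (msk S387) :=
  Impl.allS_gen_of (a384 I B E) (by decide +kernel)

theorem lo390 : 2 * Nat.card (I.gen P S387) ≤ Nat.card (I.gen P S383) :=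
  BImpl.low_lev (B := B) (a384 I B E) b389 [346, 0] 2 (by decide +kernel)

theorem low391 : 54 ≤ Nat.card (KS σ (S.ω 6)) :=
  le_trans (by decide +kernel) (le_of_low (lo386 I B E) (le_of_low (lo390 I B E) (Nat.succ_le_of_lt Nat.card_pos)))

theorem a394 : I.AllS P (KS σ (S.ω 6)) m393 :=
  (a382 I B E).ext L392 (by decide +kernel)

theorem rp398 : CovOn (C := CF) B S σ (0 :: JN) 6 (B.vd b3) U200 (V.cube P C395 Q79) 0x190664e847b60a9979900ec00800a2001e012bb506249b86089504000404282a180f07561a2225060cc11b2a420245a002001c5048845a6a111c0a064068425a07be48b8109d009c0c04185446481a3c2154ce906421d849a101600520e444d5700181c1410ff :=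
  Over.covOn (C := CF) B E (allH S) _ _ _ _ _ R396 _ ck397

theorem rp401 : CovOn (C := CF) B S σ (0 :: JN) 6 (B.vd b3) U200 (V.cube P C395 Q79) 0x67989161049b04404259107c0ad4456e1500448785a2079b32a79e223c18605e530682805c992f87216849489ada80d4c2a61a7972b2081e00380f9bf97b9202040b24365429a20e080e1291997e542c683302f0ace06a4149c8fb8c901b1008fb8642c9ef00 :=
  Over.covOn (C := CF) B E (allH S) _ _ _ _ _ R399 _ ck400

theorem rp404 : CovOn (C := CF) B S σ (0 :: JN) 6 (B.vd b3) U200 (V.cube P C395 Q79) 0x60801201a8004522824a6038375219a900aed002818144004440821dd83a51d002c09081e01448018128604134501252b1d58208205085140ee0750000000485d80105048a206543137b0682a020008118280140911021124a621042161a0a2a00461a1220000 :=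
  Over.covOn (C := CF) B E (allH S) _ _ _ _ _ R402 _ ck403

theorem cv405 : ∀ h : (I.gen P S1), S.g • σ h • S.ω 6 ∈ DS σ S.ω (0 :: JN) :=
  (((rp398 I B E).lor (rp401 I B E)).lor (rp404 I B E)).node (ob94 I B) (sc218 I B E) (a394 I B E) (by decide +kernel)

theorem ak409 : I.AllS P (KS σ (S.ω 7)) (msk (mapL hd L408)) :=
  E.allS_K (allH S) P 7 L408 (by decide +kernel)

theorem a412 : I.AllS P (KS σ (S.ω 7)) m411 :=
  (ak409 I B E).ext L410 (by decide +kernel)

theorem a414 : I.AllS P (I.gen P S413) (msk S413) :=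
  Impl.allS_gen_of (a412 I B E) (by decide +kernel)

theorem lo416 : 6 * Nat.card (I.gen P S413) ≤ Nat.card (KS σ (S.ω 7)) :=
  BImpl.low_lev (B := B) (a412 I B E) b415 [354, 352, 353, 0x15f160, 0, 351] 6 (by decide +kernel)

theorem low417 : 6 ≤ Nat.card (KS σ (S.ω 7)) :=
  le_trans (by decide +kernel) (le_of_low (lo416 I B E) (Nat.succ_le_of_lt Nat.card_pos))

theorem rp421 : CovOn (C := CF) B S σ (0 :: JN) 7 (B.vd b3) U200 (V.cube P C418 Q79) 0x60000000402000000000000008000000000400000000000010410000000000a00000000200000000008000004000000000000002000082000004000021000000000000000020000004004000000000000000000400081000001100200020002000000051ff :=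
  Over.covOn (C := CF) B E (allH S) _ _ _ _ _ R419 _ ck420

theorem rp424 : CovOn (C := CF) B S σ (0 :: JN) 7 (B.vd b3) U200 (V.cube P C418 Q79) 0x200000001100000000000040100000010000400060000c1000000002800020000004000018000000000000000000002100000000000000040000000000000089080180001000008000000040000000110040004010000000000c00000000014000fae00 :=
  Over.covOn (C := CF) B E (allH S) _ _ _ _ _ R422 _ ck423

theorem rp427 : CovOn (C := CF) B S σ (0 :: JN) 7 (B.vd b3) U200 (V.cube P C418 Q79) 0x40000000000180001000000000000020000000000020020402100002000400000020000000000020001400000002000100000000000800800908010000004004001000c0000001000000008000000000000008000000800080000010000200001ff00000 :=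
  Over.covOn (C := CF) B E (allH S) _ _ _ _ _ R425 _ ck426

theorem rp430 : CovOn (C := CF) B S σ (0 :: JN) 7 (B.vd b3) U200 (V.cube P C418 Q79) 0x800012100000000080000000000840188000c0000000000004000001000008000000000000000001000000300040000002000002000000100000000800000080000000000010003000800100404000000000000000005000000400000000006be0000000 :=
  Over.covOn (C := CF) B E (allH S) _ _ _ _ _ R428 _ ck429

theorem rp433 : CovOn (C := CF) B S σ (0 :: JN) 7 (B.vd b3) U200 (V.cube P C418 Q79) 0x1088000000000000000040000000001000000000100000010000000000a00420000040000001020000100000000001000000000020888000000aa080000010022000000000000000000000001000040000000048008800040000000000200001df8000000000 :=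
  Over.covOn (C := CF) B E (allH S) _ _ _ _ _ R431 _ ck432

theorem rp436 : CovOn (C := CF) B S σ (0 :: JN) 7 (B.vd b3) U200 (V.cube P C418 Q79) 0x10800000c0000020000000000000000000800000400008000010200000400400810048000000820001000000000000000000004c000000001040000000890010010000000000000200000020002000000101000100000000000000000000087fc000000000000 :=
  Over.covOn (C := CF) B E (allH S) _ _ _ _ _ R434 _ ck435

theorem rp439 : CovOn (C := CF) B S σ (0 :: JN) 7 (B.vd b3) U200 (V.cube P C418 Q79) 0x50000000100080408000000200000000000000000002008040000004000000000000000080000004100000801040001400c000800000000000000402000000000400000000040000000000400200304000000000100000000102000004f5800000000000000 :=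
  Over.covOn (C := CF) B E (allH S) _ _ _ _ _ R437 _ ck438

theorem rp442 : CovOn (C := CF) B S σ (0 :: JN) 7 (B.vd b3) U200 (V.cube P C418 Q79) 0x240000000040000000000000000012000040002000000000000200008000400000000020000000004208000800000008000800804080000200000000400400000000000010000008860c02020080000020000200010020000000000031f800000000000000000 :=
  Over.covOn (C := CF) B E (allH S) _ _ _ _ _ R440 _ ck441

theorem rp445 : CovOn (C := CF) B S σ (0 :: JN) 7 (B.vd b3) U200 (V.cube P C418 Q79) 0x800000000108080000800020002000080100100008000010000000000000000030002004000002000214000000000005000000000000111000080000000000021000041000000040010000a82000000210004020000ef800000000000000000000 :=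
  Over.covOn (C := CF) B E (allH S) _ _ _ _ _ R443 _ ck444

theorem rp448 : CovOn (C := CF) B S σ (0 :: JN) 7 (B.vd b3) U200 (V.cube P C418 Q79) 0x40000041080004020005000004000400000000040200000002000008001000000050000000040000880000020000042000100000040004010402000000000000401000222010008000000000000020000000004000000200001ef400000000000000000000000 :=
  Over.covOn (C := CF) B E (allH S) _ _ _ _ _ R446 _ ck447

theorem rp451 : CovOn (C := CF) B S σ (0 :: JN) 7 (B.vd b3) U200 (V.cube P C418 Q79) 0x221000000000200002000080002000001000000001000100000030000000000030000000290400000020002000800000020001000100002000002000000400002000080000000000001000400003100008802000000ab0e00000000000000000000000000 :=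
  Over.covOn (C := CF) B E (allH S) _ _ _ _ _ R449 _ ck450

theorem rp454 : CovOn (C := CF) B S σ (0 :: JN) 7 (B.vd b3) U200 (V.cube P C418 Q79) 0x2000000000480800000000402100000000001800230000040008000000002810000100000000801000010000800a0000000000000000800000000008004008802100000002000020600000800400000400042000061d6000000000000000000000000000000 :=
  Over.covOn (C := CF) B E (allH S) _ _ _ _ _ R452 _ ck453

theorem rp457 : CovOn (C := CF) B S σ (0 :: JN) 7 (B.vd b3) U200 (V.cube P C418 Q79) 0x50002002000001000022001000400010000030000008000002004a0100000007008088000000000000001100000200200010000002400010002000200000000000000000204000000400100000800000601a1e00000000000000000000000000000000000 :=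
  Over.covOn (C := CF) B E (allH S) _ _ _ _ _ R455 _ ck456

theorem rp460 : CovOn (C := CF) B S σ (0 :: JN) 7 (B.vd b3) U200 (V.cube P C418 Q79) 0x800080810000088000104020000900008200004000008000800000010100008000400000000000000000000001080000010000401003040000000020000040009004008000000021810a000008807c80000000000000000000000000000000000000000 :=
  Over.covOn (C := CF) B E (allH S) _ _ _ _ _ R458 _ ck459

theorem rp463 : CovOn (C := CF) B S σ (0 :: JN) 7 (B.vd b3) U200 (V.cube P C418 Q79) 0x1000002000000000000050042000001400040800000400800000000000402000440000200400000890008040000008040004000000000000040210000000000010200880184020018b00000000000000000000000000000000000000000000000 :=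
  Over.covOn (C := CF) B E (allH S) _ _ _ _ _ R461 _ ck462

theorem rp466 : CovOn (C := CF) B S σ (0 :: JN) 7 (B.vd b3) U200 (V.cube P C418 Q79) 0x1010400000000000000002000000400000000000000100000000000200000240002040310000000800004004000004000000010001000088040020000020100000400c24049041000000000000000000000000000000000000000000000000000000000000 :=
  Over.covOn (C := CF) B E (allH S) _ _ _ _ _ R464 _ ck465

theorem rp469 : CovOn (C := CF) B S σ (0 :: JN) 7 (B.vd b3) U200 (V.cube P C418 Q79) 0x2000000000000408012000c0006000a200804000000240000000102000000000000000100480000000402100c0000000103080020020000000011000440006008821244000000000000000000000000000000000000000000000000000000000000000000000 :=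
  Over.covOn (C := CF) B E (allH S) _ _ _ _ _ R467 _ ck468

theorem rp472 : CovOn (C := CF) B S σ (0 :: JN) 7 (B.vd b3) U200 (V.cube P C418 Q79) 0x1400200006002040000000000000400100088080200000000000881400000010000000010000c0c0020000000284040200010020400000000000080000000000000000000000000000000000000000000000000000000000000000000000000000000 :=
  Over.covOn (C := CF) B E (allH S) _ _ _ _ _ R470 _ ck471

theorem rp475 : CovOn (C := CF) B S σ (0 :: JN) 7 (B.vd b3) U200 (V.cube P C418 Q79) 0x800000a02000004004040110908018000200000800000004000000000040000000800081000004020002000000000000000000000000000000000000000000000000000000000000000000000000000000000000000000000000000000000000000000000000 :=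
  Over.covOn (C := CF) B E (allH S) _ _ _ _ _ R473 _ ck474

theorem cv476 : ∀ h : (I.gen P S1), S.g • σ h • S.ω 7 ∈ DS σ S.ω (0 :: JN) :=
  (((((((((((((((((((rp421 I B E).lor (rp424 I B E)).lor (rp427 I B E)).lor (rp430 I B E)).lor (rp433 I B E)).lor (rp436 I B E)).lor (rp439 I B E)).lor (rp442 I B E)).lor (rp445 I B E)).lor (rp448 I B E)).lor (rp451 I B E)).lor (rp454 I B E)).lor (rp457 I B E)).lor (rp460 I B E)).lor (rp463 I B E)).lor (rp466 I B E)).lor (rp469 I B E)).lor (rp472 I B E)).lor (rp475 I B E)).node (ob94 I B) (sc218 I B E) (a412 I B E) (by decide +kernel)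

theorem ak480 : I.AllS P (KS σ (S.ω 8)) (msk (mapL hd L479)) :=
  E.allS_K (allH S) P 8 L479 (by decide +kernel)

theorem a483 : I.AllS P (KS σ (S.ω 8)) m482 :=
  (ak480 I B E).ext L481 (by decide +kernel)

theorem a485 : I.AllS P (I.gen P S484) (msk S484) :=
  Impl.allS_gen_of (a483 I B E) (by decide +kernel)

theorem lo487 : 39 * Nat.card (I.gen P S484) ≤ Nat.card (KS σ (S.ω 8)) :=
  BImpl.low_lev (B := B) (a483 I B E) b486 [0, 0x163165, 0x163171, 0x165173, 370, 369, 363, 360, 357, 0x163168, 364, 0x163172, 362, 0x165179, 0x16316f, 376, 373, 377, 0x163178, 361, 374, 372, 356, 368, 0x163170, 0x164179, 0x167169, 359, 0x167170, 0x167177, 0x163174, 0x164170, 375, 0x163175, 0x167179, 355, 371, 366, 365] 39 (by decide +kernel)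

theorem a489 : I.AllS P (I.gen P S488) (msk S488) :=
  Impl.allS_gen_of (a485 I B E) (by decide +kernel)

theorem lo491 : 2 * Nat.card (I.gen P S488) ≤ Nat.card (I.gen P S484) :=
  BImpl.low_lev (B := B) (a485 I B E) b490 [378, 0] 2 (by decide +kernel)

theorem low492 : 78 ≤ Nat.card (KS σ (S.ω 8)) :=
  le_trans (by decide +kernel) (le_of_low (lo487 I B E) (le_of_low (lo491 I B E) (Nat.succ_le_of_lt Nat.card_pos)))

theorem a495 : I.AllS P (KS σ (S.ω 8)) m494 :=
  (a483 I B E).ext L493 (by decide +kernel)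

theorem rp499 : CovOn (C := CF) B S σ (0 :: JN) 8 (B.vd b3) U200 (V.cube P C496 Q79) 0x1d9ffced15dff5dbbf97e8e3ab3628fb0416dc98b6fcf2c0b70ff197fd61ac7edcfc3e9b11589fdf308c3fea4cc182b31d9fd7d3b325779afa591feb6f1f1ddfd4e711f78cee97c0edd8602448bf216a97c86d41a7b6485ecb1dc4cfa5aa752327c6f1daecfff :=
  Over.covOn (C := CF) B E (allH S) _ _ _ _ _ R497 _ ck498

theorem rp502 : CovOn (C := CF) B S σ (0 :: JN) 8 (B.vd b3) U200 (V.cube P C496 Q79) 0x62600002e82002040048151814c9d504fbe922674903052f48f00e68029e52012303c164e8a76020c9330015b33e7d4ce260202c0cda886505a6e01490e0e2200118ec087311683f12279fd9b540dc946837923e5849b78134e2332058558adcd8390e2513000 :=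
  Over.covOn (C := CF) B E (allH S) _ _ _ _ _ R500 _ ck501

theorem rp505 : CovOn (C := CF) B S σ (0 :: JN) 8 (B.vd b3) U200 (V.cube P C496 Q79) 0x3100200082040200204400002000000010000000810000000000000018000000000060000000640c00000000000000008004000000000000000000000002a000200000000000000000202000201000000800000002000000810020000000000000000000 :=
  Over.covOn (C := CF) B E (allH S) _ _ _ _ _ R503 _ ck504

theorem cv506 : ∀ h : (I.gen P S1), S.g • σ h • S.ω 8 ∈ DS σ S.ω (0 :: JN) :=
  (((rp499 I B E).lor (rp502 I B E)).lor (rp505 I B E)).node (ob94 I B) (sc218 I B E) (a495 I B E) (by decide +kernel)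

theorem ak510 : I.AllS P (KS σ (S.ω 9)) (msk (mapL hd L509)) :=
  E.allS_K (allH S) P 9 L509 (by decide +kernel)

theorem a513 : I.AllS P (KS σ (S.ω 9)) m512 :=
  (ak510 I B E).ext L511 (by decide +kernel)

theorem a515 : I.AllS P (I.gen P S514) (msk S514) :=
  Impl.allS_gen_of (a513 I B E) (by decide +kernel)

theorem lo517 : 24 * Nat.card (I.gen P S514) ≤ Nat.card (KS σ (S.ω 9)) :=
  BImpl.low_lev (B := B) (a513 I B E) b516 [397, 0x18018c, 389, 0x180186, 398, 392, 403, 395, 0x181188, 386, 0x180189, 391, 0x180180, 385, 0, 0x180184, 390, 388, 0x180187, 394, 404, 0x18218a, 393, 384] 24 (by decide +kernel)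

theorem a520 : I.AllS P (I.gen P S514) m519 :=
  (a515 I B E).ext L518 (by decide +kernel)

theorem a522 : I.AllS P (I.gen P S521) (msk S521) :=
  Impl.allS_gen_of (a520 I B E) (by decide +kernel)

theorem lo524 : 3 * Nat.card (I.gen P S521) ≤ Nat.card (I.gen P S514) :=
  BImpl.low_lev (B := B) (a520 I B E) b523 [0, 405, 406] 3 (by decide +kernel)

theorem low525 : 72 ≤ Nat.card (KS σ (S.ω 9)) :=
  le_trans (by decide +kernel) (le_of_low (lo517 I B E) (le_of_low (lo524 I B E) (Nat.succ_le_of_lt Nat.card_pos)))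

theorem a528 : I.AllS P (KS σ (S.ω 9)) m527 :=
  (a513 I B E).ext L526 (by decide +kernel)

theorem rp532 : CovOn (C := CF) B S σ (0 :: JN) 9 (B.vd b3) U200 (V.cube P C529 Q79) 0x5c3e0d4600c535d0588c58b930c9308d9ca41d42ace5ab808714497c531b8eb82a9016846e4051e9d4c8107368332a20c18a0b8994d884064447e21395fdb157029e7e44ba008e428648c703ac101f89bda26ffc8101a28f1001ea0d5c4004980744024b24fff :=
  Over.covOn (C := CF) B E (allH S) _ _ _ _ _ R530 _ ck531

theorem rp535 : CovOn (C := CF) B S σ (0 :: JN) 9 (B.vd b3) U200 (V.cube P C529 Q79) 0x3c1b2399418022ba133a7428b36cc02635982bd430a547a08ebb08228407047d56bc94a901f26142b37ef0c83cc95ce3e65c4666b252bf992281cec080006a8fd21819b45ed513d793730bc13ebc002424990033eb65d50abbc15f2039df14350b8f5b4db000 :=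
  Over.covOn (C := CF) B E (allH S) _ _ _ _ _ R533 _ ck534

theorem rp538 : CovOn (C := CF) B S σ (0 :: JN) 9 (B.vd b3) U200 (V.cube P C529 Q79) 0x200040806b22c804064000044400037000026000101000057000060184a401000004203101a0880200000080140040110010301000025000299001006202480000400020001220800080084040042074001400004048002044420000a0220a24a803080000000 :=
  Over.covOn (C := CF) B E (allH S) _ _ _ _ _ R536 _ ck537

theorem cv539 : ∀ h : (I.gen P S1), S.g • σ h • S.ω 9 ∈ DS σ S.ω (0 :: JN) :=
  (((rp532 I B E).lor (rp535 I B E)).lor (rp538 I B E)).node (ob94 I B) (sc218 I B E) (a528 I B E) (by decide +kernel)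

theorem ak543 : I.AllS P (KS σ (S.ω 10)) (msk (mapL hd L542)) :=
  E.allS_K (allH S) P 10 L542 (by decide +kernel)

theorem a546 : I.AllS P (KS σ (S.ω 10)) m545 :=
  (ak543 I B E).ext L544 (by decide +kernel)

theorem a548 : I.AllS P (I.gen P S547) (msk S547) :=
  Impl.allS_gen_of (a546 I B E) (by decide +kernel)

theorem lo550 : 84 * Nat.card (I.gen P S547) ≤ Nat.card (KS σ (S.ω 10)) :=
  BImpl.low_lev (B := B) (a546 I B E) b549 [0, 0x1991a6, 0x19b1ac, 0x1aa1af, 0x19a19b, 0x199199, 0x19c1b1, 0x19c19e, 418, 0x19a19a, 0x1991a9, 0x1991ab, 0x19b1af, 409, 0x19a19d, 0x19f19f, 426, 0x1a01ab, 0x19b1a3, 0x1a51aa, 0x1a01aa, 429, 0x19a1a5, 0x19c1a7, 410, 0x19919e, 0x19a1a9, 0x1a01ad, 0x19a1a4, 420, 431, 0x1991ad, 0x1991a5, 0x19b19d, 0x1991a4, 0x1a11b2, 0x1991a1, 427, 0x19c19a, 0x1991b2, 0x19a1a7, 0x1a11af, 0x1991a3, 0x1ab1ad, 0x1a41b2, 0x19f1a1, 0x1991a0, 0x19b19e, 415, 0x1991af, 421, 0x1a01b1, 0x19d1ad, 0x1a41ac, 416, 434, 0x19c1ac, 435, 417, 0x1991b0, 411, 0x19c1a3, 0x19b1b1, 0x19a1b2, 0x19919f, 0x19b1a6,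 0x1991a7, 413, 0x1a51b2, 0x19c1a4, 0x19919c, 412, 0x1a41a1, 433, 0x19a1a3, 0x19a1ae, 0x1a31ad, 430, 0x19f1a3, 0x19b1b3, 0x19919b, 428, 419, 0x1a51af] 84 (by decide +kernel)

theorem a553 : I.AllS P (I.gen P S547) m552 :=
  (a548 I B E).ext L551 (by decide +kernel)

theorem a555 : I.AllS P (I.gen P S554) (msk S554) :=
  Impl.allS_gen_of (a553 I B E) (by decide +kernel)

theorem lo557 : 21 * Nat.card (I.gen P S554) ≤ Nat.card (I.gen P S547) :=
  BImpl.low_lev (B := B) (a553 I B E) b556 [0x1b41b5, 0x1b61b51b41b5, 0x1b51b61b51b6, 0x1b61b5, 0, 0x1b51b4, 0x1b41b51b41b5, 436, 0x1b41b51b41b51b4, 437, 0x1b51b6, 0x1b41b51b4, 0x1b61b51b6, 0x1b41b51b41b51b6, 438, 0x1b51b61b5, 0x1b61b51b4, 0x1b61b51b41b51b4, 0x1b51b61b51b4, 0x1b41b51b6, 0x1b61b51b41b51b6] 21 (by decide +kernel)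

theorem a559 : I.AllS P (I.gen P S558) (msk S558) :=
  Impl.allS_gen_of (a555 I B E) (by decide +kernel)

theorem lo561 : 2 * Nat.card (I.gen P S558) ≤ Nat.card (I.gen P S554) :=
  BImpl.low_lev (B := B) (a555 I B E) b560 [0, 439] 2 (by decide +kernel)

theorem low562 : 3528 ≤ Nat.card (KS σ (S.ω 10)) :=
  le_trans (by decide +kernel) (le_of_low (lo550 I B E) (le_of_low (lo557 I B E) (le_of_low (lo561 I B E) (Nat.succ_le_of_lt Nat.card_pos))))

theorem a565 : I.AllS P (KS σ (S.ω 10)) m564 :=
  (a546 I B E).ext L563 (by decide +kernel)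

theorem rp569 : CovOn (C := CF) B S σ (0 :: JN) 10 (B.vd b3) U200 (V.cube P C566 Q79) 0x7ffffffffffffffffffffffffffffffffffffffffffffffffffffffffffffffffffffffffffffffffffffffffffffffffffffffffffffffffffffffffffffffffffffffffffffffffffffffffffffffffffffffffffffffffffffffffffffffffffffffffffff :=
  Over.covOn (C := CF) B E (allH S) _ _ _ _ _ R567 _ ck568

theorem cv570 : ∀ h : (I.gen P S1), S.g • σ h • S.ω 10 ∈ DS σ S.ω (0 :: JN) :=
  (rp569 I B E).node (ob94 I B) (sc218 I B E) (a565 I B E) (by decide +kernel)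

theorem cov : ∀ j ∈ JN, ∀ h : (I.gen P S1), S.g • σ h • S.ω j ∈ DS σ S.ω (0 :: JN) :=
  List.forall_mem_cons.2 ⟨(cv250 I B E), List.forall_mem_cons.2 ⟨(cv284 I B E), List.forall_mem_cons.2 ⟨(cv314 I B E), List.forall_mem_cons.2 ⟨(cv345 I B E), List.forall_mem_cons.2 ⟨(cv375 I B E), List.forall_mem_cons.2 ⟨(cv405 I B E), List.forall_mem_cons.2 ⟨(cv476 I B E), List.forall_mem_cons.2 ⟨(cv506 I B E), List.forall_mem_cons.2 ⟨(cv539 I B E), List.forall_mem_cons.2 ⟨(cv570 I B E), List.forall_mem_nil _⟩⟩⟩⟩⟩⟩⟩⟩⟩⟩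

theorem low : ∀ j ∈ JN, 634023936 ≤ NF j * Nat.card (KS σ (S.ω j)) :=
  List.forall_mem_cons.2 ⟨le_trans (b := NF 1 * 36864) (by decide +kernel) (Nat.mul_le_mul_left _ (low242 I B E)), List.forall_mem_cons.2 ⟨le_trans (b := NF 2 * 13824) (by decide +kernel) (Nat.mul_le_mul_left _ (low276 I B E)), List.forall_mem_cons.2 ⟨le_trans (b := NF 3 * 288) (by decide +kernel) (Nat.mul_le_mul_left _ (low303 I B E)), List.forall_mem_cons.2 ⟨le_trans (b := NF 4 * 486) (by decide +kernel) (Nat.mul_le_mul_left _ (low337 I B E)), List.forall_mem_cons.2 ⟨le_trans (b := NF 5 * 126) (by decide +kernel) (Nat.mul_le_mul_left _ (low364 I B E)), List.forall_mem_cons.2 ⟨le_trans (b := NF 6 * 54) (by decide +kernel) (Nat.mul_le_mul_left _ (low391 I B E)), List.forall_mem_cons.2 ⟨le_trans (b := NF 7 * 6) (by decide +kernel) (Nat.mul_le_mul_left _ (low417 I B E)), List.forall_mem_cons.2 ⟨le_trans (b := NF 8 * 78) (by decide +kernel) (Nat.mul_le_mul_left _ (low492 I B E)), List.forall_mem_cons.2 ⟨le_trans (b := NF 9 *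 72) (by decide +kernel) (Nat.mul_le_mul_left _ (low525 I B E)), List.forall_mem_cons.2 ⟨le_trans (b := NF 10 * 3528) (by decide +kernel) (Nat.mul_le_mul_left _ (low562 I B E)), List.forall_mem_nil _⟩⟩⟩⟩⟩⟩⟩⟩⟩⟩

end Cfsg.Lib.Spor.ThU
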