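import Cfsg.Prelude.Def_Sporadic_a

/-!
A verified backtrack-with-symmetry checker for uniqueness of block designs on at most 24 points.

Subsets of `Fin v` are encoded as bitmasks (`ms v m`).  `Hyp v t k I X B` collects what is used
about the family `B`; `check_sound` says that an accepted certificate yields a permutation fixing
the points of `fix` and carrying the standard list `std` into `B`.
-/

set_option autoImplicit false

namespace Cfsg.Lib.Spor.Witt

open Finset

/-- Table of the numbers of one bits of the numbers below 4096, four bits per entry. -/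
def pcTab : ℕ := 0xcbbabaa9baa9a998baa9a998a9989887baa9a998a9989887a998988798878776baa9a998a9989887a998988798878776a9989887988787769887877687767665baa9a998a9989887a998988798878776a9989887988787769887877687767665a998988798878776988787768776766598878776877676658776766576656554baa9a998a9989887a998988798878776a9989887988787769887877687767665a998988798878776988787768776766598878776877676658776766576656554a9989887988787769887877687767665988787768776766587767665766565549887877687767665877676657665655487767665766565547665655465545443baa9a998a9989887a998988798878776a9989887988787769887877687767665a998988798878776988787768776766598878776877676658776766576656554a9989887988787769887877687767665988787768776766587767665766565549887877687767665877676657665655487767665766565547665655465545443a998988798878776988787768776766598878776877676658776766576656554988787768776766587767665766565548776766576656554766565546554544398878776877676658776766576656554877676657665655476656554655454438776766576656554766565546554544376656554655454436554544354434332baa9a998a9989887a99898879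8878776a9989887988787769887877687767665a998988798878776988787768776766598878776877676658776766576656554a9989887988787769887877687767665988787768776766587767665766565549887877687767665877676657665655487767665766565547665655465545443a998988798878776988787768776766598878776877676658776766576656554988787768776766587767665766565548776766576656554766565546554544398878776877676658776766576656554877676657665655476656554655454438776766576656554766565546554544376656554655454436554544354434332a9989887988787769887877687767665988787768776766587767665766565549887877687767665877676657665655487767665766565547665655465545443988787768776766587767665766565548776766576656554766565546554544387767665766565547665655465545443766565546554544365545443544343329887877687767665877676657665655487767665766565547665655465545443877676657665655476656554655454437665655465545443655454435443433287767665766565547665655465545443766565546554544365545443544343327665655465545443655454435443433265545443544343325443433243323221baa9a998a9989887a998988798878776a9989887988787769887877687767665a99898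8798878776988787768776766598878776877676658776766576656554a9989887988787769887877687767665988787768776766587767665766565549887877687767665877676657665655487767665766565547665655465545443a998988798878776988787768776766598878776877676658776766576656554988787768776766587767665766565548776766576656554766565546554544398878776877676658776766576656554877676657665655476656554655454438776766576656554766565546554544376656554655454436554544354434332a9989887988787769887877687767665988787768776766587767665766565549887877687767665877676657665655487767665766565547665655465545443988787768776766587767665766565548776766576656554766565546554544387767665766565547665655465545443766565546554544365545443544343329887877687767665877676657665655487767665766565547665655465545443877676657665655476656554655454437665655465545443655454435443433287767665766565547665655465545443766565546554544365545443544343327665655465545443655454435443433265545443544343325443433243323221a998988798878776988787768776766598878776877676658776766576656554988787768776766587767665766565548776766576656554766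565546554544398878776877676658776766576656554877676657665655476656554655454438776766576656554766565546554544376656554655454436554544354434332988787768776766587767665766565548776766576656554766565546554544387767665766565547665655465545443766565546554544365545443544343328776766576656554766565546554544376656554655454436554544354434332766565546554544365545443544343326554544354434332544343324332322198878776877676658776766576656554877676657665655476656554655454438776766576656554766565546554544376656554655454436554544354434332877676657665655476656554655454437665655465545443655454435443433276656554655454436554544354434332655454435443433254434332433232218776766576656554766565546554544376656554655454436554544354434332766565546554544365545443544343326554544354434332544343324332322176656554655454436554544354434332655454435443433254434332433232216554544354434332544343324332322154434332433232214332322132212110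

/-- Number of one bits of a number below 4096, by table lookup. -/
def pc12 (m : ℕ) : ℕ := Nat.land (Nat.shiftRight pcTab (Nat.mul 4 m)) 15

/-- Number of one bits of a number below `2 ^ 24`. -/
def pc (m : ℕ) : ℕ := Nat.add (pc12 (Nat.land m 4095)) (pc12 (Nat.shiftRight m 12))

/-- The subset of `Fin v` encoded by a bitmask. -/
def ms (v m : ℕ) : Finset (Fin v) := univ.filter fun i => m.testBit i.val = true

@[simp] theorem mem_ms {v m : ℕ} {i : Fin v} : i ∈ ms v m ↔ m.testBit i.val = true := by
  simp [ms]

/-- Slow bit count. -/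
def pcS (m n : ℕ) : ℕ := Nat.rec 0 (fun i r => Nat.add (Nat.land (Nat.shiftRight m i) 1) r) n

theorem land_shiftRight_one (m i : ℕ) :
    Nat.land (Nat.shiftRight m i) 1 = if m.testBit i = true then 1 else 0 := by
  change (m >>> i) &&& 1 = _
  rw [Nat.and_one_is_mod, Nat.testBit, Nat.one_and_eq_mod_two]
  rcases Nat.mod_two_eq_zero_or_one (m >>> i) with h | h <;> simp [h]

theorem pcS_eq (m n : ℕ) : pcS m n = ((range n).filter fun i => m.testBit i = true).card := by
  induction n with
  | zero => simp [pcS]
  | succ n ih =>
    have : pcS m (n + 1) = Nat.land (Nat.shiftRight m n) 1 + pcS m n := rfl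
    rw [this, ih, land_shiftRight_one, range_add_one, filter_insert]
    split_ifs with h
    · rw [card_insert_of_notMem (by simp)]; omega
    · simp

/-- Bounded universal check. -/
def allBelow (n : ℕ) (p : ℕ → Bool) : Bool := Nat.rec true (fun i r => and (p i) r) n

theorem allBelow_spec {n : ℕ} {p : ℕ → Bool} (h : allBelow n p = true) {i : ℕ} (hi : i < n) :
    p i = true := by
  induction n with
  | zero => omega
  | succ n ih =>
    have h' : (p n && allBelow n p) = true := h
    rw [Bool.and_eq_true] at h'
    rcases Nat.lt_succ_iff_lt_or_eq.1 hi with h1 | h1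
    · exact ih h'.2 h1
    · rw [h1]; exact h'.1

theorem pc12_check : allBelow 4096 (fun m => Nat.beq (pc12 m) (pcS m 12)) = true := by
  decide +kernel

theorem pc12_eq {m : ℕ} (hm : m < 4096) :
    pc12 m = ((range 12).filter fun i => m.testBit i = true).card := by
  rw [← pcS_eq]
  exact Nat.eq_of_beq_eq_true (allBelow_spec pc12_check hm)

theorem pc_eq {m : ℕ} (hm : m < 2 ^ 24) :
    pc m = ((range 24).filter fun i => m.testBit i = true).card := by
  have h1 : pc m = pc12 (m &&& 4095) + pc12 (m >>> 12) := rfl
  have ha : m &&& 4095 < 4096 := Nat.and_lt_two_pow m (n := 12) (by norm_num)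
  have hb : m >>> 12 < 4096 := by
    rw [Nat.shiftRight_eq_div_pow]; omega
  rw [h1, pc12_eq ha, pc12_eq hb, show (24 : ℕ) = 12 + 12 from rfl, range_add, filter_union,
    card_union_of_disjoint]
  · congr 1
    · congr 1
      refine filter_congr fun i hi => ?_
      rw [Nat.testBit_and, show (4095 : ℕ) = 2 ^ 12 - 1 from rfl, Nat.testBit_two_pow_sub_one]
      simp [mem_range.1 hi]
    · rw [filter_map, card_map]
      simp only [Nat.testBit_shiftRight]
      rfl
  · exact disjoint_filter_filter (disjoint_range_addLeftEmbedding 12 _)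

theorem card_ms {v m : ℕ} (hv : v ≤ 24) (hm : m < 2 ^ v) : (ms v m).card = pc m := by
  rw [pc_eq (lt_of_lt_of_le hm (Nat.pow_le_pow_right (by norm_num) hv))]
  refine card_bij (fun i _ => i.val) ?_ ?_ ?_
  · intro i hi
    simp only [mem_filter, mem_range]
    exact ⟨by omega, mem_ms.1 hi⟩
  · intro i _ j _ h; exact Fin.ext h
  · intro j hj
    simp only [mem_filter, mem_range] at hj
    have hjv : j < v := by
      by_contra hc
      have := Nat.testBit_lt_two_pow (lt_of_lt_of_le hm (Nat.pow_le_pow_right (by norm_num) (not_lt.1 hc)))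
      rw [this] at hj; exact absurd hj.2 (by simp)
    exact ⟨⟨j, hjv⟩, mem_ms.2 hj.2, rfl⟩

theorem ms_land (v a b : ℕ) : ms v (Nat.land a b) = ms v a ∩ ms v b := by
  ext i; change _ ∈ ms v (a &&& b) ↔ _; simp

theorem ms_lor (v a b : ℕ) : ms v (Nat.lor a b) = ms v a ∪ ms v b := by
  ext i; change _ ∈ ms v (a ||| b) ↔ _; simp

/-- Set difference on bitmasks. -/
def sd (a b : ℕ) : ℕ := Nat.xor a (Nat.land a b)

theorem ms_sd (v a b : ℕ) : ms v (sd a b) = ms v a \ ms v b := by
  ext i; change _ ∈ ms v (a ^^^ (a &&& b)) ↔ _
  simp only [mem_ms, Nat.testBit_xor, Nat.testBit_and, mem_sdiff]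
  cases a.testBit i <;> cases b.testBit i <;> simp

theorem land_lt {a n : ℕ} (b : ℕ) (h : a < 2 ^ n) : Nat.land a b < 2 ^ n :=
  lt_of_le_of_lt (Nat.and_le_left (n := a) (m := b)) h

theorem sd_lt {a n : ℕ} (b : ℕ) (h : a < 2 ^ n) : sd a b < 2 ^ n :=
  Nat.xor_lt_two_pow h (land_lt b h)

/-- The mask of the whole point set. -/
def full (v : ℕ) : ℕ := Nat.sub (Nat.pow 2 v) 1

theorem full_lt (v : ℕ) : full v < 2 ^ v := by
  change 2 ^ v - 1 < 2 ^ v
  have := Nat.two_pow_pos v
  omega

theorem ms_full (v : ℕ) : ms v (full v) = univ := by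
  ext i; change _ ∈ ms v (2 ^ v - 1) ↔ _
  simp [Nat.testBit_two_pow_sub_one]

/-- The mask of a single point. -/
def one (x : ℕ) : ℕ := Nat.shiftLeft 1 x

theorem testBit_one (x i : ℕ) : (one x).testBit i = decide (x = i) := by
  change (1 <<< x).testBit i = _
  rw [Nat.one_shiftLeft, Nat.testBit_two_pow]

theorem ms_one {v : ℕ} (x : Fin v) : ms v (one x.val) = {x} := by
  ext i; simp only [mem_ms, testBit_one, decide_eq_true_eq, mem_singleton]
  exact ⟨fun h => Fin.ext h.symm, fun h => by rw [h]⟩

theorem one_lt {v x : ℕ} (h : x < v) : one x < 2 ^ v := by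
  change 1 <<< x < _
  rw [Nat.one_shiftLeft]; exact Nat.pow_lt_pow_right (by norm_num) h

/-- Force the evaluation of a number before passing it on. -/
def force {β : Type} (n : ℕ) (f : ℕ → β) : β :=
  Nat.casesOn (motive := fun _ => β) n (f 0) (fun m => f (Nat.succ m))

@[simp] theorem force_eq {β : Type} (n : ℕ) (f : ℕ → β) : force n f = f n := by
  cases n <;> rfl

/-- No bit of `J` is set in positions `lo, …, lo + len - 1`. -/
def noBits (J lo len : ℕ) : Bool := Nat.beq (Nat.mod (Nat.shiftRight J lo) (Nat.pow 2 len)) 0

theorem noBits_spec {J lo len m : ℕ} (h : noBits J lo len = true) (h1 : lo ≤ m)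
    (h2 : m < lo + len) : J.testBit m = false := by
  have h0 : (J >>> lo) % 2 ^ len = 0 := Nat.eq_of_beq_eq_true h
  have := congrArg (fun z => z.testBit (m - lo)) h0
  simp only [Nat.testBit_mod_two_pow, Nat.testBit_shiftRight, Nat.zero_testBit] at this
  rw [show lo + (m - lo) = m by omega] at this
  simpa [show m - lo < len by omega] using this

/-- One refinement of the set `A` of points that may still be added to the partial block `S`
(`r` points are missing), from the constraint that the block meets `c` in a number of points whose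
bit is set in `J`. -/
def step (S r c J A : ℕ) : ℕ :=
  force (pc (Nat.land S c)) fun n =>
    cond (noBits J (Nat.succ n) r) (cond (noBits J n r) 0 (sd A c))
      (cond (noBits J n r) (Nat.land A c) A)

theorem step_lt {v S r c J A : ℕ} (h : A < 2 ^ v) : step S r c J A < 2 ^ v := by
  unfold step
  rw [force_eq]
  cases noBits J (Nat.succ (pc (Nat.land S c))) r <;> cases noBits J (pc (Nat.land S c)) r
  · exact h
  · exact land_lt c h
  · exact sd_lt c h
  · exact Nat.two_pow_pos v

theorem card_inter_split {v : ℕ} {b s c : Finset (Fin v)} (hs : s ⊆ b) :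
    (b ∩ c).card = (s ∩ c).card + ((b \ s) ∩ c).card := by
  rw [← card_union_of_disjoint]
  · congr 1; ext x; simp only [mem_inter, mem_union, mem_sdiff]
    constructor
    · rintro ⟨h1, h2⟩; by_cases hx : x ∈ s <;> tauto
    · rintro (⟨h1, h2⟩ | ⟨⟨h1, _⟩, h2⟩)
      · exact ⟨hs h1, h2⟩
      · exact ⟨h1, h2⟩
  · rw [disjoint_left]; intro x h1 h2
    simp only [mem_inter, mem_sdiff] at h1 h2; tauto

theorem step_sound {v S r c J A : ℕ} (hv : v ≤ 24) (hS : S < 2 ^ v) {b : Finset (Fin v)}
    (hSb : ms v S ⊆ b) (hr : (b \ ms v S).card = r) (hJ : J.testBit (b ∩ ms v c).card = true)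
    (hA : b \ ms v S ⊆ ms v A) : b \ ms v S ⊆ ms v (step S r c J A) := by
  have hn : pc (Nat.land S c) = (ms v S ∩ ms v c).card := by
    rw [← ms_land, card_ms hv (land_lt c hS)]
  have hsplit := card_inter_split (c := ms v c) hSb
  have hle : ((b \ ms v S) ∩ ms v c).card ≤ r := hr ▸ card_le_card inter_subset_left
  have hin : noBits J (Nat.succ (pc (Nat.land S c))) r = true →
      ∀ x ∈ b \ ms v S, x ∉ ms v c := by
    intro h x hx hxc
    have hpos : 0 < ((b \ ms v S) ∩ ms v c).card := card_pos.2 ⟨x, mem_inter.2 ⟨hx, hxc⟩⟩
    have := noBits_spec h (m := (b ∩ ms v c).card) (by omega) (by omega)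
    rw [this] at hJ; exact absurd hJ (by simp)
  have hout : noBits J (pc (Nat.land S c)) r = true → ∀ x ∈ b \ ms v S, x ∈ ms v c := by
    intro h x hx
    by_contra hxc
    have hlt : ((b \ ms v S) ∩ ms v c).card < r := by
      rw [← hr]
      refine card_lt_card ⟨inter_subset_left, fun hsub => hxc (mem_inter.1 (hsub hx)).2⟩
    have := noBits_spec h (m := (b ∩ ms v c).card) (by omega) (by omega)
    rw [this] at hJ; exact absurd hJ (by simp)
  unfold step
  rw [force_eq]
  cases h1 : noBits J (Nat.succ (pc (Nat.land S c))) r <;>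
    cases h2 : noBits J (pc (Nat.land S c)) r
  · exact hA
  · intro x hx; simp only [cond_false, cond_true]; rw [ms_land]
    exact mem_inter.2 ⟨hA hx, hout h2 x hx⟩
  · intro x hx; simp only [cond_false, cond_true]; rw [ms_sd]
    exact mem_sdiff.2 ⟨hA hx, hin h1 x hx⟩
  · intro x hx; exact absurd (hout h2 x hx) (hin h1 x hx)

/-- The constraint `(c, J)` cannot be met by a block containing `S` whose `r` other points lie
in `A`. -/
def bad (S r c J A : ℕ) : Bool :=
  force (pc (Nat.land S c)) fun n =>
    force (Nat.add n (Nat.sub r (pc (sd A c)))) fun lo =>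
      noBits J lo (Nat.sub (Nat.succ (Nat.add n (min r (pc (Nat.land A c))))) lo)

theorem bad_sound {v S r c J A : ℕ} (hv : v ≤ 24) (hS : S < 2 ^ v) (hAv : A < 2 ^ v)
    {b : Finset (Fin v)} (hSb : ms v S ⊆ b) (hr : (b \ ms v S).card = r)
    (hJ : J.testBit (b ∩ ms v c).card = true) (hA : b \ ms v S ⊆ ms v A) :
    bad S r c J A = false := by
  by_contra hb
  rw [Bool.not_eq_false] at hb
  unfold bad at hb
  rw [force_eq, force_eq] at hb
  have hn : pc (Nat.land S c) = (ms v S ∩ ms v c).card := by
    rw [← ms_land, card_ms hv (land_lt c hS)]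
  have h1 : pc (sd A c) = (ms v A \ ms v c).card := by
    rw [← ms_sd, card_ms hv (sd_lt c hAv)]
  have h2 : pc (Nat.land A c) = (ms v A ∩ ms v c).card := by
    rw [← ms_land, card_ms hv (land_lt c hAv)]
  have hsplit := card_inter_split (c := ms v c) hSb
  have hle : ((b \ ms v S) ∩ ms v c).card ≤ r := hr ▸ card_le_card inter_subset_left
  have hle2 : ((b \ ms v S) ∩ ms v c).card ≤ (ms v A ∩ ms v c).card :=
    card_le_card (inter_subset_inter hA subset_rfl)
  have hle3 : ((b \ ms v S) \ ms v c).card ≤ (ms v A \ ms v c).card :=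
    card_le_card (sdiff_subset_sdiff hA subset_rfl)
  have h4 := card_sdiff_add_card_inter (b \ ms v S) (ms v c)
  have := noBits_spec hb (m := (b ∩ ms v c).card)
    (by simp only [Nat.add_eq, Nat.sub_eq]; omega)
    (by simp only [Nat.add_eq, Nat.sub_eq, Nat.succ_eq_add_one]; omega)
  rw [this] at hJ; exact absurd hJ (by simp)

/-! ### Packed permutations -/

/-- The value at `i` of the map packed in `σ` (five bits per entry). -/
def ap (σ i : ℕ) : ℕ := Nat.land (Nat.shiftRight σ (Nat.mul 5 i)) 31

/-- The image of the low `n` bits of the mask `m` under the packed map `σ`. -/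
def img (n σ m : ℕ) : ℕ :=
  Nat.rec 0 (fun i r => cond (Nat.beq (Nat.land (Nat.shiftRight m i) 1) 1)
    (Nat.lor (one (ap σ i)) r) r) n

theorem testBit_img (n σ m j : ℕ) :
    (img n σ m).testBit j = true ↔ ∃ i < n, m.testBit i = true ∧ ap σ i = j := by
  induction n with
  | zero => simp [img]
  | succ n ih =>
    have h : img (n + 1) σ m = cond (Nat.beq (Nat.land (Nat.shiftRight m n) 1) 1)
      (one (ap σ n) ||| img n σ m) (img n σ m) := rfl
    rw [h, land_shiftRight_one]
    by_cases hm : m.testBit n = true
    · rw [if_pos hm]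
      simp only [Nat.beq_refl, cond_true, Nat.testBit_or, Bool.or_eq_true, ih, testBit_one,
        decide_eq_true_eq]
      constructor
      · rintro (h1 | ⟨i, hi, h1⟩)
        · exact ⟨n, by omega, hm, h1⟩
        · exact ⟨i, by omega, h1⟩
      · rintro ⟨i, hi, h1, h2⟩
        rcases Nat.lt_succ_iff_lt_or_eq.1 hi with h3 | rfl
        · exact Or.inr ⟨i, h3, h1, h2⟩
        · exact Or.inl h2
    · rw [if_neg hm]
      change (img n σ m).testBit j = true ↔ _
      rw [ih]
      constructor
      · rintro ⟨i, hi, h1⟩; exact ⟨i, by omega, h1⟩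
      · rintro ⟨i, hi, h1, h2⟩
        rcases Nat.lt_succ_iff_lt_or_eq.1 hi with h3 | rfl
        · exact ⟨i, h3, h1, h2⟩
        · exact absurd h1 hm

/-- The packed map permutes `0, …, v - 1`. -/
def isPerm (v σ : ℕ) : Bool := Nat.beq (img v σ (full v)) (full v)

theorem testBit_full (v i : ℕ) : (full v).testBit i = decide (i < v) :=
  Nat.testBit_two_pow_sub_one v i

theorem exists_perm_of_isPerm {v σ : ℕ} (h : isPerm v σ = true) :
    ∃ π : Equiv.Perm (Fin v), ∀ i, (π i).val = ap σ i.val := by
  have h1 : img v σ (full v) = full v := Nat.eq_of_beq_eq_true h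
  have hlt : ∀ i : Fin v, ap σ i.val < v := by
    intro i
    have := (testBit_img v σ (full v) (ap σ i.val)).2 ⟨i.val, i.2, by simp [testBit_full], rfl⟩
    rw [h1, testBit_full] at this
    simpa using this
  have hs : Function.Surjective (fun i : Fin v => (⟨ap σ i.val, hlt i⟩ : Fin v)) := by
    intro j
    have : (img v σ (full v)).testBit j.val = true := by rw [h1, testBit_full]; simp
    obtain ⟨i, hi, -, hij⟩ := (testBit_img _ _ _ _).1 this
    exact ⟨⟨i, hi⟩, Fin.ext hij⟩
  exact ⟨Equiv.ofBijective _ (Finite.surjective_iff_bijective.1 hs), fun i => rfl⟩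

theorem ms_img {v σ : ℕ} {π : Equiv.Perm (Fin v)} (hπ : ∀ i, (π i).val = ap σ i.val) (m : ℕ) :
    ms v (img v σ m) = (ms v m).image π := by
  ext j
  simp only [mem_ms, testBit_img, mem_image]
  constructor
  · rintro ⟨i, hi, h1, h2⟩
    exact ⟨⟨i, hi⟩, h1, Fin.ext ((hπ _).trans h2)⟩
  · rintro ⟨i, h1, rfl⟩
    exact ⟨i.val, i.2, h1, (hπ i).symm⟩

/-- The packed map fixes the points of the mask `fx`. -/
def fixes (v σ fx : ℕ) : Bool :=
  allBelow v fun i => or (Nat.beq (Nat.land (Nat.shiftRight fx i) 1) 0) (Nat.beq (ap σ i) i)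

theorem fixes_spec {v σ fx : ℕ} {π : Equiv.Perm (Fin v)} (hπ : ∀ i, (π i).val = ap σ i.val)
    (h : fixes v σ fx = true) : ∀ x ∈ ms v fx, π x = x := by
  intro x hx
  have := allBelow_spec h x.2
  rw [land_shiftRight_one, if_pos (mem_ms.1 hx)] at this
  simp only [Nat.beq_eq, Bool.or_eq_true, one_ne_zero, false_or] at this
  exact Fin.ext ((hπ x).trans this)

/-- Membership in a list of numbers. -/
def elem (a : ℕ) (L : List ℕ) : Bool := List.rec false (fun c _ r => or (Nat.beq a c) r) L

theorem elem_spec {a : ℕ} {L : List ℕ} (h : elem a L = true) : a ∈ L := by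
  induction L with
  | nil => exact absurd h (by simp [elem])
  | cons c L ih =>
    have h' : (Nat.beq a c || elem a L) = true := h
    rw [Bool.or_eq_true] at h'
    rcases h' with h' | h'
    · rw [Nat.eq_of_beq_eq_true h']; exact List.mem_cons_self
    · exact List.mem_cons_of_mem _ (ih h')

/-- Universal check over a list. -/
def allL {β : Type} (L : List β) (p : β → Bool) : Bool :=
  List.rec true (fun c _ r => and (p c) r) L

theorem allL_spec {β : Type} {L : List β} {p : β → Bool} (h : allL L p = true) {a : β}
    (ha : a ∈ L) : p a = true := by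
  induction L with
  | nil => simp at ha
  | cons c L ih =>
    have h' : (p c && allL L p) = true := h
    rw [Bool.and_eq_true] at h'
    rcases List.mem_cons.1 ha with rfl | ha
    · exact h'.1
    · exact ih h'.2 ha

/-- Existential check over a list. -/
def anyL {β : Type} (L : List β) (p : β → Bool) : Bool :=
  List.rec false (fun c _ r => or (p c) r) L

theorem anyL_spec {β : Type} {L : List β} {p : β → Bool} (h : anyL L p = true) :
    ∃ a ∈ L, p a = true := by
  induction L with
  | nil => exact absurd h (by simp [anyL])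
  | cons c L ih =>
    have h' : (p c || anyL L p) = true := h
    rw [Bool.or_eq_true] at h'
    rcases h' with h' | h'
    · exact ⟨c, List.mem_cons_self, h'⟩
    · obtain ⟨a, ha, hp⟩ := ih h'
      exact ⟨a, List.mem_cons_of_mem _ ha, hp⟩

/-! ### The checker -/

/-- The data of a uniqueness problem: `v` points, every set of at most `t` points lies in a block,
blocks have `k` points, two blocks meet in a number of points whose bit is set in `I`, every block
meets the mask `p.1` in a number of points whose bit is set in `p.2` (for `p ∈ X`); the points of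
`fx` are to be fixed, and `std` lists the blocks of the standard model. -/
structure Prob where
  v : ℕ
  t : ℕ
  k : ℕ
  I : ℕ
  X : List (ℕ × ℕ)
  fx : ℕ
  std : List ℕ

/-- What is used about the family of blocks. -/
structure Hyp (P : Prob) (B : Set (Finset (Fin P.v))) : Prop where
  cover : ∀ T : Finset (Fin P.v), T.card ≤ P.t → ∃ b ∈ B, T ⊆ b
  size : ∀ b ∈ B, b.card = P.k
  inter : ∀ b ∈ B, ∀ c ∈ B, P.I.testBit (b ∩ c).card = true
  extra : ∀ p ∈ P.X, ∀ b ∈ B, p.2.testBit (b ∩ ms P.v p.1).card = true

/-- The conclusion: a permutation fixing `fx` pointwise carries the standard blocks into `B`. -/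
def Concl (P : Prob) (B : Set (Finset (Fin P.v))) : Prop :=
  ∃ π : Equiv.Perm (Fin P.v), (∀ x ∈ ms P.v P.fx, π x = x) ∧ ∀ c ∈ P.std, (ms P.v c).image π ∈ B

/-- The conclusion holds whenever the masks in `L` are blocks and some block contains `S` and
avoids `E`. -/
def Good (P : Prob) (L : List ℕ) (S E : ℕ) : Prop :=
  ∀ B : Set (Finset (Fin P.v)), Hyp P B → (∀ c ∈ L, ms P.v c ∈ B) →
    (∃ b ∈ B, ms P.v S ⊆ b ∧ Disjoint b (ms P.v E)) → Concl P B

/-- The points that may still be added to the partial block `S`. -/
def allowed (P : Prob) (L : List ℕ) (S r E : ℕ) : ℕ :=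
  List.rec (motive := fun _ => ℕ → ℕ) (fun A => A)
    (fun c _ ih A => force (step S r c P.I A) ih) L
    (List.rec (motive := fun _ => ℕ → ℕ) (fun A => A)
      (fun p _ ih A => force (step S r p.1 p.2 A) ih) P.X (sd (sd (full P.v) S) E))

theorem allowed_spec {P : Prob} (hv : P.v ≤ 24) {B : Set (Finset (Fin P.v))} (hB : Hyp P B)
    {L : List ℕ} (hL : ∀ c ∈ L, ms P.v c ∈ B) {S E : ℕ} (hS : S < 2 ^ P.v)
    {b : Finset (Fin P.v)} (hb : b ∈ B) (hSb : ms P.v S ⊆ b) (hE : Disjoint b (ms P.v E)) :
    (b \ ms P.v S).card = Nat.sub P.k (pc S) ∧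
      allowed P L S (Nat.sub P.k (pc S)) E < 2 ^ P.v ∧
      b \ ms P.v S ⊆ ms P.v (allowed P L S (Nat.sub P.k (pc S)) E) := by
  have hr : (b \ ms P.v S).card = Nat.sub P.k (pc S) := by
    rw [card_sdiff_of_subset hSb, hB.size b hb, card_ms hv hS]; rfl
  refine ⟨hr, ?_⟩
  set r := Nat.sub P.k (pc S)
  have h1 : ∀ (X : List (ℕ × ℕ)), (∀ p ∈ X, p.2.testBit (b ∩ ms P.v p.1).card = true) →
      ∀ A, A < 2 ^ P.v → b \ ms P.v S ⊆ ms P.v A →
      let A' := List.rec (motive := fun _ => ℕ → ℕ) (fun A => A)
        (fun p _ ih A => force (step S r p.1 p.2 A) ih) X A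
      A' < 2 ^ P.v ∧ b \ ms P.v S ⊆ ms P.v A' := by
    intro X
    induction X with
    | nil => intro _ A h1 h2; exact ⟨h1, h2⟩
    | cons p X ih =>
      intro hX A h1 h2
      simp only [force_eq]
      have := ih (fun q hq => hX q (List.mem_cons_of_mem _ hq)) _ (step_lt h1)
        (step_sound hv hS hSb hr (hX p List.mem_cons_self) h2)
      simpa only [force_eq] using this
  have h2 : ∀ (L : List ℕ), (∀ c ∈ L, ms P.v c ∈ B) →
      ∀ A, A < 2 ^ P.v → b \ ms P.v S ⊆ ms P.v A →
      let A' := List.rec (motive := fun _ => ℕ → ℕ) (fun A => A)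
        (fun c _ ih A => force (step S r c P.I A) ih) L A
      A' < 2 ^ P.v ∧ b \ ms P.v S ⊆ ms P.v A' := by
    intro L
    induction L with
    | nil => intro _ A h1 h2; exact ⟨h1, h2⟩
    | cons c L ih =>
      intro hL A h1 h2
      simp only [force_eq]
      have := ih (fun q hq => hL q (List.mem_cons_of_mem _ hq)) _ (step_lt h1)
        (step_sound hv hS hSb hr (hB.inter b hb _ (hL c List.mem_cons_self)) h2)
      simpa only [force_eq] using this
  have h0 : b \ ms P.v S ⊆ ms P.v (sd (sd (full P.v) S) E) := by
    rw [ms_sd, ms_sd, ms_full]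
    intro x hx
    rw [mem_sdiff] at hx
    exact mem_sdiff.2 ⟨mem_sdiff.2 ⟨mem_univ _, hx.2⟩, disjoint_left.1 hE hx.1⟩
  obtain ⟨h3, h4⟩ := h1 P.X (fun p hp => hB.extra p hp b hb) _ (sd_lt _ (sd_lt _ (full_lt _))) h0
  exact h2 L hL _ h3 h4

/-- If exactly as many points are allowed as are missing, pass the completed block on. -/
def fillWith (P : Prob) (L : List ℕ) (S E : ℕ) (f : ℕ → Bool) : Bool :=
  force (Nat.sub P.k (pc S)) fun r => force (allowed P L S r E) fun A =>
    and (Nat.beq (pc A) r) (force (Nat.lor S A) f)

theorem fillWith_spec {P : Prob} (hv : P.v ≤ 24) {B : Set (Finset (Fin P.v))} (hB : Hyp P B)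
    {L : List ℕ} (hL : ∀ c ∈ L, ms P.v c ∈ B) {S E : ℕ} (hS : S < 2 ^ P.v)
    (hb : ∃ b ∈ B, ms P.v S ⊆ b ∧ Disjoint b (ms P.v E)) {f : ℕ → Bool}
    (h : fillWith P L S E f = true) : ∃ m, ms P.v m ∈ B ∧ f m = true := by
  obtain ⟨b, hb, hSb, hE⟩ := hb
  obtain ⟨h1, h2, h3⟩ := allowed_spec hv hB hL hS hb hSb hE
  simp only [fillWith, force_eq, Bool.and_eq_true, Nat.beq_eq] at h
  refine ⟨_, ?_, h.2⟩
  have h4 : b \ ms P.v S = ms P.v (allowed P L S (Nat.sub P.k (pc S)) E) :=
    eq_of_subset_of_card_le h3 (by rw [card_ms hv h2, h.1, h1])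
  rw [ms_lor, ← h4, union_sdiff_of_subset hSb]
  exact hb

/-- A mask of at most `t` points. -/
def startOK (P : Prob) (T : ℕ) : Bool := and (Nat.ble T (full P.v)) (Nat.ble (pc T) P.t)

theorem startOK_spec {P : Prob} (hv : P.v ≤ 24) {B : Set (Finset (Fin P.v))} (hB : Hyp P B)
    {T : ℕ} (h : startOK P T = true) :
    T < 2 ^ P.v ∧ ∃ b ∈ B, ms P.v T ⊆ b ∧ Disjoint b (ms P.v 0) := by
  simp only [startOK, Bool.and_eq_true, Nat.ble_eq] at h
  have h1 : T < 2 ^ P.v := lt_of_le_of_lt h.1 (full_lt _)
  obtain ⟨b, hb, hTb⟩ := hB.cover (ms P.v T) (by rw [card_ms hv h1]; exact h.2)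
  refine ⟨h1, b, hb, hTb, ?_⟩
  rw [disjoint_right]; intro x hx; simp at hx

/-- A run of forced blocks. -/
def forcedRun (P : Prob) (Ts : List ℕ) (f : List ℕ → Bool) : List ℕ → Bool :=
  List.rec (motive := fun _ => List ℕ → Bool) f
    (fun T _ ih L => and (startOK P T) (fillWith P L T 0 fun m => ih (m :: L))) Ts

theorem forcedRun_spec {P : Prob} (hv : P.v ≤ 24) {B : Set (Finset (Fin P.v))} (hB : Hyp P B)
    (Ts : List ℕ) {f : List ℕ → Bool} {L : List ℕ} (hL : ∀ c ∈ L, ms P.v c ∈ B)
    (h : forcedRun P Ts f L = true) : ∃ L', (∀ c ∈ L', ms P.v c ∈ B) ∧ f L' = true := by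
  induction Ts generalizing L with
  | nil => exact ⟨L, hL, h⟩
  | cons T Ts ih =>
    have h' : (startOK P T && fillWith P L T 0 fun m => forcedRun P Ts f (m :: L)) = true := h
    rw [Bool.and_eq_true] at h'
    obtain ⟨h1, h2⟩ := startOK_spec hv hB h'.1
    obtain ⟨m, hm, h3⟩ := fillWith_spec hv hB hL h1 h2 h'.2
    refine ih ?_ h3
    intro c hc
    rcases List.mem_cons.1 hc with rfl | hc
    · exact hm
    · exact hL c hc

/-- The state is contradictory. -/
def closeOK (P : Prob) (L : List ℕ) (S E : ℕ) : Bool :=
  force (Nat.sub P.k (pc S)) fun r => force (allowed P L S r E) fun A =>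
    or (Nat.blt (pc A) r)
      (or (anyL P.X fun p => bad S r p.1 p.2 A) (anyL L fun c => bad S r c P.I A))

theorem closeOK_spec {P : Prob} (hv : P.v ≤ 24) {L : List ℕ} {S E : ℕ} (hS : S < 2 ^ P.v)
    (h : closeOK P L S E = true) : Good P L S E := by
  rintro B hB hL ⟨b, hb, hSb, hE⟩
  exfalso
  obtain ⟨h1, h2, h3⟩ := allowed_spec hv hB hL hS hb hSb hE
  simp only [closeOK, force_eq, Bool.or_eq_true, Nat.blt_eq] at h
  rcases h with h | h | h
  · have := card_le_card h3
    rw [card_ms hv h2, h1] at this
    omega
  · obtain ⟨p, hp, hbad⟩ := anyL_spec h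
    rw [bad_sound hv hS h2 hSb h1 (hB.extra p hp b hb) h3] at hbad
    exact absurd hbad (by simp)
  · obtain ⟨c, hc, hbad⟩ := anyL_spec h
    rw [bad_sound hv hS h2 hSb h1 (hB.inter b hb _ (hL c hc)) h3] at hbad
    exact absurd hbad (by simp)

/-- The packed permutation `σ` fixes `fx` and carries the standard blocks into `L`. -/
def doneOK (P : Prob) (L : List ℕ) (σ : ℕ) : Bool :=
  and (isPerm P.v σ) (and (fixes P.v σ P.fx)
    (allL P.std fun c => force (img P.v σ c) fun d => elem d L))

theorem doneOK_spec {P : Prob} {L : List ℕ} {σ : ℕ} (h : doneOK P L σ = true) (S E : ℕ) :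
    Good P L S E := by
  intro B _ hL _
  simp only [doneOK, Bool.and_eq_true, force_eq] at h
  obtain ⟨π, hπ⟩ := exists_perm_of_isPerm h.1
  refine ⟨π, fixes_spec hπ h.2.1, fun c hc => ?_⟩
  rw [← ms_img hπ]
  exact hL _ (elem_spec (allL_spec h.2.2 hc))

/-- The packed permutation `σ` preserves the data and carries `S'` into `S''`. -/
def symOK (P : Prob) (L : List ℕ) (S' E S'' σ : ℕ) : Bool :=
  and (isPerm P.v σ) (and (fixes P.v σ P.fx)
    (and (allL P.X fun p => Nat.beq (img P.v σ p.1) p.1)
      (and (allL L fun c => force (img P.v σ c) fun d => elem d L)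
        (and (Nat.beq (sd (img P.v σ S') S'') 0) (Nat.beq (sd (img P.v σ E) E) 0)))))

theorem ms_subset_of_sd {v a b : ℕ} (h : sd a b = 0) : ms v a ⊆ ms v b := by
  rw [← sdiff_eq_empty_iff_subset, ← ms_sd, h]
  ext x; simp

theorem Hyp.preimage {P : Prob} {B : Set (Finset (Fin P.v))} (hB : Hyp P B)
    (π : Equiv.Perm (Fin P.v)) (hX : ∀ p ∈ P.X, (ms P.v p.1).image π = ms P.v p.1) :
    Hyp P {b | b.image π ∈ B} where
  cover T hT := by
    obtain ⟨b, hb, hTb⟩ := hB.cover (T.image π) (card_image_le.trans hT)
    refine ⟨b.image π.symm, ?_, ?_⟩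
    · simpa [image_image] using hb
    · intro x hx
      exact mem_image.2 ⟨π x, hTb (mem_image_of_mem _ hx), by simp⟩
  size b hb := by rw [← hB.size _ hb, card_image_of_injective _ π.injective]
  inter b hb c hc := by
    have := hB.inter _ hb _ hc
    rwa [← image_inter _ _ π.injective, card_image_of_injective _ π.injective] at this
  extra p hp b hb := by
    have := hB.extra p hp _ hb
    rwa [← hX p hp, ← image_inter _ _ π.injective, card_image_of_injective _ π.injective] at this

theorem symOK_spec {P : Prob} {L : List ℕ} {S' E S'' σ : ℕ} (h : symOK P L S' E S'' σ = true)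
    (hg : Good P L S' E) : Good P L S'' E := by
  rintro B hB hL ⟨b, hb, hSb, hE⟩
  simp only [symOK, Bool.and_eq_true, force_eq, Nat.beq_eq] at h
  obtain ⟨h1, h2, h3, h4, h5, h6⟩ := h
  obtain ⟨π, hπ⟩ := exists_perm_of_isPerm h1
  have hB' := hB.preimage π (fun p hp => by
    rw [← ms_img hπ, Nat.eq_of_beq_eq_true (allL_spec h3 hp)])
  obtain ⟨τ, hτ1, hτ2⟩ := hg _ hB' (fun c hc => by
      change (ms P.v c).image π ∈ B
      rw [← ms_img hπ]
      exact hL _ (elem_spec (allL_spec h4 hc)))
    ⟨b.image π.symm, by simpa [image_image] using hb, fun x hx => by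
      have : π x ∈ b := hSb (ms_subset_of_sd h5 (by rw [ms_img hπ]; exact mem_image_of_mem _ hx))
      exact mem_image.2 ⟨π x, this, by simp⟩, by
      rw [disjoint_right]
      intro x hx hxb
      obtain ⟨y, hy, rfl⟩ := mem_image.1 hxb
      refine disjoint_left.1 hE hy (ms_subset_of_sd h6 ?_)
      rw [ms_img hπ]
      exact mem_image.2 ⟨_, hx, by simp⟩⟩
  refine ⟨π * τ, fun x hx => by rw [Equiv.Perm.mul_apply, hτ1 x hx, fixes_spec hπ h2 x hx],
    fun c hc => ?_⟩
  have := hτ2 c hc
  simpa [image_image] using this

/-- Certificates. -/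
inductive Cert : Type
  | done (σ : ℕ) : Cert
  | close : Cert
  | start (T : ℕ) (next : Cert) : Cert
  | fill (next : Cert) : Cert
  | forced (Ts : List ℕ) (next : Cert) : Cert
  | case (x : ℕ) (syms : List (ℕ × ℕ)) (child rest : Cert) : Cert

/-- The mask of `x` and the first components of `syms`, added to `E`. -/
def addAll (syms : List (ℕ × ℕ)) (E : ℕ) : ℕ :=
  List.rec E (fun p _ r => Nat.lor (one p.1) r) syms

/-- The checker. -/
noncomputable def check (P : Prob) (C : Cert) : List ℕ → ℕ → ℕ → Bool :=
  Cert.rec (motive := fun _ => List ℕ → ℕ → ℕ → Bool)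
    (fun σ L _ _ => doneOK P L σ)
    (fun L S E => closeOK P L S E)
    (fun T _ ih L _ _ => and (startOK P T) (ih L T 0))
    (fun _ ih L S E => fillWith P L S E fun m => ih (m :: L) S E)
    (fun Ts _ ih L S E => forcedRun P Ts (fun L' => ih L' S E) L)
    (fun x syms _ _ ih1 ih2 L S E => and (Nat.blt x P.v)
      (force (Nat.lor S (one x)) fun S' =>
        and (allL syms fun p => and (Nat.blt p.1 P.v) (symOK P L S' E (Nat.lor S (one p.1)) p.2))
          (and (ih1 L S' E) (force (addAll syms (Nat.lor (one x) E)) fun E' => ih2 L S E'))))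
    C

theorem good_split {P : Prob} {L : List ℕ} {S E x : ℕ} (hx : x < P.v)
    (h1 : Good P L (Nat.lor S (one x)) E) (h2 : Good P L S (Nat.lor (one x) E)) :
    Good P L S E := by
  rintro B hB hL ⟨b, hb, hSb, hE⟩
  have e1 := ms_one (⟨x, hx⟩ : Fin P.v)
  by_cases hxb : (⟨x, hx⟩ : Fin P.v) ∈ b
  · refine h1 B hB hL ⟨b, hb, ?_, hE⟩
    rw [ms_lor, e1]
    exact union_subset hSb (singleton_subset_iff.2 hxb)
  · refine h2 B hB hL ⟨b, hb, hSb, ?_⟩
    rw [ms_lor, e1, disjoint_union_right]
    exact ⟨disjoint_singleton_right.2 hxb, hE⟩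

theorem Good.mono {P : Prob} {L : List ℕ} {S E E' : ℕ} (h : Good P L S E)
    (hE : ms P.v E ⊆ ms P.v E') : Good P L S E' := by
  rintro B hB hL ⟨b, hb, hSb, hE'⟩
  exact h B hB hL ⟨b, hb, hSb, hE'.mono_right hE⟩

theorem good_addAll {P : Prob} {L : List ℕ} {S E E' : ℕ} (hE : ms P.v E ⊆ ms P.v E')
    (syms : List (ℕ × ℕ))
    (h1 : ∀ p ∈ syms, p.1 < P.v ∧ Good P L (Nat.lor S (one p.1)) E)
    (h2 : Good P L S (addAll syms E')) : Good P L S E' := by
  induction syms with
  | nil => exact h2
  | cons p syms ih =>
    refine ih (fun q hq => h1 q (List.mem_cons_of_mem _ hq)) ?_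
    obtain ⟨h3, h4⟩ := h1 p List.mem_cons_self
    refine good_split h3 (h4.mono (hE.trans ?_)) h2
    clear ih h1 h2
    induction syms with
    | nil => exact subset_rfl
    | cons q syms ih =>
      change _ ⊆ ms P.v (Nat.lor (one q.1) (addAll syms E'))
      rw [ms_lor]
      exact ih.trans subset_union_right

theorem check_good {P : Prob} (hv : P.v ≤ 24) (C : Cert) :
    ∀ (L : List ℕ) (S E : ℕ), S < 2 ^ P.v → check P C L S E = true → Good P L S E := by
  induction C with
  | done σ => intro L S E _ h; exact doneOK_spec h S E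
  | close => intro L S E hS h; exact closeOK_spec hv hS h
  | start T next ih =>
    intro L S E _ h B hB hL _
    have h' : (startOK P T && check P next L T 0) = true := h
    rw [Bool.and_eq_true] at h'
    obtain ⟨h1, h2⟩ := startOK_spec hv hB h'.1
    exact ih L T 0 h1 h'.2 B hB hL h2
  | fill next ih =>
    intro L S E hS h B hB hL hb
    have h' : (fillWith P L S E fun m => check P next (m :: L) S E) = true := h
    obtain ⟨m, hm, h1⟩ := fillWith_spec hv hB hL hS hb h'
    refine ih _ S E hS h1 B hB (fun c hc => ?_) hb
    rcases List.mem_cons.1 hc with rfl | hc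
    · exact hm
    · exact hL c hc
  | forced Ts next ih =>
    intro L S E hS h B hB hL hb
    have h' : forcedRun P Ts (fun L' => check P next L' S E) L = true := h
    obtain ⟨L', h1, h2⟩ := forcedRun_spec hv hB Ts hL h'
    exact ih L' S E hS h2 B hB h1 hb
  | case x syms child rest ih1 ih2 =>
    intro L S E hS h
    have h' : (Nat.blt x P.v && force (Nat.lor S (one x)) fun S' =>
        (allL syms fun p => Nat.blt p.1 P.v && symOK P L S' E (Nat.lor S (one p.1)) p.2) &&
          (check P child L S' E &&
            force (addAll syms (Nat.lor (one x) E)) fun E' => check P rest L S E')) = true := h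
    simp only [force_eq, Bool.and_eq_true, Nat.blt_eq] at h'
    obtain ⟨hx, h1, h2, h3⟩ := h'
    have g1 := ih1 L _ E (Nat.or_lt_two_pow hS (one_lt hx)) h2
    refine good_split hx g1 (good_addAll (E := E) ?_ syms (fun p hp => ?_) (ih2 L S _ hS h3))
    · rw [ms_lor]; exact subset_union_right
    · have := allL_spec h1 hp
      simp only [Bool.and_eq_true, Nat.blt_eq] at this
      exact ⟨this.1, symOK_spec this.2 g1⟩

/-- Soundness of the checker, started from known blocks `L`. -/
theorem check_sound {P : Prob} (hv : P.v ≤ 24) (C : Cert) {L : List ℕ}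
    (h : check P C L 0 0 = true) {B : Set (Finset (Fin P.v))} (hB : Hyp P B)
    (hL : ∀ c ∈ L, ms P.v c ∈ B) : Concl P B := by
  refine check_good hv C L 0 0 (Nat.two_pow_pos _) h B hB hL ?_
  obtain ⟨b, hb, -⟩ := hB.cover ∅ (by simp)
  refine ⟨b, hb, fun x hx => by simp at hx, ?_⟩
  rw [disjoint_right]; intro x hx; simp at hx

end Cfsg.Lib.Spor.Witt
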