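import Cfsg.Agent.Spor.M24Perm

/-!
Extensions of permutation groups on the 24 points by binary modules: symbolic tails.
A tail is a word whose 24 entries are linear forms (bit masks) in unknown bits; the rows are packed into one number.
-/

set_option autoImplicit false

namespace Cfsg.Lib.Spor.XT

open Cfsg Cfsg.Lib.Spor Cfsg.Lib.Spor.MP

abbrev Wd : Type := GolayPt → ZMod 2

def cM : ℕ := Nat.sub (Nat.pow 2 1056) 1

/-- evaluation of a large number (with varying low bits) -/
def frc {β : Type} (x : ℕ) (f : ℕ → β) : β :=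
  force (Nat.add (Nat.shiftLeft x 64) (Nat.mod x 18446744073709551557)) fun y => f (Nat.shiftRight y 64)

theorem frc_eq {β : Type} (x : ℕ) (f : ℕ → β) : frc x f = f x := by
  have : frc x f = f ((x <<< 64 + x % 18446744073709551557) >>> 64) := rfl
  rw [this, Nat.shiftLeft_eq, Nat.shiftRight_eq_div_pow]
  congr 1
  omega

/-- the row with number `i` -/
def row (T i : ℕ) : ℕ := Nat.land (Nat.shiftRight T (Nat.mul i 1056)) cM

/-- `v` placed in row `j` -/
def put (v j : ℕ) : ℕ := Nat.shiftLeft (Nat.land v cM) (Nat.mul j 1056)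

theorem testBit_cM (b : ℕ) : cM.testBit b = decide (b < 1056) := by
  have k : ∀ n, (Nat.sub (Nat.pow 2 n) 1).testBit b = decide (b < n) := fun n => Nat.testBit_two_pow_sub_one n b
  unfold cM
  with_reducible exact k 1056

theorem testBit_row (T i b : ℕ) : (row T i).testBit b = (T.testBit (i * 1056 + b) && decide (b < 1056)) := by
  have : row T i = (T >>> (i * 1056)) &&& cM := rfl
  rw [this, Nat.testBit_and, Nat.testBit_shiftRight, testBit_cM]

theorem row_xor (a b i : ℕ) : row (a ^^^ b) i = row a i ^^^ row b i :=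
  Nat.eq_of_testBit_eq fun j => by
    simp only [testBit_row, Nat.testBit_xor, Bool.and_xor_distrib_right]

theorem row_zero (i : ℕ) : row 0 i = 0 := Nat.eq_of_testBit_eq fun j => by simp [testBit_row]

theorem row_put (v j i : ℕ) : row (put v j) i = if i = j then v &&& cM else 0 :=
  Nat.eq_of_testBit_eq fun b => by
    have : put v j = (v &&& cM) <<< (j * 1056) := rfl
    rw [testBit_row, this, Nat.testBit_shiftLeft, Nat.testBit_and, testBit_cM]
    split_ifs with h
    · subst h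
      simp [Nat.testBit_and, testBit_cM]
    · rw [Nat.zero_testBit]
      by_cases h1 : b < 1056
      · rcases Nat.lt_or_gt_of_ne h with h2 | h2
        · rw [decide_eq_false (by omega : ¬ i * 1056 + b ≥ j * 1056), Bool.false_and, Bool.false_and]
        · rw [decide_eq_false (by omega : ¬ i * 1056 + b - j * 1056 < 1056)]; simp
      · simp [h1]

/-- the rows `m q` moved by the permutation `p` -/
def pf (p : ℕ) (m : ℕ → ℕ) : ℕ := Nat.rec 0 (fun q ih => Nat.xor ih (put (m q) (ap p q))) 24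

def bit (c q : ℕ) : ℕ := Nat.land (Nat.shiftRight c q) 1

theorem bit_eq (c q : ℕ) : bit c q = if c.testBit q then 1 else 0 := by
  have : bit c q = (c >>> q) &&& 1 := rfl
  rw [this, Nat.and_one_is_mod, Nat.testBit_eq_decide_div_mod_eq, Nat.shiftRight_eq_div_pow]
  rcases Nat.mod_two_eq_zero_or_one (c / 2 ^ q) with h | h <;> simp [h]

/-- the sum of the rows selected by `c` -/
def dotrow (c T : ℕ) : ℕ :=
  Nat.rec 0 (fun q ih => Nat.rec ih (fun _ _ => Nat.xor ih (row T q)) (bit c q)) 24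

/-- reduction modulo the rows of a table (pivot, row), oldest rows first -/
def red {β : Type} (B : List (ℕ × ℕ)) : ℕ → (ℕ → β) → β :=
  List.rec (fun v k => k v) (fun r _ ih v k => ih v fun u =>
    Nat.rec (k u) (fun _ _ => frc (Nat.xor u r.2) k) (Nat.land u r.1)) B

def addL {β : Type} (cs : List ℕ) (T : ℕ) : List (ℕ × ℕ) → (List (ℕ × ℕ) → β) → β :=
  List.rec (fun B k => k B) (fun c _ ih B k => frc (dotrow c T) fun v => red B v fun r =>
    Nat.rec (ih B k) (fun n _ => frc (Nat.land r (Nat.xor r n)) fun m => ih ((m, r) :: B) k) r) cs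

/-- evaluation of linear forms -/
structure Ev (f : ℕ → ZMod 2) : Prop where
  xor : ∀ a b, f (a ^^^ b) = f a + f b
  msk : ∀ a, f (a &&& cM) = f a

/-- the word described by a packed matrix -/
def val (f : ℕ → ZMod 2) (T : ℕ) : Wd := fun p => f (row T (ptIdx p))

theorem sum_pt (F : ℕ → ZMod 2) : ∑ p : GolayPt, F (ptIdx p) = ∑ q ∈ Finset.range 24, F q := by
  rw [← Fin.sum_univ_eq_sum_range]
  exact Fintype.sum_equiv ptEquiv _ _ fun _ => rfl

/-- all rows of the table are forms with value zero -/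
def Ok (f : ℕ → ZMod 2) (B : List (ℕ × ℕ)) : Prop := ∀ r ∈ B, f r.2 = 0

namespace Ev
variable {f : ℕ → ZMod 2} (hf : Ev f)
include hf

theorem zero : f 0 = 0 := by simpa using hf.xor 0 0

theorem val_xor (a b : ℕ) : val f (a ^^^ b) = val f a + val f b :=
  funext fun p => by simp only [val, row_xor, hf.xor, Pi.add_apply]

theorem val_zero : val f 0 = 0 := funext fun p => by simp only [val, row_zero, hf.zero, Pi.zero_apply]

theorem f_put (v j i : ℕ) : f (row (put v j) i) = if i = j then f v else 0 := by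
  rw [row_put]; split_ifs
  exacts [hf.msk v, hf.zero]

theorem val_pf {σ : Equiv.Perm GolayPt} {p : ℕ} (h : Rep σ p) (m : ℕ → ℕ) :
    val f (pf p m) = (fun x => f (m (ptIdx x))) ∘ ⇑σ⁻¹ := by
  have k : ∀ i n, f (row (Nat.rec 0 (fun q ih => Nat.xor ih (put (m q) (ap p q))) n) i) =
      ∑ q ∈ Finset.range n, if i = ap p q then f (m q) else 0 := fun i n => by
    induction n with
    | zero => simp [row_zero, hf.zero]
    | succ n ih => rw [Finset.sum_range_succ, ← ih, ← hf.f_put, ← hf.xor, ← row_xor]; rfl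
  funext x
  refine (k _ 24).trans ?_
  rw [Finset.sum_eq_single (ptIdx (σ⁻¹ x)), if_pos (by rw [← h]; simp)]
  · rfl
  · refine fun q hq hn => if_neg fun e => hn ?_
    have hq := Finset.mem_range.1 hq
    rw [← h.idx hq, ptIdx_injective.eq_iff] at e
    rw [e]; simp [ptIdx_idxPt hq]
  · exact fun hn => absurd (Finset.mem_range.2 (ptIdx_lt _)) hn

theorem f_dotrow (c T : ℕ) : f (dotrow c T) = maskWord c ⬝ᵥ val f T := by
  have k : ∀ n, f (Nat.rec 0 (fun q ih => Nat.rec ih (fun _ _ => Nat.xor ih (row T q)) (bit c q)) n) =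
      ∑ q ∈ Finset.range n, (if c.testBit q then 1 else 0) * f (row T q) := fun n => by
    induction n with
    | zero => exact hf.zero
    | succ n ih =>
      rw [Finset.sum_range_succ, ← ih]
      dsimp only
      rw [bit_eq]
      split_ifs
      · rw [one_mul, ← hf.xor]; rfl
      · rw [zero_mul, add_zero]; rfl
  exact (k 24).trans (sum_pt fun q => (if c.testBit q then 1 else 0) * f (row T q)).symm

theorem f_red {β : Type} {B : List (ℕ × ℕ)} (hB : Ok f B) (v : ℕ) (k : ℕ → β) :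
    ∃ u, f u = f v ∧ red B v k = k u := by
  induction B generalizing k with
  | nil => exact ⟨v, rfl, rfl⟩
  | cons r B ih =>
    obtain ⟨u, h1, h2⟩ := ih (fun s hs => hB s (List.mem_cons_of_mem _ hs))
      fun u => Nat.rec (k u) (fun _ _ => frc (Nat.xor u r.2) k) (Nat.land u r.1)
    change ∃ u, _ ∧ red B v _ = _
    rw [h2]
    cases Nat.land u r.1
    · exact ⟨u, h1, rfl⟩
    · exact ⟨u ^^^ r.2, by rw [hf.xor, h1, hB r List.mem_cons_self, add_zero], frc_eq _ _⟩

theorem ok_addL {β : Type} {cs : List ℕ} {T : ℕ} {B : List (ℕ × ℕ)} (hB : Ok f B)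
    (h : ∀ c ∈ cs, maskWord c ⬝ᵥ val f T = 0) (k : List (ℕ × ℕ) → β) : ∃ B', Ok f B' ∧ addL cs T B k = k B' := by
  induction cs generalizing B with
  | nil => exact ⟨B, hB, rfl⟩
  | cons c cs ih =>
    have h' := fun d hd => h d (List.mem_cons_of_mem _ hd)
    obtain ⟨u, h1, h2⟩ := hf.f_red hB (dotrow c T) fun r => Nat.rec (motive := fun _ => β) (addL cs T B k)
      (fun n _ => frc (Nat.land r (Nat.xor r n)) fun m => addL cs T ((m, r) :: B) k) r
    change ∃ u, _ ∧ frc (dotrow c T) (fun v => red B v fun r => Nat.rec (motive := fun _ => β) (addL cs T B k)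
      (fun n _ => frc (Nat.land r (Nat.xor r n)) fun m => addL cs T ((m, r) :: B) k) r) = _
    rw [frc_eq, h2]
    cases u
    · exact ih hB h'
    · dsimp only
      rw [frc_eq]
      exact ih (List.forall_mem_cons.2 ⟨h1.trans ((hf.f_dotrow c T).trans (h c List.mem_cons_self)), hB⟩) h'

end Ev

/-- The data: generators, defining pairs of words, extra symbols, parity checks for the kernel and the module. -/
structure Dat where
  gp : List ℕ
  defs : List (List ℕ × List ℕ)
  ext : List (List (ℕ × ℕ))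
  cs : List ℕ
  hs : List ℕ

def tp (st : List (ℕ × ℕ)) : ℕ := List.rec pid (fun a _ _ => a.2) st

def idx (j i : ℕ) : ℕ := j * (j + 1) / 2 + i

def cmb (L : List (ℕ × ℕ)) (q : ℕ) : ℕ := List.rec 0 (fun a _ ih => Nat.xor (Nat.mul a.1 (bit a.2 q)) ih) L

namespace Dat
variable (D : Dat)

def g (l : ℕ) : ℕ := D.gp.getD l pid

def df (k : ℕ) : List ℕ × List ℕ := D.defs.getD k ([], [])

/-- the rows of the symbol `k` -/
def sym (k q : ℕ) : ℕ :=
  cond (Nat.blt k 44) (Nat.shiftLeft 1 (Nat.add (Nat.mul 24 k) q)) (cmb (D.ext.getD (Nat.sub k 44) []) q)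

/-- collection from the left -/
def coll {β : Type} (k : List ℕ → ℕ → β) (fl : β) : ℕ → List (ℕ × ℕ) → ℕ → List ℕ → β
  | 0, _, _, _ => fl
  | _ + 1, st, T, [] => k (st.map Prod.fst) T
  | n + 1, st, T, l :: r =>
    if 16 ≤ l then
      force (l - 16) fun s => frc (T ^^^ pf (tp st) (D.sym s)) fun T' => coll k fl n st T' r
    else if st.head?.all (·.1 < l) then
      force (pmul (tp st) (D.g l)) fun p => coll k fl n ((l, p) :: st) T r
    else force (idx (st.headD (0, 0)).1 l) fun s =>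
      if (D.df s).1 = [(st.headD (0, 0)).1, l] then coll k fl n st.tail T ((16 + s) :: (D.df s).2 ++ r) else fl

/-- the difference of the tails of two words -/
def dif {β : Type} (a b : List ℕ) (k : ℕ → β) (fl : β) : β :=
  D.coll (fun La Ta => D.coll (fun Lb Tb => if La = Lb then frc (Ta ^^^ Tb) k else fl) fl 500 [] 0 b)
    fl 500 [] 0 a

def ph0 (n : ℕ) : (List (ℕ × ℕ) → Bool) → Bool :=
  Nat.rec (fun K => K []) (fun k ih K => ih fun B => frc (pf pid (D.sym k)) fun T => addL D.hs T B K) n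

def phA (As : List (ℕ × ℕ × ℕ)) : List (ℕ × ℕ) → (List (ℕ × ℕ) → Bool) → Bool :=
  List.rec (fun B K => K B) (fun a _ ih B K => force (idx a.2.1 a.2.2) fun s =>
    if (D.df s).1 = [a.2.1, a.2.2] then D.dif [a.1, a.2.1, a.2.2] (a.1 :: (16 + s) :: (D.df s).2)
      (fun T => addL D.cs T B fun B' => ih B' K) false else false) As

def sub (d : List (List ℕ)) (a : List ℕ) : List ℕ := a.flatMap fun j => d.getD j []

/-- `b.1` conjugates the words `b.2.1` -/
def phB (Bs : List (ℕ × List (ℕ × List ℕ × List ℕ) × List ℕ × List ℕ)) :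
    List (ℕ × ℕ) → (List (ℕ × ℕ) → Bool) → Bool :=
  List.rec (fun B K => K B) (fun b _ ih B K =>
    if b.1 < 16 ∧ ∀ c ∈ b.2.1, D.df c.1 = (b.1 :: c.2.1, c.2.2 ++ [b.1]) then
      D.dif (sub (b.2.1.map (·.2.1)) b.2.2.1) (sub (b.2.1.map (·.2.1)) b.2.2.2) (fun T =>
        D.dif (sub (b.2.1.map fun c => (16 + c.1) :: c.2.2) b.2.2.1)
          (sub (b.2.1.map fun c => (16 + c.1) :: c.2.2) b.2.2.2) (fun T' =>
            frc (T' ^^^ pf (D.g b.1) (row T)) fun U => addL D.cs U B fun B' => ih B' K) false) false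
      else false) Bs

def chk (As : List (ℕ × ℕ × ℕ)) (Bs : List (ℕ × List (ℕ × List ℕ × List ℕ) × List ℕ × List ℕ))
    (Ts : List (List ℕ × List ℕ)) : Bool :=
  D.ph0 44 fun B0 => D.phA As B0 fun B1 => D.phB Bs B1 fun B => Ts.all fun t =>
    D.dif t.1 t.2 (fun T => D.cs.all fun c => frc (dotrow c T) fun v => red B v fun r => Nat.beq r 0) false

/-- the value of a symbol -/
def tv (f : ℕ → ZMod 2) (k : ℕ) : Wd := fun x => f (D.sym k (ptIdx x))

variable {E : Type*} [Group E]

/-- the value of a letter -/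
def X (θ : Wd → E) (f : ℕ → ZMod 2) (x : ℕ → E) (l : ℕ) : E := if 16 ≤ l then θ (D.tv f (l - 16)) else x l

end Dat

variable {E : Type*} [Group E]

def ev (y : ℕ → E) (w : List ℕ) : E := (w.map y).prod

@[simp] theorem ev_nil (y : ℕ → E) : ev y [] = 1 := rfl
@[simp] theorem ev_cons (y : ℕ → E) (l : ℕ) (w : List ℕ) : ev y (l :: w) = y l * ev y w := rfl
@[simp] theorem ev_append (y : ℕ → E) (v w : List ℕ) : ev y (v ++ w) = ev y v * ev y w := by simp [ev]

/-- a module `S` mapped onto the kernel of `ρ` -/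
structure Md (D : Dat) (ρ : E →* Equiv.Perm GolayPt) (θ : Wd → E) (S : AddSubgroup Wd) : Prop where
  add : ∀ a ∈ S, ∀ b ∈ S, θ (a + b) = θ a * θ b
  smem : ∀ g, ∀ a ∈ S, a ∘ ⇑(ρ g)⁻¹ ∈ S
  conj : ∀ g, ∀ a ∈ S, θ (a ∘ ⇑(ρ g)⁻¹) = g * θ a * g⁻¹
  ker : ∀ a ∈ S, θ a = 1 ↔ ∀ c ∈ D.cs, maskWord c ⬝ᵥ a = 0
  par : ∀ a ∈ S, ∀ c ∈ D.hs, maskWord c ⬝ᵥ a = 0
  triv : ∀ a ∈ S, ρ (θ a) = 1
  onto : ∀ g, ρ g = 1 → ∃ a ∈ S, θ a = g

structure Sem (D : Dat) (ρ : E →* Equiv.Perm GolayPt) (θ : Wd → E) (S : AddSubgroup Wd)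
    (f : ℕ → ZMod 2) (x : ℕ → E) : Prop extends Md D ρ θ S, Ev f where
  rep : ∀ l, Rep (ρ (x l)) (D.g l)
  tS : ∀ k, D.tv f k ∈ S
  df : ∀ k, (D.df k).1 ≠ [] → ev (D.X θ f x) (D.df k).1 = θ (D.tv f k) * ev (D.X θ f x) (D.df k).2

variable {D : Dat} {ρ : E →* Equiv.Perm GolayPt} {θ : Wd → E} {S : AddSubgroup Wd} {f : ℕ → ZMod 2} {x : ℕ → E}

theorem Md.zero (h : Md D ρ θ S) : θ 0 = 1 := by simpa using h.add 0 S.zero_mem 0 S.zero_mem

theorem Md.sq (h : Md D ρ θ S) {a : Wd} (ha : a ∈ S) : θ a * θ a = 1 := by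
  rw [← h.add a ha a ha, show a + a = 0 from funext fun p => CharTwo.add_self_eq_zero _, h.zero]

theorem Md.move (h : Md D ρ θ S) (g : E) {a : Wd} (ha : a ∈ S) : g * θ a = θ (a ∘ ⇑(ρ g)⁻¹) * g := by
  rw [h.conj g a ha, inv_mul_cancel_right]

def Good (ρ : E →* Equiv.Perm GolayPt) (y : ℕ → E) : List (ℕ × ℕ) → Prop
  | [] => True
  | a :: s => Rep (ρ (ev y ((a :: s).map Prod.fst).reverse)) a.2 ∧ Good ρ y s

theorem Good.top {y : ℕ → E} {st : List (ℕ × ℕ)} (h : Good ρ y st) :
    Rep (ρ (ev y (st.map Prod.fst).reverse)) (tp st) := by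
  cases st with
  | nil => simpa using (show Rep 1 (tp []) from rep_one)
  | cons a s => exact h.1

namespace Sem
variable (h : Sem D ρ θ S f x)
include h

omit h [Group E] in
theorem X_hi (k : ℕ) : D.X θ f x (16 + k) = θ (D.tv f k) := by
  rw [Dat.X, if_pos (Nat.le_add_right _ _), Nat.add_sub_cancel_left]

theorem coll_sound {β : Type} (k : List ℕ → ℕ → β) (fl : β) (n : ℕ) (st : List (ℕ × ℕ)) (T : ℕ) (w : List ℕ)
    (h1 : Good ρ (D.X θ f x) st) (h2 : val f T ∈ S) :
    D.coll k fl n st T w = fl ∨ ∃ L T', val f T' ∈ S ∧ D.coll k fl n st T w = k L T' ∧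
      θ (val f T) * ev (D.X θ f x) (st.map Prod.fst).reverse * ev (D.X θ f x) w =
        θ (val f T') * ev (D.X θ f x) L.reverse := by
  induction n generalizing st T w with
  | zero => exact Or.inl (by rw [Dat.coll])
  | succ n ih =>
    cases w with
    | nil => exact Or.inr ⟨_, T, h2, by rw [Dat.coll], by simp⟩
    | cons l r =>
      rw [Dat.coll]
      simp only [force_eq, frc_eq]
      split_ifs with c1 c2 c3
      · have e := h.toEv.val_pf h1.top (D.sym (l - 16))
        have m := h.smem (ev (D.X θ f x) (st.map Prod.fst).reverse) _ (h.tS (l - 16))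
        have := ih st (T ^^^ pf (tp st) (D.sym (l - 16))) r h1 (by rw [h.val_xor, e]; exact S.add_mem h2 m)
        rwa [h.val_xor, e, show (fun x => f (D.sym (l - 16) (ptIdx x))) = D.tv f (l - 16) from rfl, h.add _ h2 _ m,
          mul_assoc (θ _), ← h.move _ (h.tS _), ← mul_assoc, mul_assoc _ _ (ev _ r),
          show θ (D.tv f (l - 16)) = D.X θ f x l from (if_pos c1).symm, ← ev_cons] at this
      · have := ih ((l, pmul (tp st) (D.g l)) :: st) T r ⟨by
          have := h1.top.mul (h.rep l)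
          rw [← map_mul, show x l = D.X θ f x l from (if_neg c1).symm] at this
          simpa using this, h1⟩ h2
        simpa [mul_assoc] using this
      · obtain _ | ⟨a, s⟩ := st
        · simp at c2
        · have := ih s T ((16 + idx a.1 l) :: (D.df (idx a.1 l)).2 ++ r) h1.2 h2
          have e := h.df (idx a.1 l) (by rw [show (D.df (idx a.1 l)).1 = _ from c3]; simp)
          rw [show (D.df (idx a.1 l)).1 = [a.1, l] from c3] at e
          rw [ev_append, ev_cons, X_hi, ← e] at this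
          simpa [mul_assoc] using this
      · exact Or.inl rfl

theorem dif_sound {β : Type} (a b : List ℕ) (k : ℕ → β) (fl : β) :
    D.dif a b k fl = fl ∨ ∃ T, val f T ∈ S ∧ D.dif a b k fl = k T ∧
      ev (D.X θ f x) a = θ (val f T) * ev (D.X θ f x) b := by
  have z : val f 0 ∈ S := h.val_zero ▸ S.zero_mem
  unfold Dat.dif
  obtain e | ⟨La, Ta, m1, e, e1⟩ := h.coll_sound _ fl 500 [] 0 a trivial z
  · exact Or.inl e
  rw [e]
  obtain e | ⟨Lb, Tb, m2, e, e2⟩ := h.coll_sound _ fl 500 [] 0 b trivial z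
  · exact Or.inl e
  rw [e]
  split_ifs with c
  · subst c
    refine Or.inr ⟨_, by rw [h.val_xor]; exact S.add_mem m1 m2, frc_eq _ _, ?_⟩
    simp only [h.val_zero, h.toMd.zero, List.map_nil, List.reverse_nil, ev_nil, one_mul] at e1 e2
    rw [e1, e2, h.val_xor, h.add _ m1 _ m2, mul_assoc, ← mul_assoc (θ (val f Tb)), h.sq m2, one_mul]
  · exact Or.inl rfl

theorem ok_ph0 (n : ℕ) (K : List (ℕ × ℕ) → Bool) : ∃ B, Ok f B ∧ D.ph0 n K = K B := by
  induction n generalizing K with
  | zero => exact ⟨[], fun _ h => (List.not_mem_nil h).elim, rfl⟩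
  | succ n ih =>
    obtain ⟨B, h1, h2⟩ := ih fun B => frc (pf pid (D.sym n)) fun T => addL D.hs T B K
    obtain ⟨B', h3, h4⟩ := h.ok_addL (T := pf pid (D.sym n)) h1
      (h.par _ (by rw [h.val_pf rep_one]; exact h.tS n)) K
    exact ⟨B', h3, h2.trans ((frc_eq _ _).trans h4)⟩

theorem ok_phA (As : List (ℕ × ℕ × ℕ)) {B : List (ℕ × ℕ)} (hB : Ok f B) {K : List (ℕ × ℕ) → Bool}
    (hK : D.phA As B K = true) : ∃ B, Ok f B ∧ K B = true := by
  induction As generalizing B with
  | nil => exact ⟨B, hB, hK⟩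
  | cons a As ih =>
    change ite _ (D.dif _ _ (fun T => addL D.cs T B fun B' => D.phA As B' K) false) false = true at hK
    split_ifs at hK with c
    obtain e | ⟨T, m, e, e1⟩ := h.dif_sound _ _ _ false <;> rw [e] at hK
    · cases hK
    · have e2 := h.df _ (by rw [c]; simp)
      rw [c] at e2
      rw [ev_cons, ev_cons (l := a.1), ev_cons (l := 16 + _), X_hi, e2, right_eq_mul] at e1
      obtain ⟨B', h1, h2⟩ := h.ok_addL hB ((h.ker _ m).1 e1) fun B' => D.phA As B' K
      exact ih h1 (h2 ▸ hK)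

theorem ok_phB (Bs : List (ℕ × List (ℕ × List ℕ × List ℕ) × List ℕ × List ℕ)) {B : List (ℕ × ℕ)} (hB : Ok f B)
    {K : List (ℕ × ℕ) → Bool} (hK : D.phB Bs B K = true) : ∃ B, Ok f B ∧ K B = true := by
  induction Bs generalizing B with
  | nil => exact ⟨B, hB, hK⟩
  | cons b Bs ih =>
    change ite _ (D.dif _ _ (fun T => D.dif _ _ (fun T' => frc _ fun U => addL D.cs U B fun B' => D.phB Bs B' K)
      false) false) false = true at hK
    split_ifs at hK with c
    have k : ∀ w, x b.1 * ev (D.X θ f x) (Dat.sub (b.2.1.map (·.2.1)) w) =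
        ev (D.X θ f x) (Dat.sub (b.2.1.map fun c => (16 + c.1) :: c.2.2) w) * x b.1 := fun w => by
      induction w with
      | nil => simp [Dat.sub]
      | cons j w ih =>
        simp only [Dat.sub, List.flatMap_cons, ev_append] at ih ⊢
        rw [mul_assoc, ← ih, ← mul_assoc, ← mul_assoc]
        congr 1
        rcases Nat.lt_or_ge j b.2.1.length with hj | hj
        · have e := c.2 _ (List.getElem_mem hj)
          have e1 := h.df _ (by rw [e]; simp)
          rw [e] at e1
          simp only [ev_cons, ev_append, ev_nil, mul_one, show D.X θ f x b.1 = x b.1 from if_neg (by omega)] at e1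
          simp [hj, e1, X_hi, mul_assoc]
        · simp [hj]
    obtain e | ⟨T, m, e, e1⟩ := h.dif_sound _ _ _ false <;> rw [e] at hK
    · cases hK
    obtain e | ⟨T', m', e, e2⟩ := h.dif_sound _ _ _ false <;> rw [e] at hK
    · cases hK
    have m2 := h.smem (x b.1) _ m
    have e3 : val f (T' ^^^ pf (D.g b.1) (row T)) = val f T' + val f T ∘ ⇑(ρ (x b.1))⁻¹ := by
      rw [h.val_xor, h.val_pf (h.rep _)]; rfl
    have e4 := k b.2.2.1
    rw [e1, e2, ← mul_assoc, h.move _ m, mul_assoc, k, ← mul_assoc, mul_left_inj, mul_left_inj] at e4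
    obtain ⟨B', h1, h2⟩ := h.ok_addL hB ((h.ker _ (e3 ▸ S.add_mem m' m2)).1
      (by rw [e3, h.add _ m' _ m2, e4, h.sq m'])) fun B' => D.phB Bs B' K
    exact ih h1 (h2.symm.trans ((frc_eq _ _).symm.trans hK))

theorem chk_sound {As : List (ℕ × ℕ × ℕ)} {Bs : List (ℕ × List (ℕ × List ℕ × List ℕ) × List ℕ × List ℕ)}
    {Ts : List (List ℕ × List ℕ)} (hc : D.chk As Bs Ts = true) :
    ∀ t ∈ Ts, ev (D.X θ f x) t.1 = ev (D.X θ f x) t.2 := fun t ht => by
  obtain ⟨B0, h0, e0⟩ := h.ok_ph0 44 _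
  obtain ⟨B1, h1, e1⟩ := h.ok_phA As h0 (e0.symm.trans hc)
  obtain ⟨B, hB, e2⟩ := h.ok_phB Bs h1 e1
  have := List.all_eq_true.1 e2 t ht
  obtain e | ⟨T, m, e, e1⟩ := h.dif_sound t.1 t.2 _ false <;> rw [e] at this
  · cases this
  · rw [e1, (h.ker _ m).2 fun c hc => ?_, one_mul]
    obtain ⟨u, h2, h3⟩ := h.f_red hB (dotrow c T) fun r => Nat.beq r 0
    rw [← h.f_dotrow, ← h2, Nat.eq_of_beq_eq_true (h3.symm.trans ((frc_eq _ _).symm.trans (List.all_eq_true.1 this c hc))), h.toEv.zero]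

end Sem

end Cfsg.Lib.Spor.XT
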